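import Cfsg.Agent.Lib.Characters.Decomp
import Cfsg.Agent.Lib.Characters.Values
import Cfsg.Agent.Lib.Characters.Galois
import Cfsg.Agent.Lib.Small.Basic
import Cfsg.Agent.Lib.Blocks.DefectZeroVanish
import Cfsg.Agent.Lib.GL23.Main
import Mathlib.GroupTheory.NoncommCoprod

/-!
Tools for reasoning with a few character values: bounds, parities, averages over subgroups.
-/

set_option autoImplicit false

noncomputable section

namespace CfsgLib.Sporadic.CharTools

open Cfsg CfsgLib.Characters
open scoped ComplexConjugate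

universe u

variable {G : Type u} [Group G]

/-- A non-principal character of a non-commutative simple group has absolute value less than
its degree away from the identity. -/
theorem norm_lt_degree [Finite G] [IsSimpleGroup G] (hnc : ¬ IsMulCommutative G)
    {χ : IrrCharacter G} (hne : χ ≠ principalIrr G) {d : ℕ} (hd : (χ : G → ℂ) 1 = d)
    {g : G} (hg : g ≠ 1) : ‖(χ : G → ℂ) g‖ < d := by
  classical
  obtain ⟨χ', n, ρ, hρ, rfl⟩ := χ
  change ρ.character 1 = d at hd
  show ‖ρ.character g‖ < d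
  rw [Representation.char_one, Nat.cast_inj] at hd
  subst hd
  refine lt_of_le_of_ne (norm_char_le ρ g) fun h => ?_
  obtain ⟨w, hw⟩ := (norm_char_eq_iff_scalar ρ g).1 h
  rcases Subgroup.Normal.eq_bot_or_eq_top (inferInstance : ρ.ker.Normal) with hk | hk
  · have hc : g ∈ Subgroup.center G := Subgroup.mem_center_iff.2 fun x => by
      refine (MonoidHom.ker_eq_bot_iff ρ).1 hk ?_
      rw [map_mul, map_mul, hw]
      exact LinearMap.ext fun v => by simp
    rw [CfsgLib.Small.center_eq_bot_of_nc hnc, Subgroup.mem_bot] at hc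
    exact hg hc
  · haveI : Fintype G := Fintype.ofFinite G
    have hc : ρ.character = fun _ => (n : ℂ) := by
      funext x
      have hx : x ∈ ρ.ker := by rw [hk]; exact Subgroup.mem_top _
      rw [Representation.character, MonoidHom.mem_ker.1 hx]
      simp
    have h0 : classInner ρ.character (fun _ : G => (1 : ℂ)) = 0 :=
      classInner_irr_ne ⟨n, ρ, hρ, rfl⟩ isIrrCharacter_one fun hh => hne (Subtype.ext hh)
    rw [hc, classInner] at h0
    simp at h0
    haveI := hρ
    have := CfsgLib.Characters.nontrivial_of_irreducible ρ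
    subst h0
    exact not_subsingleton (Fin 0 → ℂ) inferInstance

/-- A character value at an element with square one is an integer of the parity of the degree. -/
theorem exists_int_of_sq_eq_one [Finite G] {χ : G → ℂ} (hχ : IsCharacter G χ) {d : ℕ}
    (hd : χ 1 = d) {t : G} (ht : t ^ 2 = 1) :
    ∃ z : ℤ, χ t = z ∧ (2 : ℤ) ∣ (d : ℤ) - z := by
  obtain ⟨n, ρ, rfl⟩ := hχ
  obtain ⟨w, hw, -, hs⟩ := exists_eigenvalues ρ t
  have hz : ∀ i, ∃ z : ℤ, w i = z ∧ (2 : ℤ) ∣ 1 - z := fun i => by
    have h2 : w i ^ 2 = 1 := by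
      obtain ⟨k, hk⟩ := orderOf_dvd_of_pow_eq_one ht
      rw [hk, pow_mul, hw i, one_pow]
    rcases sq_eq_one_iff.1 h2 with h | h
    · exact ⟨1, by simp [h], by norm_num⟩
    · exact ⟨-1, by simp [h], by norm_num⟩
  choose z hz hz2 using hz
  refine ⟨∑ i, z i, ?_, ?_⟩
  · rw [hs, Int.cast_sum]
    exact Finset.sum_congr rfl fun i _ => hz i
  · have hn : (d : ℤ) = ∑ _i : Fin (Module.finrank ℂ (Fin n → ℂ)), (1 : ℤ) := by
      rw [Representation.char_one, Nat.cast_inj] at hd
      simp [← hd]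
    rw [hn, ← Finset.sum_sub_distrib]
    exact Finset.dvd_sum fun i _ => hz2 i

/-- Integrality of the values of a character. -/
theorem isIntegral_apply [Finite G] {χ : G → ℂ} (hχ : IsCharacter G χ) (g : G) :
    IsIntegral ℤ (χ g) :=
  isIntegral_of_isCharacter hχ g

/-- A character sums to a multiple of the order over the image of any finite group. -/
theorem exists_nat_sum {χ : G → ℂ} (hχ : IsCharacter G χ) {H : Type*} [Group H] [Fintype H]
    (f : H →* G) : ∃ m : ℕ, ∑ h : H, χ (f h) = (Nat.card H : ℂ) * m := by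
  obtain ⟨m, hm⟩ := classInner_char_nat (CfsgLib.CharGalois.isCharacter_comp hχ f)
    (isCharacter_one (G := H))
  refine ⟨m, ?_⟩
  rw [← hm, classInner, ← mul_assoc, mul_inv_cancel₀ (Nat.cast_ne_zero.2 Nat.card_pos.ne'),
    one_mul]
  simp

/-- The average of a character over a finite subgroup commuting with `y` is an algebraic
integer. -/
theorem isIntegral_average [Finite G] {χ : G → ℂ} (hχ : IsCharacter G χ) (y : G)
    (B : Subgroup G) [Fintype B] (hB : ∀ b ∈ B, Commute y b) :
    IsIntegral ℤ ((Nat.card B : ℂ)⁻¹ * ∑ b : B, χ (y * b)) := by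
  classical
  let _ : Fintype (Subgroup.zpowers y) := Fintype.ofFinite _
  let A := Subgroup.zpowers y
  have hAB : ∀ (a : A) (b : B), Commute (A.subtype a) (B.subtype b) := fun a b => by
    obtain ⟨k, hk⟩ := Subgroup.mem_zpowers_iff.1 a.2
    show Commute (a : G) (b : G)
    rw [← hk]
    exact (hB b b.2).zpow_left k
  let f : A × B →* G := MonoidHom.noncommCoprod A.subtype B.subtype hAB
  let φ : A → ℂ := fun a => (Nat.card B : ℂ)⁻¹ * ∑ b : B, χ ((a : G) * b)
  have hcl : IsClassFunction A φ := fun a b => by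
    have : b * a * b⁻¹ = a := by
      obtain ⟨_, i, rfl⟩ := a
      obtain ⟨_, j, rfl⟩ := b
      exact Subtype.ext (show y ^ j * y ^ i * (y ^ j)⁻¹ = y ^ i by group)
    rw [this]
  have hcoef : ∀ l : IrrCharacter A, ∃ m : ℕ, classInner φ (l : A → ℂ) = m := by
    intro l
    obtain ⟨m, hm⟩ := classInner_char_nat (CfsgLib.CharGalois.isCharacter_comp hχ f)
      (CfsgLib.CharGalois.isCharacter_comp (irr_isCharacter l) (MonoidHom.fst A B))
    refine ⟨m, ?_⟩
    rw [← hm, classInner, classInner, Fintype.sum_prod_type, Nat.card_prod, Nat.cast_mul,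
      Finset.mul_sum, Finset.mul_sum]
    refine Finset.sum_congr rfl fun a _ => ?_
    simp only [φ, f, MonoidHom.noncommCoprod_apply, MonoidHom.coe_fst, Subgroup.coe_subtype]
    rw [← Finset.sum_mul, mul_inv]
    ring
  have h := congrFun (classFunction_eq_sum hcl) ⟨y, Subgroup.mem_zpowers y⟩
  simp only [Finset.sum_apply, Pi.smul_apply, smul_eq_mul] at h
  show IsIntegral ℤ (φ ⟨y, Subgroup.mem_zpowers y⟩)
  rw [h]
  refine IsIntegral.sum _ fun l _ => ?_
  obtain ⟨m, hm⟩ := hcoef l
  rw [hm]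
  exact (isIntegral_natCast m).mul (isIntegral_of_isCharacter (irr_isCharacter l) _)

/-- If a character vanishes off `A` on the product of commuting subgroups `A` and `B`, its sum
over `A` is divisible by `|A| |B|`. -/
theorem exists_nat_sum_of_vanish [Finite G] {χ : G → ℂ} (hχ : IsCharacter G χ) (A B : Subgroup G)
    [Fintype A] (hAB : ∀ a ∈ A, ∀ b ∈ B, Commute a b)
    (hv : ∀ a ∈ A, ∀ b ∈ B, b ≠ 1 → χ (a * b) = 0) :
    ∃ m : ℕ, ∑ a : A, χ a = (Nat.card A : ℂ) * (Nat.card B : ℂ) * m := by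
  classical
  let _ : Fintype B := Fintype.ofFinite B
  obtain ⟨m, hm⟩ := exists_nat_sum hχ
    (MonoidHom.noncommCoprod A.subtype B.subtype fun a b => hAB a a.2 b b.2)
  refine ⟨m, ?_⟩
  rw [← Nat.cast_mul, ← Nat.card_prod, ← hm, Fintype.sum_prod_type]
  refine Finset.sum_congr rfl fun a _ => ?_
  rw [Finset.sum_eq_single (1 : B)]
  · exact congrArg χ (mul_one (a : G)).symm
  · intro b _ hb
    exact hv a a.2 b b.2 fun h => hb (Subtype.ext h)
  · exact fun h => absurd (Finset.mem_univ _) h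

/-- The sum of a character over the subgroup generated by an involution. -/
theorem sum_zpowers_two (χ : G → ℂ) {t : G} (ht : orderOf t = 2)
    [Fintype (Subgroup.zpowers t)] : ∑ a : Subgroup.zpowers t, χ a = χ 1 + χ t := by
  classical
  have hne : (1 : Subgroup.zpowers t) ≠ ⟨t, Subgroup.mem_zpowers t⟩ := fun h => by
    have : (1 : G) = t := congrArg Subtype.val h
    rw [← this, orderOf_one] at ht
    omega
  have huniv : (Finset.univ : Finset (Subgroup.zpowers t)) = {1, ⟨t, Subgroup.mem_zpowers t⟩} :=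
    (Finset.eq_univ_of_card _ (by
      rw [Finset.card_pair hne, ← Nat.card_eq_fintype_card, Nat.card_zpowers, ht])).symm
  rw [huniv, Finset.sum_pair hne]
  rfl

/-- The squared absolute value of a character at an element of order dividing three is an
integer. -/
theorem exists_int_normSq [Finite G] {χ : G → ℂ} (hχ : IsCharacter G χ) {y : G}
    (hy : y ^ 3 = 1) : ∃ k : ℤ, Complex.normSq (χ y) = k := by
  obtain ⟨n, ρ, rfl⟩ := hχ
  obtain ⟨w, hw, -, hs⟩ := exists_eigenvalues ρ y
  have hw3 : ∀ i, w i ^ 3 = 1 := fun i => by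
    obtain ⟨k, hk⟩ := orderOf_dvd_of_pow_eq_one hy
    rw [hk, pow_mul, hw i, one_pow]
  have hζ : ∀ ζ : ℂ, ζ ^ 3 = 1 → ∃ z : ℤ, 2 * ζ.re = z := by
    intro ζ h3
    by_cases h1 : ζ = 1
    · exact ⟨2, by simp [h1]⟩
    have hn : ‖ζ‖ = 1 := Complex.norm_eq_one_of_pow_eq_one h3 (by norm_num)
    have hconj : conj ζ = ζ ^ 2 := by
      rw [← Complex.inv_eq_conj hn]
      exact inv_eq_of_mul_eq_one_right (by rw [← h3]; ring)
    have hsum : ζ + ζ ^ 2 = -1 := by
      have h : (ζ - 1) * (ζ + ζ ^ 2 + 1) = 0 := by linear_combination h3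
      exact eq_neg_of_add_eq_zero_left
        ((mul_eq_zero.1 h).resolve_left (sub_ne_zero.2 h1))
    refine ⟨-1, ?_⟩
    have := congrArg Complex.re hsum
    rw [← hconj] at this
    simp at this
    push_cast
    linarith
  choose z hz using fun i j => hζ (w i * conj (w j)) (by
    rw [mul_pow, ← map_pow, hw3, hw3, map_one, one_mul])
  have h2 : 2 * Complex.normSq (ρ.character y) = ((∑ i, ∑ j, z i j : ℤ) : ℝ) := by
    have h : ((Complex.normSq (ρ.character y) : ℝ) : ℂ) = ∑ i, ∑ j, w i * conj (w j) := by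
      rw [← Complex.mul_conj, hs, map_sum, Finset.sum_mul_sum]
    have h' := congrArg Complex.re h
    rw [Complex.ofReal_re, Complex.re_sum] at h'
    rw [h', Finset.mul_sum, Int.cast_sum]
    refine Finset.sum_congr rfl fun i _ => ?_
    rw [Complex.re_sum, Finset.mul_sum, Int.cast_sum]
    exact Finset.sum_congr rfl fun j _ => hz i j
  have hint : IsIntegral ℤ ((Complex.normSq (ρ.character y) : ℝ) : ℂ) := by
    rw [← Complex.mul_conj, ← char_inv_eq_conj]
    exact (isIntegral_char ρ y).mul (isIntegral_char ρ y⁻¹)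
  have hq : ((((∑ i, ∑ j, z i j : ℤ) : ℚ) / 2 : ℚ) : ℂ) =
      ((Complex.normSq (ρ.character y) : ℝ) : ℂ) := by
    rw [show Complex.normSq (ρ.character y) = ((∑ i, ∑ j, z i j : ℤ) : ℝ) / 2 by linarith]
    push_cast
    rfl
  rw [← hq] at hint
  obtain ⟨k, hk⟩ := exists_int_of_isIntegral_rat hint
  refine ⟨k, ?_⟩
  have : ((k : ℚ) : ℂ) = ((Complex.normSq (ρ.character y) : ℝ) : ℂ) := by rw [hk, hq]
  have h3 := congrArg Complex.re this
  simpa using h3.symm

/-- At an element of prime order conjugate to all its nontrivial powers, a character takes an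
integral value congruent to its degree. -/
theorem exists_int_of_rational [Finite G] {χ : G → ℂ} (hχ : IsCharacter G χ) {d : ℕ}
    (hd : χ 1 = d) {p : ℕ} [hp : Fact p.Prime] {x : G} (hx : orderOf x = p)
    (hconj : ∀ h ∈ Subgroup.zpowers x, h ≠ 1 → IsConj x h) :
    ∃ z : ℤ, χ x = z ∧ (p : ℤ) ∣ (d : ℤ) - z := by
  classical
  let _ : Fintype (Subgroup.zpowers x) := Fintype.ofFinite _
  obtain ⟨m, hm⟩ := exists_nat_sum hχ (Subgroup.zpowers x).subtype
  have hcard : Fintype.card (Subgroup.zpowers x) = p := by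
    rw [← Nat.card_eq_fintype_card, Nat.card_zpowers, hx]
  rw [← Finset.add_sum_erase _ _ (Finset.mem_univ (1 : Subgroup.zpowers x)),
    Finset.sum_congr rfl (g := fun _ => χ x) (fun h hh => by
      have := hconj h h.2 fun h1 => (Finset.mem_erase.1 hh).1 (Subtype.ext h1)
      obtain ⟨n, ρ, rfl⟩ := hχ
      obtain ⟨c, hc⟩ := isConj_iff.1 this
      show ρ.character (h : G) = ρ.character x
      rw [← hc, Representation.char_conj]),
    Finset.sum_const, Finset.card_erase_of_mem (Finset.mem_univ _), Finset.card_univ, hcard,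
    nsmul_eq_mul, Nat.card_eq_fintype_card, hcard] at hm
  simp only [Subgroup.coe_subtype, OneMemClass.coe_one, hd] at hm
  have hp1 : 1 ≤ p := hp.out.one_lt.le
  rw [Nat.cast_sub hp1, Nat.cast_one] at hm
  have hp0 : (p : ℂ) - 1 ≠ 0 := by
    rw [sub_ne_zero]; exact_mod_cast hp.out.one_lt.ne'
  have hq : ((((p : ℚ) * m - d) / ((p : ℚ) - 1) : ℚ) : ℂ) = χ x := by
    push_cast
    rw [div_eq_iff hp0]
    linear_combination -hm
  obtain ⟨z, hz⟩ := exists_int_of_isIntegral_rat (hq ▸ isIntegral_of_isCharacter hχ x)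
  refine ⟨z, ?_, ?_⟩
  · rw [← hq, ← hz]; push_cast; rfl
  · have hz' : χ x = (z : ℂ) := by rw [← hq, ← hz]; push_cast; rfl
    rw [hz'] at hm
    have h : (d : ℤ) + ((p : ℤ) - 1) * z = p * m := by exact_mod_cast hm
    exact ⟨(m : ℤ) - z, by linarith⟩

/-- Second orthogonality at a single element. -/
theorem sum_normSq [Fintype G] (g : G) :
    ∑ ψ : IrrCharacter G, Complex.normSq ((ψ : G → ℂ) g) =
      (Nat.card (Subgroup.centralizer ({g} : Set G)) : ℝ) := by
  classical
  have h := column_orth g g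
  rw [if_pos (IsConj.refl g)] at h
  have : ((∑ ψ : IrrCharacter G, Complex.normSq ((ψ : G → ℂ) g) : ℝ) : ℂ) =
      ((Nat.card (Subgroup.centralizer ({g} : Set G)) : ℝ) : ℂ) := by
    rw [Complex.ofReal_sum, Complex.ofReal_natCast, ← h]
    exact Finset.sum_congr rfl fun ψ _ => (Complex.mul_conj _).symm
  exact_mod_cast this

/-- Brauer's second relation for an involution whose class has no products of order `p`. -/
theorem sum_sq_div_eq_zero [Fintype G] {p : ℕ} (A : IrrCharacter G → ℤ)
    (hvan : ∀ g : G, g = 1 ∨ g ^ p ≠ 1 → ∑ ψ, (A ψ : ℂ) * (ψ : G → ℂ) g = 0)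
    {t : G} (hreal : ∀ a b : G, IsConj t a → IsConj t b → (a * b) ^ p = 1 → a * b = 1) :
    ∑ ψ, (A ψ : ℂ) * ((ψ : G → ℂ) t ^ 2 / (ψ : G → ℂ) 1) = 0 := by
  classical
  have h : ∑ a ∈ Finset.univ.filter (IsConj t), ∑ b ∈ Finset.univ.filter (IsConj t),
      ∑ ψ, (A ψ : ℂ) * (ψ : G → ℂ) (a * b) = 0 :=
    Finset.sum_eq_zero fun a ha => Finset.sum_eq_zero fun b hb => hvan _ (by
      by_cases hab : (a * b) ^ p = 1
      · exact Or.inl (hreal a b (Finset.mem_filter.1 ha).2 (Finset.mem_filter.1 hb).2 hab)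
      · exact Or.inr hab)
  rw [Finset.sum_congr rfl (fun a _ => Finset.sum_comm), Finset.sum_comm] at h
  simp only [← Finset.mul_sum, CfsgLib.GL23.sum_class_product] at h
  rw [Finset.sum_congr rfl (g := fun ψ : IrrCharacter G =>
    ((Nat.card {x : G // IsConj t x} : ℂ)) ^ 2 *
      ((A ψ : ℂ) * ((ψ : G → ℂ) t ^ 2 / (ψ : G → ℂ) 1))) (fun ψ _ => by ring),
    ← Finset.mul_sum] at h
  have : Nonempty {x : G // IsConj t x} := ⟨⟨t, IsConj.refl t⟩⟩
  exact (mul_eq_zero.1 h).resolve_left (pow_ne_zero 2 (Nat.cast_ne_zero.2 Nat.card_pos.ne'))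

end CfsgLib.Sporadic.CharTools
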