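import Cfsg.Agent.Lib.Sporadic.Chain

/-! Unfolding lemmas for `genWord`, to be used instead of rewriting with the definition, whose
equation lemmas would otherwise be generated separately in several unrelated modules. -/

set_option autoImplicit false

namespace CfsgLib.Sporadic

theorem genWord_nil (mul : ℕ → ℕ → ℕ) (one : ℕ) (gens : List ℕ) :
    genWord mul one gens [] = one := rfl

theorem genWord_cons (mul : ℕ → ℕ → ℕ) (one : ℕ) (gens : List ℕ) (j : ℕ) (js : List ℕ) :
    genWord mul one gens (j :: js) = mul (gens.getD j one) (genWord mul one gens js) := rfl

end CfsgLib.Sporadic
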