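import Cfsg.Agent.Lib.Sporadic.Chain

/-! Simplicity from generation by elements of prime order and a trivial Sylow intersection. -/

set_option autoImplicit false

namespace CfsgLib.Sporadic

variable {G : Type*} [Group G] [Finite G]

omit [Finite G] in
/-- A normal subgroup whose order is divisible by a prime `p` with `p ^ 2 ∤ card G` contains
every element whose `p`th power is `1`. -/
theorem mem_of_pow_eq_one {p : ℕ} (hp : p.Prime) {N : Subgroup G} [N.Normal]
    (hN : p ∣ Nat.card N) (hG : ¬ p * p ∣ Nat.card G) {x : G} (hx : x ^ p = 1) : x ∈ N := by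
  have hidx : ¬ p ∣ N.index := by
    intro h
    exact hG (N.card_mul_index ▸ Nat.mul_dvd_mul hN h)
  rw [← QuotientGroup.eq_one_iff]
  have h1 : orderOf (x : G ⧸ N) ∣ p := by
    refine orderOf_dvd_of_pow_eq_one ?_
    rw [← QuotientGroup.mk_pow, hx, QuotientGroup.mk_one]
  have h2 : orderOf (x : G ⧸ N) ∣ N.index := by
    rw [Subgroup.index_eq_card]
    exact orderOf_dvd_natCard _
  rcases (Nat.dvd_prime hp).1 h1 with h | h
  · exact orderOf_eq_one_iff.1 h
  · exact absurd (h ▸ h2) hidx

/-- A normal `p`-subgroup lies in each subgroup of Sylow order. -/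
theorem le_of_isPGroup {p : ℕ} [Fact p.Prime] {N P : Subgroup G} [N.Normal] (hN : IsPGroup p N)
    (hP : Nat.card P = p ^ (Nat.card G).factorization p) : N ≤ P := by
  obtain ⟨Q, hQ⟩ := hN.exists_le_sylow
  obtain ⟨g, hg⟩ := MulAction.exists_smul_eq G Q (Sylow.ofCard P hP)
  intro x hx
  have hx' : g⁻¹ * x * g ∈ Q := hQ (Subgroup.Normal.conj_mem' inferInstance x hx g)
  have : x ∈ ((g • Q : Sylow p G) : Set G) := by
    rw [Sylow.coe_smul]
    exact ⟨g⁻¹ * x * g, hx', by simp [MulAut.smul_def, mul_assoc]⟩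
  rw [hg] at this
  exact this

/-- A normal `p'`-subgroup `N` is centralized by every element of order dividing `p`, when for
each prime `q` dividing its order the powers of `q` up to that dividing `card N` are pairwise
different modulo `p`. -/
theorem commute_of_pow_eq_one {p : ℕ} [Fact p.Prime] {N : Subgroup G} [N.Normal]
    (hpN : ¬ p ∣ Nat.card N)
    (hq : ∀ q, q.Prime → ∀ i j, q ^ i ∣ Nat.card N → q ^ j ∣ Nat.card N →
      q ^ i ≡ q ^ j [MOD p] → i = j)
    {x : G} (hx : x ^ p = 1) : ∀ y ∈ N, x * y = y * x := by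
  let A := Subgroup.zpowers x
  have hA : IsPGroup p A := by
    intro a
    refine ⟨1, ?_⟩
    obtain ⟨k, hk⟩ := Subgroup.mem_zpowers_iff.1 a.2
    refine Subtype.ext ?_
    rw [pow_one, Subgroup.coe_pow, ← hk, ← zpow_natCast, ← zpow_mul, mul_comm, zpow_mul,
      zpow_natCast, hx, one_zpow, OneMemClass.coe_one]
  let inst : MulDistribMulAction A N :=
    MulDistribMulAction.compHom N ((MulAut.conjNormal (H := N)).comp A.subtype)
  have hsmul : ∀ (a : A) (y : N), ((a • y : N) : G) = a * y * (a : G)⁻¹ := fun a y => rfl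
  let C : Subgroup N := ((Subgroup.centralizer ({x} : Set G)) ⊓ N).subgroupOf N
  have hC : ∀ q, q.Prime → ∀ k, q ^ k ∣ Nat.card N → q ^ k ∣ Nat.card C := by
    intro q hqp k hk
    have := Fact.mk hqp
    have hndvd : ¬ p ∣ Nat.card (Sylow q N) := fun h =>
      hpN (h.trans ((Sylow.card_dvd_index default).trans (Subgroup.index_dvd_card _)))
    obtain ⟨P, hP⟩ := hA.nonempty_fixed_point_of_prime_not_dvd_card (Sylow q N) hndvd
    have hst : ∀ (a : A) (y : N), y ∈ P → a • y ∈ P := by
      intro a y hy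
      have h1 : a • P = P := hP a
      rw [← h1]
      exact ⟨y, hy, rfl⟩
    let act : MulAction A (P : Subgroup N) :=
      { smul := fun a y => ⟨a • y.1, hst a _ y.2⟩
        one_smul := fun y => Subtype.ext (one_smul A y.1)
        mul_smul := fun a b y => Subtype.ext (mul_smul a b y.1) }
    have hfix := hA.card_modEq_card_fixedPoints (P : Subgroup N)
    have hPC : ∀ y : (P : Subgroup N), y ∈ MulAction.fixedPoints A (P : Subgroup N) ↔ y.1 ∈ C := by
      intro y
      constructor
      · intro hy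
        have h := congrArg (fun z : (P : Subgroup N) => ((z.1 : N) : G))
          (hy ⟨x, Subgroup.mem_zpowers x⟩)
        refine Subgroup.mem_subgroupOf.2 ⟨?_, y.1.2⟩
        change _ ∈ Subgroup.centralizer ({x} : Set G)
        rw [Subgroup.mem_centralizer_singleton_iff]
        change x * _ * x⁻¹ = _ at h
        exact eq_mul_of_mul_inv_eq h |>.symm
      · intro hy a
        have hy' : Commute (y.1 : G) x :=
          Subgroup.mem_centralizer_singleton_iff.1 (Subgroup.mem_subgroupOf.1 hy).1
        obtain ⟨k, hk⟩ := Subgroup.mem_zpowers_iff.1 a.2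
        refine Subtype.ext (Subtype.ext ?_)
        change (a : G) * _ * (a : G)⁻¹ = _
        rw [← hk, ← (hy'.zpow_right k).eq, mul_inv_cancel_right]
    have hcard : Nat.card (MulAction.fixedPoints A (P : Subgroup N)) =
        Nat.card ((P : Subgroup N) ⊓ C : Subgroup N) :=
      Nat.card_congr
        { toFun := fun y => ⟨y.1.1, y.1.2, (hPC y.1).1 y.2⟩
          invFun := fun y => ⟨⟨y.1, y.2.1⟩, (hPC _).2 y.2.2⟩
          left_inv := fun y => rfl
          right_inv := fun y => rfl }
    obtain ⟨i, hi⟩ := P.2.exists_card_eq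
    obtain ⟨j, hj⟩ := (P.2.to_le (inf_le_left (b := C))).exists_card_eq
    rw [hcard, hi, hj] at hfix
    have hij : i = j := hq q hqp i j (hi ▸ Subgroup.card_subgroup_dvd_card _)
      (hj ▸ Subgroup.card_subgroup_dvd_card _) hfix
    calc q ^ k ∣ Nat.card (P : Subgroup N) := by
          rw [P.card_eq_multiplicity]
          exact Nat.pow_dvd_pow q ((hqp.pow_dvd_iff_le_factorization Nat.card_pos.ne').1 hk)
      _ = Nat.card ((P : Subgroup N) ⊓ C : Subgroup N) := by rw [hi, hj, hij]
      _ ∣ Nat.card C := Subgroup.card_dvd_of_le inf_le_right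
  have hdvd : Nat.card N ∣ Nat.card C := by
    refine (Nat.dvd_iff_prime_pow_dvd_dvd _ _).2 fun q k hqp h => hC q hqp k h
  have htop : C = ⊤ := Subgroup.eq_top_of_card_eq _
    (Nat.dvd_antisymm C.card_subgroup_dvd_card hdvd)
  intro y hy
  have h : (⟨y, hy⟩ : N) ∈ C := htop ▸ Subgroup.mem_top _
  exact (Subgroup.mem_centralizer_singleton_iff.1 (Subgroup.mem_subgroupOf.1 h).1).symm

end CfsgLib.Sporadic
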