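import Cfsg.Agent.Lib.Sporadic.J1Cert
import Cfsg.Agent.Lib.Sporadic.Simple
import Cfsg.Prelude.Def_Spor_J1
import Cfsg.Agent.Lib.Sporadic.GenWord

/-! The order and the simplicity of the Janko group `Cfsg.Spor.J1`. -/

set_option autoImplicit false

namespace CfsgLib.Sporadic.J1

open Cfsg.Spor (jankoX jankoY)

/-- A matrix code as a matrix. -/
noncomputable abbrev dec : ℕ → Matrix (Fin 7) (Fin 7) (ZMod 11) := decP 7 12 4 11

/-- The coercion of `GL 7 11` into matrices. -/
abbrev emb : GL (Fin 7) (ZMod 11) →* Matrix (Fin 7) (Fin 7) (ZMod 11) := Units.coeHom _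

theorem hemb : Function.Injective emb := Units.coeHom_injective

theorem hmul (a b : ℕ) : dec (mul a b) = dec a * dec b :=
  decP_mulP (by norm_num) (by norm_num) (by norm_num) a b

theorem hinj : ∀ a b, canon a = true → canon b = true → dec a = dec b → a = b :=
  fun _ _ => decP_injOn

theorem hone : dec one = 1 := by decide +kernel

theorem emb_X : emb jankoX = dec (gens.getD 0 one) := by decide +kernel

theorem emb_Y : emb jankoY = dec (gens.getD 1 one) := by decide +kernel

theorem gens_mem : ∀ c ∈ gens, CodeMem emb dec Cfsg.Spor.J1 c := by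
  have hX : jankoX ∈ Cfsg.Spor.J1 := Subgroup.subset_closure (by simp)
  have hY : jankoY ∈ Cfsg.Spor.J1 := Subgroup.subset_closure (by simp)
  intro c hc
  simp only [gens, List.mem_cons, List.not_mem_nil, or_false] at hc
  rcases hc with rfl | rfl
  · exact ⟨_, hX, emb_X⟩
  · exact ⟨_, hY, emb_Y⟩

theorem words_mem {ws : List (List ℕ)} {cs : List ℕ} (h : ws.map (genWord mul one gens) = cs) :
    ∀ c ∈ cs, CodeMem emb dec Cfsg.Spor.J1 c := by
  subst h
  intro c hc
  obtain ⟨w, -, rfl⟩ := List.mem_map.1 hc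
  exact codeMem_genWord hmul hone gens_mem w

/-- The subgroup of order 660. -/
def kGroup : Subgroup (GL (Fin 7) (ZMod 11)) := Subgroup.closure (genSet emb dec kGens)

theorem kGroup_le : kGroup ≤ Cfsg.Spor.J1 :=
  genSet_closure_le hemb (words_mem k_words)

theorem card_kGroup : Nat.card kGroup = 660 ∧ ∀ i < 660, CodeMem emb dec kGroup (kT.get i) :=
  card_genSet_eq hmul hone hemb hinj (words_mem k_words) (by norm_num) (by decide +kernel)
    k_par k_fac k_dist

/-- The subgroup of order 8. -/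
def s2Group : Subgroup (GL (Fin 7) (ZMod 11)) := Subgroup.closure (genSet emb dec s2Gens)

theorem card_s2Group :
    Nat.card s2Group = 8 ∧ ∀ i < 8, CodeMem emb dec s2Group (s2T.get i) :=
  card_genSet_eq hmul hone hemb hinj (words_mem s2_words) (by norm_num) (by decide +kernel)
    s2_par s2_fac s2_dist

theorem s2Group_le : s2Group ≤ Cfsg.Spor.J1 := genSet_closure_le hemb (words_mem s2_words)

theorem dvd_card_of_words {cs : List ℕ} {ws : List (List ℕ)}
    (hw : ws.map (genWord mul one gens) = cs) {n : ℕ}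
    (h : Nat.card (Subgroup.closure (genSet emb dec cs)) = n) :
    n ∣ Nat.card Cfsg.Spor.J1 :=
  h ▸ Subgroup.card_dvd_of_le (genSet_closure_le hemb (words_mem hw))

theorem card_le : Nat.card Cfsg.Spor.J1 ≤ 175560 := by
  have h : Nat.card (Subgroup.closure ({jankoX, jankoY} : Set (GL (Fin 7) (ZMod 11)))) ≤
      266 * Nat.card kGroup := by
    refine card_le_of_checks hmul hone hemb (T := topT) (fac := topFac) (gens := gens)
      (lower := [(660, kT)]) (by norm_num) (by decide +kernel) ?_ ?_ top_fac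
    · rintro s (rfl | rfl)
      · exact ⟨_, by simp [gens], emb_X⟩
      · exact ⟨_, by simp [gens], emb_Y⟩
    · intro p hp
      obtain rfl := List.mem_singleton.1 hp
      exact ⟨by norm_num, card_kGroup.2⟩
  rw [card_kGroup.1] at h
  exact h

/-- The order of `J1`. -/
theorem card_J1 : Nat.card Cfsg.Spor.J1 = 175560 := by
  refine le_antisymm card_le (Nat.le_of_dvd Nat.card_pos ?_)
  have h1 : 660 ∣ Nat.card Cfsg.Spor.J1 := dvd_card_of_words k_words card_kGroup.1
  have h2 : 8 ∣ Nat.card Cfsg.Spor.J1 := dvd_card_of_words s2_words card_s2Group.1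
  have h3 : 7 ∣ Nat.card Cfsg.Spor.J1 := dvd_card_of_words s7_words
    (card_genSet_eq hmul hone hemb hinj (words_mem s7_words) (by norm_num) (by decide +kernel)
      s7_par s7_fac s7_dist).1
  have h4 : 19 ∣ Nat.card Cfsg.Spor.J1 := dvd_card_of_words s19_words
    (card_genSet_eq hmul hone hemb hinj (words_mem s19_words) (by norm_num) (by decide +kernel)
      s19_par s19_fac s19_dist).1
  exact Nat.lcm_dvd (Nat.lcm_dvd (Nat.lcm_dvd h1 h2) h3) h4

theorem primeData_ok : primeData.all (fun d =>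
    d.2.1.map (genWord mul one gens) == d.2.2.1 &&
    d.2.2.1.all (fun c => genWord mul one [c] (List.replicate d.1 0) == one) &&
    d.2.2.2.map (genWord mul one d.2.2.1) == gens) = true := by
  decide +kernel

/-- No element of the order-8 subgroup but the identity is sent into it by `jankoX`. -/
theorem s2_moved : allFrom 1 7 (fun i => allFrom 0 8 (fun j =>
    !(mul (gens.getD 0 one) (s2T.get i) == mul (s2T.get j) (gens.getD 0 one)))) = true := by
  decide +kernel

theorem s2_canon_X : allFrom 0 8 (fun i => canon (mul (gens.getD 0 one) (s2T.get i)) &&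
    canon (mul (s2T.get i) (gens.getD 0 one))) = true := by
  decide +kernel

theorem emb_pow {H : Subgroup (GL (Fin 7) (ZMod 11))} {x : H} {c : ℕ} (h : emb x.1 = dec c) :
    ∀ k, emb (x ^ k).1 = dec (genWord mul one [c] (List.replicate k 0))
  | 0 => by
    rw [pow_zero, OneMemClass.coe_one, map_one]
    exact hone.symm
  | k + 1 => by
    rw [List.replicate_succ, CfsgLib.Sporadic.genWord_cons, hmul, ← emb_pow h k, pow_succ', Subgroup.coe_mul, map_mul, h]
    rfl

theorem pow_eq_one_of_code {x : Cfsg.Spor.J1} {c k : ℕ} (h : emb x.1 = dec c)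
    (hk : genWord mul one [c] (List.replicate k 0) = one) : x ^ k = 1 :=
  Subtype.ext (hemb (by rw [emb_pow h k, hk, hone, OneMemClass.coe_one, map_one]))

theorem eq_top_of_dvd {N : Subgroup Cfsg.Spor.J1} [N.Normal] {p : ℕ} (hp : p.Prime)
    (hpG : ¬ p * p ∣ 175560) (hN : p ∣ Nat.card N)
    (hmem : p ∈ primeData.map Prod.fst) : N = ⊤ := by
  obtain ⟨⟨p', ws, cs, back⟩, hd, rfl⟩ := List.mem_map.1 hmem
  have hb := List.all_eq_true.1 primeData_ok _ hd
  simp only [Bool.and_eq_true, beq_iff_eq, List.all_eq_true] at hb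
  obtain ⟨⟨hws, hcs⟩, hback⟩ := hb
  have hNc : ∀ c ∈ cs, CodeMem emb dec (N.map (Cfsg.Spor.J1).subtype) c := by
    intro c hc
    obtain ⟨g, hg, e⟩ := words_mem hws c hc
    have hone' : (⟨g, hg⟩ : Cfsg.Spor.J1) ^ p' = 1 := pow_eq_one_of_code e (hcs c hc)
    have hgN : (⟨g, hg⟩ : Cfsg.Spor.J1) ∈ N :=
      mem_of_pow_eq_one hp hN (by rw [card_J1]; exact hpG) hone'
    exact ⟨g, ⟨_, hgN, rfl⟩, e⟩
  have hle : Cfsg.Spor.J1 ≤ N.map (Cfsg.Spor.J1).subtype := by
    have hgens : ∀ c ∈ gens, CodeMem emb dec (N.map (Cfsg.Spor.J1).subtype) c := by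
      rw [← hback]
      intro c hc
      obtain ⟨w, -, rfl⟩ := List.mem_map.1 hc
      exact codeMem_genWord hmul hone hNc w
    refine (Subgroup.closure_le _).2 ?_
    rintro s (rfl | rfl)
    · obtain ⟨g, hg, e⟩ := hgens (gens.getD 0 one) (by simp [gens])
      rwa [hemb (emb_X.trans e.symm)]
    · obtain ⟨g, hg, e⟩ := hgens (gens.getD 1 one) (by simp [gens])
      rwa [hemb (emb_Y.trans e.symm)]
  rw [eq_top_iff]
  intro x _
  obtain ⟨y, hy, e⟩ := hle x.2
  rwa [← Subtype.ext e]

theorem eq_bot_of_two_group {N : Subgroup Cfsg.Spor.J1} [N.Normal] (hN : IsPGroup 2 N) :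
    N = ⊥ := by
  have hP : Nat.card (s2Group.subgroupOf Cfsg.Spor.J1) =
      2 ^ (Nat.card Cfsg.Spor.J1).factorization 2 := by
    rw [Nat.card_congr (Subgroup.subgroupOfEquivOfLe s2Group_le).toEquiv, card_s2Group.1, card_J1]
    have : (175560 : ℕ).factorization 2 = 3 := by
      rw [show (175560 : ℕ) = 2 ^ 3 * 21945 by norm_num,
        Nat.factorization_mul (by norm_num) (by norm_num), Finsupp.add_apply,
        Nat.Prime.factorization_pow Nat.prime_two, Finsupp.single_eq_same,
        Nat.factorization_eq_zero_of_not_dvd (by norm_num)]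
    rw [this]
    norm_num
  have hle := le_of_isPGroup hN hP
  rw [eq_bot_iff]
  intro z hz
  rw [Subgroup.mem_bot]
  by_contra hne
  let X : Cfsg.Spor.J1 := ⟨jankoX, Subgroup.subset_closure (by simp)⟩
  have hz' : X * z * X⁻¹ ∈ N := Subgroup.Normal.conj_mem inferInstance z hz X
  have hcodes : ∀ g ∈ s2Group, ∃ i < 8, emb g = dec (s2T.get i) := by
    have hsub := exists_factor (emb := emb) (dec := dec) hmul hone (S := genSet emb dec s2Gens)
      (K := (⊥ : Subgroup (GL (Fin 7) (ZMod 11)))) (T := s2T) (fac := s2Fac) (lower := [])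
      (by norm_num : 0 < 8) (by decide +kernel) (fun s hs => hs) (by simp) s2_fac
    intro g hg
    obtain ⟨a, ⟨i, hi, ha⟩, b, hb, rfl⟩ := hsub hg
    rw [SetLike.mem_coe, Subgroup.mem_bot] at hb
    exact ⟨i, hi, by rw [← ha]; simp [hb]⟩
  obtain ⟨i, hi, ei⟩ := hcodes z.1 (hle hz)
  obtain ⟨j, hj, ej⟩ := hcodes _ (hle hz')
  have hi0 : 1 ≤ i := by
    rcases Nat.eq_zero_or_pos i with rfl | hpos
    · refine absurd (Subtype.ext (hemb ?_) : z = 1) hne
      rw [ei, OneMemClass.coe_one, map_one, show s2T.get 0 = one by decide +kernel, hone]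
    · exact hpos
  have hb := allFrom_eq_true.1 s2_moved i hi0 (by omega)
  have hb' := of_allFrom_zero hb hj
  simp only [Bool.not_eq_true', beq_eq_false_iff_ne] at hb'
  refine hb' (hinj _ _ ?_ ?_ ?_)
  · exact (Bool.and_eq_true _ _ ▸ of_allFrom_zero s2_canon_X hi).1
  · exact (Bool.and_eq_true _ _ ▸ of_allFrom_zero s2_canon_X hj).2
  · have e : (X * z * X⁻¹).1 * jankoX = jankoX * z.1 := by
      simp only [Subgroup.coe_mul, InvMemClass.coe_inv, inv_mul_cancel_right, X]
    refine ((hmul _ _).trans ?_).trans (hmul _ _).symm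
    exact ((congrArg₂ (· * ·) emb_X ei).symm.trans (map_mul emb _ _).symm).trans
      ((congrArg emb e.symm).trans ((map_mul emb _ _).trans (congrArg₂ (· * ·) ej emb_X)))

/-- `J1` is simple. -/
theorem isSimple_J1 : IsSimpleGroup Cfsg.Spor.J1 := by
  have : Nontrivial Cfsg.Spor.J1 := by
    rw [← Finite.one_lt_card_iff_nontrivial, card_J1]
    norm_num
  refine ⟨fun N hN => ?_⟩
  by_cases h : ∃ p ∈ [3, 5, 7, 11, 19], p ∣ Nat.card N
  · obtain ⟨p, hp, hdvd⟩ := h
    right
    simp only [List.mem_cons, List.not_mem_nil, or_false] at hp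
    rcases hp with rfl | rfl | rfl | rfl | rfl <;>
      exact eq_top_of_dvd (by norm_num) (by norm_num) hdvd (by decide +kernel)
  · left
    refine eq_bot_of_two_group ((IsPGroup.iff_card).2 ?_)
    have hd : Nat.card N ∣ 2 ^ 3 * 21945 := by
      have := N.card_subgroup_dvd_card
      rwa [card_J1] at this
    have hco : Nat.Coprime (Nat.card N) 21945 := by
      rw [show (21945 : ℕ) = 3 * 5 * 7 * 11 * 19 from rfl]
      push Not at h
      have hc : ∀ p ∈ [3, 5, 7, 11, 19], Nat.Prime p → Nat.Coprime (Nat.card N) p :=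
        fun p hp hpp => Nat.Coprime.symm (hpp.coprime_iff_not_dvd.2 (h p hp))
      repeat' apply Nat.Coprime.mul_right
      all_goals exact hc _ (by simp) (by norm_num)
    obtain ⟨k, -, hk⟩ := (Nat.dvd_prime_pow Nat.prime_two).1 (hco.dvd_of_dvd_mul_right hd)
    exact ⟨k, hk⟩

end CfsgLib.Sporadic.J1
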