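import Cfsg.Agent.Lib.Sporadic.J3Group
import Cfsg.Agent.Lib.Sporadic.Simple

/-! Centre, simplicity and a subgroup of index 6156 of `Cfsg.Spor.J3`; the triple cover has
determinant one. -/

set_option autoImplicit false

namespace CfsgLib.Sporadic.J3

open Cfsg.Spor

variable {F : Type*} [Field F] {ω : F} (h : FieldFour F ω)
include h

theorem FieldFour.omegaPow_ne_zero (k : ZMod 3) : omegaPow F ω k ≠ 0 := pow_ne_zero _ h.ne_zero

theorem FieldFour.omegaPow_injective : Function.Injective (omegaPow F ω) := by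
  have key : ∀ i < 3, ∀ j < 3, ω ^ i = ω ^ j → i = j := by
    intro i hi j hj e
    interval_cases i <;> interval_cases j <;> simp only [pow_zero, pow_one] at e <;>
      first
        | rfl
        | exact absurd e h.ne_one
        | exact absurd e.symm h.ne_one
        | exact absurd e h.sq_ne_one
        | exact absurd e.symm h.sq_ne_one
        | exact absurd e h.sq_ne_self
        | exact absurd e.symm h.sq_ne_self
  exact fun a b e => ZMod.val_injective 3 (key _ a.val_lt _ b.val_lt e)

/-- The scalar `ω ^ k` as an element of the triple cover. -/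
theorem FieldFour.scalar_mem (k : ZMod 3) : ∃ g ∈ threeJ3 F ω,
    (g : Matrix F9 F9 F) = Matrix.diagonal (fun _ => omegaPow F ω k) := by
  have hk : scalars.getD k.val one ∈ scalars := by
    have : ∀ k : ZMod 3, scalars.contains (scalars.getD k.val one) = true := by decide +kernel
    exact List.contains_iff_mem.1 (this k)
  obtain ⟨g, hg, e⟩ := h.codeMem_of_vals scalarVals_ok _ hk
  exact ⟨g, h.threeJ3_eq ▸ hg, h.big_injective ((show h.big g.1 = _ from e).trans
    (h.big_scalar k).symm)⟩

/-- The code of a scalar determines it. -/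
theorem FieldFour.gens_units {M : Matrix F9 F9 F} (hM : M ∈ j3Gens F ω) :
    ∃ g : threeJ3 F ω, (g.1 : Matrix F9 F9 F) = M := by
  obtain ⟨c, hc, e⟩ := h.gen_code hM
  obtain ⟨g, hg, e'⟩ := h.allGens_mem c hc
  exact ⟨⟨g, hg⟩, h.big_injective ((show h.big g.1 = _ from e').trans e.symm)⟩

theorem FieldFour.center_scalar {g : threeJ3 F ω} (hg : g ∈ Subgroup.center (threeJ3 F ω)) :
    ∃ k, (g.1 : Matrix F9 F9 F) = Matrix.diagonal (fun _ => omegaPow F ω k) := by
  have hcomm : ∀ M ∈ j3Gens F ω, (g.1 : Matrix F9 F9 F) * M = M * g.1 := by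
    intro M hM
    obtain ⟨u, rfl⟩ := h.gens_units hM
    rw [← Units.val_mul, ← Units.val_mul]
    exact congrArg (fun x : threeJ3 F ω => (x.1 : Matrix F9 F9 F))
      (Subgroup.mem_center_iff.1 hg u).symm
  generalize hG : (g.1 : Matrix F9 F9 F) = M at hcomm
  have hoff : ∀ r z, r ≠ z → M r z = 0 := by
    intro r z hrz
    have hd : ∀ r z : F9, r ≠ z → ∃ Z : F9,
        Z.1 * r.1 + Z.2 * r.2 ≠ Z.1 * z.1 + Z.2 * z.2 := by decide +kernel
    obtain ⟨Z, hZ⟩ := hd r z hrz
    have e := congrFun (congrFun (hcomm _ (.inl (.inl (.inl (.inl ⟨Z, rfl⟩))))) r) z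
    rw [j3A, Matrix.mul_diagonal, Matrix.diagonal_mul] at e
    have e' : M r z * (omegaPow F ω (Z.1 * z.1 + Z.2 * z.2) -
        omegaPow F ω (Z.1 * r.1 + Z.2 * r.2)) = 0 := by linear_combination e
    exact (mul_eq_zero.1 e').resolve_right
      (sub_ne_zero.2 fun he => hZ (h.omegaPow_injective he).symm)
  have hdiag : ∀ Z : F9, M Z Z = M 0 0 := by
    intro Z
    have e := congrFun (congrFun (hcomm _ (.inl (.inl (.inr ⟨Z, rfl⟩)))) Z) 0
    rw [Matrix.mul_apply, Matrix.mul_apply, Finset.sum_eq_single Z, Finset.sum_eq_single 0] at e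
    · simpa [j3D, j3Lam] using e
    · intro b _ hb; rw [hoff b 0 hb, mul_zero]
    · simp
    · intro b _ hb; rw [hoff Z b (Ne.symm hb), zero_mul]
    · simp
  have hM : M = Matrix.diagonal (fun _ => M 0 0) := by
    ext r z
    rcases eq_or_ne r z with rfl | hrz
    · rw [Matrix.diagonal_apply_eq, hdiag]
    · rw [Matrix.diagonal_apply_ne _ hrz, hoff r z hrz]
  have hne : M 0 0 ≠ 0 := by
    intro h0
    have hu : (g.1 : Matrix F9 F9 F) * ((g.1⁻¹ : GL F9 F) : Matrix F9 F9 F) = 1 :=
      g.1.mul_inv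
    rw [hG, hM, h0, Matrix.diagonal_zero, zero_mul] at hu
    exact zero_ne_one (congrFun (congrFun hu 0) 0)
  rcases h.cases (M 0 0) with e | e | e | e
  · exact absurd e hne
  · exact ⟨0, hM.trans (by rw [e]; simp [omegaPow])⟩
  · exact ⟨1, hM.trans (by rw [e]; simp [omegaPow, show (1 : ZMod 3).val = 1 from rfl])⟩
  · exact ⟨2, hM.trans (by rw [e]; simp [omegaPow, show (2 : ZMod 3).val = 2 from rfl])⟩

omit h in
theorem scalar_central {g : threeJ3 F ω} {c : F}
    (hg : (g.1 : Matrix F9 F9 F) = Matrix.diagonal fun _ => c) :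
    g ∈ Subgroup.center (threeJ3 F ω) := by
  rw [Subgroup.mem_center_iff]
  intro x
  refine Subtype.ext (Units.ext ?_)
  rw [Subgroup.coe_mul, Subgroup.coe_mul, Units.val_mul, Units.val_mul, hg]
  ext r z
  rw [Matrix.mul_diagonal, Matrix.diagonal_mul, mul_comm]

/-- The centre has order 3. -/
theorem FieldFour.card_center : Nat.card (Subgroup.center (threeJ3 F ω)) = 3 := by
  choose s hs he using h.scalar_mem
  let f : ZMod 3 → Subgroup.center (threeJ3 F ω) := fun k =>
    ⟨⟨s k, hs k⟩, scalar_central (he k)⟩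
  have hf : Function.Bijective f := by
    constructor
    · intro a b e
      have e' : (s a : Matrix F9 F9 F) = s b :=
        congrArg (fun x : Subgroup.center (threeJ3 F ω) => (x.1.1 : Matrix F9 F9 F)) e
      rw [he, he] at e'
      refine h.omegaPow_injective ?_
      simpa using congrFun (congrFun e' 0) 0
    · rintro ⟨g, hg⟩
      obtain ⟨k, hk⟩ := h.center_scalar hg
      exact ⟨k, Subtype.ext (Subtype.ext (Units.ext ((he k).trans hk.symm)))⟩
  rw [← Nat.card_eq_of_bijective f hf, Nat.card_zmod]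

theorem FieldFour.finite_threeJ3 : Finite (threeJ3 F ω) :=
  have := h.finiteGL
  inferInstance

theorem FieldFour.card_J3 : Nat.card (J3 F ω) = 50232960 := by
  have e := Subgroup.card_eq_card_quotient_mul_card_subgroup
    (Subgroup.center (threeJ3 F ω))
  rw [h.card_threeJ3, h.card_center] at e
  change Nat.card (threeJ3 F ω ⧸ _) = _
  omega

/-- A subgroup holding every element of order `p` of the data is everything. -/
theorem FieldFour.eq_top_of_prime {p : ℕ} (hp : p.Prime) (hmem : p ∈ primeData.map Prod.fst)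
    (S : Subgroup (threeJ3 F ω)) (hS : ∀ x : threeJ3 F ω, x ^ p = 1 → x ∈ S) : S = ⊤ := by
  obtain ⟨⟨p', f⟩, hd, rfl⟩ := List.mem_map.1 hmem
  have hmem' : ∀ c ∈ topGens, CodeMem h.emb (decF2 18) (S.map (threeJ3 F ω).subtype) c := by
    have hb := List.all_eq_true.1 primeData_ok _ hd
    simp only [Bool.and_eq_true, beq_iff_eq] at hb
    rw [← hb.1]
    intro c hc
    obtain ⟨pr, hpr, rfl⟩ := List.mem_map.1 hc
    refine codeMem_genWord (emb := h.emb) (dec := decF2 18) (mul := mulF2 18) (one := one)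
      mulF2_dec dec_one ?_ _
    intro c hc
    obtain ⟨cv, hcv, rfl⟩ := List.mem_map.1 hc
    obtain ⟨x, hx, e, ho⟩ := h.prime_elem hp hd hpr hcv
    have hx' : x ∈ threeJ3 F ω := h.threeJ3_eq ▸ hx
    refine ⟨x, ⟨⟨x, hx'⟩, hS _ (Subtype.ext ?_), rfl⟩, e⟩
    rw [SubmonoidClass.coe_pow, OneMemClass.coe_one, ← ho, pow_orderOf_eq_one]
  have hle : threeJ3 F ω ≤ S.map (threeJ3 F ω).subtype :=
    h.threeJ3_eq.trans_le (genSet_closure_le h.emb_injective hmem')
  rw [eq_top_iff]
  intro x _
  obtain ⟨y, hy, e⟩ := hle x.2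
  rwa [← Subtype.ext e]

/-- `J3` is simple. -/
theorem FieldFour.isSimple_J3 : IsSimpleGroup (J3 F ω) := by
  have := h.finite_threeJ3
  have : Nontrivial (J3 F ω) := by
    rw [← Finite.one_lt_card_iff_nontrivial, h.card_J3]
    norm_num
  refine ⟨fun M hM => ?_⟩
  let π := QuotientGroup.mk' (Subgroup.center (threeJ3 F ω))
  have hπ : Function.Surjective π := QuotientGroup.mk'_surjective _
  let N : Subgroup (threeJ3 F ω) := M.comap π
  have hNn : N.Normal := hM.comap π
  have hNmap : N.map π = M := Subgroup.map_comap_eq_self_of_surjective hπ M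
  by_cases hN : ∃ p ∈ [5, 17, 19], p ∣ Nat.card N
  · obtain ⟨p, hp, hdvd⟩ := hN
    right
    simp only [List.mem_cons, List.not_mem_nil, or_false] at hp
    have htop : N = ⊤ := by
      rcases hp with rfl | rfl | rfl <;>
        exact h.eq_top_of_prime (by norm_num) (by decide +kernel) N fun x hx =>
          mem_of_pow_eq_one (by norm_num) hdvd (by rw [h.card_threeJ3]; norm_num) hx
    rw [← hNmap, htop, Subgroup.map_top_of_surjective π hπ]
  · left
    push Not at hN
    have := Fact.mk (show Nat.Prime 19 by norm_num)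
    have hq : ∀ q, q.Prime → ∀ i j, q ^ i ∣ Nat.card N → q ^ j ∣ Nat.card N →
        q ^ i ≡ q ^ j [MOD 19] → i = j := by
      intro q hq i j hi hj hij
      have hG : ∀ {a}, a ∣ Nat.card N → a ∣ 2 ^ 7 * 3 ^ 6 * 1615 := fun {a} ha => by
        have := ha.trans N.card_subgroup_dvd_card
        rwa [h.card_threeJ3] at this
      have hco : Nat.Coprime (Nat.card N) 1615 := by
        rw [show (1615 : ℕ) = 5 * 17 * 19 from rfl]
        repeat' apply Nat.Coprime.mul_right
        all_goals
          exact Nat.Coprime.symm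
            ((Nat.Prime.coprime_iff_not_dvd (by norm_num)).2 (hN _ (by simp)))
      have hN' : Nat.card N ∣ 2 ^ 7 * 3 ^ 6 := hco.dvd_of_dvd_mul_right (hG dvd_rfl)
      have bound : ∀ (b e c : ℕ), b.Prime → Nat.Coprime b c → ∀ k, b ^ k ∣ b ^ e * c → k ≤ e :=
        fun b e c hb hc k hk => (Nat.pow_dvd_pow_iff_le_right hb.one_lt).1
          ((Nat.Coprime.pow_left k hc).dvd_of_dvd_mul_right hk)
      by_cases hq2 : q = 2
      · subst hq2
        have hi' := bound 2 7 (3 ^ 6) hq (by norm_num) i (hi.trans hN')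
        have hj' := bound 2 7 (3 ^ 6) hq (by norm_num) j (hj.trans hN')
        have key : ∀ i ≤ 7, ∀ j ≤ 7, 2 ^ i % 19 = 2 ^ j % 19 → i = j := by decide
        exact key i hi' j hj' hij
      by_cases hq3 : q = 3
      · subst hq3
        have hN3 : Nat.card N ∣ 3 ^ 6 * 2 ^ 7 := mul_comm (2 ^ 7) (3 ^ 6) ▸ hN'
        have hi' := bound 3 6 (2 ^ 7) hq (by norm_num) i (hi.trans hN3)
        have hj' := bound 3 6 (2 ^ 7) hq (by norm_num) j (hj.trans hN3)
        have key : ∀ i ≤ 6, ∀ j ≤ 6, 3 ^ i % 19 = 3 ^ j % 19 → i = j := by decide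
        exact key i hi' j hj' hij
      have zero : ∀ k, q ^ k ∣ Nat.card N → k = 0 := by
        intro k hk
        by_contra hk0
        have h1 : q ∣ 2 ^ 7 * 3 ^ 6 := (dvd_pow_self q hk0).trans (hk.trans hN')
        rcases (Nat.Prime.dvd_mul hq).1 h1 with h2 | h2
        · exact hq2 ((Nat.prime_dvd_prime_iff_eq hq Nat.prime_two).1 (hq.dvd_of_dvd_pow h2))
        · exact hq3 ((Nat.prime_dvd_prime_iff_eq hq Nat.prime_three).1 (hq.dvd_of_dvd_pow h2))
      rw [zero i hi, zero j hj]
    have hC : ∀ y ∈ N, y ∈ Subgroup.center (threeJ3 F ω) := by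
      intro y hy
      have htop := h.eq_top_of_prime (p := 19) (by norm_num) (by decide +kernel)
        (Subgroup.centralizer {y}) fun x hx => Subgroup.mem_centralizer_singleton_iff.2
          (commute_of_pow_eq_one (hN 19 (by simp)) hq hx y hy)
      rw [Subgroup.mem_center_iff]
      intro x
      exact Subgroup.mem_centralizer_singleton_iff.1
        (htop ▸ Subgroup.mem_top x : x ∈ Subgroup.centralizer {y})
    rw [← hNmap, eq_bot_iff]
    rintro _ ⟨y, hy, rfl⟩
    exact Subgroup.mem_bot.2 ((QuotientGroup.eq_one_iff y).2 (hC y hy))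

/-- The centre lies in the subgroup of index 6156. -/
theorem FieldFour.center_le_kGroup {g : threeJ3 F ω}
    (hg : g ∈ Subgroup.center (threeJ3 F ω)) : g.1 ∈ h.kGroup := by
  obtain ⟨k, hk⟩ := h.center_scalar hg
  obtain ⟨s, hs, e⟩ := (codeMem_genSet h.hGens_mem) (scalars.getD 1 one)
    (List.contains_iff_mem.1 scalars_in_h)
  have e' : (s : Matrix F9 F9 F) = Matrix.diagonal fun _ => ω :=
    h.big_injective (by
      have := h.big_scalar (1 : ZMod 3)
      simp only [omegaPow, show (1 : ZMod 3).val = 1 from rfl, pow_one] at this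
      exact (show h.big s.1 = _ from e).trans this.symm)
  have he : g.1 = s ^ k.val := by
    refine Units.ext ?_
    rw [Units.val_pow_eq_pow_val, e', Matrix.diagonal_pow, hk]
    rfl
  rw [he]
  exact pow_mem (h.hGroup_le hs) _

/-- `J3` has a subgroup of order 8160 and index 6156. -/
theorem FieldFour.exists_index : ∃ K : Subgroup (J3 F ω), K.index = 6156 ∧ Nat.card K = 8160 := by
  have := h.finite_threeJ3
  let π := QuotientGroup.mk' (Subgroup.center (threeJ3 F ω))
  let K₀ : Subgroup (threeJ3 F ω) := h.kGroup.subgroupOf (threeJ3 F ω)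
  have hle : h.kGroup ≤ threeJ3 F ω := h.threeJ3_eq ▸ h.kGroup_le
  have hcard : Nat.card K₀ = 24480 := by
    rw [Nat.card_congr (Subgroup.subgroupOfEquivOfLe hle).toEquiv, h.card_kGroup]
  have hker : π.ker ≤ K₀ := by
    rw [QuotientGroup.ker_mk']
    exact fun g hg => h.center_le_kGroup hg
  have hidx : (K₀.map π).index = 6156 := by
    rw [K₀.index_map_eq (QuotientGroup.mk'_surjective _) hker]
    have e := K₀.card_mul_index
    rw [hcard, h.card_threeJ3] at e
    omega
  refine ⟨K₀.map π, hidx, ?_⟩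
  have e := (K₀.map π).card_mul_index
  rw [hidx, h.card_J3] at e
  exact Nat.eq_of_mul_eq_mul_right (by norm_num : 0 < 6156) (e.trans (by norm_num))

end CfsgLib.Sporadic.J3
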