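import Cfsg.Agent.Lib.Sporadic.CoTwoInvolution

/-! The kernel is extraspecial of order 2^9; the centraliser in Co2. -/

set_option autoImplicit false
set_option maxRecDepth 20000

noncomputable section

namespace CfsgLib.Sporadic.CoTwo

open Cfsg CfsgLib.Golay CfsgLib.Golay.LeechOrbit CfsgLib.MonsterType commutatorElement
open scoped Pointwise Matrix

/-- The parameters of an element of the kernel. -/
abbrev KPar := {c : golayCode // ∀ p ∈ baseOctad, c.1 p = 0} × fixOct

/-- The permutation part. -/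
def sig (x : KPar) : M24 := ⟨x.2.1, x.2.2.1⟩

theorem exists_elem (x : KPar) : ∃ k : toSp.ker, k.1.1 = sgnW x.1.1 * permW (sig x) := by
  obtain ⟨γ, e, h1⟩ := mono_trivial (σ := sig x) x.1.2 fun p hp => fixOct_apply x.2 hp
  exact ⟨⟨γ, MonoidHom.mem_ker.mpr h1⟩, e⟩

theorem exists_par (k : toSp.ker) : ∃ x : KPar, k.1.1 = sgnW x.1.1 * permW (sig x) := by
  obtain ⟨c, σ, e, hc, hσ⟩ := exists_mono_of_trivial (MonoidHom.mem_ker.mp k.2)
  exact ⟨(⟨c, hc⟩, ⟨σ.1, σ.2, (mem_fixingSubgroup_iff _).mpr fun p hp => hσ p hp⟩), e⟩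

theorem sgnW_add (c d : golayCode) : sgnW (c + d) = sgnW c * sgnW d :=
  map_mul sgnHom (Multiplicative.ofAdd c) (Multiplicative.ofAdd d)

theorem sgnW_zero : sgnW (0 : golayCode) = 1 := map_one sgnHom

theorem sgnW_inj {c d : golayCode} (h : sgnW c = sgnW d) : c = d :=
  Multiplicative.ofAdd.injective (sgnHom_injective h)

theorem sig_sq (x : KPar) : sig x * sig x = 1 :=
  Subtype.ext ((octad_fixing baseOctad_mem).2 _ x.2.2)

theorem sig_comm (x y : KPar) : sig x * sig y = sig y * sig x := by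
  have h : ∀ z : KPar, (sig z)⁻¹ = sig z := fun z => inv_eq_of_mul_eq_one_right (sig_sq z)
  have e : (sig x * sig y) * (sig x * sig y) = 1 :=
    Subtype.ext ((octad_fixing baseOctad_mem).2 _ (mul_mem x.2.2 y.2.2))
  have e' := inv_eq_of_mul_eq_one_right e
  rw [mul_inv_rev, h, h] at e'
  exact e'.symm

theorem dec_affP (k : ℕ) (w : V4) :
    dec (codeWord k) (affP w) = if (codeWord k).testBit (apt w) then 1 else 0 := by
  rw [dec, idx_affP]

theorem exists_word {d : golayCode} (hd : ∀ p ∈ baseOctad, d.1 p = 0) :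
    ∃ k, k < 4096 ∧ codeWord k &&& 8536111 = 0 ∧ d.1 = dec (codeWord k) := by
  obtain ⟨k, hk, e⟩ := exists_codeWord (mem_golayCode.mp d.2)
  refine ⟨k, hk, Nat.eq_of_testBit_eq fun j => ?_, by rw [e, dec_enc]⟩
  rw [Nat.testBit_and, e, Nat.zero_testBit]
  rcases Nat.lt_or_ge j 24 with hj | hj
  · cases hb : (8536111 : ℕ).testBit j
    · simp
    · have := zero_on_octad.mpr hd ⟨j, hj⟩ hb
      rw [Bool.and_true, show j = (idx (pt ⟨j, hj⟩)).val by rw [idx_pt], testBit_enc, this]
      simp
  · rw [testBit_enc_ge _ hj, Bool.false_and]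

theorem symm_affP (x : KPar) {v : V4} (hv : ∀ w, (sig x : Equiv.Perm GolayPt) (affP w) = affP (w + v))
    (w : V4) : (sig x : Equiv.Perm GolayPt).symm (affP w) = affP (w + v) := by
  rw [Equiv.symm_apply_eq, hv, add_assoc, add_self_V4, add_zero]

theorem symm_fix (x : KPar) {p : GolayPt} (hp : p ∈ baseOctad) :
    (sig x : Equiv.Perm GolayPt).symm p = p :=
  (Equiv.symm_apply_eq _).mpr (fixOct_apply x.2 hp).symm

theorem outWord_apply (p : GolayPt) : outWord.1 p = if p ∈ baseOctad then 0 else 1 := by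
  have key : ∀ i : Fin 24, (8241104 : ℕ).testBit i.val = !(8536111 : ℕ).testBit i.val := by
    decide +kernel
  show dec 8241104 p = _
  simp only [dec, baseOctad, mem_decS, key]
  cases (8536111 : ℕ).testBit (idx p).val <;> simp

/-- The translate of a word differs from it by a constant outside the octad. -/
theorem act_add_self (x : KPar) {d : golayCode} (hd : ∀ p ∈ baseOctad, d.1 p = 0) :
    (⟨_, act_code (sig x).2 d⟩ : golayCode) + d = 0 ∨
      (⟨_, act_code (sig x).2 d⟩ : golayCode) + d = outWord := by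
  obtain ⟨v, hv⟩ := fixOct_translation x.2
  obtain ⟨k, hk, hk0, hdk⟩ := exists_word hd
  have hval : ∀ p, ((⟨_, act_code (sig x).2 d⟩ : golayCode) + d).1 p =
      if p ∈ baseOctad then 0 else
        if xor ((codeWord k).testBit (apt v)) ((codeWord k).testBit (apt 0)) then 1 else 0 := by
    intro p
    show d.1 ((sig x : Equiv.Perm GolayPt).symm p) + d.1 p = _
    by_cases hp : p ∈ baseOctad
    · rw [symm_fix x hp, hd p hp, if_pos hp, add_zero]
    · rw [if_neg hp, ← affP_cP hp, symm_affP x hv, hdk, dec_affP, dec_affP,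
        ← affine_check k hk hk0 v (cP p)]
      cases (codeWord k).testBit (apt (cP p + v)) <;> cases (codeWord k).testBit (apt (cP p)) <;>
        simp [CharTwo.add_self_eq_zero]
  cases hb : xor ((codeWord k).testBit (apt v)) ((codeWord k).testBit (apt 0))
  · refine Or.inl (Subtype.ext (funext fun p => ?_))
    rw [hval, hb]; simp
  · refine Or.inr (Subtype.ext (funext fun p => ?_))
    rw [hval, hb, outWord_apply]; simp

/-- The central involution in the kernel. -/
def zEl : toSp.ker := (exists_elem (⟨outWord, fun p hp => by rw [outWord_apply, if_pos hp]⟩, 1)).choose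

theorem zEl_spec : zEl.1.1 = tZero := by
  have h := (exists_elem (⟨outWord, fun p hp => by rw [outWord_apply, if_pos hp]⟩, 1)).choose_spec
  refine h.trans ?_
  have h1 : sig (⟨outWord, fun p hp => by rw [outWord_apply, if_pos hp]⟩, (1 : fixOct)) = 1 :=
    Subtype.ext rfl
  show sgnW outWord * permW _ = tZero
  rw [h1, ← permHom_apply, map_one, mul_one]
  rfl

theorem ker_ext {k l : toSp.ker} (h : k.1.1 = l.1.1) : k = l := Subtype.ext (Subtype.ext h)

theorem zEl_central (k : toSp.ker) : k * zEl = zEl * k := ker_ext (by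
  show k.1.1 * zEl.1.1 = zEl.1.1 * k.1.1
  rw [zEl_spec]
  exact (mem_cTwo.mp k.1.2).1)

theorem sgn_cases {e : golayCode} (he : e = 0 ∨ e = outWord) :
    ∃ z ∈ Subgroup.zpowers zEl, z.1.1 = sgnW e := by
  rcases he with rfl | rfl
  · exact ⟨1, one_mem _, sgnW_zero.symm⟩
  · exact ⟨zEl, Subgroup.mem_zpowers _, zEl_spec⟩

theorem sq_mem (k : toSp.ker) : k * k ∈ Subgroup.zpowers zEl := by
  obtain ⟨x, hx⟩ := exists_par k
  obtain ⟨z, hz, e⟩ := sgn_cases (by
    rw [add_comm]; exact act_add_self x x.1.2 : x.1.1 + (⟨_, act_code (sig x).2 x.1.1⟩ : golayCode) = 0 ∨ _)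
  rw [show k * k = z from ker_ext ?_]
  · exact hz
  · show k.1.1 * k.1.1 = _
    rw [hx, mono_mul, sig_sq, ← permHom_apply, map_one, mul_one, e]

theorem comm_mem (k l : toSp.ker) : ∃ z ∈ Subgroup.zpowers zEl, k * l = z * (l * k) := by
  obtain ⟨x, hx⟩ := exists_par k
  obtain ⟨y, hy⟩ := exists_par l
  set a : golayCode := ⟨_, act_code (sig x).2 y.1.1⟩
  set b : golayCode := ⟨_, act_code (sig y).2 x.1.1⟩
  have hz : (a + y.1.1) + (b + x.1.1) = 0 ∨ (a + y.1.1) + (b + x.1.1) = outWord := by
    have hoo : outWord + outWord = 0 := Subtype.ext (funext fun p => CharTwo.add_self_eq_zero _)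
    rcases act_add_self x y.1.2 with h1 | h1 <;> rcases act_add_self y x.1.2 with h2 | h2 <;>
      simp only [a, b, h1, h2, add_zero, zero_add, hoo, true_or, or_true]
  obtain ⟨z, hz', e⟩ := sgn_cases hz
  refine ⟨z, hz', ker_ext ?_⟩
  show k.1.1 * l.1.1 = z.1.1 * (l.1.1 * k.1.1)
  rw [hx, hy, mono_mul, mono_mul, e, ← mul_assoc, ← sgnW_add, sig_comm y x]
  congr 2
  refine Subtype.ext (funext fun p => ?_)
  simp only [Submodule.coe_add, Pi.add_apply]
  have h2 : ∀ u : ZMod 2, u + u = 0 := CharTwo.add_self_eq_zero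
  linear_combination (-1 : ZMod 2) * h2 (y.1.1.1 p) + (-1 : ZMod 2) * h2 (b.1 p)

theorem center_ker : Subgroup.center toSp.ker = Subgroup.zpowers zEl := by
  refine le_antisymm (fun k hk => ?_) (Subgroup.zpowers_le.mpr (Subgroup.mem_center_iff.mpr zEl_central))
  obtain ⟨x, hx⟩ := exists_par k
  have hc : ∀ y : KPar, x.1.1 + (⟨_, act_code (sig x).2 y.1.1⟩ : golayCode) =
      y.1.1 + (⟨_, act_code (sig y).2 x.1.1⟩ : golayCode) := by
    intro y
    obtain ⟨l, hl⟩ := exists_elem y
    have e := congrArg (fun z : toSp.ker => z.1.1) (Subgroup.mem_center_iff.mp hk l)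
    change l.1.1 * k.1.1 = k.1.1 * l.1.1 at e
    rw [hx, hl, mono_mul, mono_mul, sig_comm y x] at e
    exact (sgnW_inj (mul_right_cancel e)).symm
  obtain ⟨v, hv⟩ := fixOct_translation x.2
  have hv0 : v = 0 := by
    by_contra hne
    obtain ⟨j, hj0, hj⟩ := moved_check v hne
    have hd : ∀ p ∈ baseOctad, (⟨dec (codeWord j), dec_codeWord_mem _⟩ : golayCode).1 p = 0 := by
      refine zero_on_octad.mp fun i hi => ?_
      have h := congrArg (fun n : ℕ => n.testBit i.val) hj0
      simp only [Nat.testBit_and, hi, Bool.and_true, Nat.zero_testBit] at h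
      simp [dec, idx_pt, h]
    have e := hc (⟨⟨_, dec_codeWord_mem _⟩, hd⟩, 1)
    have e' := congrArg (fun c : golayCode => c.1 (affP 0)) e
    simp only [Submodule.coe_add, Pi.add_apply, CfsgLib.GolayModule.act_apply] at e'
    rw [symm_affP x hv, zero_add] at e'
    change x.1.1.1 (affP 0) + dec (codeWord j) (affP v) = dec (codeWord j) (affP 0) + x.1.1.1 (affP 0) at e'
    rw [add_comm, add_left_inj, dec_affP, dec_affP] at e'
    revert e' hj
    cases (codeWord j).testBit (apt v) <;> cases (codeWord j).testBit (apt 0) <;> simp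
  have hx1 : sig x = 1 := by
    refine Subtype.ext (Equiv.ext fun p => ?_)
    by_cases hp : p ∈ baseOctad
    · exact fixOct_apply x.2 hp
    · have h := hv (cP p)
      rw [affP_cP hp, hv0, add_zero, affP_cP hp] at h
      exact h
  have hconst : ∀ w, x.1.1.1 (affP w) = x.1.1.1 (affP 0) := by
    intro w
    obtain ⟨τ, hτ, hτw⟩ := exists_translation w
    have hτf : ((τ : M24) : Equiv.Perm GolayPt) ∈ fixOct := by
      have h := hτ; rw [← fixingSubgroup_baseOctad] at h; exact h
    have e := hc (⟨0, fun p _ => rfl⟩, ⟨_, hτf⟩)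
    have e' := congrArg (fun c : golayCode => c.1 (affP 0)) e
    have hs : ∀ u, ((τ : M24) : Equiv.Perm GolayPt) (affP u) = affP (u + w) := fun u => by
      rw [← affP_affMap, hτw]
    simp only [Submodule.coe_add, Pi.add_apply, CfsgLib.GolayModule.act_apply] at e'
    rw [symm_affP (⟨0, fun p _ => rfl⟩, ⟨_, hτf⟩) hs, zero_add] at e'
    simpa using e'.symm
  obtain ⟨z, hz, e⟩ := sgn_cases (e := x.1.1) (by
    rcases zmod2_cases (x.1.1.1 (affP 0)) with h | h
    · refine Or.inl (Subtype.ext (funext fun p => ?_))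
      by_cases hp : p ∈ baseOctad
      · exact x.1.2 p hp
      · rw [← affP_cP hp, hconst, h]; rfl
    · refine Or.inr (Subtype.ext (funext fun p => ?_))
      rw [outWord_apply]
      by_cases hp : p ∈ baseOctad
      · rw [if_pos hp]; exact x.1.2 p hp
      · rw [if_neg hp, ← affP_cP hp, hconst, h])
  rw [show k = z from ker_ext (by rw [hx, hx1, ← permHom_apply, map_one, mul_one, e])]
  exact hz

theorem tZero_mul_self : tZero * tZero = 1 := by
  rw [tZero, ← sgnW_add, show outWord + outWord = 0 from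
    Subtype.ext (funext fun p => CharTwo.add_self_eq_zero _), sgnW_zero]

theorem tZero_ne_one : tZero ≠ 1 := by
  intro h
  have := congrArg (fun c : golayCode => c.1 (affP 0)) (sgnW_inj (h.trans sgnW_zero.symm))
  simp [outWord_apply, affP_notMem] at this

theorem orderOf_zEl : orderOf zEl = 2 := orderOf_eq_prime
  (ker_ext (by rw [pow_two]; show zEl.1.1 * zEl.1.1 = _; rw [zEl_spec, tZero_mul_self]; rfl))
  fun e => tZero_ne_one (by rw [← zEl_spec, e]; rfl)

theorem extraspecial_ker : Cfsg.IsExtraspecial 2 toSp.ker := by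
  have := cTwo_finite
  have := Fact.mk Nat.prime_two
  have hZ2 : Nat.card (Subgroup.center toSp.ker) = 2 := by
    rw [center_ker, Nat.card_zpowers, orderOf_zEl]
  have hle : commutator toSp.ker ≤ Subgroup.center toSp.ker := by
    rw [commutator_def, Subgroup.commutator_le, center_ker]
    intro k _ l _
    obtain ⟨z, hz, e⟩ := comm_mem k l
    rw [commutatorElement_def, e, show z * (l * k) * k⁻¹ * l⁻¹ = z by group]
    exact hz
  have hp : IsPGroup 2 toSp.ker := IsPGroup.of_card (n := 9) (by rw [card_ker]; norm_num)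
  have hcomm : commutator toSp.ker = Subgroup.center toSp.ker := by
    refine Subgroup.eq_of_le_of_card_ge hle ?_
    rw [hZ2]
    rcases (Nat.dvd_prime Nat.prime_two).1 (hZ2 ▸ Subgroup.card_dvd_of_le hle) with h1 | h1
    · exfalso
      have htop : Subgroup.center toSp.ker = ⊤ := by
        refine eq_top_iff.mpr fun k _ => Subgroup.mem_center_iff.mpr fun l => ?_
        have hm : ⁅l, k⁆ ∈ commutator toSp.ker :=
          Subgroup.commutator_mem_commutator (Subgroup.mem_top _) (Subgroup.mem_top _)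
        rwa [Subgroup.eq_bot_of_card_eq _ h1, Subgroup.mem_bot, commutatorElement_eq_one_iff_mul_comm] at hm
      rw [htop, Subgroup.card_top, card_ker] at hZ2
      norm_num at hZ2
    · omega
  refine ⟨⟨hp, le_antisymm (PGroup.frattini_le_of (p := 2) _ hle fun k => ?_) ?_, hcomm⟩, hZ2⟩
  · rw [center_ker, pow_two]; exact sq_mem k
  · rw [← hcomm]; exact PGroup.commutator_le_frattini hp

theorem pCore_cTwo : Cfsg.pCore 2 cTwo = toSp.ker := by
  refine le_antisymm (sSup_le fun N hN => le_ker hN.1 hN.2) (le_sSup ⟨MonoidHom.normal_ker _, ?_⟩)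
  exact IsPGroup.of_card (n := 9) (by rw [card_ker]; norm_num)

/-- `Co2` has an involution with centraliser of shape `2^(1+8) Sp6(2)`. -/
theorem exists_involution : ∃ t : Spor.Co2, orderOf t = 2 ∧
    Cfsg.IsExtraspecial 2 (Cfsg.pCore 2 (Subgroup.centralizer ({t} : Set Spor.Co2))) ∧
    Nat.card (Cfsg.pCore 2 (Subgroup.centralizer ({t} : Set Spor.Co2))) = 2 ^ 9 ∧
    Nonempty (↥(Subgroup.centralizer ({t} : Set Spor.Co2)) ⧸
      Cfsg.pCore 2 (Subgroup.centralizer ({t} : Set Spor.Co2)) ≃*
        Matrix.symplecticGroup (Fin 3) (ZMod 2)) := by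
  have htU : tZero • Spor.leechU = Spor.leechU :=
    lv_injective (by rw [lv_tZero, lv_leechU]; decide +kernel)
  have htm : (tZero : Equiv.Perm leechLattice) ∈ Spor.Co2 := ⟨tZero.2, htU⟩
  let t : Spor.Co2 := ⟨_, htm⟩
  have ht : orderOf t = 2 := by
    refine orderOf_eq_prime (Subtype.ext ?_) fun e => tZero_ne_one (Subtype.ext (congrArg (fun z : Spor.Co2 => (z : Equiv.Perm leechLattice)) e))
    rw [pow_two]
    exact congrArg (fun z : Co0 => (z : Equiv.Perm leechLattice)) tZero_mul_self
  let e : Subgroup.centralizer ({t} : Set Spor.Co2) ≃* cTwo :=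
    { toFun := fun x => ⟨⟨x.1.1, x.1.2.1⟩, mem_cTwo.mpr ⟨Subtype.ext
        (congrArg (fun z : Spor.Co2 => (z : Equiv.Perm leechLattice))
          (Subgroup.mem_centralizer_singleton_iff.mp x.2)), x.1.2.2⟩⟩
      invFun := fun γ => ⟨⟨γ.1.1, γ.1.2, (mem_cTwo.mp γ.2).2⟩, Subgroup.mem_centralizer_singleton_iff.mpr
        (Subtype.ext (congrArg (fun z : Co0 => (z : Equiv.Perm leechLattice)) (mem_cTwo.mp γ.2).1))⟩
      left_inv := fun _ => rfl
      right_inv := fun _ => rfl
      map_mul' := fun _ _ => rfl }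
  have hcore : Cfsg.pCore 2 (Subgroup.centralizer ({t} : Set Spor.Co2)) = toSp.ker.comap e.toMonoidHom := by
    refine le_antisymm (sSup_le fun N hN => ?_) (le_sSup ⟨inferInstance, ?_⟩)
    · rw [← Subgroup.map_le_iff_le_comap]
      exact le_ker (hN.1.map _ e.surjective) (hN.2.map _)
    · exact (IsPGroup.of_card (n := 9) (by rw [card_ker]; norm_num) : IsPGroup 2 toSp.ker).comap_of_injective
        e.toMonoidHom e.injective
  let eK : toSp.ker ≃* Cfsg.pCore 2 (Subgroup.centralizer ({t} : Set Spor.Co2)) :=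
    ((MulEquiv.subgroupMap e.symm toSp.ker).trans (MulEquiv.subgroupCongr (by
      rw [hcore]; exact Subgroup.map_equiv_eq_comap_symm e.symm toSp.ker)))
  have := cTwo_finite
  have := Fact.mk Nat.prime_two
  refine ⟨t, ht, CfsgLib.LargeExtra.isExtraspecial_of_equiv eK extraspecial_ker, ?_, ?_⟩
  · rw [← Nat.card_congr eK.toEquiv, card_ker]; rfl
  · have hker : (toSp.comp e.toMonoidHom).ker =
        Cfsg.pCore 2 (Subgroup.centralizer ({t} : Set Spor.Co2)) := by
      rw [hcore]; rfl
    exact ⟨(QuotientGroup.quotientMulEquivOfEq hker.symm).trans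
      (QuotientGroup.quotientKerEquivOfSurjective _ (toSp_surjective.comp e.surjective))⟩

end CfsgLib.Sporadic.CoTwo
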