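import Cfsg.Agent.Lib.Sporadic.CoOneRoots
import Cfsg.Agent.Lib.Sporadic.CoTwoCentralizer
import Cfsg.Agent.Lib.ClassicalGroups.OrthCard
import Cfsg.Agent.Lib.Orth.CharTwo
import Cfsg.Agent.Lib.Orth.NegOne

/-! The centraliser in Co0 of an octad involution acts as `Ω⁺8(2)` on the fixed lattice modulo two. -/

set_option autoImplicit false
set_option maxRecDepth 20000

noncomputable section

namespace CfsgLib.Sporadic.CoOne

open Cfsg CfsgLib.Golay CfsgLib.Golay.LeechOrbit CfsgLib.MonsterType CfsgLib.Sporadic.CoTwo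
open scoped Pointwise Matrix

/-- The negation. -/
def negW : Co0 := sgnW ⟨1, one_mem_golay⟩

theorem negW_smul (v : leechLattice) : negW • v = -v := by
  apply Subtype.ext; funext i; rw [negW, sgnW_apply]; simp

theorem negW_mem_center : negW ∈ Subgroup.center Co0 := neg_mem_center

/-- The centraliser of the involution. -/
def cOne : Subgroup Co0 := Subgroup.centralizer {tZero}

theorem mem_cOne {γ : Co0} : γ ∈ cOne ↔ γ * tZero = tZero * γ :=
  Subgroup.mem_centralizer_singleton_iff

theorem cTwo_le : cTwo ≤ cOne := inf_le_left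

instance cOne_finite : Finite cOne :=
  haveI := co0_finite
  inferInstance

theorem exists_genE {k : ℕ} (hk : k < genE.length) :
    ∃ γ : cOne, ∀ v, lv (γ.1 • v) = appSteps (genE.getD k []) (lv v) := by
  have h := List.all_eq_true.mp genE_ok _ (List.getElem_mem hk)
  rw [← List.getD_eq_getElem _ [] hk] at h
  simp only [Bool.and_eq_true, List.all_eq_true, List.mem_range, beq_iff_eq] at h
  obtain ⟨hw, ht⟩ := h
  obtain ⟨γ, hγ⟩ := exists_steps _ (List.all_eq_true.mpr hw)
  refine ⟨⟨γ, mem_cOne.mpr (ext_latE fun j => lv_injective ?_)⟩, hγ⟩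
  rw [← pt_idx j]
  rw [mul_smul, mul_smul, hγ, lv_tZero, lv_tZero, hγ, lv_latE]
  exact ht _ (idx j).isLt

/-! ### Roots -/

/-- A minimal vector of the fixed lattice. -/
abbrev ERoot : Type := {v : leechLattice // sqNorm (v : GolayPt → ℤ) = 32 ∧ tZero • v = v}

instance eRootAction : MulAction cOne ERoot where
  smul γ r := ⟨γ.1 • r.1, by rw [sqNorm_smul_lat, r.2.1], by
      rw [← mul_smul, ← mem_cOne.mp γ.2, mul_smul, r.2.2]⟩
  one_smul r := Subtype.ext (one_smul Co0 r.1)
  mul_smul γ δ r := Subtype.ext (mul_smul γ.1 δ.1 r.1)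

theorem coe_smul_eRoot (γ : cOne) (r : ERoot) : (γ • r).1 = γ.1 • r.1 := rfl

/-- The half coordinates of a root. -/
def ERoot.toO (r : ERoot) : List ℤ := toOL (lv r.1)

theorem ERoot.toO_injective : Function.Injective ERoot.toO := fun r s h =>
  Subtype.ext (lv_injective (by rw [← liftO_toOL r.2.2, ← liftO_toOL s.2.2]; exact congrArg liftO h))

theorem dotL_liftO {x y : List ℤ} (hx : x.length = 8) (hy : y.length = 8) :
    dotL (liftO x) (liftO y) = 4 * dotL x y ∧ (liftO x).sum = 2 * x.sum :=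
  ⟨(dotL_lift hx hy).1, (dotL_lift hx hy).2.2⟩

theorem ERoot.mem_rootE (r : ERoot) : r.toO ∈ rootE := by
  have hlift : liftO r.toO = lv r.1 := liftO_toOL r.2.2
  have hlen : r.toO.length = 8 := length_toOL _
  obtain ⟨hd, hs⟩ := dotL_liftO hlen hlen
  rw [hlift] at hd hs
  have h8 : dotL r.toO r.toO = 8 := by
    have h := r.2.1
    rw [sqNorm_eq_dotL, ← lv] at h
    omega
  have hin := mem_leechLattice.mp r.1.2
  obtain ⟨m, hm⟩ := hin
  have hm2 : (2 : ℤ) ∣ m := by
    have h1 := (hm.1 none).dvd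
    have h2 := fixed_even r.2.2 none
    omega
  have hsum : r.toO.sum % 4 = 0 := by
    have h := hm.2.1.dvd
    have e : ∑ p, (r.1 : GolayPt → ℤ) p = (lv r.1).sum := by
      rw [lv, toL, List.sum_ofFn, ← sum_pt fun p => (r.1 : GolayPt → ℤ) p]
    rw [e, hs] at h
    omega
  -- the parities of the half coordinates form a code word inside the octad
  have hw := mem_golayCode.mp hm.2.2
  obtain ⟨k, hk, hkw⟩ := exists_codeWord hw
  have hbit : ∀ i : Fin 24, (codeWord k).testBit i.val =
      decide ((((r.1 : GolayPt → ℤ) (pt i) - m) / 2) % 2 = 1) := by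
    intro i
    rw [hkw, enc_twoWord, Nat.testBit_ofBits_lt _ _ i.isLt]
  have hand : codeWord k &&& 8241104 = 0 ∨ codeWord k &&& 8241104 = 8241104 := by
    have key : ∀ j, (codeWord k &&& 8241104).testBit j =
        ((8241104 : ℕ).testBit j && decide (((0 - m) / 2) % 2 = 1)) := by
      intro j
      rw [Nat.testBit_and]
      rcases Nat.lt_or_ge j 24 with hj | hj
      · cases hb : (8241104 : ℕ).testBit j
        · simp
        · rw [show j = (⟨j, hj⟩ : Fin 24).val from rfl, hbit, fixed_apply r.2.2 hb]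
          simp
      · rw [Nat.testBit_lt_two_pow (lt_of_lt_of_le (codeWord_lt k) (Nat.pow_le_pow_right (by norm_num) hj)),
          Nat.testBit_lt_two_pow (x := 8241104) (lt_of_lt_of_le (show 8241104 < 2 ^ 24 by norm_num)
            (Nat.pow_le_pow_right (by norm_num) hj))]
        simp
    by_cases h : ((0 - m) / 2) % 2 = 1
    · exact Or.inr (Nat.eq_of_testBit_eq fun j => by rw [key, decide_eq_true h, Bool.and_true])
    · exact Or.inl (Nat.eq_of_testBit_eq fun j => by
        rw [key, decide_eq_false h, Bool.and_false, Nat.zero_testBit])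
  obtain ⟨e, he⟩ : ∃ e : Bool, ∀ i : Fin 24, opL.contains i.val = true →
      decide ((((r.1 : GolayPt → ℤ) (pt i) - m) / 2) % 2 = 1) = e := by
    have hmask : ∀ i : Fin 24, opL.contains i.val = true → (8536111 : ℕ).testBit i.val = true := by
      decide +kernel
    rcases code_inside k hk hand with h | h
    · refine ⟨false, fun i hi => ?_⟩
      have h' := congrArg (fun n : ℕ => n.testBit i.val) h
      simp only [Nat.testBit_and, hmask i hi, Bool.and_true, Nat.zero_testBit] at h'
      rw [← hbit]; exact h'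
    · refine ⟨true, fun i hi => ?_⟩
      have h' := congrArg (fun n : ℕ => n.testBit i.val) h
      simp only [Nat.testBit_and, hmask i hi, Bool.and_true] at h'
      rw [← hbit]; exact h'
  obtain ⟨f, hent⟩ : ∃ f : ℤ, ∀ a ∈ r.toO, a % 2 = f % 2 := by
    refine ⟨if e then m / 2 + 1 else m / 2, fun a ha => ?_⟩
    rw [ERoot.toO, toOL, List.mem_map] at ha
    obtain ⟨j, hj, rfl⟩ := ha
    have hj24 : j < 24 := by revert hj; revert j; decide +kernel
    have h := he ⟨j, hj24⟩ (List.contains_iff_mem.mpr hj)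
    have h2 := fixed_even r.2.2 (pt ⟨j, hj24⟩)
    rw [show j = (⟨j, hj24⟩ : Fin 24).val from rfl, getD_toL]
    cases e <;> simp only [decide_eq_false_iff_not, decide_eq_true_eq] at h <;>
      simp only [if_true, Bool.false_eq_true, if_false] <;> omega
  have hsq : ∀ a ∈ r.toO, -2 ≤ a ∧ a ≤ 2 := fun a ha => by
    have := sq_le_dotL ha
    rw [h8] at this
    constructor <;> nlinarith
  rw [← eq_of_beq rootE_complete, List.mem_filter]
  refine ⟨List.mem_append.mpr ?_, by
    simp only [Bool.and_eq_true, decide_eq_true_eq]; exact ⟨h8, hsum⟩⟩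
  by_cases hf : f % 2 = 0
  · refine Or.inl (mem_tuples hlen fun a ha => ?_)
    have := hent a ha
    have := hsq a ha
    simp only [List.mem_cons, List.not_mem_nil, or_false]
    omega
  · refine Or.inr (mem_tuples hlen fun a ha => ?_)
    have := hent a ha
    have := hsq a ha
    simp only [List.mem_cons, List.not_mem_nil, or_false]
    omega

theorem exists_eRoot {y : List ℤ} (hy : y ∈ rootE) : ∃ r : ERoot, r.toO = y ∧ lv r.1 = liftO y := by
  have h := List.all_eq_true.mp rootE_lift y hy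
  simp only [Bool.and_eq_true, decide_eq_true_eq, beq_iff_eq] at h
  obtain ⟨⟨⟨h1, h2⟩, h4⟩, h5⟩ := h
  have hl : toL (ofL (liftO y)) = liftO y := toL_ofL List.length_ofFn
  refine ⟨⟨⟨ofL (liftO y), mem_of_latA h1⟩, ?_, lv_injective ?_⟩, ?_, hl⟩
  · rw [sqNorm_eq_dotL, hl, h2]
  · rw [lv_tZero, lv, hl, h4]
  · show toOL (toL (ofL (liftO y))) = y
    rw [hl, h5]

theorem card_eRoot : Nat.card ERoot = 240 := by
  classical
  have e : Nat.card ERoot = Nat.card {y // y ∈ rootE.toFinset} := by
    refine Nat.card_congr (Equiv.ofBijective (fun r => ⟨r.toO, List.mem_toFinset.mpr r.mem_rootE⟩)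
      ⟨fun r s h => ERoot.toO_injective (congrArg Subtype.val h), fun y => ?_⟩)
    obtain ⟨r, hr, -⟩ := exists_eRoot (List.mem_toFinset.mp y.2)
    exact ⟨r, Subtype.ext hr⟩
  rw [e, Nat.card_eq_finsetCard, List.toFinset_card_of_nodup rootE_nodup]
  decide +kernel

theorem dot_eRoot (r s : ERoot) :
    dotInt (r.1 : GolayPt → ℤ) (s.1 : GolayPt → ℤ) = 4 * dotL r.toO s.toO := by
  show _ = 4 * dotL (toOL (lv r.1)) (toOL (lv s.1))
  rw [← (dotL_liftO (length_toOL (lv r.1)) (length_toOL (lv s.1))).1,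
    liftO_toOL r.2.2, liftO_toOL s.2.2, dotInt_eq_dotL]

/-! ### Linearity -/

theorem getD_ofFn_eight (f : Fin 8 → ℤ) (k : Fin 8) : (List.ofFn f).getD k.val 0 = f k := by
  rw [List.getD_eq_getElem _ _ (by rw [List.length_ofFn]; exact k.isLt), List.getElem_ofFn]

theorem dotL_eq_sum {x y : List ℤ} (hx : x.length = 8) (hy : y.length = 8) :
    dotL x y = ∑ k : Fin 8, x.getD k.val 0 * y.getD k.val 0 := by
  match x, hx, y, hy with
  | [a, b, c, d, e, f, g, i], _, [a', b', c', d', e', f', g', i'], _ =>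
    simp [dotL, Fin.sum_univ_eight]; ring

theorem dotL_combL (c : List ℤ) {y : List ℤ} (hy : y.length = 8) :
    dotL (combL c) y = ∑ j : Fin 8, c.getD j.val 0 * dotL (simpB.getD j.val []) y := by
  have hl : ∀ j : Fin 8, (simpB.getD j.val []).length = 8 := by decide +kernel
  rw [dotL_eq_sum (by rw [combL]; exact List.length_ofFn) hy, Fin.sum_univ_eight (f := fun j : Fin 8 => c.getD j.val 0 * _)]
  simp only [dotL_eq_sum (hl _) hy, Finset.mul_sum, ← Finset.sum_add_distrib]
  refine Finset.sum_congr rfl fun k _ => ?_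
  rw [combL, getD_ofFn_eight]
  simp only [Fin.val_zero, Fin.val_one, Fin.val_two]
  norm_num
  ring

theorem bilL_cast (x y : List ℤ) : bilL x y = ((dotL x y / 4 : ℤ) : ZMod 2) := by
  rw [bilL]
  rcases Int.emod_two_eq_zero_or_one (dotL x y / 4) with h | h
  · rw [decide_eq_true h, cond_true, eq_comm, ZMod.intCast_zmod_eq_zero_iff_dvd]
    exact Int.dvd_of_emod_eq_zero h
  · rw [decide_eq_false (by omega), cond_false, ← ZMod.intCast_mod, show ((2 : ℕ) : ℤ) = 2 from rfl, h,
      Int.cast_one]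

theorem simp_getD (j : Fin 8) {y : List ℤ} (hy : y ∈ rootE) :
    dotL (simpB.getD j.val []) y % 4 = 0 ∧
      bilL (simpB.getD j.val []) y = bform (clE (simpB.getD j.val [])) (clE y) ∧
      simpB.getD j.val [] ∈ rootE := by
  have hj : j.val < simpB.length := lt_of_lt_of_le j.isLt (by decide +kernel)
  rw [List.getD_eq_getElem _ _ hj]
  have h := List.all_eq_true.mp (List.all_eq_true.mp simp_bil _ (List.getElem_mem hj)) y hy
  simp only [Bool.and_eq_true, decide_eq_true_eq] at h
  exact ⟨h.1, h.2, List.contains_iff_mem.mp (List.all_eq_true.mp simp_mem _ (List.getElem_mem hj))⟩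

theorem exists_comb {x : List ℤ} (hx : x ∈ rootE) : ∃ c, x = combL c := by
  rw [eq_of_beq rootE_comb, List.mem_map] at hx
  obtain ⟨n, -, rfl⟩ := hx
  exact ⟨_, rfl⟩

theorem length_rootE {y : List ℤ} (hy : y ∈ rootE) : y.length = 8 := by
  obtain ⟨c, rfl⟩ := exists_comb hy
  exact List.length_ofFn

theorem bilL_combL (c : List ℤ) {y : List ℤ} (hy : y ∈ rootE) :
    bilL (combL c) y = ∑ j : Fin 8, (c.getD j.val 0 : ZMod 2) * bilL (simpB.getD j.val []) y := by
  have h4 : ∀ j : Fin 8, dotL (simpB.getD j.val []) y = 4 * (dotL (simpB.getD j.val []) y / 4) := fun j =>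
    (Int.mul_ediv_cancel' (Int.dvd_of_emod_eq_zero (simp_getD j hy).1)).symm
  rw [bilL_cast, dotL_combL c (length_rootE hy), Finset.sum_congr rfl fun j _ => by rw [h4 j, mul_left_comm],
    ← Finset.mul_sum, Int.mul_ediv_cancel_left _ (by norm_num : (4 : ℤ) ≠ 0)]
  push_cast
  exact Finset.sum_congr rfl fun j _ => by rw [bilL_cast]

theorem clE_combL (c : List ℤ) :
    clE (combL c) = ∑ j : Fin 8, (c.getD j.val 0 : ZMod 2) • clE (simpB.getD j.val []) := by
  funext i
  rw [Finset.sum_apply]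
  simp only [Pi.smul_apply, smul_eq_mul, clE]
  rw [bilL_combL c (basis_ok i.swap).1, bilL_combL c (basis_ok i.swap).2.1, ← Finset.sum_add_distrib]
  exact Finset.sum_congr rfl fun j _ => by ring

theorem bform_sum_left (s : Finset (Fin 8)) (a : Fin 8 → ZMod 2) (v : Fin 8 → I8 → ZMod 2) (b : I8 → ZMod 2) :
    bform (∑ j ∈ s, a j • v j) b = ∑ j ∈ s, a j * bform (v j) b := by
  simp only [bform, Finset.sum_apply, Pi.smul_apply, smul_eq_mul, Finset.sum_mul, mul_add, Finset.sum_add_distrib,
    mul_assoc]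

theorem bil_list {x y : List ℤ} (hx : x ∈ rootE) (hy : y ∈ rootE) : bilL x y = bform (clE x) (clE y) := by
  obtain ⟨c, rfl⟩ := exists_comb hx
  rw [bilL_combL c hy, clE_combL, bform_sum_left]
  exact Finset.sum_congr rfl fun j _ => by rw [(simp_getD j hy).2.1]

/-! ### The orthogonal space -/

theorem encV_injective : Function.Injective encV := fun a b h => by
  rw [← bitsV_encV a, ← bitsV_encV b, h]

theorem class_of_mem {z : List ℤ × ℕ} (hz : z ∈ rootC) : clE z.1 = bitsV z.2 := by
  rw [← bitsV_encV (clE z.1), Nat.eq_of_beq_eq_true (List.all_eq_true.mp rootC_class z hz)]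

theorem q_of_mem {y : List ℤ} (hy : y ∈ rootE) : qform (clE y) = 1 := by
  obtain ⟨z, hz, rfl⟩ := List.mem_map.mp hy
  rw [class_of_mem hz]
  exact of_decide_eq_true (List.all_eq_true.mp q_eq z hz)

/-- The class of a root. -/
def ERoot.cl (r : ERoot) : I8 → ZMod 2 := clE r.toO

theorem exists_of_qform {v : I8 → ZMod 2} (hv : qform v = 1) : ∃ r : ERoot, r.cl = v := by
  obtain ⟨z, hz, he⟩ := List.any_eq_true.mp (root_cover v hv)
  obtain ⟨r, hr, -⟩ := exists_eRoot (List.mem_map.mpr ⟨z, hz, rfl⟩)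
  exact ⟨r, by rw [ERoot.cl, hr, class_of_mem hz, Nat.eq_of_beq_eq_true he, bitsV_encV]⟩

theorem qform_cl (r : ERoot) : qform r.cl = 1 := q_of_mem r.mem_rootE

theorem bilL_eq' (r s : ERoot) : bilL r.toO s.toO = bform r.cl s.cl := bil_list r.mem_rootE s.mem_rootE

theorem bilL_smul' (γ : cOne) (r s : ERoot) :
    bilL (γ • r).toO (γ • s).toO = bilL r.toO s.toO := by
  have e : dotL (γ • r).toO (γ • s).toO = dotL r.toO s.toO := by
    have h := dot_eRoot (γ • r) (γ • s)
    rw [coe_smul_eRoot, coe_smul_eRoot, dot_smul_lat, dot_eRoot] at h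
    omega
  rw [bilL, bilL, e]

theorem bform_smul (γ : cOne) (r s : ERoot) : bform (γ • r).cl (γ • s).cl = bform r.cl s.cl := by
  rw [← bilL_eq', ← bilL_eq', bilL_smul']

/-- The first summand of a basis vector. -/
def fstR (i : I8) : ERoot := (exists_eRoot (basis_ok i).1).choose

/-- The second summand of a basis vector. -/
def sndR (i : I8) : ERoot := (exists_eRoot (basis_ok i).2.1).choose

theorem basis_cl (i : I8) : (fstR i).cl + (sndR i).cl = Pi.single i 1 := by
  rw [ERoot.cl, ERoot.cl, fstR, sndR, (exists_eRoot (basis_ok i).1).choose_spec.1,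
    (exists_eRoot (basis_ok i).2.1).choose_spec.1, (basis_ok i).2.2]

/-- The matrix of an element. -/
def matE (γ : cOne) : Matrix I8 I8 (ZMod 2) :=
  Matrix.of fun i j => (γ • fstR j).cl i + (γ • sndR j).cl i

theorem bform_single (a : I8 → ZMod 2) (i : I8) : bform a (Pi.single i 1) = a i.swap := by
  rcases i with i | i <;> fin_cases i <;> simp [bform]

theorem bform_add_right (a b c : I8 → ZMod 2) : bform a (b + c) = bform a b + bform a c := by
  simp only [bform, Pi.add_apply]; ring

theorem bform_comm (a b : I8 → ZMod 2) : bform a b = bform b a := by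
  simp only [bform]; ring

theorem bform_eq_sum (a b : I8 → ZMod 2) : bform a b = ∑ j, a j * b j.swap := by
  simp only [bform, Fintype.sum_sum_type, Fin.sum_univ_four, Sum.swap_inl, Sum.swap_inr]

theorem cl_apply_eq (γ : cOne) (s : ERoot) (i : I8) :
    (γ • s).cl i = bform s.cl ((γ⁻¹ • fstR i.swap).cl + (γ⁻¹ • sndR i.swap).cl) := by
  have h1 : (γ • s).cl i = bform (γ • s).cl ((fstR i.swap).cl + (sndR i.swap).cl) := by
    rw [basis_cl, bform_single, Sum.swap_swap]
  rw [h1, bform_add_right, bform_add_right, ← bform_smul γ s, ← bform_smul γ s, smul_inv_smul, smul_inv_smul]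

theorem cl_smul' (γ : cOne) (r : ERoot) : (γ • r).cl = matE γ *ᵥ r.cl := by
  funext i
  rw [cl_apply_eq, bform_eq_sum, Matrix.mulVec, dotProduct]
  refine Finset.sum_congr rfl fun j _ => ?_
  rw [mul_comm, matE, Matrix.of_apply, cl_apply_eq, cl_apply_eq, bform_comm, bform_comm (sndR j).cl,
    ← bform_add_right, basis_cl, bform_single]

theorem matE_mul (γ δ : cOne) : matE (γ * δ) = matE γ * matE δ := by
  ext i j
  rw [matE, Matrix.of_apply, mul_smul, mul_smul, cl_smul' γ, cl_smul' γ, ← Pi.add_apply, ← Matrix.mulVec_add]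
  rfl

theorem matE_one : matE (1 : cOne) = 1 := by
  ext i j
  rw [matE, Matrix.of_apply, one_smul, one_smul, ← Pi.add_apply, basis_cl, Matrix.one_apply, Pi.single_apply]

/-- The invertible matrix of an element. -/
def unitE (γ : cOne) : GL I8 (ZMod 2) :=
  ⟨matE γ, matE γ⁻¹, by rw [← matE_mul, mul_inv_cancel, matE_one],
    by rw [← matE_mul, inv_mul_cancel, matE_one]⟩

theorem quadFormPlus_eq (v : I8 → ZMod 2) : Cfsg.quadFormPlus 4 (ZMod 2) v = qform v := by
  simp [Cfsg.quadFormPlus, qform, Fin.sum_univ_four]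

theorem qform_add (a b : I8 → ZMod 2) : qform (a + b) = qform a + qform b + bform a b := by
  simp only [qform, bform, Pi.add_apply]; ring

theorem qform_mulVec (γ : cOne) (v : I8 → ZMod 2) : qform (matE γ *ᵥ v) = qform v := by
  by_cases hv : v = 0
  · rw [hv, Matrix.mulVec_zero]
  obtain ⟨z, hz, he⟩ := List.any_eq_true.mp (sum_cover v hv)
  obtain ⟨r, hr, -⟩ := exists_eRoot (List.mem_map.mpr ⟨z, hz, rfl⟩)
  have hzr : r.cl = bitsV z.2 := by rw [ERoot.cl, hr, class_of_mem hz]
  have h1 := of_decide_eq_true he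
  rw [← hzr] at h1
  obtain ⟨s, hs⟩ := exists_of_qform h1
  have e : v = s.cl + r.cl := by
    rw [hs, add_assoc, show r.cl + r.cl = 0 from funext fun j => by show r.cl j + r.cl j = 0; exact CharTwo.add_self_eq_zero _, add_zero]
  rw [e, Matrix.mulVec_add, ← cl_smul', ← cl_smul', qform_add, qform_add, qform_cl, qform_cl, qform_cl,
    qform_cl, bform_smul]

/-- The action on the orthogonal space. -/
def toO : cOne →* Cfsg.isometryGroup (ZMod 2) (Cfsg.quadFormPlus 4 (ZMod 2)) :=
  MonoidHom.mk' (fun γ => ⟨unitE γ, fun u _ => by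
    show Cfsg.quadFormPlus 4 (ZMod 2) (matE γ *ᵥ u) = Cfsg.quadFormPlus 4 (ZMod 2) u
    rw [quadFormPlus_eq, quadFormPlus_eq, qform_mulVec]⟩)
    fun γ δ => Subtype.ext (Units.ext (matE_mul γ δ))

theorem matE_of_toO {γ : cOne} (h : toO γ = 1) : matE γ = 1 :=
  congrArg (fun x : Cfsg.isometryGroup (ZMod 2) (Cfsg.quadFormPlus 4 (ZMod 2)) =>
    ((x : GL I8 (ZMod 2)) : Matrix I8 I8 (ZMod 2))) h

theorem toO_eq_one_of_fix {γ : cOne} (h : ∀ r : ERoot, γ • r = r) : toO γ = 1 := by
  refine Subtype.ext (Units.ext ?_)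
  show matE γ = 1
  ext i j
  rw [matE, Matrix.of_apply, h, h, ← Pi.add_apply, basis_cl, Matrix.one_apply, Pi.single_apply]

/-- The opposite root. -/
def ERoot.neg (r : ERoot) : ERoot :=
  ⟨-r.1, by
    refine Eq.trans ?_ r.2.1
    simp [sqNorm], by rw [smul_neg', r.2.2]⟩

theorem ERoot.toO_neg (r : ERoot) : r.neg.toO = r.toO.map (fun a => -a) := by
  rw [ERoot.toO, ERoot.toO, toOL, toOL, List.map_map]
  refine List.map_congr_left fun j hj => ?_
  have hj24 : j < 24 := by revert hj; revert j; decide +kernel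
  rw [Function.comp_apply, show j = (⟨j, hj24⟩ : Fin 24).val from rfl, getD_toL, getD_toL]
  show (-(r.1 : GolayPt → ℤ) (pt _)) / 2 = _
  have := fixed_even r.2.2 (pt ⟨j, hj24⟩)
  omega

theorem rep_cases {x : List ℤ} (hx : x ∈ rootE) :
    x = repE (encV (clE x)) ∨ x = (repE (encV (clE x))).map fun a => -a := by
  obtain ⟨z, hz, rfl⟩ := List.mem_map.mp hx
  have h := List.all_eq_true.mp rep_eq z hz
  rw [Bool.or_eq_true, beq_iff_eq, beq_iff_eq] at h
  rwa [Nat.eq_of_beq_eq_true (List.all_eq_true.mp rootC_class z hz)]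

theorem pm_of_cl' {r s : ERoot} (h : r.cl = s.cl) : r = s ∨ r.1 = -s.1 := by
  have h1 := rep_cases r.mem_rootE
  have h2 := rep_cases s.mem_rootE
  rw [show clE r.toO = clE s.toO from h] at h1
  set z := repE (encV (clE s.toO))
  have hnn : ∀ l : List ℤ, (l.map fun a => -a).map (fun a => -a) = l := fun l => by
    rw [List.map_map]; simp
  rcases h1 with h1 | h1 <;> rcases h2 with h2 | h2
  · exact Or.inl (ERoot.toO_injective (h1.trans h2.symm))
  · refine Or.inr (congrArg Subtype.val (ERoot.toO_injective (a₂ := s.neg) ?_))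
    rw [ERoot.toO_neg, h1, h2, hnn]
  · refine Or.inr (congrArg Subtype.val (ERoot.toO_injective (a₂ := s.neg) ?_))
    rw [ERoot.toO_neg, h1, h2]
  · exact Or.inl (ERoot.toO_injective (h1.trans h2.symm))

/-- The root `(4, 4)`. -/
def uRoot : ERoot := (exists_eRoot (show [2, 2, 0, 0, 0, 0, 0, 0] ∈ rootE by decide +kernel)).choose

theorem uRoot_spec : uRoot.toO = [2, 2, 0, 0, 0, 0, 0, 0] ∧ lv uRoot.1 = liftO [2, 2, 0, 0, 0, 0, 0, 0] :=
  (exists_eRoot (show [2, 2, 0, 0, 0, 0, 0, 0] ∈ rootE by decide +kernel)).choose_spec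

theorem uRoot_val : uRoot.1 = Spor.leechU := lv_injective (by
  rw [uRoot_spec.2, lv_leechU]; decide +kernel)

theorem sign_of_trivial' {γ : cOne} (h : toO γ = 1) :
    (∀ r : ERoot, γ.1 • r.1 = r.1) ∨ ∀ r : ERoot, γ.1 • r.1 = -r.1 := by
  have hpm : ∀ r : ERoot, γ.1 • r.1 = r.1 ∨ γ.1 • r.1 = -r.1 := fun r => by
    have hc : (γ • r).cl = r.cl := by rw [cl_smul', matE_of_toO h, Matrix.one_mulVec]
    exact (pm_of_cl' hc).imp (congrArg Subtype.val) id
  have hlink : ∀ s : ERoot, ∃ w : ERoot, dotL uRoot.toO w.toO ≠ 0 ∧ dotL w.toO s.toO ≠ 0 := by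
    intro s
    obtain ⟨z, hz, hc⟩ := List.any_eq_true.mp (List.all_eq_true.mp connected _ s.mem_rootE)
    simp only [Bool.and_eq_true, Bool.not_eq_true', decide_eq_false_iff_not] at hc
    obtain ⟨w, rfl, -⟩ := exists_eRoot hz
    exact ⟨w, by rw [uRoot_spec.1]; exact hc.1, hc.2⟩
  have hstep : ∀ r s : ERoot, dotL r.toO s.toO ≠ 0 →
      (γ.1 • r.1 = r.1 → γ.1 • s.1 = s.1) ∧ (γ.1 • r.1 = -r.1 → γ.1 • s.1 = -s.1) := by
    intro r s hd
    constructor <;> intro hr
    · refine (hpm s).resolve_right fun hs => hd ?_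
      have e := dot_smul_lat γ.1 r.1 s.1
      rw [hr, hs, AddSubgroup.coe_neg, show dotInt (r.1 : GolayPt → ℤ) (-(s.1 : GolayPt → ℤ)) =
        -dotInt (r.1 : GolayPt → ℤ) (s.1 : GolayPt → ℤ) by simp [dotInt, mul_neg], dot_eRoot] at e
      omega
    · refine (hpm s).resolve_left fun hs => hd ?_
      have e := dot_smul_lat γ.1 r.1 s.1
      rw [hr, hs, AddSubgroup.coe_neg, show dotInt (-(r.1 : GolayPt → ℤ)) (s.1 : GolayPt → ℤ) =
        -dotInt (r.1 : GolayPt → ℤ) (s.1 : GolayPt → ℤ) by simp [dotInt, neg_mul], dot_eRoot] at e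
      omega
  refine (hpm uRoot).imp (fun hu s => ?_) (fun hu s => ?_) <;> obtain ⟨w, h1, h2⟩ := hlink s
  · exact (hstep w s h2).1 ((hstep uRoot w h1).1 hu)
  · exact (hstep w s h2).2 ((hstep uRoot w h1).2 hu)

/-- An element fixing every root comes from the kernel in Co2. -/
theorem exists_ker_of_fix {γ : cOne} (h : ∀ r : ERoot, γ.1 • r.1 = r.1) :
    ∃ k : toSp.ker, k.1.1 = γ.1 := by
  have hm : γ.1 ∈ cTwo := mem_cTwo.mpr ⟨mem_cOne.mp γ.2, uRoot_val ▸ h uRoot⟩
  refine ⟨⟨⟨γ.1, hm⟩, MonoidHom.mem_ker.mpr (mat_eq_one_of_fix fun r => Subtype.ext ?_)⟩, rfl⟩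
  exact h ⟨r.1, r.2.1, r.2.2.2⟩

theorem fix_of_ker (k : toSp.ker) (r : ERoot) : k.1.1 • r.1 = r.1 := by
  obtain ⟨c, σ, e, hc, hσ⟩ := exists_mono_of_trivial (MonoidHom.mem_ker.mp k.2)
  refine Subtype.ext (funext fun p => ?_)
  rw [e, mul_smul, sgnW_apply, permW_apply]
  have hz : ∀ q, q ∉ baseOctad → (r.1 : GolayPt → ℤ) q = 0 := by
    intro q hq
    have key : ∀ i : Fin 24, (8536111 : ℕ).testBit i.val = false → (8241104 : ℕ).testBit i.val = true := by
      decide +kernel
    rw [baseOctad, mem_decS, Bool.not_eq_true] at hq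
    rw [← pt_idx q]
    exact fixed_apply r.2.2 (key _ hq)
  by_cases hp : p ∈ baseOctad
  · have : (σ : Equiv.Perm GolayPt).symm p = p := (Equiv.symm_apply_eq _).mpr (hσ p hp).symm
    rw [hc p hp, if_pos rfl, this]
  · have : (σ : Equiv.Perm GolayPt).symm p ∉ baseOctad := fun hq =>
      hp (by have := hσ _ hq; rw [Equiv.apply_symm_apply] at this; exact this ▸ hq)
    rw [hz _ this, hz _ hp]; simp

theorem negW_mem : negW ∈ cOne :=
  mem_cOne.mpr (Subgroup.mem_center_iff.mp negW_mem_center tZero).symm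

/-- The negation in the centraliser. -/
def negE : cOne := ⟨negW, negW_mem⟩

theorem negE_mul_self : negE * negE = 1 :=
  Subtype.ext (ext_latE fun j => by
    show (negW * negW) • _ = (1 : Co0) • _
    rw [mul_smul, negW_smul, negW_smul, neg_neg, one_smul])

theorem exists_ker {γ : cOne} (h : toO γ = 1) :
    ∃ k : toSp.ker, γ.1 = k.1.1 ∨ γ.1 = negW * k.1.1 := by
  rcases sign_of_trivial' h with hp | hm
  · obtain ⟨k, hk⟩ := exists_ker_of_fix hp
    exact ⟨k, Or.inl hk.symm⟩
  · obtain ⟨k, hk⟩ := exists_ker_of_fix (γ := negE * γ) fun r => by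
      show (negW * γ.1) • r.1 = r.1
      rw [mul_smul, hm, negW_smul, neg_neg]
    exact ⟨k, Or.inr (by rw [hk]; show γ.1 = negW * (negW * γ.1); rw [← mul_assoc,
      show negW * negW = 1 from congrArg Subtype.val negE_mul_self, one_mul])⟩

theorem toO_of_ker (k : toSp.ker) (γ : cOne) (h : γ.1 = k.1.1) : toO γ = 1 :=
  toO_eq_one_of_fix fun r => Subtype.ext (by rw [coe_smul_eRoot, h, fix_of_ker])

theorem toO_negE : toO negE = 1 := by
  refine Subtype.ext (Units.ext ?_)
  show matE negE = 1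
  have hneg : ∀ r : ERoot, (negE • r).cl = r.cl := by
    intro r
    funext i
    rw [show negE • r = r.neg from Subtype.ext (negW_smul _)]
    rw [ERoot.cl, ERoot.cl, ERoot.toO_neg, clE, clE]
    have key : ∀ y : List ℤ, y ∈ rootE → ∀ b ∈ rootE,
        bilL (y.map fun a => -a) b = bilL y b := by
      intro y hy b hb
      have e : dotL (y.map fun a => -a) b = -dotL y b := by
        match y, length_rootE hy, b, length_rootE hb with
        | [a, b, c, d, e, f, g, i], _, [a', b', c', d', e', f', g', i'], _ => simp [dotL]; ring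
      have h4 : (4 : ℤ) ∣ dotL y b := by
        obtain ⟨c, rfl⟩ := exists_comb hy
        rw [dotL_combL c (length_rootE hb)]
        exact Finset.dvd_sum fun j _ => Dvd.dvd.mul_left (Int.dvd_of_emod_eq_zero (simp_getD j hb).1) _
      rw [bilL_cast, bilL_cast, e, Int.neg_ediv_of_dvd h4, Int.cast_neg, ZMod.neg_eq_self_mod_two]
    rw [key _ r.mem_rootE _ (basis_ok i.swap).1, key _ r.mem_rootE _ (basis_ok i.swap).2.1]
  ext i j
  rw [matE, Matrix.of_apply, hneg, hneg, ← Pi.add_apply, basis_cl, Matrix.one_apply, Pi.single_apply]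

/-! ### Orders -/

theorem negW_ne_one : negW ≠ 1 := by
  intro h
  have := congrArg (fun δ : Co0 => ((δ • LeechEight.latE none : leechLattice) : GolayPt → ℤ) none) h
  simp [negW, sgnW_apply, latE_apply] at this

theorem card_ker_toO : Nat.card toO.ker = 1024 := by
  classical
  have hmem : ∀ x : Bool × toSp.ker, toO ((bif x.1 then negE else 1) * ⟨x.2.1.1, cTwo_le x.2.1.2⟩) = 1 := by
    rintro ⟨b, k⟩
    rw [map_mul, toO_of_ker k ⟨k.1.1, cTwo_le k.1.2⟩ rfl, mul_one]
    cases b
    · exact map_one _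
    · exact toO_negE
  let f : Bool × toSp.ker → toO.ker := fun x => ⟨_, MonoidHom.mem_ker.mpr (hmem x)⟩
  have hb : Function.Bijective f := by
    refine ⟨fun x y e => ?_, fun z => ?_⟩
    · have e2 : (bif x.1 then negW else 1) * x.2.1.1 = (bif y.1 then negW else 1) * y.2.1.1 := by
        have e' := congrArg (fun z : toO.ker => z.1.1) e
        obtain ⟨b, k⟩ := x
        obtain ⟨b', k'⟩ := y
        cases b <;> cases b' <;> exact e'
      have hbb : x.1 = y.1 := by
        have e3 := congrArg (fun δ : Co0 => δ • uRoot.1) e2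
        simp only [mul_smul, fix_of_ker] at e3
        have hne : -uRoot.1 ≠ uRoot.1 := fun h => by
          have := congrArg (fun v : leechLattice => (v : GolayPt → ℤ) none) h
          simp [uRoot_val, leechU_apply] at this
        obtain ⟨b, k⟩ := x
        obtain ⟨b', k'⟩ := y
        cases b <;> cases b' <;> simp only [cond_true, cond_false, one_smul, negW_smul] at e3 ⊢
        · exact absurd e3.symm hne
        · exact absurd e3 hne
      rw [hbb] at e2
      exact Prod.ext hbb (Subtype.ext (Subtype.ext (mul_left_cancel e2)))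
    · obtain ⟨k, hk | hk⟩ := exists_ker (MonoidHom.mem_ker.mp z.2)
      · exact ⟨(false, k), Subtype.ext (Subtype.ext (by show (1 : Co0) * _ = _; rw [one_mul, hk]))⟩
      · exact ⟨(true, k), Subtype.ext (Subtype.ext (by show negW * _ = _; rw [hk]))⟩
  rw [← Nat.card_congr (Equiv.ofBijective f hb), Nat.card_prod, card_ker]
  simp

theorem exists_orbitE : ∀ n, n < 240 → ∃ γ : cOne, (γ • uRoot).toO = orbE.getD n [] := by
  intro n
  induction n using Nat.strong_induction_on with
  | _ n ih =>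
    intro hn
    match n with
    | 0 =>
      refine ⟨1, ?_⟩
      rw [one_smul, uRoot_spec.1]
      decide +kernel
    | n + 1 =>
      have h := List.all_eq_true.mp orbE_step n (List.mem_range.mpr (by omega))
      simp only [Bool.and_eq_true, beq_iff_eq, Nat.blt_eq] at h
      obtain ⟨⟨hp, hk⟩, he⟩ := h
      obtain ⟨γ, hγ⟩ := ih _ hp (by omega)
      obtain ⟨g, hg⟩ := exists_genE (k := (orbParE.getD n (0, 0)).2)
        (lt_of_lt_of_le hk (by decide +kernel))
      refine ⟨g * γ, ?_⟩
      rw [he, mul_smul, ERoot.toO, coe_smul_eRoot, hg, actE, ← hγ, ERoot.toO, liftO_toOL (γ • uRoot).2.2]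

theorem orbit_uRoot : MulAction.orbit cOne uRoot = Set.univ := by
  refine Set.eq_univ_of_forall fun r => ?_
  obtain ⟨z, hz, e⟩ := List.mem_map.mp r.mem_rootE
  rw [rootC, List.mem_map] at hz
  obtain ⟨n, hn, rfl⟩ := hz
  obtain ⟨m, hm, hmn⟩ := List.any_eq_true.mp (List.all_eq_true.mp orbE_cover n hn)
  obtain ⟨j, hj, rfl⟩ := List.mem_iff_getElem.mp hm
  have hj' : j < 240 := lt_of_lt_of_le hj (by decide +kernel)
  obtain ⟨γ, hγ⟩ := exists_orbitE j hj'
  refine ⟨γ, ERoot.toO_injective ?_⟩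
  show (γ • uRoot).toO = r.toO
  rw [hγ, ← e, orbE, List.getD_eq_getElem _ _ (by rw [List.length_map]; exact hj), List.getElem_map,
    Nat.eq_of_beq_eq_true hmn]

theorem card_cTwo : Nat.card cTwo = 743178240 := by
  have := cTwo_finite
  have h := toSp.ker.index_mul_card
  rw [Subgroup.index_ker, MonoidHom.range_eq_top.mpr toSp_surjective, Subgroup.card_top, card_sp, card_ker] at h
  rw [← h]

theorem card_cOne : Nat.card cOne = 178362777600 := by
  have hst : MulAction.stabilizer cOne uRoot = cTwo.subgroupOf cOne := by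
    ext γ
    rw [MulAction.mem_stabilizer_iff, Subgroup.mem_subgroupOf, mem_cTwo, ← uRoot_val]
    exact ⟨fun h => ⟨mem_cOne.mp γ.2, congrArg Subtype.val h⟩, fun h => Subtype.ext h.2⟩
  have h := (MulAction.stabilizer cOne uRoot).index_mul_card
  rw [MulAction.index_stabilizer, orbit_uRoot, Set.ncard_univ, card_eRoot, hst,
    Nat.card_congr (Subgroup.subgroupOfEquivOfLe cTwo_le).toEquiv, card_cTwo] at h
  rw [← h]

theorem card_range_toO : Nat.card toO.range = 174182400 := by
  have h := toO.ker.index_mul_card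
  rw [Subgroup.index_ker, card_ker_toO, card_cOne] at h
  omega

theorem card_isometry : Nat.card (Cfsg.isometryGroup (ZMod 2) (Cfsg.quadFormPlus 4 (ZMod 2))) = 348364800 := by
  rw [CfsgLib.ClassicalGroups.card_isometry_plus 3, ZMod.card]
  norm_num [Finset.prod_range_succ]

theorem range_toO : toO.range = Cfsg.Omega (ZMod 2) (Cfsg.quadFormPlus 4 (ZMod 2)) := by
  have := cOne_finite
  have hidx : toO.range.index = 2 := by
    have h := toO.range.index_mul_card
    rw [card_range_toO, card_isometry] at h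
    exact Nat.eq_of_mul_eq_mul_right (show 0 < 174182400 by norm_num) (h.trans (by norm_num))
  have hQ := CfsgLib.Orth.plusQ_nondegenerate (F := ZMod 2) 4
  haveI : CharP (ZMod 2) 2 := ZMod.charP 2
  have h2 := CfsgLib.Orth.index_commutator_char_two hQ
    (CfsgLib.Orth.reflClosure_eq_top hQ (Or.inr (by simp))) (by simp)
  rw [CfsgLib.Orth.O, CfsgLib.Orth.plusQ_coe] at h2
  change (Cfsg.Omega (ZMod 2) (Cfsg.quadFormPlus 4 (ZMod 2))).index = 2 at h2
  haveI := Subgroup.normal_of_index_eq_two hidx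
  have hle : Cfsg.Omega (ZMod 2) (Cfsg.quadFormPlus 4 (ZMod 2)) ≤ toO.range := by
    refine (Subgroup.Normal.quotient_commutative_iff_commutator_le (N := toO.range)).mp ?_
    haveI : Fact (Nat.Prime 2) := ⟨Nat.prime_two⟩
    haveI : IsCyclic (_ ⧸ toO.range) := isCyclic_of_prime_card (p := 2) hidx
    exact ⟨⟨fun a b => (IsCyclic.commGroup).mul_comm a b⟩⟩
  exact (le_antisymm hle (by
    have h := Subgroup.relIndex_mul_index hle
    rw [hidx, h2] at h
    exact Subgroup.relIndex_eq_one.mp (by omega))).symm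

end CfsgLib.Sporadic.CoOne
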