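import Mathlib

/-! Simplicity from a Sylow subgroup of prime order whose normaliser lies in a simple subgroup. -/

set_option autoImplicit false

namespace CfsgLib.Sporadic.NormalizerCriterion

variable {G : Type*} [Group G] [Finite G]

/-- The fixed points of conjugation by an element of order dividing `p` on an invariant subgroup. -/
theorem card_modEq_inf_centralizer {p : ℕ} [Fact p.Prime] {P : Subgroup G} {x : G} (hx : x ^ p = 1)
    (hP : ∀ y ∈ P, x * y * x⁻¹ ∈ P) :
    Nat.card P ≡ Nat.card ↥(Subgroup.centralizer {x} ⊓ P) [MOD p] := by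
  let A := Subgroup.zpowers x
  have hA : IsPGroup p A := by
    intro a
    refine ⟨1, ?_⟩
    obtain ⟨k, hk⟩ := Subgroup.mem_zpowers_iff.1 a.2
    refine Subtype.ext ?_
    rw [pow_one, Subgroup.coe_pow, ← hk, ← zpow_natCast, ← zpow_mul, mul_comm, zpow_mul,
      zpow_natCast, hx, one_zpow, OneMemClass.coe_one]
  have hpow : ∀ n : ℕ, ∀ y ∈ P, x ^ n * y * (x ^ n)⁻¹ ∈ P := by
    intro n
    induction n with
    | zero => intro y hy; simpa using hy
    | succ n ih =>
      intro y hy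
      have := hP _ (ih y hy)
      simpa [pow_succ', mul_assoc] using this
  have hall : ∀ (a : A) (y : P), (a : G) * y * (a : G)⁻¹ ∈ P := by
    intro a y
    obtain ⟨n, hn⟩ : ∃ n : ℕ, x ^ n = (a : G) :=
      Submonoid.mem_powers_iff _ _ |>.1 ((isOfFinOrder_of_finite x).mem_powers_iff_mem_zpowers.2 a.2)
    rw [← hn]
    exact hpow n y y.2
  let act : MulAction A P :=
    { smul := fun a y => ⟨_, hall a y⟩
      one_smul := fun y => Subtype.ext (show ((1 : A) : G) * y * ((1 : A) : G)⁻¹ = y by simp)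
      mul_smul := fun a b y => Subtype.ext (show ((a * b : A) : G) * y * ((a * b : A) : G)⁻¹ =
        (a : G) * ((b : G) * y * (b : G)⁻¹) * (a : G)⁻¹ by simp [mul_assoc]) }
  have hfix := hA.card_modEq_card_fixedPoints P
  have hmem : ∀ y : P, y ∈ MulAction.fixedPoints A P ↔ (y : G) ∈ Subgroup.centralizer {x} := by
    intro y
    rw [Subgroup.mem_centralizer_singleton_iff]
    constructor
    · intro hy
      have h : x * y * x⁻¹ = y := congrArg Subtype.val (hy ⟨x, Subgroup.mem_zpowers x⟩)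
      exact (eq_mul_of_mul_inv_eq h).symm
    · intro hy a
      obtain ⟨k, hk⟩ := Subgroup.mem_zpowers_iff.1 a.2
      refine Subtype.ext ?_
      show (a : G) * y * (a : G)⁻¹ = y
      have hc : Commute (y : G) x := hy
      rw [← hk, ← (hc.zpow_right k).eq, mul_inv_cancel_right]
  rwa [Nat.card_congr (α := MulAction.fixedPoints A P)
    (β := ↥(Subgroup.centralizer {x} ⊓ P))
    { toFun := fun y => ⟨y.1.1, (hmem y.1).1 y.2, y.1.2⟩
      invFun := fun y => ⟨⟨y.1, y.2.2⟩, (hmem _).2 y.2.1⟩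
      left_inv := fun y => rfl
      right_inv := fun y => rfl }] at hfix

/-- The `q`-part of a normal `p'`-subgroup is centralised by an element of order `p` when the
possible powers of `q` are different modulo `p`. -/
theorem pow_dvd_inf_centralizer {p q : ℕ} [Fact p.Prime] [Fact q.Prime] {N : Subgroup G} [N.Normal]
    (hpN : ¬ p ∣ Nat.card N) {e : ℕ} (he : ∀ i, q ^ i ∣ Nat.card N → i ≤ e)
    (hinj : ((List.range (e + 1)).map fun i => q ^ i % p).Nodup)
    {x : G} (hx : x ^ p = 1) {k : ℕ} (hk : q ^ k ∣ Nat.card N) :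
    q ^ k ∣ Nat.card ↥(Subgroup.centralizer {x} ⊓ N) := by
  let A := Subgroup.zpowers x
  have hA : IsPGroup p A := by
    intro a
    refine ⟨1, ?_⟩
    obtain ⟨k, hk⟩ := Subgroup.mem_zpowers_iff.1 a.2
    refine Subtype.ext ?_
    rw [pow_one, Subgroup.coe_pow, ← hk, ← zpow_natCast, ← zpow_mul, mul_comm, zpow_mul,
      zpow_natCast, hx, one_zpow, OneMemClass.coe_one]
  let inst : MulDistribMulAction A N :=
    MulDistribMulAction.compHom N ((MulAut.conjNormal (H := N)).comp A.subtype)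
  have hndvd : ¬ p ∣ Nat.card (Sylow q N) := fun h =>
    hpN (h.trans ((Sylow.card_dvd_index default).trans (Subgroup.index_dvd_card _)))
  obtain ⟨Q, hQ⟩ := hA.nonempty_fixed_point_of_prime_not_dvd_card (Sylow q N) hndvd
  set P := (Q : Subgroup N).map N.subtype with hP
  have hPN : P ≤ N := Subgroup.map_subtype_le _
  have hcard : Nat.card P = Nat.card (Q : Subgroup N) :=
    Subgroup.card_map_of_injective N.subtype_injective
  have hinv : ∀ y ∈ P, x * y * x⁻¹ ∈ P := by
    rintro _ ⟨y, hy, rfl⟩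
    have h1 : (⟨x, Subgroup.mem_zpowers x⟩ : A) • Q = Q := hQ _
    refine ⟨(⟨x, Subgroup.mem_zpowers x⟩ : A) • y, ?_, rfl⟩
    rw [← h1]
    exact ⟨y, hy, rfl⟩
  have hmod := card_modEq_inf_centralizer hx hinv
  obtain ⟨i, hi⟩ := Q.2.exists_card_eq
  obtain ⟨j, hj⟩ := ((Q.2.map N.subtype).to_le
    (inf_le_right : Subgroup.centralizer {x} ⊓ P ≤ P)).exists_card_eq
  rw [hcard, hi, hj] at hmod
  have hiN : q ^ i ∣ Nat.card N := hi ▸ Subgroup.card_subgroup_dvd_card _
  have hjN : q ^ j ∣ Nat.card N := (hj ▸ Subgroup.card_dvd_of_le inf_le_right : q ^ j ∣ Nat.card P).trans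
    (Subgroup.card_dvd_of_le hPN)
  have hij : i = j := List.inj_on_of_nodup_map hinj (List.mem_range.2 (Nat.lt_succ_of_le (he i hiN)))
    (List.mem_range.2 (Nat.lt_succ_of_le (he j hjN))) hmod
  calc q ^ k ∣ Nat.card (Q : Subgroup N) := by
        rw [Q.card_eq_multiplicity]
        exact Nat.pow_dvd_pow q (((Fact.out : q.Prime).pow_dvd_iff_le_factorization
          Nat.card_pos.ne').1 hk)
    _ = Nat.card ↥(Subgroup.centralizer {x} ⊓ P) := by rw [hi, hj, hij]
    _ ∣ Nat.card ↥(Subgroup.centralizer {x} ⊓ N) :=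
      Subgroup.card_dvd_of_le (inf_le_inf_left _ hPN)

/-- The prime powers in a factored number. -/
theorem exists_mem_of_prime_dvd {n : ℕ} (L : List (ℕ × ℕ))
    (hn : n ∣ (L.map fun t => t.1 ^ t.2).prod) (hpr : ∀ t ∈ L, t.1.Prime)
    (hmax : ∀ t ∈ L, ¬ t.1 ^ (t.2 + 1) ∣ n) {q : ℕ} (hq : q.Prime) (hqn : q ∣ n) :
    ∃ t ∈ L, t.1 = q ∧ ∀ i, q ^ i ∣ n → i ≤ t.2 := by
  obtain ⟨a, ha, hqa⟩ := (Prime.dvd_prod_iff hq.prime).1 (hqn.trans hn)
  obtain ⟨t, ht, rfl⟩ := List.mem_map.1 ha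
  obtain rfl : q = t.1 := (Nat.prime_dvd_prime_iff_eq hq (hpr t ht)).1 (hq.dvd_of_dvd_pow hqa)
  refine ⟨t, ht, rfl, fun i hi => ?_⟩
  by_contra h
  exact hmax t ht ((pow_dvd_pow _ (by omega)).trans hi)

/-- Outside an exceptional prime the order of a normal `p'`-subgroup is that of a subgroup
centralised by the element of order `p`. -/
theorem prime_dvd_centralizer_or {p q₀ : ℕ} [Fact p.Prime] (L : List (ℕ × ℕ))
    (hn : Nat.card G ∣ (L.map fun t => t.1 ^ t.2).prod) (hpr : ∀ t ∈ L, t.1.Prime)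
    (hmax : ∀ t ∈ L, ¬ t.1 ^ (t.2 + 1) ∣ Nat.card G)
    (hinj : ∀ t ∈ L, t.1 = p ∨ t.1 = q₀ ∨ ((List.range (t.2 + 1)).map fun i => t.1 ^ i % p).Nodup)
    {N : Subgroup G} [N.Normal] (hpN : ¬ p ∣ Nat.card N) {x : G} (hx : x ^ p = 1)
    {q : ℕ} (hq : q.Prime) (hqN : q ∣ Nat.card N) :
    q = q₀ ∨ q ∣ Nat.card ↥(Subgroup.centralizer {x} ⊓ N) := by
  obtain ⟨t, ht, htq, hle⟩ := exists_mem_of_prime_dvd L hn hpr hmax hq
    (hqN.trans N.card_subgroup_dvd_card)
  rcases hinj t ht with h | h | h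
  · exact absurd (show p ∣ Nat.card N by rwa [← h, htq]) hpN
  · exact Or.inl (htq.symm.trans h)
  · have := Fact.mk hq
    rw [htq] at h
    have h1 := pow_dvd_inf_centralizer (k := 1) hpN
      (fun i hi => hle i (hi.trans N.card_subgroup_dvd_card)) h hx (by rwa [pow_one])
    rw [pow_one] at h1
    exact Or.inr h1

section Criterion

variable {p : ℕ} [Fact p.Prime]

theorem mem_of_dvd_card (hp2 : ¬ p * p ∣ Nat.card G) {N : Subgroup G} [N.Normal]
    (hN : p ∣ Nat.card N) {x : G} (hx : x ^ p = 1) : x ∈ N := by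
  have hidx : ¬ p ∣ N.index := fun h => hp2 (N.card_mul_index ▸ Nat.mul_dvd_mul hN h)
  rw [← QuotientGroup.eq_one_iff]
  have h1 : orderOf (x : G ⧸ N) ∣ p := by
    refine orderOf_dvd_of_pow_eq_one ?_
    rw [← QuotientGroup.mk_pow, hx, QuotientGroup.mk_one]
  rcases (Nat.dvd_prime Fact.out).1 h1 with h | h
  · exact orderOf_eq_one_iff.1 h
  · refine absurd ?_ hidx
    rw [← h, Subgroup.index_eq_card]
    exact orderOf_dvd_natCard _

/-- Frattini. -/
theorem normalizer_sup_eq_top (hp2 : ¬ p * p ∣ Nat.card G) {N : Subgroup G} [N.Normal]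
    {x : G} (hx : orderOf x = p) (hxN : x ∈ N) :
    Subgroup.normalizer (Subgroup.zpowers x : Set G) ⊔ N = ⊤ := by
  have hPN : Subgroup.zpowers x ≤ N := Subgroup.zpowers_le.2 hxN
  have hcard : Nat.card ((Subgroup.zpowers x).subgroupOf N) = p := by
    rw [Nat.card_congr (Subgroup.subgroupOfEquivOfLe hPN).toEquiv, Nat.card_zpowers, hx]
  have hpN : p ∣ Nat.card N := hcard ▸ Subgroup.card_subgroup_dvd_card _
  let P' : Sylow p N := Sylow.ofCard ((Subgroup.zpowers x).subgroupOf N) (by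
    rw [hcard]
    have h1 : 1 ≤ (Nat.card N).factorization p :=
      (Fact.out : p.Prime).factorization_pos_of_dvd Nat.card_pos.ne' hpN
    have h2 : (Nat.card N).factorization p < 2 := by
      by_contra hlt
      exact hp2 (pow_two p ▸ ((pow_dvd_pow p (not_lt.mp hlt)).trans (Nat.ordProj_dvd _ _)).trans
        N.card_subgroup_dvd_card)
    rw [show (Nat.card N).factorization p = 1 by omega, pow_one])
  have := Sylow.normalizer_sup_eq_top P'
  rwa [Sylow.coe_ofCard, Subgroup.subgroupOf_map_subtype, inf_eq_left.mpr hPN] at this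

omit [Finite G] in
theorem centralizer_le_normalizer_zpowers (x : G) :
    Subgroup.centralizer ({x} : Set G) ≤ Subgroup.normalizer (Subgroup.zpowers x : Set G) := by
  intro g hg
  rw [Subgroup.mem_centralizer_singleton_iff] at hg
  have hc : Commute g x := hg
  rw [Subgroup.mem_normalizer_iff]
  intro h
  constructor <;> simp only [SetLike.mem_coe, Subgroup.mem_zpowers_iff]
  · rintro ⟨k, rfl⟩
    exact ⟨k, by rw [(hc.zpow_right k).eq, mul_inv_cancel_right]⟩
  · rintro ⟨k, hk⟩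
    refine ⟨k, ?_⟩
    have h1 : g⁻¹ * x ^ k * g = h := by rw [hk]; group
    rw [← h1, mul_assoc, ← (hc.zpow_right k).eq, inv_mul_cancel_left]

variable (hp2 : ¬ p * p ∣ Nat.card G) {x : G} (hx : orderOf x = p) {K : Subgroup G} (hxK : x ∈ K)
  (hK : IsSimpleGroup K) (hNK : Subgroup.normalizer (Subgroup.zpowers x : Set G) ≤ K)
include hp2 hx hxK hK hNK

theorem eq_top_of_dvd {N : Subgroup G} [N.Normal] (hN : p ∣ Nat.card N) : N = ⊤ := by
  have hxN : x ∈ N := mem_of_dvd_card hp2 hN (hx ▸ pow_orderOf_eq_one x)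
  have hle : K ≤ N := by
    rw [← Subgroup.subgroupOf_eq_top]
    refine ((inferInstance : (N.subgroupOf K).Normal).eq_bot_or_eq_top).resolve_left fun h => ?_
    have h1 : (⟨x, hxK⟩ : K) ∈ N.subgroupOf K := hxN
    rw [h, Subgroup.mem_bot, Subtype.ext_iff] at h1
    rw [show x = 1 from h1, orderOf_one] at hx
    exact (Fact.out : p.Prime).one_lt.ne hx
  rw [← top_le_iff, ← normalizer_sup_eq_top hp2 hx hxN]
  exact sup_le (hNK.trans hle) le_rfl

theorem inf_centralizer_eq_bot {N : Subgroup G} [N.Normal] (hN : ¬ p ∣ Nat.card N) :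
    Subgroup.centralizer {x} ⊓ N = ⊥ := by
  have hbot : N.subgroupOf K = ⊥ := by
    refine ((inferInstance : (N.subgroupOf K).Normal).eq_bot_or_eq_top).resolve_right fun h => hN ?_
    rw [Subgroup.subgroupOf_eq_top] at h
    have := Subgroup.card_dvd_of_le ((Subgroup.zpowers_le.2 hxK).trans h)
    rwa [Nat.card_zpowers, hx] at this
  rw [Subgroup.subgroupOf_eq_bot, disjoint_iff] at hbot
  rw [← le_bot_iff, ← hbot]
  exact le_inf inf_le_right
    (inf_le_left.trans ((centralizer_le_normalizer_zpowers x).trans hNK))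

/-- With one exceptional prime `q₀`: a normal subgroup other than the whole group has order a
power of `q₀` that is `1` modulo `p`. -/
theorem eq_top_or_card_eq {q₀ : ℕ} (L : List (ℕ × ℕ))
    (hn : Nat.card G ∣ (L.map fun t => t.1 ^ t.2).prod) (hpr : ∀ t ∈ L, t.1.Prime)
    (hmax : ∀ t ∈ L, ¬ t.1 ^ (t.2 + 1) ∣ Nat.card G)
    (hinj : ∀ t ∈ L, t.1 = p ∨ t.1 = q₀ ∨ ((List.range (t.2 + 1)).map fun i => t.1 ^ i % p).Nodup)
    (N : Subgroup G) [N.Normal] :
    N = ⊤ ∨ ∃ k, Nat.card N = q₀ ^ k ∧ q₀ ^ k % p = 1 := by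
  by_cases hN : p ∣ Nat.card N
  · exact Or.inl (eq_top_of_dvd hp2 hx hxK hK hNK hN)
  refine Or.inr ?_
  have hC := inf_centralizer_eq_bot hp2 hx hxK hK hNK hN
  have hpow : x ^ p = 1 := hx ▸ pow_orderOf_eq_one x
  have hmod := card_modEq_inf_centralizer (P := N) hpow
    fun y hy => Subgroup.Normal.conj_mem inferInstance y hy x
  rw [hC, Subgroup.card_bot] at hmod
  have hprime : ∀ d : ℕ, d.Prime → d ∣ Nat.card N → d = q₀ := fun d hd hdN =>
    (prime_dvd_centralizer_or L hn hpr hmax hinj hN hpow hd hdN).resolve_right fun h => by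
      rw [hC, Subgroup.card_bot] at h
      exact hd.not_dvd_one h
  have hk := Nat.eq_prime_pow_of_unique_prime_dvd Nat.card_pos.ne'
    (fun hd hdN => hprime _ hd hdN)
  refine ⟨_, hk, ?_⟩
  rw [← hk, hmod]
  exact Nat.one_mod_eq_one.2 (Fact.out : p.Prime).ne_one

/-- Simplicity when no prime is exceptional. -/
theorem isSimpleGroup (L : List (ℕ × ℕ))
    (hn : Nat.card G ∣ (L.map fun t => t.1 ^ t.2).prod) (hpr : ∀ t ∈ L, t.1.Prime)
    (hmax : ∀ t ∈ L, ¬ t.1 ^ (t.2 + 1) ∣ Nat.card G)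
    (hinj : ∀ t ∈ L, t.1 = p ∨ ((List.range (t.2 + 1)).map fun i => t.1 ^ i % p).Nodup) :
    IsSimpleGroup G := by
  have : Nontrivial G := ⟨⟨x, 1, fun h => by
    rw [h, orderOf_one] at hx
    exact (Fact.out : p.Prime).one_lt.ne hx⟩⟩
  refine ⟨fun N hN => ?_⟩
  rcases eq_top_or_card_eq hp2 hx hxK hK hNK (q₀ := 1) L hn hpr hmax
    (fun t ht => (hinj t ht).imp_right Or.inr) N with h | ⟨k, hk, -⟩
  · exact Or.inr h
  · exact Or.inl (Subgroup.card_eq_one.1 (by rw [hk, one_pow]))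

/-- The structure of a proper normal subgroup when one prime is exceptional: an elementary
abelian group of order `q₀ ^ a` containing its centraliser. -/
theorem normal_structure {q₀ a : ℕ} [Fact q₀.Prime] (L : List (ℕ × ℕ))
    (hn : Nat.card G ∣ (L.map fun t => t.1 ^ t.2).prod) (hpr : ∀ t ∈ L, t.1.Prime)
    (hmax : ∀ t ∈ L, ¬ t.1 ^ (t.2 + 1) ∣ Nat.card G)
    (hinj : ∀ t ∈ L, t.1 = p ∨ t.1 = q₀ ∨ ((List.range (t.2 + 1)).map fun i => t.1 ^ i % p).Nodup)
    (hexp : ∀ k, q₀ ^ k ∣ Nat.card G → q₀ ^ k % p = 1 → k = 0 ∨ k = a)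
    (N : Subgroup G) [N.Normal] :
    N = ⊥ ∨ N = ⊤ ∨ (Nat.card N = q₀ ^ a ∧ (∀ m ∈ N, ∀ n ∈ N, m * n = n * m) ∧
      (∀ n ∈ N, n ^ q₀ = 1) ∧ Subgroup.centralizer (N : Set G) = N) := by
  have key : ∀ (M : Subgroup G) [M.Normal], M ≠ ⊥ → M ≠ ⊤ → Nat.card M = q₀ ^ a := by
    intro M _ hb ht
    obtain ⟨k, hk, hk1⟩ := (eq_top_or_card_eq hp2 hx hxK hK hNK L hn hpr hmax hinj M).resolve_left ht
    rcases hexp k (hk ▸ M.card_subgroup_dvd_card) hk1 with rfl | rfl
    · exact absurd (Subgroup.card_eq_one.1 (by rw [hk, pow_zero])) hb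
    · exact hk
  refine or_iff_not_imp_left.2 fun hb => or_iff_not_imp_left.2 fun ht => ?_
  have hcard := key N hb ht
  have hNp : IsPGroup q₀ N := IsPGroup.of_card hcard
  have : Nontrivial N := N.nontrivial_iff_ne_bot.2 hb
  have hle : ∀ M : Subgroup G, M.Normal → M ≤ N → M ≠ ⊥ → M = N := fun M hM hMN hMb =>
    Subgroup.eq_of_le_of_card_ge hMN (by
      rw [hcard, key M hMb fun h => ht (top_unique (h ▸ hMN))])
  have hcomm : ∀ m ∈ N, ∀ n ∈ N, m * n = n * m := by
    haveI := hNp.center_nontrivial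
    have h := hle (Subgroup.centralizer (N : Set G) ⊓ N) inferInstance inf_le_right fun h => by
      obtain ⟨z, hz⟩ := exists_ne (1 : Subgroup.center N)
      refine hz (Subtype.ext (Subtype.ext ?_))
      have hmem : ((z : N) : G) ∈ Subgroup.centralizer (N : Set G) ⊓ N :=
        ⟨Subgroup.mem_centralizer_iff.2 fun n hn =>
          congrArg Subtype.val (Subgroup.mem_center_iff.1 z.2 ⟨n, hn⟩), (z : N).2⟩
      rw [h, Subgroup.mem_bot] at hmem
      exact hmem
    intro m hm n hn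
    have hm' : m ∈ Subgroup.centralizer (N : Set G) ⊓ N := h.symm ▸ hm
    exact (Subgroup.mem_centralizer_iff.1 hm'.1 n hn).symm
  refine ⟨hcard, hcomm, ?_, ?_⟩
  · let M : Subgroup G :=
      { carrier := {n | n ∈ N ∧ n ^ q₀ = 1}
        mul_mem' := fun {u v} hu hv => ⟨mul_mem hu.1 hv.1, by
          rw [(show Commute u v from hcomm u hu.1 v hv.1).mul_pow, hu.2, hv.2, one_mul]⟩
        one_mem' := ⟨one_mem _, one_pow _⟩
        inv_mem' := fun {u} hu => ⟨inv_mem hu.1, by rw [inv_pow, hu.2, inv_one]⟩ }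
    have hMn : M.Normal := ⟨fun n hn g => ⟨Subgroup.Normal.conj_mem inferInstance n hn.1 g, by
      rw [conj_pow, hn.2, mul_one, mul_inv_cancel]⟩⟩
    have := hle M hMn (fun n hn => hn.1) fun h => by
      obtain ⟨k, hk⟩ : q₀ ∣ Nat.card N := by
        obtain ⟨j, hj⟩ := hNp.nontrivial_iff_card.1 inferInstance
        exact ⟨_, hj.2.trans (by rw [← pow_succ', Nat.sub_add_cancel hj.1])⟩
      obtain ⟨n, hn⟩ := exists_prime_orderOf_dvd_card' (G := N) q₀ ⟨k, hk⟩
      have hmem : (n : G) ∈ M := ⟨n.2, by rw [← Subgroup.coe_pow, ← hn, pow_orderOf_eq_one]; rfl⟩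
      rw [h, Subgroup.mem_bot, OneMemClass.coe_eq_one] at hmem
      rw [hmem, orderOf_one] at hn
      exact (Fact.out : q₀.Prime).one_lt.ne hn
    intro n hn
    exact (this.symm ▸ hn : n ∈ M).2
  · have hsub : N ≤ Subgroup.centralizer (N : Set G) := fun n hn =>
      Subgroup.mem_centralizer_iff.2 fun m hm => hcomm m hm n hn
    have hct : Subgroup.centralizer (N : Set G) ≠ ⊤ := by
      intro h
      have hN' : ¬ p ∣ Nat.card N := fun hd => ht (eq_top_of_dvd hp2 hx hxK hK hNK hd)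
      have hC := inf_centralizer_eq_bot hp2 hx hxK hK hNK hN'
      refine hb (le_bot_iff.1 (hC ▸ le_inf (fun n hn => ?_) le_rfl))
      rw [Subgroup.mem_centralizer_singleton_iff]
      exact Subgroup.mem_centralizer_iff.1 (h.symm ▸ Subgroup.mem_top x) n hn
    exact (Subgroup.eq_of_le_of_card_ge hsub (by
      rw [hcard, key _ (fun h => hb (le_bot_iff.1 (h ▸ hsub))) hct])).symm

end Criterion

end CfsgLib.Sporadic.NormalizerCriterion
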