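import Cfsg.Agent.Lib.Sporadic.Chain

/-! Permutations of a hundred points coded as numbers with seven bits for each image. -/

set_option autoImplicit false

namespace CfsgLib.Sporadic.PermCode

/-- Entry `i` of a code. -/
def digit (c i : ℕ) : ℕ := c / 2 ^ (7 * i) % 128

/-- The code of a list of entries given by a function. -/
noncomputable def pack (n : ℕ) (f : ℕ → ℕ) : ℕ :=
  Nat.rec (motive := fun _ => (ℕ → ℕ) → ℕ) (fun _ => 0)
    (fun _ r g => g 0 + 128 * r fun i => g (i + 1)) n f

theorem pack_zero (f : ℕ → ℕ) : pack 0 f = 0 := rfl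

theorem pack_succ (n : ℕ) (f : ℕ → ℕ) :
    pack (n + 1) f = f 0 + 128 * pack n fun i => f (i + 1) := rfl

theorem digit_pack : ∀ (n : ℕ) (f : ℕ → ℕ), (∀ i, f i < 128) → ∀ i, i < n → digit (pack n f) i = f i
  | 0, _, _, i, hi => absurd hi (Nat.not_lt_zero i)
  | n + 1, f, hf, 0, _ => by
    rw [digit, pack_succ, Nat.mul_zero, pow_zero, Nat.div_one, Nat.add_mul_mod_self_left,
      Nat.mod_eq_of_lt (hf 0)]
  | n + 1, f, hf, i + 1, hi => by
    have h : 2 ^ (7 * (i + 1)) = 128 * 2 ^ (7 * i) := by
      rw [Nat.mul_succ, pow_add, mul_comm]; norm_num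
    rw [digit, pack_succ, h, ← Nat.div_div_eq_div_mul, Nat.add_mul_div_left _ _ (by norm_num),
      Nat.div_eq_of_lt (hf 0), zero_add]
    exact digit_pack n (fun j => f (j + 1)) (fun j => hf _) i (by omega)

theorem pack_congr : ∀ (n : ℕ) (f g : ℕ → ℕ), (∀ i, i < n → f i = g i) → pack n f = pack n g
  | 0, _, _, _ => rfl
  | n + 1, f, g, h => by
    rw [pack_succ, pack_succ, h 0 (by omega),
      pack_congr n (fun i => f (i + 1)) (fun i => g (i + 1)) fun i hi => h _ (by omega)]

/-- The image of a point under a code. -/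
def img (c i : ℕ) : ℕ := digit c i % 100

/-- Composition of codes. -/
noncomputable def mul (a b : ℕ) : ℕ := pack 100 fun i => img a (img b i)

/-- The map coded by a number. -/
def dec (c : ℕ) : Function.End (Fin 100) := fun i => ⟨img c i, Nat.mod_lt _ (by norm_num)⟩

/-- A code in normal form. -/
noncomputable def canon (c : ℕ) : Bool := pack 100 (img c) == c

theorem img_pack (f : ℕ → ℕ) (hf : ∀ i, f i < 100) {i : ℕ} (hi : i < 100) :
    img (pack 100 f) i = f i := by
  rw [img, digit_pack 100 f (fun j => (hf j).trans (by norm_num)) i hi, Nat.mod_eq_of_lt (hf i)]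

theorem hmul (a b : ℕ) : dec (mul a b) = dec a * dec b :=
  funext fun i => Fin.ext (img_pack (fun j => img a (img b j))
    (fun _ => Nat.mod_lt _ (by norm_num)) i.2)

theorem hinj (a b : ℕ) (ha : canon a = true) (hb : canon b = true) (h : dec a = dec b) : a = b := by
  rw [canon, beq_iff_eq] at ha hb
  rw [← ha, ← hb]
  exact pack_congr 100 _ _ fun i hi => congrArg Fin.val (congrFun h ⟨i, hi⟩)

/-- The embedding of the symmetric group. -/
def emb : Equiv.Perm (Fin 100) →* Function.End (Fin 100) where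
  toFun g := fun i => g i
  map_one' := rfl
  map_mul' _ _ := rfl

theorem hemb : Function.Injective emb := fun _ _ h => Equiv.ext (congrFun h)

theorem apply_eq {g : Equiv.Perm (Fin 100)} {c : ℕ} (h : emb g = dec c) (i : Fin 100) :
    (g i : ℕ) = img c i :=
  congrArg Fin.val (congrFun h i)

/-- A code with an inverse code gives a permutation. -/
def ofCodes (a b : ℕ) (h₁ : ∀ i : Fin 100, dec b (dec a i) = i)
    (h₂ : ∀ i : Fin 100, dec a (dec b i) = i) : Equiv.Perm (Fin 100) :=
  ⟨dec a, dec b, h₁, h₂⟩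

theorem emb_ofCodes (a b : ℕ) (h₁ : ∀ i : Fin 100, dec b (dec a i) = i)
    (h₂ : ∀ i : Fin 100, dec a (dec b i) = i) : emb (ofCodes a b h₁ h₂) = dec a := rfl

end CfsgLib.Sporadic.PermCode
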