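import Cfsg.Agent.Lib.Sporadic.HallJankoData
import Cfsg.Agent.Lib.Sporadic.PermCode
import Cfsg.Agent.Lib.Sporadic.Simple
import Cfsg.Agent.Lib.Sporadic.NormalizerCriterion
import Cfsg.Prelude.Def_Sporadic
import Cfsg.Agent.Lib.Sporadic.GenWord

/-!
A simple group of order 604800 acting on 100 points.
-/

set_option autoImplicit false
set_option maxRecDepth 20000

noncomputable section

namespace CfsgLib.Sporadic.HallJanko

open PermCode

/-- The points. -/
abbrev Pt : Type := Fin 100

theorem hone : dec one = 1 :=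
  funext fun i => Fin.ext ((by decide +kernel : ∀ i : Fin 100, img one i = (i : ℕ)) i)

theorem gens_pow : gens.all (fun c => genWord mul one [c] (List.replicate 7 0) == one) = true := by
  decide +kernel

/-- A generator as a permutation. -/
def ofGen (c : ℕ) (h : genWord mul one [c] (List.replicate 7 0) = one)
    (h' : mul (genWord mul one [c] (List.replicate 6 0)) c = one) : Equiv.Perm Pt :=
  ofCodes c (genWord mul one [c] (List.replicate 6 0))
    (fun i => congrFun (show dec (genWord mul one [c] (List.replicate 6 0)) * dec c = 1 by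
      rw [← hmul, h', hone]) i)
    (fun i => congrFun (show dec c * dec (genWord mul one [c] (List.replicate 6 0)) = 1 by
      rw [← hmul]
      exact (congrArg dec h).trans hone) i)

/-- The first generator. -/
def genA : Equiv.Perm Pt := ofGen (gens.getD 0 one) (by decide +kernel) (by decide +kernel)

/-- The second generator. -/
def genB : Equiv.Perm Pt := ofGen (gens.getD 1 one) (by decide +kernel) (by decide +kernel)

theorem emb_A : emb genA = dec (gens.getD 0 one) := emb_ofCodes _ _ _ _

theorem emb_B : emb genB = dec (gens.getD 1 one) := emb_ofCodes _ _ _ _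

/-- The group on 100 points. -/
def grp : Subgroup (Equiv.Perm Pt) := Subgroup.closure {genA, genB}

theorem gens_mem : ∀ c ∈ gens, CodeMem emb dec grp c := by
  intro c hc
  simp only [gens, List.mem_cons, List.not_mem_nil, or_false] at hc
  rcases hc with rfl | rfl
  · exact ⟨genA, Subgroup.subset_closure (by simp), emb_A⟩
  · exact ⟨genB, Subgroup.subset_closure (by simp), emb_B⟩

theorem kWords_ok : kWords.map (genWord mul one gens) = kGens := by decide +kernel

theorem lWords_ok : lWords.map (genWord mul one kGens) = lGens := by decide +kernel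

theorem kGens_mem : ∀ c ∈ kGens, CodeMem emb dec grp c := by
  rw [← kWords_ok]
  intro c hc
  obtain ⟨w, -, rfl⟩ := List.mem_map.1 hc
  exact codeMem_genWord hmul hone gens_mem w

/-- The stabiliser of the first point. -/
def kGrp : Subgroup (Equiv.Perm Pt) := Subgroup.closure (genSet emb dec kGens)

theorem kGrp_le : kGrp ≤ grp := genSet_closure_le hemb kGens_mem

theorem lGens_mem : ∀ c ∈ lGens, CodeMem emb dec kGrp c := by
  rw [← lWords_ok]
  intro c hc
  obtain ⟨w, -, rfl⟩ := List.mem_map.1 hc
  exact codeMem_genWord hmul hone (codeMem_genSet kGens_mem) w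

/-- The stabiliser of two points. -/
def lGrp : Subgroup (Equiv.Perm Pt) := Subgroup.closure (genSet emb dec lGens)

theorem lGrp_le : lGrp ≤ kGrp := genSet_closure_le hemb lGens_mem

theorem fix_closure {cs : List ℕ} {p : Pt} (h : cs.all (fun c => img c p == (p : ℕ)) = true) :
    Subgroup.closure (genSet emb dec cs) ≤ MulAction.stabilizer (Equiv.Perm Pt) p := by
  rw [Subgroup.closure_le]
  rintro g ⟨c, hc, hg⟩
  exact Fin.ext ((apply_eq hg p).trans (beq_iff_eq.1 (List.all_eq_true.1 h c hc)))

theorem kGrp_fix : kGrp ≤ MulAction.stabilizer (Equiv.Perm Pt) (0 : Pt) :=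
  fix_closure (by decide +kernel)

theorem lGrp_fix : lGrp ≤ MulAction.stabilizer (Equiv.Perm Pt) (⟨ptP % 100, by decide⟩ : Pt) :=
  fix_closure (by decide +kernel)

theorem lT_par : allFrom 0 168 (parentOK mul one lGens 168 lT lPar) = true := by decide +kernel

theorem lT_fac : allFrom 0 (lGens.length * 168) (stepOK mul one lGens 168 lT lFac []) = true := by
  decide +kernel

theorem lT_dist : allFrom 0 168 (distinctOK canon 168 lT lSrt lPos lInv) = true := by decide +kernel

theorem card_lGrp : Nat.card lGrp = 168 ∧ ∀ i < 168, CodeMem emb dec lGrp (lT.get i) :=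
  card_genSet_eq hmul hone hemb hinj lGens_mem (by norm_num) (by decide +kernel) lT_par lT_fac
    lT_dist

theorem kT_par : allFrom 0 36 (parentOK mul one kGens 36 kT kPar) = true := by decide +kernel

theorem oT_par : allFrom 0 63 (parentOK mul one kGens 63 oT oPar) = true := by decide +kernel

theorem kT_fac :
    allFrom 0 (kGens.length * 36) (stepOK mul one kGens 36 kT kFac [(168, lT)]) = true := by
  decide +kernel

theorem kT_mem : ∀ i < 36, CodeMem emb dec kGrp (kT.get i) :=
  table_mem hmul hone (codeMem_genSet kGens_mem) kT_par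

theorem oT_mem : ∀ i < 63, CodeMem emb dec kGrp (oT.get i) :=
  table_mem hmul hone (codeMem_genSet kGens_mem) oT_par

/-- Images of a point under a table. -/
def images (n : ℕ) (T : Tr) (p : ℕ) : List ℕ := (List.range n).map fun i => img (T.get i) p

theorem orbit_ge {H : Subgroup (Equiv.Perm Pt)} {n : ℕ} {T : Tr} {p : Pt}
    (hT : ∀ i < n, CodeMem emb dec H (T.get i)) (hnd : (images n T p).Nodup) :
    n ≤ (MulAction.orbit H p).ncard := by
  have hsub : ∀ i : Fin n, (⟨img (T.get i) p, Nat.mod_lt _ (by norm_num)⟩ : Pt) ∈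
      MulAction.orbit H p := by
    intro i
    obtain ⟨g, hg, e⟩ := hT i i.2
    refine ⟨⟨g, hg⟩, Fin.ext ?_⟩
    show ((g p : Pt) : ℕ) = _
    exact apply_eq e p
  have hinj : Function.Injective fun i : Fin n =>
      (⟨_, hsub i⟩ : MulAction.orbit H p) := by
    intro i j hij
    have h1 : img (T.get i) p = img (T.get j) p :=
      congrArg (fun z : MulAction.orbit H p => ((z : Pt) : ℕ)) hij
    exact Fin.ext (List.inj_on_of_nodup_map hnd (List.mem_range.2 i.2) (List.mem_range.2 j.2) h1)
  have := Nat.card_le_card_of_injective _ hinj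
  rwa [Nat.card_fin, Nat.card_coe_set_eq] at this

theorem card_ge {H L : Subgroup (Equiv.Perm Pt)} {n : ℕ} {p : Pt} (hLH : L ≤ H)
    (hfix : L ≤ MulAction.stabilizer (Equiv.Perm Pt) p) (hn : n ≤ (MulAction.orbit H p).ncard) :
    n * Nat.card L ≤ Nat.card H := by
  have h := (MulAction.stabilizer H p).card_mul_index
  rw [MulAction.index_stabilizer] at h
  have hle : Nat.card L ≤ Nat.card (MulAction.stabilizer H p) :=
    Nat.card_le_card_of_injective (fun l => (⟨⟨l, hLH l.2⟩, hfix l.2⟩ : MulAction.stabilizer H p))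
      fun a b hab => Subtype.ext (congrArg (fun z : MulAction.stabilizer H p => z.1.1) hab)
  rw [← h, mul_comm n]
  exact Nat.mul_le_mul hle hn

theorem card_kGrp : Nat.card kGrp = 6048 := by
  refine le_antisymm ?_ ?_
  · have h := card_le_of_checks hmul hone hemb (S := genSet emb dec kGens) (K := lGrp) (n := 36)
      (T := kT) (fac := kFac) (lower := [(168, lT)]) (by norm_num) (by decide +kernel)
      (fun s hs => hs) (fun q hq => by
        obtain rfl := List.mem_singleton.1 hq
        exact ⟨by norm_num, card_lGrp.2⟩) kT_fac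
    rwa [card_lGrp.1] at h
  · have h := card_ge lGrp_le lGrp_fix (orbit_ge kT_mem (by decide +kernel))
    rwa [card_lGrp.1] at h

theorem topT_par : allFrom 0 100 (parentOK mul one gens 100 topT topPar) = true := by decide +kernel

theorem top_fac : allFrom 0 (gens.length * 100)
    (stepOK mul one gens 100 topT topFac [(36, kT), (168, lT)]) = true := by decide +kernel

theorem topT_mem : ∀ i < 100, CodeMem emb dec grp (topT.get i) :=
  table_mem hmul hone gens_mem topT_par

theorem topT_images : (images 100 topT ((0 : Pt) : ℕ)).Nodup := by decide +kernel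

theorem card_grp : Nat.card grp = 604800 := by
  refine le_antisymm ?_ ?_
  · have h := card_le_of_checks hmul hone hemb (S := ({genA, genB} : Set (Equiv.Perm Pt)))
      (K := kGrp) (n := 100) (T := topT) (fac := topFac) (gens := gens)
      (lower := [(36, kT), (168, lT)]) (by norm_num) (by decide +kernel) (by
        rintro s (rfl | rfl)
        · exact ⟨_, by simp [gens], emb_A⟩
        · exact ⟨_, by simp [gens], emb_B⟩) (fun q hq => by
        simp only [List.mem_cons, List.not_mem_nil, or_false] at hq
        rcases hq with rfl | rfl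
        · exact ⟨by norm_num, kT_mem⟩
        · exact ⟨by norm_num, fun i hi => (card_lGrp.2 i hi).mono lGrp_le⟩) top_fac
    rwa [card_kGrp] at h
  · have h := card_ge kGrp_le kGrp_fix (orbit_ge topT_mem topT_images)
    rwa [card_kGrp] at h

theorem pretransitive : MulAction.IsPretransitive grp Pt := by
  have h := orbit_ge topT_mem topT_images
  have huniv : MulAction.orbit grp (0 : Pt) = Set.univ :=
    Set.eq_of_subset_of_ncard_le (Set.subset_univ _) (by simpa using h)
  refine ⟨fun x y => ?_⟩
  obtain ⟨a, rfl⟩ := huniv.symm ▸ Set.mem_univ x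
  obtain ⟨b, rfl⟩ := huniv.symm ▸ Set.mem_univ y
  exact ⟨b * a⁻¹, by rw [mul_smul, inv_smul_smul]⟩

theorem cover : (List.range 100).all (fun j => j == 0 || (images 36 kT ptP).contains j ||
    (images 63 oT ptR).contains j) = true := by decide +kernel

theorem kGrp_orbit_ge {j : Pt} (hj : j ≠ 0) : 36 ≤ (MulAction.orbit kGrp j).ncard := by
  have h := List.all_eq_true.1 cover j.val (List.mem_range.2 j.2)
  simp only [Bool.or_eq_true, beq_iff_eq, List.contains_iff_mem] at h
  have key : ∀ {n : ℕ} {T : Tr} {p : Pt}, (∀ i < n, CodeMem emb dec kGrp (T.get i)) →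
      (images n T p).Nodup → j.val ∈ images n T p → n ≤ (MulAction.orbit kGrp j).ncard := by
    intro n T p hT hnd hm
    obtain ⟨i, hi, e⟩ := List.mem_map.1 hm
    obtain ⟨g, hg, eg⟩ := hT i (List.mem_range.1 hi)
    have hjp : j ∈ MulAction.orbit kGrp p := ⟨⟨g, hg⟩, Fin.ext ((apply_eq eg p).trans e)⟩
    rw [MulAction.orbit_eq_iff.2 hjp]
    exact orbit_ge hT hnd
  rcases h with (h | h) | h
  · exact absurd (Fin.ext h) hj
  · exact key (p := ⟨ptP % 100, by decide⟩) kT_mem (by decide +kernel) h
  · have := key (p := ⟨ptR % 100, by decide⟩) oT_mem (by decide +kernel) h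
    omega

theorem pow_seven {g : Equiv.Perm Pt} {c : ℕ} (hg : emb g = dec c)
    (hc : genWord mul one [c] (List.replicate 7 0) = one) : g ^ 7 = 1 := by
  refine hemb ?_
  have h : ∀ k, emb (g ^ k) = dec (genWord mul one [c] (List.replicate k 0)) := by
    intro k
    induction k with
    | zero => rw [pow_zero, map_one]; exact hone.symm
    | succ k ih =>
      rw [pow_succ', map_mul, hg, ih, List.replicate_succ, CfsgLib.Sporadic.genWord_cons, hmul]
      rfl
  rw [h 7, hc, hone, map_one]

theorem fix_A : (List.range 100).all (fun i => (img (gens.getD 0 one) i == i) == (i == 28 || i == 50))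
    = true := by decide +kernel

theorem fixed_A (i : Pt) : genA i = i ↔ i = 28 ∨ i = 50 := by
  have h := List.all_eq_true.1 fix_A i.val (List.mem_range.2 i.2)
  rw [beq_iff_eq] at h
  rw [Fin.ext_iff, apply_eq emb_A i]
  constructor
  · intro e
    rw [beq_iff_eq.2 e] at h
    have h' := h.symm
    simp only [Bool.or_eq_true, beq_iff_eq] at h'
    exact h'.imp Fin.ext Fin.ext
  · intro e
    have : (i.val == 28 || i.val == 50) = true := by rcases e with rfl | rfl <;> rfl
    rw [this] at h
    exact beq_iff_eq.1 h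

theorem isSimple : IsSimpleGroup grp := by
  have := pretransitive
  have : Fact (Nat.Prime 7) := ⟨by norm_num⟩
  have : Fact (Nat.Prime 5) := ⟨Nat.prime_five⟩
  have : Nontrivial grp := Finite.one_lt_card_iff_nontrivial.1 (by rw [card_grp]; norm_num)
  refine ⟨fun N hN => or_iff_not_imp_left.2 fun hbot => ?_⟩
  set a : grp := ⟨genA, Subgroup.subset_closure (by simp)⟩
  set b : grp := ⟨genB, Subgroup.subset_closure (by simp)⟩
  have ha7 : a ^ 7 = 1 := Subtype.ext (pow_seven emb_A (by decide +kernel))
  have hb7 : b ^ 7 = 1 := Subtype.ext (pow_seven emb_B (by decide +kernel))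
  by_cases h7 : 7 ∣ Nat.card N
  · have h49 : ¬ 7 * 7 ∣ Nat.card grp := by rw [card_grp]; norm_num
    rw [eq_top_iff]
    rintro ⟨g, hg⟩ -
    have hle : grp ≤ N.map grp.subtype := by
      refine (Subgroup.closure_le _).2 ?_
      rintro s (rfl | rfl)
      · exact ⟨a, mem_of_pow_eq_one (by norm_num) h7 h49 ha7, rfl⟩
      · exact ⟨b, mem_of_pow_eq_one (by norm_num) h7 h49 hb7, rfl⟩
    obtain ⟨y, hy, e⟩ := hle hg
    rwa [← show y = ⟨g, hg⟩ from Subtype.ext e]
  exfalso
  -- the orbit of the first point
  obtain ⟨j, hjO, hj0⟩ : ∃ j ∈ MulAction.orbit N (0 : Pt), j ≠ 0 := by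
    by_contra hall
    push Not at hall
    refine hbot ((Subgroup.eq_bot_iff_forall N).2 fun n hn => Subtype.ext (Equiv.ext fun i => ?_))
    obtain ⟨g, rfl⟩ := MulAction.exists_smul_eq grp (0 : Pt) i
    have h1 : (g⁻¹ * n * g) • (0 : Pt) = 0 :=
      hall _ ⟨⟨_, Subgroup.Normal.conj_mem' hN n hn g⟩, rfl⟩
    show n • g • (0 : Pt) = g • (0 : Pt)
    rw [mul_smul, mul_smul, inv_smul_eq_iff] at h1
    exact h1
  have hsub : MulAction.orbit kGrp j ⊆ MulAction.orbit N (0 : Pt) := by
    rintro _ ⟨k, rfl⟩
    obtain ⟨n, rfl⟩ := hjO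
    let k' : grp := ⟨k.1, kGrp_le k.2⟩
    refine ⟨⟨k' * n * k'⁻¹, Subgroup.Normal.conj_mem hN n n.2 k'⟩, ?_⟩
    have hk : k'⁻¹ • (0 : Pt) = 0 := by
      rw [inv_smul_eq_iff]
      exact (MulAction.mem_stabilizer_iff.1 (kGrp_fix k.2)).symm
    show (k' * (n : grp) * k'⁻¹) • (0 : Pt) = k' • (n : grp) • (0 : Pt)
    rw [mul_smul, mul_smul, hk]
  have h37 : 37 ≤ (MulAction.orbit N (0 : Pt)).ncard := by
    have h0 : (0 : Pt) ∉ MulAction.orbit kGrp j := by
      rintro ⟨k, hk⟩
      refine hj0 ?_
      have h' := congrArg (fun z => k⁻¹ • z) hk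
      simp only [inv_smul_smul] at h'
      rw [h', inv_smul_eq_iff]
      exact (MulAction.mem_stabilizer_iff.1 (kGrp_fix k.2)).symm
    have h1 := Set.ncard_le_ncard (Set.insert_subset (MulAction.mem_orbit_self (0 : Pt)) hsub)
    rw [Set.ncard_insert_of_notMem h0] at h1
    have := kGrp_orbit_ge hj0
    omega
  have h100 : (MulAction.orbit N (0 : Pt)).ncard ∣ 100 := by
    have h := (MulAction.IsBlock.orbit_of_normal (G := grp) (N := N) (0 : Pt)).ncard_dvd_card
      ⟨0, MulAction.mem_orbit_self _⟩
    rwa [Nat.card_fin] at h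
  have h5 : 5 ^ 1 ∣ Nat.card N := by
    have hdvd : (MulAction.orbit N (0 : Pt)).ncard ∣ Nat.card N := by
      rw [← MulAction.index_stabilizer]
      exact Subgroup.index_dvd_card _
    refine Nat.dvd_trans ?_ hdvd
    have hmem : (MulAction.orbit N (0 : Pt)).ncard ∈ (100 : ℕ).divisors :=
      Nat.mem_divisors.2 ⟨h100, by norm_num⟩
    rw [show (100 : ℕ).divisors = {1, 2, 4, 5, 10, 20, 25, 50, 100} by decide +kernel] at hmem
    simp only [Finset.mem_insert, Finset.mem_singleton] at hmem
    rcases hmem with h | h | h | h | h | h | h | h | h <;> rw [h] at h37 ⊢ <;> omega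
  have hC := NormalizerCriterion.pow_dvd_inf_centralizer (q := 5) (e := 2) (k := 1) h7 (fun i hi => by
      by_contra h
      have := (pow_dvd_pow 5 (show 3 ≤ i by omega)).trans (hi.trans N.card_subgroup_dvd_card)
      rw [card_grp] at this
      norm_num at this) (by decide +kernel) ha7 h5
  rw [pow_one] at hC
  obtain ⟨y', hy⟩ := exists_prime_orderOf_dvd_card'
    (G := ↥(Subgroup.centralizer {a} ⊓ N)) 5 hC
  rw [← Subgroup.orderOf_coe] at hy
  set y : grp := (y' : grp)
  have hyC : y ∈ Subgroup.centralizer {a} := y'.2.1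
  have hya : y * a = a * y := Subgroup.mem_centralizer_singleton_iff.1 hyC
  have himg : ∀ i : Pt, genA i = i → genA (y • i) = y • i := by
    intro i hi
    show a • y • i = y • i
    rw [smul_smul, ← hya, mul_smul]
    exact congrArg _ hi
  have h28 : y • (28 : Pt) = 28 := by
    rcases (fixed_A _).1 (himg 28 ((fixed_A 28).2 (Or.inl rfl))) with h | h
    · exact h
    have h50 : y • (50 : Pt) = 28 := by
      rcases (fixed_A _).1 (himg 50 ((fixed_A 50).2 (Or.inr rfl))) with h' | h'
      · exact h'
      · exact absurd (smul_left_cancel y (h.trans h'.symm)) (by decide)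
    have hpow : y ^ 5 • (28 : Pt) = 28 := by rw [← hy, pow_orderOf_eq_one, one_smul]
    simp only [pow_succ, pow_zero, one_mul, mul_smul, h, h50] at hpow
    exact absurd hpow (by decide)
  have hdvd : orderOf y ∣ Nat.card (MulAction.stabilizer grp (28 : Pt)) :=
    Subgroup.orderOf_dvd_natCard _ (MulAction.mem_stabilizer_iff.2 h28)
  have hst := (MulAction.stabilizer grp (28 : Pt)).card_mul_index
  rw [MulAction.index_stabilizer, MulAction.orbit_eq_univ, Set.ncard_univ, Nat.card_fin,
    card_grp] at hst
  rw [hy] at hdvd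
  omega

theorem isJ2 : Cfsg.IsJ2 grp := ⟨isSimple, card_grp⟩

end CfsgLib.Sporadic.HallJanko
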