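import Mathlib
import Cfsg.Agent.Lib.ThreeTrans.Primitive
import Cfsg.Agent.Lib.ThreeTrans.WidthOne

/-! The rank three property of a class of 3-transpositions with simple derived subgroup. -/

namespace CfsgLib.Sporadic.RankThree

open CfsgLib.ThreeTrans
open CfsgLib.ThreeTrans.ClassTwo (orb orb_self orb_mono orb_trans orb_image cD)
open scoped commutatorElement

variable {G : Type*} [Group G] {D : Set G}

/-- A pair is carried to another by conjugation. -/
def PairConj (x y x' y' : G) : Prop := ∃ g : G, g * x * g⁻¹ = x' ∧ g * y * g⁻¹ = y'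

theorem PairConj.refl (x y : G) : PairConj x y x y := ⟨1, by simp, by simp⟩

theorem PairConj.symm {x y x' y' : G} (h : PairConj x y x' y') : PairConj x' y' x y := by
  obtain ⟨g, rfl, rfl⟩ := h
  exact ⟨g⁻¹, by group, by group⟩

theorem PairConj.trans {x y x' y' x'' y'' : G} (h : PairConj x y x' y')
    (k : PairConj x' y' x'' y'') : PairConj x y x'' y'' := by
  obtain ⟨g, rfl, rfl⟩ := h
  obtain ⟨k, rfl, rfl⟩ := k
  exact ⟨k * g, by group, by group⟩

theorem PairConj.exists_commute {a c c' : G} (h : PairConj a c a c') :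
    ∃ g : G, Commute g a ∧ g * c * g⁻¹ = c' := by
  obtain ⟨g, h1, h2⟩ := h
  exact ⟨g, mul_inv_eq_iff_eq_mul.1 h1, h2⟩

section
variable (hs : Cfsg.IsThreeTranspositionSet D)
include hs

theorem conj_braid {o e : G} (ho : o ∈ D) (he : e ∈ D) (h : ¬ Commute o e) :
    o * e * o * (o * e)⁻¹ = e := by
  have b := braid hs ho he h
  rw [mul_inv_rev, inv_eq hs ho, inv_eq hs he]
  calc o * e * o * (e * o) = o * (e * o * e) * o := by simp [mul_assoc]
    _ = e := by rw [← b]; simp [mul_assoc, mul_self hs ho, mul_self_mul hs ho]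

theorem pairConj_swap {a c : G} (ha : a ∈ D) (hc : c ∈ D) (h : ¬ Commute a c) :
    PairConj a c c a := by
  have b := braid hs ha hc h
  have sa := mul_self hs ha
  have sc := mul_self hs hc
  refine ⟨a * c * a, ?_, ?_⟩
  · simp only [mul_inv_rev, inv_eq hs ha, inv_eq hs hc]
    calc a * c * a * a * (a * (c * a)) = a * (c * a * c) * a := by
          simp [mul_assoc, sa]
      _ = c := by rw [← b]; simp [mul_assoc, sa, mul_self_mul hs ha]
  · rw [b]
    simp only [mul_inv_rev, inv_eq hs ha, inv_eq hs hc]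
    calc c * a * c * c * (c * (a * c)) = c * (a * c * a) * c := by
          simp [mul_assoc, sc]
      _ = a := by rw [b]; simp [mul_assoc, sc, mul_self_mul hs hc]

theorem pairConj_move {a c c' : G} (ha : a ∈ D) (hc : c ∈ D) (hc' : c' ∈ D)
    (h : ¬ Commute a c) (h' : ¬ Commute a c') (hcc : Commute c c') :
    PairConj a c a c' := by
  have b1 := braid hs ha hc h
  have b2 := braid hs ha hc' h'
  have sa := mul_self hs ha
  have sc := mul_self hs hc
  have sc' := mul_self hs hc'
  set b := c' * c * a * c * c' with hb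
  have hb' : b = c' * (a * c * a) * c' := by rw [hb, b1]; simp [mul_assoc]
  have hab : a * b = b * a := by
    calc a * b = (a * c' * a) * c * (a * c') := by rw [hb']; simp [mul_assoc]
      _ = c' * a * (c' * c) * (a * c') := by rw [b2]; simp [mul_assoc]
      _ = c' * a * c * (c' * a * c') := by rw [← hcc.eq]; simp [mul_assoc]
      _ = c' * (a * c * a) * c' * a := by rw [← b2]; simp [mul_assoc]
      _ = b * a := by rw [hb']
  have hbcb : b * c * b = c' * a * c' := by
    have e1 : c * c' * c * c' * c = c := by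
      have e : c * c' * c = c' := by rw [hcc.eq, mul_assoc, sc, mul_one]
      rw [e, sc', one_mul]
    calc b * c * b = c' * c * a * (c * c' * c * c' * c) * a * c * c' := by
          rw [hb]; simp [mul_assoc]
      _ = c' * c * (a * c * a) * c * c' := by rw [e1]; simp [mul_assoc]
      _ = c' * a * c' := by
        rw [b1]; simp [mul_assoc, sc, mul_self_mul hs hc]
  have hbinv : b⁻¹ = b := by
    rw [hb]; simp [mul_inv_rev, inv_eq hs ha, inv_eq hs hc, inv_eq hs hc', mul_assoc]
  refine ⟨a * b, ?_, ?_⟩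
  · rw [mul_inv_eq_iff_eq_mul]
    calc a * b * a = a * (b * a) := mul_assoc _ _ _
      _ = a * (a * b) := by rw [hab]
  · rw [mul_inv_rev, hbinv, inv_eq hs ha]
    calc a * b * c * (b * a) = a * (b * c * b) * a := by simp [mul_assoc]
      _ = a * (c' * a * c') * a := by rw [hbcb]
      _ = c' := by rw [← b2]; simp [mul_assoc, sa, mul_self_mul hs ha]

/-- The cut lemma. -/
theorem pairConj_cut {a c y z : G} (ha : a ∈ D) (hc : c ∈ D) (hy : y ∈ D) (hz : z ∈ D)
    (hac : ¬ Commute a c) (hay : Commute a y) (hyz : ¬ Commute y z) (hcz : Commute c z)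
    (hcy : ¬ Commute c y) : PairConj a c y z :=
  (pairConj_swap hs ha hc hac).trans <|
    (pairConj_move hs hc ha hy (fun k => hac k.symm) hcy hay).trans <|
      (pairConj_swap hs hc hy hcy).trans
        (pairConj_move hs hy hc hz (fun k => hcy k.symm) hyz hcz)

end

section Finite
variable [Finite G]

theorem two_of_nonabelian (hD : Cfsg.IsThreeTranspositionClass D)
    (hnonab : ∃ x y : commutator G, x * y ≠ y * x) : ∃ a ∈ D, ∃ b ∈ D, a ≠ b := by
  by_contra! h
  obtain ⟨x, y, hxy⟩ := hnonab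
  refine hxy (Subtype.ext ?_)
  have hc := Subgroup.isMulCommutative_closure (k := D) fun u hu v hv => by rw [h u hu v hv]
  rw [hD.2.2] at hc
  have := congrArg Subtype.val
    (hc.is_comm.comm ⟨(x : G), Subgroup.mem_top _⟩ ⟨(y : G), Subgroup.mem_top _⟩)
  simpa using this

variable (hD : ClassTwo D)
include hD

theorem exists_commute_ne (hsimple : IsSimpleGroup (commutator G))
    (hnonab : ∃ x y : commutator G, x * y ≠ y * x) :
    ∃ a ∈ D, ∃ b ∈ D, a ≠ b ∧ Commute a b := by
  by_contra! h
  haveI : Fact (Nat.Prime 3) := ⟨Nat.prime_three⟩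
  haveI := hsimple
  have hs := hD.closed.set
  have hbr : WidthOne.Braided D :=
    { sq := fun x hx => mul_self hs hx
      braid := fun x hx y hy => by
        rcases eq_or_ne x y with rfl | hne
        · rfl
        · exact braid hs hx hy (h x hx y hy hne)
      closed := fun x hx y hy => conj_mem_left hD.closed hx hy }
  have hP := WidthOne.isPGroup_products hbr
  set N := Subgroup.closure {z : G | ∃ x ∈ D, ∃ y ∈ D, z = x * y} with hN
  have hle : commutator G ≤ N := by
    have hn : N.Normal := ⟨fun n hn g => by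
      rw [hN] at hn ⊢
      induction hn using Subgroup.closure_induction with
      | mem z hz =>
        obtain ⟨x, hx, y, hy, rfl⟩ := hz
        exact Subgroup.subset_closure
          ⟨_, hD.closed.conj g x hx, _, hD.closed.conj g y hy, by group⟩
      | one => simp
      | mul a b _ _ iha ihb => simpa [mul_assoc] using mul_mem iha ihb
      | inv a _ ih => simpa [mul_assoc] using inv_mem ih⟩
    have hcomm : ∀ p q : G ⧸ N, p * q = q * p := by
      have hgen : Subgroup.closure (QuotientGroup.mk' N '' D) = ⊤ := by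
        rw [← MonoidHom.map_closure, hD.gen,
          Subgroup.map_top_of_surjective _ (QuotientGroup.mk'_surjective N)]
      have hc := Subgroup.isMulCommutative_closure (k := QuotientGroup.mk' N '' D) (by
        rintro _ ⟨x, hx, rfl⟩ _ ⟨y, hy, rfl⟩
        have : (x : G ⧸ N) = y := by
          rw [QuotientGroup.eq, inv_eq hs hx]
          exact Subgroup.subset_closure ⟨x, hx, y, hy, rfl⟩
        simp [this])
      rw [hgen] at hc
      exact fun p q => congrArg Subtype.val
        (hc.is_comm.comm ⟨p, Subgroup.mem_top _⟩ ⟨q, Subgroup.mem_top _⟩)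
    rw [commutator_def, Subgroup.commutator_le]
    intro g _ k _
    rw [← QuotientGroup.eq_one_iff, ← QuotientGroup.mk'_apply, map_commutatorElement,
      commutatorElement_eq_one_iff_mul_comm]
    exact hcomm _ _
  obtain ⟨x, y, hxy⟩ := hnonab
  refine hxy ((IsSimpleGroup.comm_iff_isSolvable.2 ?_) x y)
  haveI := (hP.to_le hle).isNilpotent
  infer_instance

theorem primitive_of_simple (hsimple : IsSimpleGroup (commutator G))
    (hnonab : ∃ x y : commutator G, x * y ≠ y * x) :
    Cfsg.IsPrimitiveUnderConj D := by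
  have hs := hD.closed.set
  haveI := hsimple
  have hcoset : ∀ a ∈ D, ∀ b ∈ D, a⁻¹ * b ∈ commutator G := by
    intro a ha b hb
    obtain ⟨g, rfl⟩ := hD.class_eq a ha b hb
    have h := Subgroup.commutator_mem_commutator (Subgroup.mem_top a⁻¹) (Subgroup.mem_top g)
    rw [commutatorElement_def] at h
    simpa [commutator_def, mul_assoc] using h
  have hnc : ¬ ∀ x y : commutator G, x * y = y * x := fun h => by
    obtain ⟨x, y, hxy⟩ := hnonab
    exact hxy (h x y)
  have hnsolv : ¬ Group.IsSolvable (commutator G) :=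
    fun h => hnc (IsSimpleGroup.comm_iff_isSolvable.2 h)
  have hcore : ∀ p, p.Prime → Cfsg.pCore p G ≤ Subgroup.center G := by
    intro p hp
    haveI := Fact.mk hp
    have hN : ((Cfsg.pCore p G).subgroupOf (commutator G)).Normal := inferInstance
    rcases hN.eq_bot_or_eq_top with h | h
    · intro x hx
      refine mem_center_of_commute hD.gen fun d _ => ?_
      have hm : ⁅x, d⁆ ∈ Cfsg.pCore p G ⊓ commutator G :=
        ⟨(Subgroup.commutator_le_left _ _)
            (Subgroup.commutator_mem_commutator hx (Subgroup.mem_top d)),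
          Subgroup.commutator_mem_commutator (Subgroup.mem_top x) (Subgroup.mem_top d)⟩
      rw [Subgroup.subgroupOf_eq_bot, disjoint_iff] at h
      rw [h, Subgroup.mem_bot, commutatorElement_eq_one_iff_mul_comm] at hm
      exact hm
    · exfalso
      apply hnsolv
      rw [Subgroup.subgroupOf_eq_top] at h
      haveI := ((CfsgLib.PCore.pCore_isPGroup (p := p) (G := G)).to_le h).isNilpotent
      infer_instance
  have hcomp : Cfsg.IsComponent (commutator G) := by
    refine ⟨(inferInstance : (commutator G).Normal).isSubnormal, ?_⟩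
    refine CfsgLib.Components.isQuasisimple_of_normal ?_ fun N hN hne => ?_
    · refine (inferInstance : (_root_.commutator (commutator G)).Normal).eq_bot_or_eq_top.resolve_left ?_
      intro h
      apply hnc
      intro x y
      have := Subgroup.commutator_mem_commutator (Subgroup.mem_top x) (Subgroup.mem_top y)
      rw [← commutator_def, h, Subgroup.mem_bot, commutatorElement_eq_one_iff_mul_comm] at this
      exact this
    · exact (hN.eq_bot_or_eq_top.resolve_right hne) ▸ bot_le
  obtain ⟨a, ha, -⟩ := hD.two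
  exact hD.primitive_of_index_le_two (hcore 2 Nat.prime_two) (hcore 3 Nat.prime_three) hcomp
    (hD.index_le_two ha fun b hb => hcoset a ha b hb)

omit [Finite G] in
theorem cD_conj (g x : G) : cD D (g * x * g⁻¹) = (fun y => g * y * g⁻¹) '' cD D x :=
  conj_set_eq hD.closed g (fun a y => Commute a y) (fun a b => commute_conj_iff g a b) x

omit hD [Finite G] in
theorem closure_cD_le (a : G) : Subgroup.closure (cD D a) ≤ Subgroup.centralizer ({a} : Set G) := by
  rw [Subgroup.closure_le]
  intro x hx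
  rw [SetLike.mem_coe, Subgroup.mem_centralizer_singleton_iff]
  exact hx.2.eq.symm

omit hD [Finite G] in
theorem commute_of_mem_closure_cD {a h : G} (hh : h ∈ Subgroup.closure (cD D a)) : Commute h a :=
  Subgroup.mem_centralizer_singleton_iff.1 (closure_cD_le a hh)

omit hD in
/-- Invariance of a set of elements under a set of conjugations spreads to the closure. -/
theorem closure_preserves {S P : Set G} (h : ∀ y ∈ S, ∀ w ∈ P, y * w * y⁻¹ ∈ P) {g : G}
    (hg : g ∈ Subgroup.closure S) : ∀ w ∈ P, g * w * g⁻¹ ∈ P := by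
  rw [← Subgroup.mem_toSubmonoid, Subgroup.closure_toSubmonoid_of_finite] at hg
  induction hg using Submonoid.closure_induction with
  | mem a ha => exact h a ha
  | one => simp
  | mul a b _ _ iha ihb =>
    intro w hw
    simpa [mul_assoc] using iha _ (ihb w hw)

variable (hprim : Cfsg.IsPrimitiveUnderConj D) (hw : ∃ a ∈ D, ∃ b ∈ D, a ≠ b ∧ Commute a b)
include hprim hw

/-- One orbit of `closure (cD D a)` fills the other members commuting with `a`, and is
generated by itself. -/
theorem exists_full_orbit {a : G} (ha : a ∈ D) :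
    ∃ p ∈ cD D a, p ≠ a ∧ orb (cD D a) p = {b | b ∈ D ∧ b ≠ a ∧ Commute a b} ∧
      orb (cD D a) p ⊆ orb (orb (cD D a) p) p := by
  classical
  have hs := hD.closed.set
  have hc := hD.closed
  obtain ⟨a₀, ha₀, b₀, hb₀, hne₀, hcom₀⟩ := hw
  have hw' : ∃ a ∈ D, ∃ b ∈ D, a ≠ b ∧ Commute a b := ⟨a₀, ha₀, b₀, hb₀, hne₀, hcom₀⟩
  have hne : ({b | b ∈ D ∧ b ≠ a ∧ Commute a b} : Set G).Nonempty := by
    obtain ⟨g, rfl⟩ := hD.class_eq a₀ ha₀ a ha
    exact ⟨g * b₀ * g⁻¹, hc.conj g b₀ hb₀,
      fun k => hne₀ (mul_left_cancel (mul_right_cancel k)).symm,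
      (commute_conj_iff g a₀ b₀).2 hcom₀⟩
  obtain ⟨p, ⟨hpD, hpa, hap⟩, hmax⟩ := Set.exists_max_image _
    (fun x => (orb (cD D a) x).ncard) (Set.toFinite _) hne
  set P := orb (cD D a) p with hP
  have hPD : ∀ o ∈ P, o ∈ D ∧ o ≠ a ∧ Commute a o := by
    rintro _ ⟨h, hh, rfl⟩
    have hha : h * a * h⁻¹ = a := by
      rw [(commute_of_mem_closure_cD hh).eq, mul_inv_cancel_right]
    refine ⟨hc.conj h p hpD, fun k => hpa ?_, ?_⟩
    · rw [← hha] at k
      exact mul_left_cancel (mul_right_cancel k)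
    · rw [← hha]
      exact (commute_conj_iff h a p).2 hap
  have hPcD : P ⊆ cD D a := fun o ho => ⟨(hPD o ho).1, (hPD o ho).2.2⟩
  have hout : ∀ o ∈ P, ∀ e ∈ cD D a, e ∉ P → Commute o e := by
    intro o ho e he heP
    by_contra hoe
    apply heP
    have := orb_trans ho (mul_mem (Subgroup.subset_closure (hPcD ho)) (Subgroup.subset_closure he))
    rwa [conj_braid hs (hPcD ho).1 he.1 hoe] at this
  have hPP : P ⊆ orb P p := by
    have hsub : orb P p ⊆ P := by
      rintro _ ⟨h, hh, rfl⟩
      exact ⟨h, Subgroup.closure_mono hPcD hh, rfl⟩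
    have key : ∀ y ∈ cD D a, ∀ w ∈ orb P p, y * w * y⁻¹ ∈ orb P p := by
      intro y hy w hw
      by_cases hyP : y ∈ P
      · exact orb_trans hw (Subgroup.subset_closure hyP)
      · rw [← (hout w (hsub hw) y hy hyP).eq, mul_inv_cancel_right]
        exact hw
    rintro _ ⟨h, hh, rfl⟩
    exact closure_preserves key hh p (orb_self P p)
  refine ⟨p, ⟨hpD, hap⟩, hpa, Set.Subset.antisymm (fun o ho => hPD o ho) ?_, hPP⟩
  rintro b ⟨hb, hba, hab⟩
  by_contra hbP
  have hPb : P ⊆ cD D b := fun o ho => ⟨(hPD o ho).1, (hout o ho b ⟨hb, hab⟩ hbP).symm⟩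
  obtain ⟨g, hg⟩ := hD.class_eq a ha b hb
  have hφ : Function.Injective fun y : G => g * y * g⁻¹ :=
    fun u v k => mul_left_cancel (mul_right_cancel k)
  have hcb : cD D b = (fun y => g * y * g⁻¹) '' cD D a := by rw [← cD_conj hD, hg]
  obtain ⟨x, hx, hxp⟩ : p ∈ (fun y => g * y * g⁻¹) '' cD D a := hcb ▸ hPb (orb_self _ p)
  have hxa : x ≠ a := by
    rintro rfl
    exact hbP (show b ∈ P by rw [← hg, show g * x * g⁻¹ = p from hxp]; exact orb_self _ p)
  have hU : orb (cD D b) p = (fun y => g * y * g⁻¹) '' orb (cD D a) x := by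
    rw [hcb, ← orb_image, show g * x * g⁻¹ = p from hxp]
  have hUP : P = orb (cD D b) p := by
    refine Set.eq_of_subset_of_ncard_le (hPP.trans (orb_mono hPb p)) ?_ (Set.toFinite _)
    rw [hU, Set.ncard_image_of_injective _ hφ]
    exact hmax x ⟨hx.1, hxa, hx.2⟩
  set S := cD D a ∪ cD D b with hS
  have hSP : ∀ y ∈ S, ∀ w ∈ P, y * w * y⁻¹ ∈ P := by
    rintro y (hy | hy) w hw
    · exact orb_trans hw (Subgroup.subset_closure hy)
    · rw [hUP] at hw ⊢
      exact orb_trans hw (Subgroup.subset_closure hy)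
  have htop : Subgroup.closure S ≠ ⊤ := by
    intro ht
    obtain ⟨k, hk⟩ := hD.class_eq p hpD a ha
    have := closure_preserves hSP (ht ▸ Subgroup.mem_top k) p (orb_self _ p)
    rw [hk] at this
    exact (hPD a this).2.1 rfl
  set X := {x | x ∈ D ∧ x ∈ Subgroup.closure S} with hX
  have hXS : Subgroup.closure X ≤ Subgroup.closure S := (Subgroup.closure_le _).2 fun x hx => hx.2
  have hsub : X ⊆ cD D a := hD.maximal_dSubgroup hprim hw' ha (fun x hx => hx.1)
    (fun k => htop (top_unique (k ▸ hXS))) (fun x hx hx' => ⟨hx, hXS hx'⟩)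
    (fun x hx => ⟨hx.1, Subgroup.subset_closure (Or.inl hx)⟩)
  have hba' : cD D b = cD D a := by
    refine Set.eq_of_subset_of_ncard_le
      (fun x hx => hsub ⟨hx.1, Subgroup.subset_closure (Or.inr hx)⟩) ?_ (Set.toFinite _)
    rw [hcb, Set.ncard_image_of_injective _ hφ]
  refine hba (hD.vRel_eq_self (hD.cores_of_primitive hprim hw').1 ⟨ha, hb, fun e he => ?_⟩)
  have := Set.ext_iff.1 hba' e
  simpa [cD, he] using this

theorem perp_transitive {a b b' : G} (ha : a ∈ D) (hb : b ∈ D) (hb' : b' ∈ D) (hba : b ≠ a)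
    (hba' : b' ≠ a) (hab : Commute a b) (hab' : Commute a b') :
    ∃ g : G, Commute g a ∧ g * b * g⁻¹ = b' := by
  obtain ⟨p, -, -, hP, -⟩ := exists_full_orbit hD hprim hw ha
  obtain ⟨h, hh, e⟩ : b ∈ orb (cD D a) p := by rw [hP]; exact ⟨hb, hba, hab⟩
  obtain ⟨k, hk, e'⟩ : b' ∈ orb (cD D a) p := by rw [hP]; exact ⟨hb', hba', hab'⟩
  exact ⟨k * h⁻¹, commute_of_mem_closure_cD (mul_mem hk (inv_mem hh)), by rw [e, e']; group⟩

theorem exists_common {a c : G} (ha : a ∈ D) (hc : c ∈ D) (hac : ¬ Commute a c) :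
    ∃ b ∈ D, b ≠ a ∧ Commute a b ∧ Commute c b := by
  by_contra! hno
  have hs := hD.closed.set
  let T : Set D := {x | ¬ Commute a (x : G) ∧ ∃ g : G, Commute g a ∧ g * c * g⁻¹ = (x : G)}
  obtain ⟨w⟩ := (hD.connected_of_primitive hprim hw).preconnected ⟨c, hc⟩ ⟨a, ha⟩
  obtain ⟨dart, -, hx, hy⟩ := w.exists_boundary_dart T
    ⟨hac, 1, Commute.one_left a, by simp⟩ fun k => k.1 (Commute.refl a)
  have hadj := (SimpleGraph.fromRel_adj _ _ _).1 dart.adj
  set x := dart.fst with hx'
  set y := dart.snd with hy'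
  have hxy : Commute (x : G) y := hadj.2.elim id fun k => k.symm
  obtain ⟨hax, g, hga, hgx⟩ := hx
  by_cases hay : Commute a (y : G)
  · have hga' : g * a * g⁻¹ = a := by rw [hga.eq, mul_inv_cancel_right]
    have hya : (y : G) ≠ a := fun k => hax (k ▸ hxy).symm
    have e : g * (g⁻¹ * y * g) * g⁻¹ = y := by group
    refine hno (g⁻¹ * y * g) (hD.closed.conj' g y.2) (fun k => hya ?_) ?_ ?_
    · rw [← e, k, hga']
    · rw [← commute_conj_iff g, e, hga']
      exact hay
    · rw [← commute_conj_iff g, e, hgx]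
      exact hxy
  · obtain ⟨k, hka, hkx⟩ := (pairConj_move hs ha x.2 y.2 hax hay hxy).exists_commute
    exact hy ⟨hay, k * g, hka.mul_left hga, by rw [← hkx, ← hgx]; group⟩

theorem exists_crossing {a c : G} (ha : a ∈ D) (hc : c ∈ D) (hac : ¬ Commute a c) :
    ∃ b ∈ D, ∃ y ∈ D, b ≠ a ∧ y ≠ a ∧ Commute a b ∧ Commute a y ∧ ¬ Commute b y ∧
      Commute c b ∧ ¬ Commute c y := by
  have hs := hD.closed.set
  obtain ⟨p, -, -, hP, hPP⟩ := exists_full_orbit hD hprim hw ha
  obtain ⟨b₁, hb₁, hb₁a, hab₁, hcb₁⟩ := exists_common hD hprim hw ha hc hac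
  by_contra! hno
  have hall : ∀ w, w ∈ D → w ≠ a → Commute a w → Commute c w := by
    set I := {w | w ∈ D ∧ w ≠ a ∧ Commute a w ∧ Commute c w} with hI
    have key : ∀ y ∈ orb (cD D a) p, ∀ w ∈ I, y * w * y⁻¹ ∈ I := by
      intro y hy w hwI
      rw [hP] at hy
      obtain ⟨hwD, hwa, haw, hcw⟩ := hwI
      obtain ⟨hyD, hya, hay⟩ := hy
      by_cases hcy : Commute c y
      · refine ⟨hD.closed.conj y w hwD, fun k => hwa ?_, ?_, ?_⟩
        · have e : y * a * y⁻¹ = a := by rw [← hay.eq, mul_inv_cancel_right]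
          rw [← e] at k
          exact mul_left_cancel (mul_right_cancel k)
        · exact (hay.mul_right haw).mul_right hay.inv_right
        · exact (hcy.mul_right hcw).mul_right hcy.inv_right
      · by_cases hwy : Commute w y
        · rw [← hwy.eq, mul_inv_cancel_right]
          exact ⟨hwD, hwa, haw, hcw⟩
        · exact absurd (hno w hwD y hyD hwa hya haw hay hwy hcw) hcy
    intro w hwD hwa haw
    have hb₁P : b₁ ∈ orb (cD D a) p := by rw [hP]; exact ⟨hb₁, hb₁a, hab₁⟩
    have hwP : w ∈ orb (cD D a) p := by rw [hP]; exact ⟨hwD, hwa, haw⟩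
    obtain ⟨h, hh, e⟩ := hPP hb₁P
    obtain ⟨k, hk, e'⟩ := hPP hwP
    have := closure_preserves key (mul_mem hk (inv_mem hh)) b₁ ⟨hb₁, hb₁a, hab₁, hcb₁⟩
    have e'' : k * h⁻¹ * b₁ * (k * h⁻¹)⁻¹ = w := by rw [e, e']; group
    rw [e''] at this
    exact this.2.2.2
  obtain ⟨g, hg⟩ := hD.class_eq a ha c hc
  have hca : c ≠ a := fun k => hac (k ▸ Commute.refl a)
  have hset : ∀ x, {y : G | y ∈ D ∧ y ≠ g * x * g⁻¹ ∧ Commute (g * x * g⁻¹) y} =
      (fun y => g * y * g⁻¹) '' {y : G | y ∈ D ∧ y ≠ x ∧ Commute x y} := fun x =>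
    conj_set_eq hD.closed g (fun a y => y ≠ a ∧ Commute a y)
      (fun a b => by rw [commute_conj_iff]; simp) x
  have hW : WRel D a c := by
    refine ⟨ha, hc, Set.eq_of_subset_of_ncard_le ?_ ?_ (Set.toFinite _)⟩
    · rintro y ⟨hy, hya, hay⟩
      exact ⟨hy, fun k => hac (k ▸ hay), hall y hy hya hay⟩
    · rw [← hg, hset, Set.ncard_image_of_injective _
        fun u v k => mul_left_cancel (mul_right_cancel k)]
  exact hca (hD.wRel_eq_self (hD.cores_of_primitive hprim hw).2 hW)

theorem far_transitive {a c c' : G} (ha : a ∈ D) (hc : c ∈ D) (hc' : c' ∈ D)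
    (hac : ¬ Commute a c) (hac' : ¬ Commute a c') :
    ∃ g : G, Commute g a ∧ g * c * g⁻¹ = c' := by
  have hs := hD.closed.set
  suffices h : PairConj a c a c' from h.exists_commute
  obtain ⟨b, hb, y, hy, hba, hya, hab, hay, hby, hcb, hcy⟩ := exists_crossing hD hprim hw ha hc hac
  obtain ⟨b', hb', z₀, hz₀, hba', hza, hab', haz₀, hbz₀, hcb', hcz₀⟩ :=
    exists_crossing hD hprim hw ha hc' hac'
  obtain ⟨g, hga, hgb⟩ := perp_transitive hD hprim hw ha hb' hb hba' hba hab' hab
  have hga' : g * a * g⁻¹ = a := by rw [hga.eq, mul_inv_cancel_right]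
  set c₁ := g * c' * g⁻¹ with hc₁'
  set z := g * z₀ * g⁻¹ with hz'
  refine PairConj.trans (x' := a) (y' := c₁) ?_ (PairConj.symm ⟨g, hga', hc₁'.symm⟩)
  have hc₁ : c₁ ∈ D := hD.closed.conj g c' hc'
  have hz : z ∈ D := hD.closed.conj g z₀ hz₀
  have hac₁ : ¬ Commute a c₁ := by rw [hc₁', ← hga', commute_conj_iff]; exact hac'
  have haz : Commute a z := by rw [hz', ← hga', commute_conj_iff]; exact haz₀
  have hbz : ¬ Commute b z := by rw [hz', ← hgb, commute_conj_iff]; exact hbz₀
  have hc₁b : Commute c₁ b := by rw [hc₁', ← hgb, commute_conj_iff]; exact hcb'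
  have hc₁z : ¬ Commute c₁ z := by rw [hc₁', hz', commute_conj_iff]; exact hcz₀
  have hyb : ¬ Commute y b := fun k => hby k.symm
  have hzb : ¬ Commute z b := fun k => hbz k.symm
  by_cases hcz : Commute c z
  · by_cases hc₁y : Commute c₁ y
    · by_cases hyz : Commute y z
      · refine (pairConj_cut hs ha hc hy hb hac hay hyb hcb hcy).trans ?_
        refine PairConj.trans ?_ (pairConj_cut hs ha hc₁ hz hb hac₁ haz hzb hc₁b hc₁z).symm
        exact ((pairConj_swap hs hy hb hyb).trans (pairConj_move hs hb hy hz hby hbz hyz)).trans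
          (pairConj_swap hs hb hz hbz)
      · refine (pairConj_cut hs ha hc hy hz hac hay hyz hcz hcy).trans ?_
        refine PairConj.trans (pairConj_swap hs hy hz hyz) ?_
        exact (pairConj_cut hs ha hc₁ hz hy hac₁ haz (fun k => hyz k.symm) hc₁y hc₁z).symm
    · exact (pairConj_cut hs ha hc hy hb hac hay hyb hcb hcy).trans
        (pairConj_cut hs ha hc₁ hy hb hac₁ hay hyb hc₁b hc₁y).symm
  · exact (pairConj_cut hs ha hc hz hb hac haz hzb hcb hcz).trans
      (pairConj_cut hs ha hc₁ hz hb hac₁ haz hzb hc₁b hc₁z).symm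

end Finite

/-- Fischer's rank three property. -/
theorem rank_three [Finite G] (hD : Cfsg.IsThreeTranspositionClass D)
    (hsimple : IsSimpleGroup (commutator G)) (hnonab : ∃ x y : commutator G, x * y ≠ y * x)
    {a : G} (ha : a ∈ D) :
    (∃ b ∈ D, b ≠ a ∧ Commute a b) ∧ (∃ c ∈ D, ¬ Commute a c) ∧
      (∀ b ∈ D, ∀ b' ∈ D, b ≠ a → b' ≠ a → Commute a b → Commute a b' →
        ∃ g : G, Commute g a ∧ g * b * g⁻¹ = b') ∧
      (∀ c ∈ D, ∀ c' ∈ D, ¬ Commute a c → ¬ Commute a c' →
        ∃ g : G, Commute g a ∧ g * c * g⁻¹ = c') := by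
  have hC := classTwo_of hD (two_of_nonabelian hD hnonab)
  have hw := exists_commute_ne hC hsimple hnonab
  have hprim := primitive_of_simple hC hsimple hnonab
  refine ⟨?_, exists_not_commute hC.gen hC.closed hC.class_eq hC.two ha,
    fun b hb b' hb' h1 h2 h3 h4 => perp_transitive hC hprim hw ha hb hb' h1 h2 h3 h4,
    fun c hc c' hc' h1 h2 => far_transitive hC hprim hw ha hc hc' h1 h2⟩
  obtain ⟨p, hp, hpa, -, -⟩ := exists_full_orbit hC hprim hw ha
  exact ⟨p, hp.1, hpa, hp.2⟩

end CfsgLib.Sporadic.RankThree
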