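import Cfsg.Agent.Lib.Sporadic.CoOneInvolution
import Cfsg.Agent.Lib.POmega.Simple
import Cfsg.Agent.Lib.Components.FStar
import Cfsg.Agent.Lib.Golay.M24Group

/-! An involution of Co1 with centraliser `2^(1+8) Ω⁺8(2)`. -/

set_option autoImplicit false
set_option maxRecDepth 20000

noncomputable section

namespace CfsgLib.Sporadic.CoOne

open Cfsg CfsgLib.Golay CfsgLib.Golay.LeechOrbit CfsgLib.MonsterType CfsgLib.Sporadic.CoTwo
open scoped Pointwise Matrix

/-- The projection onto Co1. -/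
def toCoOne : Co0 →* Spor.Co1 := QuotientGroup.mk' (Subgroup.center Co0)

theorem toCoOne_eq_one_iff {γ : Co0} : toCoOne γ = 1 ↔ γ = 1 ∨ γ = negW := by
  rw [toCoOne, QuotientGroup.mk'_apply, QuotientGroup.eq_one_iff]
  refine ⟨center_cases, ?_⟩
  rintro (rfl | rfl)
  · exact one_mem _
  · exact negW_mem_center

theorem toCoOne_negW : toCoOne negW = 1 := toCoOne_eq_one_iff.mpr (Or.inr rfl)

theorem toCoOne_eq_iff {γ δ : Co0} : toCoOne γ = toCoOne δ ↔ γ = δ ∨ γ = negW * δ := by
  rw [← mul_inv_eq_one, ← map_inv, ← map_mul, toCoOne_eq_one_iff, mul_inv_eq_one, mul_inv_eq_iff_eq_mul]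

/-- The involution of Co1. -/
def zOne : Spor.Co1 := toCoOne tZero

theorem tZero_eq : tZero = sgnW outWord := rfl

theorem negW_eq : negW = sgnW ⟨1, one_mem_golay⟩ := rfl

theorem sgnW_ne {c d : golayCode} (p : GolayPt) (h : c.1 p ≠ d.1 p) : sgnW c ≠ sgnW d := fun e =>
  h (by rw [sgnW_inj e])

theorem orderOf_zOne : orderOf zOne = 2 := by
  refine orderOf_eq_prime ?_ fun e => ?_
  · rw [pow_two, zOne, ← map_mul, tZero_mul_self, map_one]
  · rcases toCoOne_eq_one_iff.mp e with h | h
    · exact tZero_ne_one h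
    · refine sgnW_ne none ?_ h
      decide +kernel

/-- The centraliser of the involution of Co1. -/
abbrev cBig : Subgroup Spor.Co1 := Subgroup.centralizer ({zOne} : Set Spor.Co1)

theorem trace_sgnW (c : golayCode) :
    Matrix.trace (LeechEight.mat (sgnW c)) = ∑ i : GolayPt, if c.1 i = 0 then (1 : ZMod 13) else -1 := by
  rw [Matrix.trace]
  refine Finset.sum_congr rfl fun i _ => ?_
  rw [Matrix.diag, LeechEight.mat, Matrix.of_apply, LeechEight.red]
  have h : ((LeechEight.addHom (sgnW c) (LeechEight.latE i) : leechLattice) : GolayPt → ℤ) i =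
      if c.1 i = 0 then 8 else -8 := by
    show ((sgnW c • LeechEight.latE i : leechLattice) : GolayPt → ℤ) i = _
    rw [sgnW_apply, latE_apply]
    split_ifs <;> simp_all
  rw [h]
  split_ifs <;> decide

/-- The involution is not conjugate to its negative. -/
theorem not_conj_neg (γ : Co0) : γ * tZero * γ⁻¹ ≠ negW * tZero := by
  intro h
  have h1 := congrArg (fun δ => Matrix.trace (LeechEight.mat δ)) h
  simp only [LeechEight.mat_mul] at h1
  rw [Matrix.trace_mul_cycle, ← LeechEight.mat_mul, inv_mul_cancel, LeechEight.mat_one, one_mul,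
    ← LeechEight.mat_mul, negW_eq, tZero_eq, ← sgnW_add, trace_sgnW, trace_sgnW] at h1
  revert h1
  decide +kernel

theorem mem_cBig (γ : cOne) : toCoOne γ.1 ∈ cBig := by
  rw [Subgroup.mem_centralizer_singleton_iff, zOne, ← map_mul, ← map_mul, mem_cOne.mp γ.2]

/-- The map onto the centraliser. -/
def phi : cOne →* cBig := (toCoOne.comp cOne.subtype).codRestrict cBig mem_cBig

theorem phi_coe (γ : cOne) : (phi γ : Spor.Co1) = toCoOne γ.1 := rfl

theorem phi_surjective : Function.Surjective phi := by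
  rintro ⟨x, hx⟩
  obtain ⟨γ, rfl⟩ := QuotientGroup.mk'_surjective (Subgroup.center Co0) x
  have h := Subgroup.mem_centralizer_singleton_iff.mp hx
  change toCoOne γ * toCoOne tZero = toCoOne tZero * toCoOne γ at h
  rw [← map_mul, ← map_mul, toCoOne_eq_iff] at h
  rcases h with h | h
  · exact ⟨⟨γ, mem_cOne.mpr h⟩, Subtype.ext rfl⟩
  · exact absurd (by rw [h, ← mul_assoc, mul_inv_cancel_right]) (not_conj_neg γ)

instance cBig_finite : Finite cBig := Finite.of_surjective phi phi_surjective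

/-- The action on the orthogonal space, with values in `Ω`. -/
def toOm : cOne →* Cfsg.Omega (ZMod 2) (Cfsg.quadFormPlus 4 (ZMod 2)) :=
  toO.codRestrict _ fun γ => range_toO ▸ (⟨γ, rfl⟩ : toO γ ∈ toO.range)

theorem toOm_coe (γ : cOne) : ((toOm γ : Cfsg.Omega (ZMod 2) (Cfsg.quadFormPlus 4 (ZMod 2))) :
    Cfsg.isometryGroup (ZMod 2) (Cfsg.quadFormPlus 4 (ZMod 2))) = toO γ := rfl

theorem toOm_surjective : Function.Surjective toOm := by
  rintro ⟨x, hx⟩
  rw [← range_toO] at hx
  obtain ⟨γ, rfl⟩ := hx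
  exact ⟨γ, Subtype.ext rfl⟩

theorem toOm_eq_one {γ : cOne} : toOm γ = 1 ↔ toO γ = 1 :=
  ⟨fun h => congrArg Subtype.val h, fun h => Subtype.ext h⟩

theorem phi_ker_le : phi.ker ≤ toOm.ker := by
  intro γ hγ
  rw [MonoidHom.mem_ker, toOm_eq_one]
  have h : toCoOne γ.1 = 1 := congrArg Subtype.val (MonoidHom.mem_ker.mp hγ)
  rcases toCoOne_eq_one_iff.mp h with h | h
  · rw [show γ = 1 from Subtype.ext h, map_one]
  · rw [show γ = negE from Subtype.ext h, toO_negE]

/-- The action of the centraliser. -/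
def act : cBig →* Cfsg.Omega (ZMod 2) (Cfsg.quadFormPlus 4 (ZMod 2)) :=
  phi.liftOfSurjective phi_surjective ⟨toOm, phi_ker_le⟩

theorem act_phi (γ : cOne) : act (phi γ) = toOm γ :=
  MonoidHom.liftOfRightInverse_comp_apply phi _ _ ⟨toOm, phi_ker_le⟩ γ

theorem act_surjective : Function.Surjective act := fun x => by
  obtain ⟨γ, rfl⟩ := toOm_surjective x
  exact ⟨phi γ, act_phi γ⟩

/-- The kernel in Co2 inside the centraliser. -/
def psi : toSp.ker →* cBig :=
  phi.comp ((Subgroup.inclusion cTwo_le).comp toSp.ker.subtype)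

theorem psi_coe (k : toSp.ker) : (psi k : Spor.Co1) = toCoOne k.1.1 := rfl

theorem psi_injective : Function.Injective psi := by
  intro k l h
  have h' : toCoOne k.1.1 = toCoOne l.1.1 := congrArg Subtype.val h
  rcases toCoOne_eq_iff.mp h' with e | e
  · exact ker_ext e
  · exfalso
    have e' := congrArg (fun δ : Co0 => δ • uRoot.1) e
    simp only [mul_smul, fix_of_ker, negW_smul] at e'
    have := congrArg (fun v : leechLattice => (v : GolayPt → ℤ) none) e'
    simp [uRoot_val, leechU_apply] at this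

theorem ker_act : act.ker = psi.range := by
  ext x
  constructor
  · intro hx
    obtain ⟨γ, rfl⟩ := phi_surjective x
    rw [MonoidHom.mem_ker, act_phi, toOm_eq_one] at hx
    obtain ⟨k, hk | hk⟩ := exists_ker hx
    · exact ⟨k, Subtype.ext (by rw [psi_coe, phi_coe, hk])⟩
    · exact ⟨k, Subtype.ext (by rw [psi_coe, phi_coe, hk, map_mul, toCoOne_negW, one_mul])⟩
  · rintro ⟨k, rfl⟩
    rw [MonoidHom.mem_ker]
    show act (phi _) = 1
    rw [act_phi, toOm_eq_one]
    exact toO_of_ker k _ rfl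

/-- Normal subgroups of `Ω⁺8(2)`. -/
theorem omega_normal : ∀ N : Subgroup (Cfsg.Omega (ZMod 2) (Cfsg.quadFormPlus 4 (ZMod 2))),
    N.Normal → N = ⊥ ∨ N = ⊤ := by
  rw [← CfsgLib.Orth.plusQ_coe]
  intro N hN
  have hQ := CfsgLib.Orth.plusQ_nondegenerate (F := ZMod 2) 4
  have hn : 7 ≤ Fintype.card (Fin 4 ⊕ Fin 4) := by simp
  refine (CfsgLib.POmega.normal_le_center_or_top hQ hn N).imp (fun h => ?_) id
  rw [Subgroup.card_eq_one.mp (CfsgLib.POmega.center_eq_bot hQ hn (Or.inl (by decide)))] at h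
  exact le_bot_iff.mp h

theorem card_omega : Nat.card (Cfsg.Omega (ZMod 2) (Cfsg.quadFormPlus 4 (ZMod 2))) = 174182400 := by
  rw [← range_toO, card_range_toO]

theorem card_psi : Nat.card psi.range = 512 := by
  rw [← Nat.card_congr (MonoidHom.ofInjective psi_injective).toEquiv, card_ker]

theorem isPGroup_psi : IsPGroup 2 psi.range := IsPGroup.of_card (n := 9) (by rw [card_psi]; norm_num)

theorem pCore_cBig : Cfsg.pCore 2 cBig = psi.range := by
  refine le_antisymm (sSup_le fun N hN => ?_) (le_sSup ⟨ker_act ▸ act.normal_ker, isPGroup_psi⟩)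
  rw [← ker_act, ← Subgroup.map_eq_bot_iff]
  refine (omega_normal _ (hN.1.map _ act_surjective)).resolve_right fun h => ?_
  haveI := Fact.mk Nat.prime_two
  haveI : Finite (Cfsg.Omega (ZMod 2) (Cfsg.quadFormPlus 4 (ZMod 2))) := Finite.of_surjective _ act_surjective
  obtain ⟨n, hn⟩ := IsPGroup.iff_card.mp (hN.2.map act)
  rw [h, Subgroup.card_top, card_omega] at hn
  have h3 : 3 ∣ 2 ^ n := hn ▸ (by norm_num)
  exact absurd (Nat.prime_three.dvd_of_dvd_pow h3) (by norm_num)

/-- A code word outside the octad. -/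
def dWord : golayCode := ⟨dec 337856, dec_mem_of_isCode (by decide +kernel)⟩

theorem dWord_octad : ∀ p ∈ baseOctad, dWord.1 p = 0 := by decide +kernel

/-- A kernel element moved by a permutation. -/
def kElem : toSp.ker := (exists_elem (⟨dWord, dWord_octad⟩, (1 : fixOct))).choose

theorem kElem_spec : kElem.1.1 = sgnW dWord := by
  have h := (exists_elem (⟨dWord, dWord_octad⟩, (1 : fixOct))).choose_spec
  refine h.trans ?_
  have h1 : sig (⟨dWord, dWord_octad⟩, (1 : fixOct)) = 1 := Subtype.ext rfl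
  show sgnW dWord * permW _ = sgnW dWord
  rw [h1, ← permHom_apply, map_one, mul_one]

theorem zpowers_zEl {w : toSp.ker} (h : w ∈ Subgroup.zpowers zEl) : w = 1 ∨ w = zEl := by
  obtain ⟨n, rfl⟩ := Subgroup.mem_zpowers_iff.mp h
  have h2 : zEl ^ (2 : ℤ) = 1 := by
    have h := pow_orderOf_eq_one zEl
    rw [orderOf_zEl, pow_two] at h
    rwa [zpow_two]
  rcases Int.emod_two_eq_zero_or_one n with h | h
  · left; rw [← Int.mul_ediv_add_emod n 2, h, add_zero, zpow_mul, h2, one_zpow]
  · right; rw [← Int.mul_ediv_add_emod n 2, h, zpow_add, zpow_mul, h2, one_zpow, one_mul, zpow_one]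

theorem centralizer_le : Subgroup.centralizer (psi.range : Set cBig) ≤ psi.range := by
  have hn : psi.range.Normal := ker_act ▸ act.normal_ker
  have hcn : (Subgroup.centralizer (psi.range : Set cBig)).Normal := by
    refine ⟨fun x hx g => Subgroup.mem_centralizer_iff.mpr fun q hq => ?_⟩
    have := Subgroup.mem_centralizer_iff.mp hx (g⁻¹ * q * g) (by simpa using hn.conj_mem q hq g⁻¹)
    calc q * (g * x * g⁻¹) = g * ((g⁻¹ * q * g) * x) * g⁻¹ := by group
      _ = g * (x * (g⁻¹ * q * g)) * g⁻¹ := by rw [this]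
      _ = g * x * g⁻¹ * q := by group
  rcases omega_normal _ (hcn.map _ act_surjective) with h | h
  · rwa [Subgroup.map_eq_bot_iff, ker_act] at h
  exfalso
  obtain ⟨g, hg⟩ := exists_genE (k := 1) (by decide +kernel)
  obtain ⟨x, hx, hxg⟩ := (Subgroup.mem_map (f := act)).mp
    (show act (phi g) ∈ (Subgroup.centralizer (psi.range : Set cBig)).map act by rw [h]; trivial)
  have hq : phi g * x⁻¹ ∈ psi.range := by
    rw [← ker_act, MonoidHom.mem_ker, map_mul, map_inv, hxg, mul_inv_cancel]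
  obtain ⟨l, hl⟩ := hq
  have hk : x * psi kElem = psi kElem * x := (Subgroup.mem_centralizer_iff.mp hx _ ⟨kElem, rfl⟩).symm
  obtain ⟨w, hw, hlk⟩ := comm_mem l kElem
  have e : phi g * psi kElem = psi (w * kElem) * phi g := by
    rw [show phi g = psi l * x by rw [hl, inv_mul_cancel_right], mul_assoc, hk, ← mul_assoc, ← map_mul, hlk,
      map_mul, map_mul, map_mul]
    group
  have e' : toCoOne (g.1 * kElem.1.1) = toCoOne ((w * kElem).1.1 * g.1) := by
    rw [map_mul, map_mul]; exact congrArg Subtype.val e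
  have key : ∀ j : Fin 24, ∀ δ : Co0, g.1 * kElem.1.1 = δ →
      appSteps (genE.getD 1 []) (flipL 337856 (eightE j.val)) = lv (δ • LeechEight.latE (pt j)) := by
    intro j δ hδ
    rw [← hδ, mul_smul, hg, kElem_spec, lv_sgnW dWord rfl, lv_latE]
  have hK : ∀ v, lv (kElem.1.1 • v) = flipL 337856 (lv v) := fun v => by
    rw [kElem_spec, lv_sgnW dWord rfl]
  have hN : ∀ v, lv (negW • v) = flipL 16777215 (lv v) := fun v => by
    rw [negW_eq, lv_sgnW _ (n := 16777215) (funext (by decide +kernel))]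
  rcases zpowers_zEl hw with rfl | rfl <;> rcases toCoOne_eq_iff.mp e' with h' | h'
  · have := fun j => key j _ h'
    simp only [mul_smul, one_mul, hK, hg, lv_latE] at this
    revert this; decide +kernel
  · have := fun j => key j _ h'
    simp only [mul_smul, one_mul, hN, hK, hg, lv_latE] at this
    revert this; decide +kernel
  · have := fun j => key j _ h'
    simp only [Subgroup.coe_mul, mul_smul, zEl_spec, lv_tZero, hK, hg, lv_latE] at this
    revert this; decide +kernel
  · have := fun j => key j _ h'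
    simp only [Subgroup.coe_mul, mul_smul, zEl_spec, lv_tZero, hN, hK, hg, lv_latE] at this
    revert this; decide +kernel

/-- An octad disjoint from the base octad. -/
def farOctad : Finset GolayPt := decS 337856

theorem farOctad_mem : farOctad ∈ octads := by
  rw [mem_octads]; decide +kernel

theorem exists_conj : ∃ g : Spor.Co1, g * zOne * g⁻¹ = (psi kElem : Spor.Co1) ∧ g * zOne * g⁻¹ ≠ zOne := by
  obtain ⟨σ, hσ, hσo⟩ := exists_smul_octad_eq baseOctad_mem farOctad_mem
  have hact : (⟨_, act_code hσ outWord⟩ : golayCode) = ⟨1, one_mem_golay⟩ + dWord := by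
    refine Subtype.ext (funext fun p => ?_)
    show outWord.1 (σ.symm p) = 1 + dWord.1 p
    rw [outWord_apply]
    have hm : σ.symm p ∈ baseOctad ↔ p ∈ farOctad := by
      rw [← hσo, Finset.mem_smul_finset]
      constructor
      · intro h; exact ⟨_, h, Equiv.apply_symm_apply _ _⟩
      · rintro ⟨q, hq, rfl⟩; rw [Equiv.Perm.smul_def, Equiv.symm_apply_apply]; exact hq
    rw [if_congr hm rfl rfl]
    have key : ∀ p : GolayPt, (if p ∈ farOctad then (0 : ZMod 2) else 1) = 1 + dWord.1 p := by decide +kernel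
    exact key p
  have e : toCoOne (permW ⟨σ, hσ⟩) * zOne * (toCoOne (permW ⟨σ, hσ⟩))⁻¹ = toCoOne (sgnW dWord) := by
    rw [zOne, ← map_inv, ← map_mul, ← map_mul, tZero_eq, perm_sgn]
    show toCoOne (sgnW ⟨_, act_code hσ outWord⟩) = _
    rw [hact, sgnW_add, map_mul, ← negW_eq, toCoOne_negW, one_mul]
  refine ⟨_, e.trans (by rw [psi_coe, kElem_spec]), fun h => ?_⟩
  rw [e, zOne, tZero_eq, toCoOne_eq_iff, negW_eq, ← sgnW_add] at h
  rcases h with h | h
  · exact sgnW_ne (c := dWord) (pt ⟨4, by norm_num⟩) (by decide +kernel) h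
  · exact sgnW_ne (c := dWord) none (by decide +kernel) h

/-- `Co1` has an involution with centraliser `2^(1+8) Ω⁺8(2)`. -/
theorem exists_involution : ∃ z : Cfsg.Spor.Co1, orderOf z = 2 ∧
    ∃ (Q : Subgroup (Subgroup.centralizer ({z} : Set Cfsg.Spor.Co1))) (_ : Q.Normal),
      Cfsg.generalizedFittingSubgroup (Subgroup.centralizer ({z} : Set Cfsg.Spor.Co1)) = Q ∧
      Cfsg.IsExtraspecial 2 Q ∧ Nat.card Q = 2 ^ 9 ∧
      Nonempty ((Subgroup.centralizer ({z} : Set Cfsg.Spor.Co1)) ⧸ Q ≃*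
        Cfsg.Omega (ZMod 2) (Cfsg.quadFormPlus 4 (ZMod 2))) ∧
      ∃ g : Cfsg.Spor.Co1, (∃ hq : g * z * g⁻¹ ∈ Subgroup.centralizer ({z} : Set Cfsg.Spor.Co1),
        (⟨g * z * g⁻¹, hq⟩ : Subgroup.centralizer ({z} : Set Cfsg.Spor.Co1)) ∈ Q) ∧ g * z * g⁻¹ ≠ z := by
  haveI := Fact.mk Nat.prime_two
  have hn : psi.range.Normal := ker_act ▸ act.normal_ker
  refine ⟨zOne, orderOf_zOne, psi.range, hn, ?_, ?_, card_psi.trans (by norm_num), ?_, ?_⟩
  · rw [CfsgLib.Components.generalizedFitting_eq_pCore_of_centralizer_le 2 (pCore_cBig.symm ▸ centralizer_le),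
      pCore_cBig]
  · have := cTwo_finite
    exact CfsgLib.LargeExtra.isExtraspecial_of_equiv (MonoidHom.ofInjective psi_injective) extraspecial_ker
  · exact ⟨(QuotientGroup.quotientMulEquivOfEq ker_act.symm).trans
      (QuotientGroup.quotientKerEquivOfSurjective _ act_surjective)⟩
  · obtain ⟨g, hg, hne⟩ := exists_conj
    exact ⟨g, ⟨hg ▸ (psi kElem).2, kElem, Subtype.ext hg.symm⟩, hne⟩

end CfsgLib.Sporadic.CoOne
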