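import Cfsg.Agent.Lib.Sporadic.ConwayThreeGen
import Cfsg.Agent.Lib.Schur.OutRigid

/-!
# The third Conway group has no outer automorphisms
-/

set_option autoImplicit false
set_option Elab.async false

namespace CfsgLib.Sporadic.Conway.ThreeOut

open Cfsg CfsgLib.Golay CfsgLib.MonsterType CfsgLib.LeechEight Subgroup
open scoped Pointwise

/-! ### The outer automorphism group -/

/-- The action of one of the three generators. -/
def genFun (fA fB fC : List ℤ → List ℤ) (i : ℕ) : List ℤ → List ℤ := [fA, fB, fC].getD i id

/-- The action of a word. -/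
def wordFun (fA fB fC : List ℤ → List ℤ) : List ℕ → List ℤ → List ℤ
  | [] => id
  | i :: w => genFun fA fB fC i ∘ wordFun fA fB fC w

theorem acts_word {x y z : GT} {fA fB fC : List ℤ → List ℤ} (hx : Acts x fA) (hy : Acts y fB)
    (hz : Acts z fC) : ∀ w, Acts (CfsgLib.Schur.evalThree x y z w) (wordFun fA fB fC w)
  | [] => acts_one
  | i :: w => by
    refine acts_mul ?_ (acts_word hx hy hz w)
    rcases i with _ | _ | _ | i
    exacts [hx, hy, hz, by simpa [genFun] using acts_one]

/-- The relations. -/
def relList : List (List ℕ × ℕ) := [([0, 2], 12), ([0, 1, 2, 0, 2], 7)]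

/-- The failing relation test for one candidate pair of exponents. -/
def badChk (j i : ℕ) (b : Bool) : Bool :=
  relList.all fun r => isId (wordFun (permL (shiftPows.getD ((23 - j % 23) % 23) [])) stepB
    (if b then stepZ ∘ permL (doublePows.getD ((11 - i % 11) % 11) [])
      else permL (doublePows.getD ((11 - i % 11) % 11) [])) r.1)^[r.2]

theorem badChk_1_0_false : badChk 1 0 false = false := by decide +kernel
theorem badChk_1_1_false : badChk 1 1 false = false := by decide +kernel
theorem badChk_1_1_true : badChk 1 1 true = false := by decide +kernel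
theorem badChk_1_2_false : badChk 1 2 false = false := by decide +kernel
theorem badChk_1_2_true : badChk 1 2 true = false := by decide +kernel
theorem badChk_1_3_false : badChk 1 3 false = false := by decide +kernel
theorem badChk_1_3_true : badChk 1 3 true = false := by decide +kernel
theorem badChk_1_4_false : badChk 1 4 false = false := by decide +kernel
theorem badChk_1_4_true : badChk 1 4 true = false := by decide +kernel
theorem badChk_1_5_false : badChk 1 5 false = false := by decide +kernel
theorem badChk_1_5_true : badChk 1 5 true = false := by decide +kernel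
theorem badChk_1_6_false : badChk 1 6 false = false := by decide +kernel
theorem badChk_1_6_true : badChk 1 6 true = false := by decide +kernel
theorem badChk_1_7_false : badChk 1 7 false = false := by decide +kernel
theorem badChk_1_7_true : badChk 1 7 true = false := by decide +kernel
theorem badChk_1_8_false : badChk 1 8 false = false := by decide +kernel
theorem badChk_1_8_true : badChk 1 8 true = false := by decide +kernel
theorem badChk_1_9_false : badChk 1 9 false = false := by decide +kernel
theorem badChk_1_9_true : badChk 1 9 true = false := by decide +kernel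
theorem badChk_1_10_false : badChk 1 10 false = false := by decide +kernel
theorem badChk_1_10_true : badChk 1 10 true = false := by decide +kernel
theorem badChk_22_0_false : badChk 22 0 false = false := by decide +kernel
theorem badChk_22_0_true : badChk 22 0 true = false := by decide +kernel
theorem badChk_22_1_false : badChk 22 1 false = false := by decide +kernel
theorem badChk_22_1_true : badChk 22 1 true = false := by decide +kernel
theorem badChk_22_2_false : badChk 22 2 false = false := by decide +kernel
theorem badChk_22_2_true : badChk 22 2 true = false := by decide +kernel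
theorem badChk_22_3_false : badChk 22 3 false = false := by decide +kernel
theorem badChk_22_3_true : badChk 22 3 true = false := by decide +kernel
theorem badChk_22_4_false : badChk 22 4 false = false := by decide +kernel
theorem badChk_22_4_true : badChk 22 4 true = false := by decide +kernel
theorem badChk_22_5_false : badChk 22 5 false = false := by decide +kernel
theorem badChk_22_5_true : badChk 22 5 true = false := by decide +kernel
theorem badChk_22_6_false : badChk 22 6 false = false := by decide +kernel
theorem badChk_22_6_true : badChk 22 6 true = false := by decide +kernel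
theorem badChk_22_7_false : badChk 22 7 false = false := by decide +kernel
theorem badChk_22_7_true : badChk 22 7 true = false := by decide +kernel
theorem badChk_22_8_false : badChk 22 8 false = false := by decide +kernel
theorem badChk_22_8_true : badChk 22 8 true = false := by decide +kernel
theorem badChk_22_9_false : badChk 22 9 false = false := by decide +kernel
theorem badChk_22_9_true : badChk 22 9 true = false := by decide +kernel
theorem badChk_22_10_false : badChk 22 10 false = false := by decide +kernel
theorem badChk_22_10_true : badChk 22 10 true = false := by decide +kernel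

theorem badChk_false : ∀ j ∈ [1, 22], ∀ i : Fin 11, ∀ b : Bool, ¬ (j = 1 ∧ i.val = 0 ∧ b = true) →
    badChk j i.val b = false := by
  intro j hj i b hne
  rcases List.mem_cons.1 hj with rfl | hj
  · match i, b with
    | ⟨0, _⟩, false => exact badChk_1_0_false
    | ⟨0, _⟩, true => exact absurd ⟨rfl, rfl, rfl⟩ hne
    | ⟨1, _⟩, false => exact badChk_1_1_false
    | ⟨1, _⟩, true => exact badChk_1_1_true
    | ⟨2, _⟩, false => exact badChk_1_2_false
    | ⟨2, _⟩, true => exact badChk_1_2_true
    | ⟨3, _⟩, false => exact badChk_1_3_false
    | ⟨3, _⟩, true => exact badChk_1_3_true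
    | ⟨4, _⟩, false => exact badChk_1_4_false
    | ⟨4, _⟩, true => exact badChk_1_4_true
    | ⟨5, _⟩, false => exact badChk_1_5_false
    | ⟨5, _⟩, true => exact badChk_1_5_true
    | ⟨6, _⟩, false => exact badChk_1_6_false
    | ⟨6, _⟩, true => exact badChk_1_6_true
    | ⟨7, _⟩, false => exact badChk_1_7_false
    | ⟨7, _⟩, true => exact badChk_1_7_true
    | ⟨8, _⟩, false => exact badChk_1_8_false
    | ⟨8, _⟩, true => exact badChk_1_8_true
    | ⟨9, _⟩, false => exact badChk_1_9_false
    | ⟨9, _⟩, true => exact badChk_1_9_true
    | ⟨10, _⟩, false => exact badChk_1_10_false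
    | ⟨10, _⟩, true => exact badChk_1_10_true
    | ⟨n + 11, h⟩, _ => exact absurd h (by omega)
  · rw [List.mem_singleton] at hj
    subst hj
    match i, b with
    | ⟨0, _⟩, false => exact badChk_22_0_false
    | ⟨0, _⟩, true => exact badChk_22_0_true
    | ⟨1, _⟩, false => exact badChk_22_1_false
    | ⟨1, _⟩, true => exact badChk_22_1_true
    | ⟨2, _⟩, false => exact badChk_22_2_false
    | ⟨2, _⟩, true => exact badChk_22_2_true
    | ⟨3, _⟩, false => exact badChk_22_3_false
    | ⟨3, _⟩, true => exact badChk_22_3_true
    | ⟨4, _⟩, false => exact badChk_22_4_false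
    | ⟨4, _⟩, true => exact badChk_22_4_true
    | ⟨5, _⟩, false => exact badChk_22_5_false
    | ⟨5, _⟩, true => exact badChk_22_5_true
    | ⟨6, _⟩, false => exact badChk_22_6_false
    | ⟨6, _⟩, true => exact badChk_22_6_true
    | ⟨7, _⟩, false => exact badChk_22_7_false
    | ⟨7, _⟩, true => exact badChk_22_7_true
    | ⟨8, _⟩, false => exact badChk_22_8_false
    | ⟨8, _⟩, true => exact badChk_22_8_true
    | ⟨9, _⟩, false => exact badChk_22_9_false
    | ⟨9, _⟩, true => exact badChk_22_9_true
    | ⟨10, _⟩, false => exact badChk_22_10_false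
    | ⟨10, _⟩, true => exact badChk_22_10_true
    | ⟨n + 11, h⟩, _ => exact absurd h (by omega)

theorem card_out : Nat.card (Cfsg.Out GT) = 1 := by
  classical
  have := finite_GT
  have := Fact.mk (show Nat.Prime 23 by norm_num)
  refine CfsgLib.Schur.card_out_eq_one (CfsgLib.Schur.card_out_le gA gB gZ 23 2 1 orderOf_gA
    (by rw [card_GT]; norm_num) (fun x hx => commute_gA_cases hx) conj_gB_gA (by norm_num) [1, 22] ?_
    conj_gZ_gB listB (fun x hx => commute_gB_mem hx) generates relList ?_ [(1, gZ)] ?_)
  · intro j hj hj0
    have hall : ∀ j : Fin 23, j.val ≠ 0 → ∃ i : Fin 11, j.val * 2 ^ i.val % 23 ∈ [1, 22] := by decide +kernel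
    obtain ⟨i, hi⟩ := hall ⟨j, hj⟩ hj0
    exact ⟨i.val, hi⟩
  · intro r hr
    rw [eq_one_iff_isId (acts_pow (acts_word acts_gA acts_gB acts_gZ r.1) r.2)]
    revert r
    decide +kernel
  · intro j hj x hx hrel
    simp only [listB, List.mem_flatMap, List.mem_range, List.mem_cons, List.not_mem_nil, or_false] at hx
    obtain ⟨i, hi, hxe⟩ := hx
    have hbad : ∀ j ∈ [1, 22], ∀ i : Fin 11, ∀ b : Bool,
        ¬ (j = 1 ∧ i.val = 0 ∧ b = true) →
        (relList.all fun r => isId (wordFun (permL (shiftPows.getD ((23 - j % 23) % 23) [])) stepB
          (if b then stepZ ∘ permL (doublePows.getD ((11 - i.val % 11) % 11) [])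
            else permL (doublePows.getD ((11 - i.val % 11) % 11) [])) r.1)^[r.2]) = false := badChk_false
    obtain ⟨b, hb, hact⟩ : ∃ b : Bool, x = (if b then gZ * gB ^ i else gB ^ i) ∧
        Acts x (if b then stepZ ∘ permL (doublePows.getD ((11 - i % 11) % 11) [])
          else permL (doublePows.getD ((11 - i % 11) % 11) [])) := by
      rcases hxe with rfl | rfl
      · exact ⟨false, rfl, acts_gB_pow i⟩
      · refine ⟨true, rfl, ?_⟩
        simp only [if_true]
        exact acts_mul acts_gZ (acts_gB_pow i)
    by_cases hgood : j = 1 ∧ i = 0 ∧ b = true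
    · obtain ⟨rfl, rfl, rfl⟩ := hgood
      simp [hb]
    · exfalso
      have hf := hbad j hj ⟨i, hi⟩ b hgood
      rw [List.all_eq_false] at hf
      obtain ⟨r, hr, hrf⟩ := hf
      exact hrf ((eq_one_iff_isId (acts_pow (acts_word (acts_gA_pow j) acts_gB hact r.1) r.2)).mp (hrel r hr))

/-- Isomorphic groups have outer automorphism groups of one order. -/
theorem card_out_congr {G G' : Type} [Group G] [Group G'] (e : G ≃* G') :
    Nat.card (Cfsg.Out G) = Nat.card (Cfsg.Out G') := by
  refine Nat.card_congr (QuotientGroup.congr _ _ (MulAut.congr e) ?_).toEquiv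
  ext φ
  simp only [Subgroup.mem_map, MonoidHom.mem_range]
  constructor
  · rintro ⟨_, ⟨g, rfl⟩, rfl⟩
    refine ⟨e g, MulEquiv.ext fun y => ?_⟩
    simp
  · rintro ⟨g, rfl⟩
    refine ⟨_, ⟨e.symm g, rfl⟩, MulEquiv.ext fun y => ?_⟩
    simp

theorem card_out_sporCo3 : Nat.card (Cfsg.Out Cfsg.Spor.Co3) = 1 := by
  have hv : (Spor.leechV : leechLattice) = -vT := by
    refine Subtype.ext ?_
    rw [AddSubgroup.coe_neg, coe_vT]
    funext k
    show Spor.vecV k = _
    simp only [Spor.vecV, Pi.neg_apply]
    split_ifs <;> rfl
  have hmap : GT.map Co0.subtype = Spor.Co3 := by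
    ext g
    simp only [Subgroup.mem_map, Spor.Co3, Subgroup.mem_inf, MulAction.mem_stabilizer_iff, hv]
    constructor
    · rintro ⟨w, hw, rfl⟩
      refine ⟨w.2, ?_⟩
      show w • -vT = -vT
      rw [smul_neg', hw]
    · rintro ⟨hg, hgv⟩
      refine ⟨⟨g, hg⟩, ?_, rfl⟩
      have h2 : (⟨g, hg⟩ : Co0) • -vT = -vT := hgv
      rw [smul_neg'] at h2
      exact neg_injective h2
  rw [← card_out_congr ((GT.equivMapOfInjective Co0.subtype Co0.subtype_injective).trans
    (MulEquiv.subgroupCongr hmap))]
  exact card_out

end CfsgLib.Sporadic.Conway.ThreeOut
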