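import Cfsg.Agent.Lib.Sporadic.ConwayThreeElem

/-!
# Three explicit elements generate the third Conway group
-/

set_option autoImplicit false

namespace CfsgLib.Sporadic.Conway.ThreeOut

open Cfsg CfsgLib.Golay CfsgLib.MonsterType CfsgLib.LeechEight Subgroup
open scoped Pointwise

/-! ### Generation -/

/-- Sylow: the order of a subgroup containing an element of prime order. -/
theorem card_eq_mul_normalizer {G : Type*} [Group G] [Finite G] (p : ℕ) [Fact p.Prime] {x : G}
    (hx : orderOf x = p) (hpp : ¬ p * p ∣ Nat.card G) (K : Subgroup G) (hK : x ∈ K) :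
    ∃ n, n % p = 1 ∧ Nat.card K = n * Nat.card ↥(normalizer (zpowers x : Set G) ⊓ K) := by
  have hp : p.Prime := Fact.out
  set y : K := ⟨x, hK⟩
  have hy : orderOf y = p := by rw [← Subgroup.orderOf_coe]; exact hx
  have hf : (Nat.card K).factorization p = 1 := by
    have h1 : p ∣ Nat.card K := hy ▸ orderOf_dvd_natCard y
    have h2 := hp.factorization_pos_of_dvd Nat.card_pos.ne' h1
    have h3 : (Nat.card K).factorization p < 2 := by
      by_contra hge
      refine hpp ?_
      rw [← pow_two]
      exact ((pow_dvd_pow p (not_lt.mp hge)).trans (Nat.ordProj_dvd _ _)).trans (card_subgroup_dvd_card K)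
    omega
  have hc : Nat.card (zpowers y) = p ^ (Nat.card K).factorization p := by
    rw [Nat.card_zpowers, hy, hf, pow_one]
  set P : Sylow p K := Sylow.ofCard _ hc
  refine ⟨Nat.card (Sylow p K), ?_, ?_⟩
  · have := card_sylow_modEq_one p K
    rwa [Nat.ModEq, Nat.one_mod_eq_one.mpr hp.one_lt.ne'] at this
  · have hN : (normalizer (zpowers y : Set K)).map K.subtype = normalizer (zpowers x : Set G) ⊓ K := by
      have hxy : ∀ w : K, w ∈ zpowers y ↔ (w : G) ∈ zpowers x := fun w => by
        rw [← mem_map_iff_mem K.subtype_injective, MonoidHom.map_zpowers]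
        rfl
      ext g
      simp only [mem_map, Subgroup.mem_inf]
      constructor
      · rintro ⟨w, hw, rfl⟩
        refine ⟨mem_normalizer_iff.mpr fun u => ?_, w.2⟩
        constructor
        · intro hu
          have huK : u ∈ K := by
            obtain ⟨k, rfl⟩ := mem_zpowers_iff.mp hu
            exact zpow_mem hK k
          exact (hxy _).mp ((mem_normalizer_iff.mp hw ⟨u, huK⟩).mp ((hxy ⟨u, huK⟩).mpr hu))
        · intro hu
          have huK : u ∈ K := by
            obtain ⟨k, hk⟩ := mem_zpowers_iff.mp hu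
            have h := mul_mem (mul_mem (inv_mem w.2) (zpow_mem hK k)) w.2
            rwa [hk, show (w : G)⁻¹ * ((K.subtype w) * u * (K.subtype w)⁻¹) * (w : G) = u by
              simp [mul_assoc]] at h
          exact (hxy ⟨u, huK⟩).mp ((mem_normalizer_iff.mp hw ⟨u, huK⟩).mpr ((hxy _).mpr hu))
      · rintro ⟨hg, hgK⟩
        refine ⟨⟨g, hgK⟩, mem_normalizer_iff.mpr fun w => ?_, rfl⟩
        show w ∈ zpowers y ↔ _
        rw [hxy]
        refine (mem_normalizer_iff.mp hg (w : G)).trans ?_
        exact (hxy (⟨g, hgK⟩ * w * ⟨g, hgK⟩⁻¹)).symm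
    rw [← hN, ← Nat.card_congr ((normalizer (zpowers y : Set K)).equivMapOfInjective K.subtype
      K.subtype_injective).toEquiv, Sylow.card_eq_index_normalizer P]
    exact (index_mul_card (normalizer (zpowers y : Set K))).symm

/-- An element of the small group outside the normaliser. -/
noncomputable def gS : GT :=
  gZ * gA ^ 22 * gZ * gA ^ 21 * gZ * gA * gB * gZ * gA ^ 2 * gZ * gA ^ 3 * gZ * gA * gZ

/-- Its action on lists. -/
def stepS : List ℤ → List ℤ :=
  stepZ ∘ permL (shiftPows.getD 1 []) ∘ stepZ ∘ permL (shiftPows.getD 2 []) ∘ stepZ ∘ stepA ∘ stepB ∘ stepZ ∘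
    permL (shiftPows.getD 21 []) ∘ stepZ ∘ permL (shiftPows.getD 20 []) ∘ stepZ ∘ stepA ∘ stepZ

theorem acts_gS : Acts gS stepS := by
  have h := acts_mul (acts_mul (acts_mul (acts_mul (acts_mul (acts_mul (acts_mul (acts_mul (acts_mul (acts_mul
    (acts_mul (acts_mul (acts_mul acts_gZ (acts_gA_pow 22)) acts_gZ) (acts_gA_pow 21)) acts_gZ) acts_gA)
    acts_gB) acts_gZ) (acts_gA_pow 2)) acts_gZ) (acts_gA_pow 3)) acts_gZ) acts_gA) acts_gZ
  exact h

theorem gS_mem : gS ∈ MT := by
  refine mem_range_of_fix (Subtype.ext (vecList_injective ?_))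
  rw [acts_gS, show (none : GolayPt) = pt 23 from rfl, vecList_latE]
  decide +kernel

theorem gS_not_normalizes : gS ∉ normalizer (zpowers gA : Set GT) := by
  intro hn
  obtain ⟨τ, hτ⟩ := gS_mem
  rw [← hτ] at hn
  have hl := shift_list_of_normalizes hn
  have hval : ∀ j : Fin 24, unitList (idx ((τ : Equiv.Perm GolayPt) (pt j))) = stepS (unitList j) := by
    intro j
    rw [← vecList_latE, ← vecList_latE, pt_idx, ← acts_gS, ← hτ]
    refine congrArg (fun w : leechLattice => vecList (w : GolayPt → ℤ)) ?_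
    rw [coe_emb, permW_latE]
    rfl
  have hget : ∀ j : Fin 24,
      (idx ((τ : Equiv.Perm GolayPt) (pt j))).val = (toList (τ : Equiv.Perm GolayPt)).getD j.val 0 := by
    intro j
    rw [List.getD_eq_getElem _ _ (by rw [toList_length]; exact j.isLt), toList_getElem]
  have hS : stepS (unitList 0) = unitList 18 ∧ stepS (unitList 1) = unitList 7 ∧
      stepS (unitList 2) = unitList 12 := by decide +kernel
  have hinj : ∀ x y : Fin 24, unitList x = unitList y → x = y := by decide +kernel
  have hall : (shiftCands.all fun l =>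
      !(l.getD 0 0 == 18 && l.getD 1 0 == 7 && l.getD 2 0 == 12)) = true := by decide +kernel
  have h3 := List.all_eq_true.mp hall _ hl
  have v0 := hinj _ _ ((hval 0).trans hS.1)
  have v1 := hinj _ _ ((hval 1).trans hS.2.1)
  have v2 := hinj _ _ ((hval 2).trans hS.2.2)
  have w0 := hget 0
  have w1 := hget 1
  have w2 := hget 2
  rw [v0] at w0; rw [v1] at w1; rw [v2] at w2
  have e0 : (toList (τ : Equiv.Perm GolayPt)).getD 0 0 = 18 := w0.symm
  have e1 : (toList (τ : Equiv.Perm GolayPt)).getD 1 0 = 7 := w1.symm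
  have e2 : (toList (τ : Equiv.Perm GolayPt)).getD 2 0 = 12 := w2.symm
  rw [e0, e1, e2] at h3
  exact absurd h3 (by decide)

/-- The words giving distinct images of the first coordinate vector. -/
def orbWords : List (List ℤ → List ℤ) :=
  id :: (stepZ ∘ permL (shiftPows.getD 21 []) ∘ stepZ) ::
    (List.range 23).map fun i => permL (shiftPows.getD ((23 - i % 23) % 23) []) ∘ stepZ

theorem step_small : ∀ k < 40321, 40320 % k = 0 → k % 23 = 1 → ∀ m ∈ [11, 55],
    253 * k % m = 0 → 253 * k / m % 11 = 1 → k = 1 ∨ k = 40320 := by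
  have h : ((List.range 40321).all fun k => !(Nat.beq (40320 % k) 0 && Nat.beq (k % 23) 1) ||
      Nat.beq k 1 || Nat.beq k 40320 ||
        !((Nat.beq (253 * k % 11) 0 && Nat.beq (253 * k / 11 % 11) 1) ||
          (Nat.beq (253 * k % 55) 0 && Nat.beq (253 * k / 55 % 11) 1))) = true := by decide +kernel
  intro k hk h1 h2 m hm h3 h4
  have := List.all_eq_true.mp h k (List.mem_range.mpr hk)
  simp only [List.mem_cons, List.not_mem_nil, or_false] at hm
  rcases hm with rfl | rfl <;> simp [h1, h2, h3, h4] at this <;> exact this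

theorem step_large : ∀ d < 48601, 48600 % d = 0 → d % 23 = 1 → d % 11 = 1 → d = 1 ∨ d = 2025 := by
  have h : ((List.range 48601).all fun d => !(Nat.beq (48600 % d) 0 && Nat.beq (d % 23) 1 && Nat.beq (d % 11) 1) ||
      Nat.beq d 1 || Nat.beq d 2025) = true := by decide +kernel
  intro d hd h1 h2 h3
  have := List.all_eq_true.mp h d (List.mem_range.mpr hd)
  simp [h1, h2, h3] at this
  exact this

theorem card_GT : Nat.card GT = 495766656000 := ConwayTwoThree.card_co3

theorem finite_GT : Finite GT := Nat.finite_of_card_ne_zero (by rw [card_GT]; norm_num)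

theorem card_MT : Nat.card MT = 10200960 := by
  rw [← Nat.card_congr (MonoidHom.ofInjective (ConwayTwoThree.embed_injective ConwayTwoThree.lA_add_one)).toEquiv]
  have h : Nat.card (fixPts [none]) = Nat.card (stdStab 1) := rfl
  rw [h]
  exact natCard_stdStab 1

theorem generates : Subgroup.closure ({gA, gB, gZ} : Set GT) = ⊤ := by
  classical
  have := finite_GT
  have := Fact.mk (show Nat.Prime 23 by norm_num)
  have := Fact.mk (show Nat.Prime 11 by norm_num)
  set H := Subgroup.closure ({gA, gB, gZ} : Set GT)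
  have hA : gA ∈ H := subset_closure (by simp)
  have hB : gB ∈ H := subset_closure (by simp)
  have hZ : gZ ∈ H := subset_closure (by simp)
  have p23 : ¬ 23 * 23 ∣ Nat.card GT := by rw [card_GT]; norm_num
  have p11 : ¬ 11 * 11 ∣ Nat.card GT := by rw [card_GT]; norm_num
  set NA := normalizer (zpowers gA : Set GT)
  set NB := normalizer (zpowers gB : Set GT)
  have hAM : gA ∈ MT := ⟨_, rfl⟩
  have hBM : gB ∈ MT := ⟨_, rfl⟩
  have hBNA : gB ∈ NA := by
    rw [mem_normalizer_iff]
    intro x
    refine ⟨fun hx => ?_, fun hx => ?_⟩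
    · obtain ⟨k, rfl⟩ := mem_zpowers_iff.mp hx
      rw [← conj_zpow, conj_gB_gA]
      exact zpow_mem (pow_mem (mem_zpowers _) 2) k
    · obtain ⟨k, hk⟩ := mem_zpowers_iff.mp hx
      have h2 : gB⁻¹ * gA * gB = gA ^ 12 := by
        have h3 : gB * gA ^ 12 * gB⁻¹ = gA := by
          rw [← conj_pow, conj_gB_gA, ← pow_mul, show 2 * 12 = 1 + orderOf gA by rw [orderOf_gA],
            pow_add, pow_orderOf_eq_one, mul_one, pow_one]
        conv_lhs => rw [← h3]
        group
      have hxe : x = (gB⁻¹ * gA * gB) ^ k := by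
        rw [show gB⁻¹ * gA * gB = gB⁻¹ * gA * (gB⁻¹)⁻¹ by rw [inv_inv], conj_zpow, hk]
        group
      rw [hxe, h2]
      exact zpow_mem (pow_mem (mem_zpowers _) 12) k
  -- the small group
  set K := H ⊓ MT
  have hNAle : ∀ L : Subgroup GT, gA ∈ L → gB ∈ L → Nat.card ↥(NA ⊓ L) = 253 := by
    intro L hLA hLB
    have hle : Nat.card ↥(NA ⊓ L) ≤ 253 := by
      rw [← length_shiftCands]
      exact card_le_cands _ (inf_le_left.trans normalizer_gA_le) _ fun τ hτ => shift_list_of_normalizes hτ.1
    have d1 : 23 ∣ Nat.card ↥(NA ⊓ L) := by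
      have := orderOf_dvd_natCard (⟨gA, le_normalizer (mem_zpowers _), hLA⟩ : ↥(NA ⊓ L))
      rwa [← Subgroup.orderOf_coe, orderOf_gA] at this
    have d2 : 11 ∣ Nat.card ↥(NA ⊓ L) := by
      have := orderOf_dvd_natCard (⟨gB, hBNA, hLB⟩ : ↥(NA ⊓ L))
      rwa [← Subgroup.orderOf_coe, orderOf_gB] at this
    have d3 : 253 ∣ Nat.card ↥(NA ⊓ L) := Nat.Coprime.mul_dvd_of_dvd_of_dvd (by norm_num) d1 d2
    exact le_antisymm hle (Nat.le_of_dvd Nat.card_pos d3)
  have hNAK : NA ≤ K := by
    intro g hg
    have e1 := hNAle MT hAM hBM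
    have e2 := hNAle K ⟨hA, hAM⟩ ⟨hB, hBM⟩
    have heq : NA ⊓ K = NA ⊓ MT :=
      Subgroup.eq_of_le_of_card_ge (inf_le_inf_left _ inf_le_right) (by rw [e1, e2])
    exact (heq.symm ▸ (⟨hg, normalizer_gA_le hg⟩ : g ∈ NA ⊓ MT) : g ∈ NA ⊓ K).2
  have hKM : K = MT := by
    obtain ⟨k, hk1, hk2⟩ := card_eq_mul_normalizer 23 orderOf_gA p23 K ⟨hA, hAM⟩
    obtain ⟨n, hn1, hn2⟩ := card_eq_mul_normalizer 11 orderOf_gB p11 K ⟨hB, hBM⟩
    obtain ⟨n', hn1', hn2'⟩ := card_eq_mul_normalizer 11 orderOf_gB p11 MT hBM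
    rw [hNAle K ⟨hA, hAM⟩ ⟨hB, hBM⟩] at hk2
    set m := Nat.card ↥(NB ⊓ K)
    set m' := Nat.card ↥(NB ⊓ MT)
    have hm'le : m' ≤ 55 := by
      rw [← length_doubleCands]
      exact card_le_cands _ inf_le_right _ fun τ hτ => double_list_of_normalizes hτ.1
    have d11 : ∀ L : Subgroup GT, gB ∈ L → 11 ∣ Nat.card ↥(NB ⊓ L) := fun L hL => by
      have := orderOf_dvd_natCard (⟨gB, le_normalizer (mem_zpowers _), hL⟩ : ↥(NB ⊓ L))
      rwa [← Subgroup.orderOf_coe, orderOf_gB] at this
    have hm' : m' = 55 := by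
      obtain ⟨c, hc⟩ := d11 MT hBM
      rw [show Nat.card ↥(NB ⊓ MT) = m' from rfl] at hc
      rw [card_MT, hc] at hn2'
      have hc5 : c ≤ 5 := by omega
      interval_cases c <;> omega
    have hm : m = 11 ∨ m = 55 := by
      have h1 : m ∣ 55 := hm' ▸ Subgroup.card_dvd_of_le (inf_le_inf_left _ inf_le_right)
      obtain ⟨c, hc⟩ := d11 K ⟨hB, hBM⟩
      rw [show Nat.card ↥(NB ⊓ K) = m from rfl] at hc
      have h2 : c ∣ 5 := Nat.dvd_of_mul_dvd_mul_left (by norm_num : 0 < 11) (hc ▸ h1)
      rcases (Nat.dvd_prime (by norm_num)).mp h2 with rfl | rfl <;> omega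
    have hkdvd : k ∣ 40320 := by
      have := Subgroup.card_dvd_of_le (inf_le_right : K ≤ MT)
      rw [card_MT, hk2] at this
      exact Nat.dvd_of_mul_dvd_mul_right (by norm_num : 0 < 253) (by simpa using this)
    have hkk := step_small k (by have := Nat.le_of_dvd (by norm_num) hkdvd; omega)
      (Nat.mod_eq_zero_of_dvd hkdvd) hk1 m (by simpa using hm)
      (by rw [mul_comm, ← hk2, hn2, Nat.mul_mod_left])
      (by rw [mul_comm, ← hk2, hn2, Nat.mul_div_cancel _ (by omega), hn1])
    rcases hkk with rfl | rfl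
    · exfalso
      have heq : NA = K := Subgroup.eq_of_le_of_card_ge hNAK (by
        rw [hk2, one_mul, ← hNAle K ⟨hA, hAM⟩ ⟨hB, hBM⟩]
        exact Nat.card_le_card_of_injective _ (Subgroup.inclusion_injective (inf_le_left : NA ⊓ K ≤ NA)))
      refine gS_not_normalizes ?_
      show gS ∈ NA
      rw [heq]
      refine ⟨?_, gS_mem⟩
      simp only [gS]
      repeat' apply mul_mem
      all_goals first | exact hZ | exact hA | exact hB | exact pow_mem hA _
    · exact Subgroup.eq_of_le_of_card_ge inf_le_right (by rw [hk2, card_MT])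
  have hMH : MT ≤ H := hKM ▸ inf_le_left
  -- the whole group
  have hNA : NA ≤ H := normalizer_gA_le.trans hMH
  have hNB : NB ≤ H := by
    intro g hg
    rcases normalizer_gB_cases hg with h | h
    · exact hMH h
    · have := mul_mem (inv_mem hZ) (hMH h)
      rwa [inv_mul_cancel_left] at this
  obtain ⟨d, hd⟩ := Subgroup.card_subgroup_dvd_card H
  have hdmod : ∀ (p : ℕ) [Fact p.Prime] (x : GT), orderOf x = p → ¬ p * p ∣ Nat.card GT → x ∈ H →
      normalizer (zpowers x : Set GT) ≤ H → d % p = 1 := by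
    intro p _ x hx hpp hxH hN
    obtain ⟨n, hn1, hn2⟩ := card_eq_mul_normalizer p hx hpp H hxH
    obtain ⟨n', hn1', hn2'⟩ := card_eq_mul_normalizer p hx hpp ⊤ (mem_top x)
    rw [inf_eq_left.mpr hN] at hn2
    rw [inf_top_eq, Subgroup.card_top, hd, hn2] at hn2'
    have hpos : 0 < Nat.card ↥(normalizer (zpowers x : Set GT)) := Nat.card_pos
    have he : n * d = n' := Nat.eq_of_mul_eq_mul_right hpos (by rw [← hn2']; ring)
    have : n' % p = d % p := by rw [← he, Nat.mul_mod, hn1, one_mul, Nat.mod_mod]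
    omega
  have h23 := hdmod 23 gA orderOf_gA p23 hA hNA
  have h11 := hdmod 11 gB orderOf_gB p11 hB hNB
  obtain ⟨j, hj⟩ := Subgroup.card_dvd_of_le hMH
  rw [card_MT] at hj
  have hdd : d ∣ 48600 := by
    refine ⟨j, Nat.eq_of_mul_eq_mul_left (show 0 < 10200960 by norm_num) ?_⟩
    rw [show 10200960 * 48600 = Nat.card GT by rw [card_GT], hd, hj]
    ring
  rcases step_large d (by have := Nat.le_of_dvd (by norm_num) hdd; omega) (Nat.mod_eq_zero_of_dvd hdd) h23 h11
    with rfl | rfl
  · exact Subgroup.eq_top_of_card_eq _ (by rw [hd, mul_one])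
  · exfalso
    set H' : Subgroup Co0 := H.map GT.subtype with hH'
    have hcard' : Nat.card H' = Nat.card H :=
      (Nat.card_congr (H.equivMapOfInjective GT.subtype GT.subtype_injective).toEquiv).symm
    set S : Subgroup Co0 := H' ⊓ MulAction.stabilizer Co0 (latE none) with hS
    have hfac : Nat.card H' = (MulAction.orbit H' (latE none)).ncard * Nat.card S := by
      have hmap : (MulAction.stabilizer H' (latE none)).map H'.subtype = S := by
        ext σ
        simp only [hS, Subgroup.mem_map, Subgroup.mem_inf, MulAction.mem_stabilizer_iff]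
        constructor
        · rintro ⟨τ, hτ, rfl⟩; exact ⟨τ.2, hτ⟩
        · rintro ⟨hσ, hp⟩; exact ⟨⟨σ, hσ⟩, hp, rfl⟩
      rw [← hmap, ← Nat.card_congr ((MulAction.stabilizer H' (latE none)).equivMapOfInjective H'.subtype
        H'.subtype_injective).toEquiv, ← MulAction.index_stabilizer, Subgroup.index_mul_card]
    have hSge : 10200960 ≤ Nat.card S := by
      have hle : MT.map GT.subtype ≤ S := by
        rintro _ ⟨g, hg, rfl⟩
        refine ⟨⟨g, hMH hg, rfl⟩, ?_⟩
        obtain ⟨τ, rfl⟩ := hg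
        show ((emb τ : GT) : Co0) • latE none = latE none
        rw [coe_emb, permW_latE]
        exact congrArg latE ((mem_fixPts.mp τ.2).2 none (by simp))
      have := co0_finite
      refine le_trans (le_of_eq ?_) (Nat.card_le_card_of_injective _ (Subgroup.inclusion_injective hle))
      rw [← card_MT]
      exact Nat.card_congr (MT.equivMapOfInjective GT.subtype GT.subtype_injective).toEquiv
    have horb : 25 ≤ (MulAction.orbit H' (latE none)).ncard := by
      have := co0_finite
      set O := MulAction.orbit H' (latE none)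
      have hOfin : O.Finite := Set.finite_range _
      have hmem : ∀ f ∈ orbWords, ∃ w ∈ O, vecList (w : GolayPt → ℤ) = f (unitList 23) := by
        intro f hf
        simp only [orbWords, List.mem_cons, List.mem_map, List.mem_range] at hf
        obtain ⟨g, hg, hfg⟩ : ∃ g ∈ H, Acts g f := by
          rcases hf with rfl | rfl | ⟨i, -, rfl⟩
          · exact ⟨1, one_mem _, acts_one⟩
          · exact ⟨_, mul_mem hZ (mul_mem (pow_mem hA 2) hZ), acts_mul acts_gZ (acts_mul (acts_gA_pow 2) acts_gZ)⟩
          · exact ⟨_, mul_mem (pow_mem hA i) hZ, acts_mul (acts_gA_pow i) acts_gZ⟩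
        refine ⟨(g : Co0) • latE none, MulAction.mem_orbit_iff.mpr ⟨⟨(g : Co0), g, hg, rfl⟩, rfl⟩, ?_⟩
        rw [hfg, show (none : GolayPt) = pt 23 from rfl, vecList_latE]
      have hnd : (orbWords.map fun f => f (unitList 23)).Nodup := by decide +kernel
      have hlen : orbWords.length = 25 := by simp [orbWords]
      have h25 : ((orbWords.map fun f => f (unitList 23)).toFinset : Set (List ℤ)).ncard = 25 := by
        rw [Set.ncard_coe_finset, List.toFinset_card_of_nodup hnd, List.length_map, hlen]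
      rw [← h25]
      refine le_trans (Set.ncard_le_ncard ?_ (hOfin.image fun w : leechLattice => vecList (w : GolayPt → ℤ)))
        (Set.ncard_image_le hOfin)
      intro l hl
      simp only [List.coe_toFinset, Set.mem_ofPred_eq, List.mem_map] at hl
      obtain ⟨f, hf, rfl⟩ := hl
      obtain ⟨w, hw, e⟩ := hmem f hf
      exact ⟨w, hw, e⟩
    have h1 : 25 * 10200960 ≤ Nat.card H := by
      rw [← hcard', hfac]; exact Nat.mul_le_mul horb hSge
    rw [card_GT] at hd
    omega

end CfsgLib.Sporadic.Conway.ThreeOut
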