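import Cfsg.Agent.Lib.Sporadic.ConwayPairs
import Cfsg.Agent.Lib.Sporadic.ConwayThreeGen
import Cfsg.Agent.Lib.Schur.OutM22
import Cfsg.Agent.Lib.MonsterType.LatTest
import Cfsg.Agent.Lib.Golay.LeechOrbit.Elem

/-!
# Lists for the pair stabilisers containing the Mathieu group on 22 points
-/

set_option autoImplicit false

namespace CfsgLib.Sporadic.PairOut

open Cfsg CfsgLib.Golay CfsgLib.MonsterType CfsgLib.LeechEight Subgroup
open CfsgLib.Schur.GolayOut CfsgLib.Schur.GolaySearch
open CfsgLib.Schur.OutM22 (genA genB genC genAL genBL genCL toList_genA toList_genB toList_genC)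
open ConwayPairs (pairStab)
open CfsgLib.Golay.LeechOrbit (forceL forceL_eq)
open scoped Pointwise
open Conway.ThreeOut (vecList vecList_injective dotList dotList_ofFn unitList vecList_latE permL)

/-! ### Actions on lists -/

/-- An automorphism with its action on lists. -/
def Acts (g : Co0) (f : List ℤ → List ℤ) : Prop :=
  ∀ x : leechLattice, vecList ((g • x : leechLattice) : GolayPt → ℤ) = f (vecList (x : GolayPt → ℤ))

theorem acts_one : Acts 1 id := fun x => by rw [one_smul]; rfl

theorem acts_mul {g h : Co0} {f f' : List ℤ → List ℤ} (hg : Acts g f) (hh : Acts h f') :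
    Acts (g * h) (f ∘ f') := fun x => by rw [mul_smul, hg, hh]; rfl

theorem acts_pow {g : Co0} {f : List ℤ → List ℤ} (hg : Acts g f) : ∀ n : ℕ, Acts (g ^ n) f^[n]
  | 0 => by rw [pow_zero]; exact acts_one
  | n + 1 => by
    rw [pow_succ', Function.iterate_succ']
    exact acts_mul hg (acts_pow hg n)

/-- Equality on all coordinate vectors. -/
def sameMap (f f' : List ℤ → List ℤ) : Bool :=
  (List.range 24).all fun n => f (unitList (Fin.ofNat 24 n)) == f' (unitList (Fin.ofNat 24 n))

theorem eq_iff_sameMap {g h : Co0} {f f' : List ℤ → List ℤ} (hg : Acts g f) (hh : Acts h f') :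
    g = h ↔ sameMap f f' = true := by
  rw [sameMap, List.all_eq_true]
  simp only [beq_iff_eq]
  constructor
  · rintro rfl n _
    rw [← vecList_latE, ← hg, hh]
  · intro hs
    refine ext_latE fun p => Subtype.ext (vecList_injective ?_)
    have h1 := hs (idx p).val (List.mem_range.mpr (idx p).isLt)
    rw [show Fin.ofNat 24 (idx p).val = idx p from Fin.ext (Nat.mod_eq_of_lt (idx p).isLt)] at h1
    rw [hg, hh, ← pt_idx p, vecList_latE]
    exact h1

/-- Fixing the base coordinate vectors. -/
def isIdB (f : List ℤ → List ℤ) : Bool :=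
  basePos.all fun n => f (unitList (Fin.ofNat 24 n)) == unitList (Fin.ofNat 24 n)

/-- The action of a list of rows. -/
def stepRows (R : List (List ℤ)) (l : List ℤ) : List ℤ :=
  forceL l fun l => R.map fun r => dotList l r / 8

theorem acts_rowsAut {R : List (List ℤ)} (hR : frameTest R = true)
    (hr : R = List.ofFn fun k : Fin 24 => vecList (rowsFrame R (pt k))) :
    Acts (rowsAut hR) (stepRows R) := by
  intro u
  rw [coe_rowsAut, stepRows, forceL_eq]
  conv_rhs => rw [hr]
  rw [List.map_ofFn, vecList]
  refine congrArg List.ofFn (funext fun k => ?_)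
  simp only [Function.comp_apply, vecList, dotList_ofFn]
  exact congrArg (· / 8) (Equiv.sum_comp ptEquiv fun p => (u : GolayPt → ℤ) p * rowsFrame R (pt k) p).symm

theorem acts_permW (σ : M24) (L : List ℕ) (hL : toList ((σ : Equiv.Perm GolayPt)⁻¹) = L) :
    Acts (permW σ) (permL L) := by
  intro u
  refine List.ext_getElem (by simp [vecList, permL, ← hL, toList_length]) fun k h1 h2 => ?_
  have hk : k < 24 := by simpa [vecList] using h1
  have e : (L[k]'(by simpa [permL] using h2)) = (idx ((σ : Equiv.Perm GolayPt).symm (pt ⟨k, hk⟩))).val := by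
    subst hL
    exact toList_getElem _ k hk
  simp only [permL, List.getElem_map, e, vecList, List.getElem_ofFn, List.getD_eq_getElem?_getD]
  rw [List.getElem?_eq_getElem (by simp), Option.getD_some, List.getElem_ofFn, permW_apply]
  simp only [Fin.eta, pt_idx]

/-- The inverse of the element of order 11 as a list. -/
def invAL : List ℕ := [0,19,7,10,12,13,20,22,6,18,14,1,21,17,4,11,3,9,2,16,5,15,8,23]

/-- The inverse of the element of order 5 as a list. -/
def invBL : List ℕ := [0,1,17,19,16,18,22,7,9,2,14,12,4,8,15,3,21,13,6,10,5,11,20,23]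

theorem genA_mem' : genA ∈ fixPts [none, some 0] :=
  sporM22_eq ▸ CfsgLib.Schur.OutM22.gens_mem genA (by simp)

theorem genB_mem' : genB ∈ fixPts [none, some 0] :=
  sporM22_eq ▸ CfsgLib.Schur.OutM22.gens_mem genB (by simp)

/-- The element of order 11. -/
def pA : fixPts [none, some 0] := ⟨genA, genA_mem'⟩

/-- The element of order 5. -/
def pB : fixPts [none, some 0] := ⟨genB, genB_mem'⟩

theorem orderOf_genA : orderOf genA = 11 := by
  have := Fact.mk (show Nat.Prime 11 by norm_num)
  exact orderOf_eq_prime (toList_injective (by rw [toList_pow, toList_genA, toList_one]; decide +kernel))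
    fun h => absurd (congrArg toList h) (by rw [toList_genA, toList_one]; decide +kernel)

theorem orderOf_genB : orderOf genB = 5 := by
  have := Fact.mk (show Nat.Prime 5 by norm_num)
  exact orderOf_eq_prime (toList_injective (by rw [toList_pow, toList_genB, toList_one]; decide +kernel))
    fun h => absurd (congrArg toList h) (by rw [toList_genB, toList_one]; decide +kernel)

theorem centA : ((found side22 genAL CfsgLib.Schur.OutM22.stagesA).all fun l =>
    (List.range 11).any fun i => l == powList genAL i) = true := by decide +kernel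

theorem stagesA_ok : stagesOK genAL 0 CfsgLib.Schur.OutM22.stagesA = true ∧
    candsOK (fixCand [23, 0]) CfsgLib.Schur.OutM22.stagesA = true := by decide +kernel

theorem centB : ((found side22 genBL CfsgLib.Schur.OutM22.stagesB).all fun l =>
    (List.range 5).any fun i => l == powList genBL i) = true := by decide +kernel

theorem stagesB_ok : stagesOK genBL 0 CfsgLib.Schur.OutM22.stagesB = true ∧
    candsOK (fixCand [23, 0]) CfsgLib.Schur.OutM22.stagesB = true := by decide +kernel

theorem pow_of_commute {σ x : fixPts [none, some 0]} {l : List ℕ} (hl : toList (x : Equiv.Perm GolayPt) = l)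
    {ss : List Stage} (hok : stagesOK l 0 ss = true ∧ candsOK (fixCand [23, 0]) ss = true) {n : ℕ}
    (hall : ((found side22 l ss).all fun m => (List.range n).any fun i => m == powList l i) = true)
    (h : σ * x = x * σ) : ∃ i < n, σ = x ^ i := by
  have hσ : (σ : Equiv.Perm GolayPt) ∈ Spor.M22 := sporM22_eq.symm ▸ σ.2
  have hm := mem_found ((mem_M22_side _).mp hσ).1 ((mem_M22_side _).mp hσ).2 (cand_M22 hσ)
    (t := (x : Equiv.Perm GolayPt)) (mul_inv_eq_iff_eq_mul.mpr (congrArg Subtype.val h)) hl hl hok.1 hok.2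
  obtain ⟨i, hi, e⟩ := List.any_eq_true.mp (List.all_eq_true.mp hall _ hm)
  refine ⟨i, List.mem_range.mp hi, Subtype.ext (toList_injective ?_)⟩
  rw [SubgroupClass.coe_pow, toList_pow, hl]
  exact beq_iff_eq.mp e

/-- The conjugator to the doubling. -/
def piL : List ℕ := [0, 1, 14, 12, 11, 7, 19, 22, 10, 3, 5, 18, 4, 16, 13, 17, 15, 20, 21, 8, 2, 9, 6, 23]

/-- The conjugator to the doubling as a permutation. -/
def piP : Equiv.Perm GolayPt :=
  ⟨imgFun piL, imgFun [0, 1, 20, 9, 12, 10, 22, 5, 19, 21, 8, 4, 3, 14, 2, 16, 13, 15, 11, 6, 17, 18, 7, 23],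
    by decide +kernel, by decide +kernel⟩

theorem piP_spec : piP ∈ fixPts [none, some 0] ∧ genA = piP * doublePerm ^ 2 * piP⁻¹ := by
  refine ⟨mem_fixPts.mpr ⟨mem_M24_iff_isPres.mpr (by decide +kernel), by decide +kernel⟩, ?_⟩
  decide +kernel

/-! ### The classes of the element of order 5 -/

/-- The cycle of each position. -/
def cycTab : List ℕ := [1, 2, 4, 5, 6, 7, 7, 3, 4, 4, 5, 6, 6, 4, 5, 5, 6, 4, 7, 5, 7, 6, 7, 0]

/-- The cycle of each point. -/
def cls8 (p : GolayPt) : Fin 8 := Fin.ofNat 8 (cycTab.getD (idx p).val 0)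

/-- The representative of each cycle. -/
def rep8 (j : Fin 8) : GolayPt := pt (Fin.ofNat 24 ([23, 0, 1, 7, 2, 3, 4, 5].getD j.val 0))

theorem exists_pow_rep : ∀ p : GolayPt, ∃ n : Fin 5, (genB ^ n.val) (rep8 (cls8 p)) = p := by decide +kernel

theorem sum_cls8 (F : Fin 8 → ℤ) :
    ∑ p, F (cls8 p) = F 0 + F 1 + F 2 + F 3 + 5 * (F 4 + F 5 + F 6 + F 7) := by
  rw [← Finset.sum_fiberwise' Finset.univ cls8 F]
  have hc : ∀ j : Fin 8, (Finset.univ.filter fun p => cls8 p = j).card = [1, 1, 1, 1, 5, 5, 5, 5].getD j.val 0 := by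
    decide +kernel
  simp only [Finset.sum_const, hc, nsmul_eq_mul, Fin.sum_univ_eight]
  simp
  ring

/-- A vector constant on the cycles. -/
def pat8 (a b c d p1 p2 p3 p4 : ℤ) : GolayPt → ℤ := fun i => ![a, b, c, d, p1, p2, p3, p4] (cls8 i)

/-- The search for vectors fixed by the element of order 5. -/
def solCheck (t : ℤ) (sols : List (List ℤ)) : Bool :=
  (List.range 7).all fun P1 => (List.range 7).all fun P2 => (List.range 7).all fun P3 => (List.range 7).all fun P4 =>
    let p1 : ℤ := (P1 : ℤ) - 3
    let p2 : ℤ := (P2 : ℤ) - 3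
    let p3 : ℤ := (P3 : ℤ) - 3
    let p4 : ℤ := (P4 : ℤ) - 3
    let r : ℤ := Int.mul 5 (p1 * p1 + p2 * p2 + p3 * p3 + p4 * p4)
    !decide (r ≤ 64) || (List.range 17).all fun A =>
      let a : ℤ := (A : ℤ) - 8
      let b : ℤ := (32 - 4 * a) / t
      !decide (r + (a * a + b * b) ≤ 64) || (List.range 17).all fun C =>
        let c : ℤ := (C : ℤ) - 8
        let d : ℤ := 40 - 5 * a - b - c - 5 * (p1 + p2 + p3 + p4)
        !decide (r + (a * a + b * b) + (c * c + d * d) = 64) ||
          (!leechTest (pat8 a b c d p1 p2 p3 p4) || sols.contains (vecList (pat8 a b c d p1 p2 p3 p4)))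

end CfsgLib.Sporadic.PairOut
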