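import Cfsg.Agent.Lib.Sporadic.J1Cert
import Cfsg.Agent.Lib.Sporadic.J1InvolutionData

/-! Kernel evaluation of the certificates for the involutions of J1. -/

set_option autoImplicit false

namespace CfsgLib.Sporadic.J1

/-- The code of the involution. -/
noncomputable def invCode : ℕ := genWord mul one gens invWord
/-- The code of the element of order 3. -/
noncomputable def xCode : ℕ := genWord mul one gens invX
/-- The code of the element of order 5. -/
noncomputable def yCode : ℕ := genWord mul one gens invY

theorem inv_rels : (mul invCode invCode == one && !(invCode == one) &&
    mul xCode (mul xCode xCode) == one &&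
    mul yCode (mul yCode (mul yCode (mul yCode yCode))) == one && !(yCode == one) &&
    mul (mul xCode yCode) (mul xCode yCode) == one &&
    mul invCode xCode == mul xCode invCode && mul invCode yCode == mul yCode invCode &&
    canon invCode && canon yCode && canon one && clsT.get 0 == invCode) = true := by
  decide +kernel

theorem cls_par : allFrom 1 1462 (fun i => Nat.blt (clsPar.get i % 1463) i &&
    mul (gens.getD (clsPar.get i / 1463) one) (clsT.get (clsPar.get i % 1463)) ==
      mul (clsT.get i) (gens.getD (clsPar.get i / 1463) one)) = true := by
  decide +kernel

theorem cls_dist : allFrom 0 1463 (distinctOK canon 1463 clsT clsSrt clsPos clsInv) = true := by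
  decide +kernel

end CfsgLib.Sporadic.J1
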