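import Cfsg.Agent.Lib.Sporadic.J1
import Cfsg.Agent.Lib.Sporadic.J1InvolutionCert
import Cfsg.Agent.Lib.PSL2.Icosahedral
import Cfsg.Agent.Lib.Order7920.Edge
import Mathlib.Data.ZMod.QuotientGroup

/-! J1 has an involution with centraliser the product of a group of order two and A5. -/

set_option autoImplicit false

noncomputable section

namespace CfsgLib.Sporadic.J1

open CfsgLib.PSL2

theorem exists_elem {c : ℕ} (h : CodeMem emb dec Cfsg.Spor.J1 c) :
    ∃ g : Cfsg.Spor.J1, emb g.1 = dec c :=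
  let ⟨g, hg, e⟩ := h
  ⟨⟨g, hg⟩, e⟩

theorem ext_code {a b : Cfsg.Spor.J1} {c d : ℕ} (ha : emb a.1 = dec c) (hb : emb b.1 = dec d)
    (h : c = d) : a = b :=
  Subtype.ext (hemb (by rw [ha, hb, h]))

theorem emb_mul {a b : Cfsg.Spor.J1} {c d : ℕ} (ha : emb a.1 = dec c) (hb : emb b.1 = dec d) :
    emb (a * b).1 = dec (mul c d) := by
  rw [hmul, ← ha, ← hb, ← map_mul]
  rfl

theorem emb_one : emb (1 : Cfsg.Spor.J1).1 = dec one := by
  rw [hone, OneMemClass.coe_one, map_one]

theorem index_eq_of_distinct {canon : ℕ → Bool} {n : ℕ} {T srt pos inv : Tr}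
    (h : allFrom 0 n (distinctOK canon n T srt pos inv) = true) {i j : ℕ} (hi : i < n) (hj : j < n)
    (he : T.get i = T.get j) : i = j := by
  have hb : ∀ i < n, pos.get i < n ∧ srt.get (pos.get i) = T.get i ∧ inv.get (pos.get i) = i ∧
      (i + 1 < n → srt.get i < srt.get (i + 1)) := by
    intro i hi
    have hb := of_allFrom_zero h hi
    simp only [distinctOK, Bool.and_eq_true, Bool.or_eq_true, beq_iff_eq, Nat.blt_eq,
      Nat.ble_eq] at hb
    exact ⟨hb.1.1.1.2, hb.1.1.2, hb.1.2, fun hlt => hb.2.resolve_left (by omega)⟩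
  have hmono : ∀ i j, i < j → j < n → srt.get i < srt.get j := by
    intro i j hij hjn
    induction j with
    | zero => omega
    | succ j ih =>
      rcases Nat.lt_or_ge i j with hlt | hge
      · exact (ih hlt (by omega)).trans ((hb j (by omega)).2.2.2 hjn)
      · obtain rfl : i = j := by omega
        exact (hb i (by omega)).2.2.2 hjn
  obtain ⟨pi, si, vi, -⟩ := hb i hi
  obtain ⟨pj, sj, vj, -⟩ := hb j hj
  have e' : srt.get (pos.get i) = srt.get (pos.get j) := by rw [si, sj, he]
  rcases lt_trichotomy (pos.get i) (pos.get j) with hl | hl | hl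
  · exact absurd e' (hmono _ _ hl pj).ne
  · rw [← vi, ← vj, hl]
  · exact absurd e' (hmono _ _ hl pi).ne'

/-- An involution with centraliser containing, and of order at most that of, `Z2 × A5`. -/
theorem exists_involution : ∃ (t : Cfsg.Spor.J1) (x y : Cfsg.Spor.J1), orderOf t = 2 ∧
    x ^ 3 = 1 ∧ y ^ 5 = 1 ∧ (x * y) ^ 2 = 1 ∧ y ≠ 1 ∧ x * t = t * x ∧ y * t = t * y ∧
    Nat.card (Subgroup.centralizer ({t} : Set Cfsg.Spor.J1)) ≤ 120 := by
  have hr := inv_rels
  simp only [Bool.and_eq_true, beq_iff_eq, Bool.not_eq_true', beq_eq_false_iff_ne] at hr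
  obtain ⟨⟨⟨⟨⟨⟨⟨⟨⟨⟨⟨htt, ht1⟩, hx3⟩, hy5⟩, hy1⟩, hxy⟩, htx⟩, hty⟩, hct⟩, hcy⟩, hco⟩, h0⟩ := hr
  obtain ⟨t, et⟩ := exists_elem (codeMem_genWord hmul hone gens_mem invWord)
  obtain ⟨x, ex⟩ := exists_elem (codeMem_genWord hmul hone gens_mem invX)
  obtain ⟨y, ey⟩ := exists_elem (codeMem_genWord hmul hone gens_mem invY)
  have htne : t ≠ 1 := fun h => ht1 (hinj _ _ hct hco (by rw [← emb_one, ← h]; exact et.symm))
  refine ⟨t, x, y, orderOf_eq_prime ?_ htne, ?_, ?_, ?_, ?_, ?_, ?_, ?_⟩
  · rw [pow_two]; exact ext_code (emb_mul et et) emb_one htt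
  · rw [pow_succ', pow_succ', pow_one]
    exact ext_code (emb_mul ex (emb_mul ex ex)) emb_one hx3
  · rw [pow_succ', pow_succ', pow_succ', pow_succ', pow_one]
    exact ext_code (emb_mul ey (emb_mul ey (emb_mul ey (emb_mul ey ey)))) emb_one hy5
  · rw [pow_two]
    exact ext_code (emb_mul (emb_mul ex ey) (emb_mul ex ey)) emb_one hxy
  · intro h
    exact hy1 (hinj _ _ hcy hco (by rw [← emb_one, ← h]; exact ey.symm))
  · exact ext_code (emb_mul ex et) (emb_mul et ex) htx.symm
  · exact ext_code (emb_mul ey et) (emb_mul et ey) hty.symm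
  -- the class has at least 1463 elements
  have hmem : ∀ i < 1463, ∃ u : Cfsg.Spor.J1, emb u.1 = dec (clsT.get i) ∧ IsConj t u := by
    intro i
    induction i using Nat.strong_induction_on with
    | _ i ih =>
      intro hi
      rcases Nat.eq_zero_or_pos i with rfl | hpos
      · exact ⟨t, by rw [h0]; exact et, IsConj.refl t⟩
      have hb := allFrom_eq_true.1 cls_par i hpos (by omega)
      simp only [Bool.and_eq_true, beq_iff_eq, Nat.blt_eq] at hb
      obtain ⟨u, eu, hu⟩ := ih _ hb.1 (by omega)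
      obtain ⟨s, es⟩ : ∃ s : Cfsg.Spor.J1, emb s.1 = dec (gens.getD (clsPar.get i / 1463) one) := by
        refine exists_elem ?_
        rcases Nat.lt_or_ge (clsPar.get i / 1463) gens.length with hlt | hge
        · rw [List.getD_eq_getElem _ _ hlt]
          exact gens_mem _ (List.getElem_mem hlt)
        · rw [List.getD_eq_default _ _ hge]
          exact codeMem_one hone
      refine ⟨s * u * s⁻¹, ?_, hu.trans (isConj_iff.2 ⟨s, rfl⟩)⟩
      have e : emb ((s * u * s⁻¹) * s).1 = dec (mul (gens.getD (clsPar.get i / 1463) one)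
          (clsT.get (clsPar.get i % 1463))) := by
        rw [inv_mul_cancel_right]; exact emb_mul es eu
      rw [hb.2, hmul, Subgroup.coe_mul, map_mul, ← es] at e
      exact (Units.mul_left_inj s.1).1 e
  let _ : Fintype Cfsg.Spor.J1 := Fintype.ofFinite _
  choose u hu hconj using fun i : Fin 1463 => hmem i i.2
  have hb : ∀ i < 1463, canon (clsT.get i) = true := fun i hi => by
    have h := of_allFrom_zero cls_dist hi
    simp only [distinctOK, Bool.and_eq_true] at h
    exact h.1.1.1.1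
  have hcls : 1463 ≤ (Subgroup.centralizer ({t} : Set Cfsg.Spor.J1)).index := by
    rw [CfsgLib.Order7920.ncard_isConj t]
    have hge : 1463 ≤ Nat.card ↥({h : Cfsg.Spor.J1 | IsConj t h}) := by
      have hinj' : ∀ i j : Fin 1463, u i = u j → clsT.get i = clsT.get j := fun i j h =>
        hinj _ _ (hb _ i.2) (hb _ j.2) (by rw [← hu i, ← hu j, h])
      refine le_of_eq_of_le (Nat.card_fin 1463).symm (Nat.card_le_card_of_injective
        (fun i => (⟨u i, hconj i⟩ : ↥({h : Cfsg.Spor.J1 | IsConj t h}))) fun i j h => ?_)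
      exact Fin.ext (index_eq_of_distinct cls_dist i.2 j.2
        (hinj' i j (congrArg Subtype.val h)))
    rwa [Nat.card_coe_set_eq] at hge
  have h := (Subgroup.centralizer ({t} : Set Cfsg.Spor.J1)).card_mul_index
  rw [card_J1] at h
  refine Nat.le_of_mul_le_mul_right ?_ (show 0 < 1463 by omega)
  calc Nat.card (Subgroup.centralizer ({t} : Set Cfsg.Spor.J1)) * 1463
      ≤ Nat.card (Subgroup.centralizer ({t} : Set Cfsg.Spor.J1)) *
        (Subgroup.centralizer ({t} : Set Cfsg.Spor.J1)).index := Nat.mul_le_mul_left _ hcls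
    _ = 120 * 1463 := by rw [h]

theorem exists_centralizer_equiv : ∃ t : ↥Cfsg.Spor.J1, orderOf t = 2 ∧
    Nonempty (↥(Subgroup.centralizer ({t} : Set ↥Cfsg.Spor.J1)) ≃*
      Multiplicative (ZMod 2) × ↥(alternatingGroup (Fin 5))) := by
  obtain ⟨t, x, y, ht, hx, hy, hxy, hne, hcx, hcy, hle⟩ := exists_involution
  refine ⟨t, ht, ?_⟩
  set C := Subgroup.centralizer ({t} : Set ↥Cfsg.Spor.J1)
  obtain ⟨f, hf, -, -⟩ := exists_hom_alt_five
    (x := (⟨x, Subgroup.mem_centralizer_singleton_iff.2 hcx⟩ : C))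
    (y := ⟨y, Subgroup.mem_centralizer_singleton_iff.2 hcy⟩)
    (Subtype.ext hx) (Subtype.ext hy) (Subtype.ext hxy) (fun h => hne (congrArg Subtype.val h))
  set T : C := ⟨t, Subgroup.mem_centralizer_singleton_iff.2 rfl⟩
  have hT : orderOf T = 2 := by rw [← Subgroup.orderOf_coe]; exact ht
  have hcT : ∀ c : C, T * c = c * T := fun c =>
    Subtype.ext (Subgroup.mem_centralizer_singleton_iff.1 c.2).symm
  let Φ : ↥(Subgroup.zpowers T) × ↥(alternatingGroup (Fin 5)) →* C :=
    MonoidHom.noncommCoprod (Subgroup.zpowers T).subtype f fun a b => by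
      obtain ⟨k, hk⟩ := Subgroup.mem_zpowers_iff.1 a.2
      show Commute (a : C) (f b)
      rw [← hk]
      exact (show Commute T (f b) from hcT _).zpow_left k
  have hΦ : Function.Injective Φ := by
    rw [injective_iff_map_eq_one]
    rintro ⟨a, b⟩ h
    have h' : (a : C) * f b = 1 := h
    have hcentral : b ∈ Subgroup.center (alternatingGroup (Fin 5)) := by
      refine Subgroup.mem_center_iff.2 fun g => hf ?_
      have hb : f b = (a : C)⁻¹ := eq_inv_of_mul_eq_one_right h'
      obtain ⟨k, hk⟩ := Subgroup.mem_zpowers_iff.1 a.2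
      rw [map_mul, map_mul, hb, ← hk]
      exact ((show Commute T (f g) from hcT _).zpow_left k).inv_left.eq.symm
    have hcen : Subgroup.center (alternatingGroup (Fin 5)) = ⊥ := by
      refine (Subgroup.Normal.eq_bot_or_eq_top inferInstance).resolve_right fun htop => ?_
      have hc : icoX * icoY = icoY * icoX :=
        (Subgroup.mem_center_iff.1 (htop ▸ Subgroup.mem_top icoY) icoX)
      revert hc; decide
    rw [hcen, Subgroup.mem_bot] at hcentral
    rw [hcentral, map_one, mul_one] at h'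
    exact Prod.ext (Subtype.ext h') hcentral
  have hcard : Nat.card (↥(Subgroup.zpowers T) × ↥(alternatingGroup (Fin 5))) = 120 := by
    rw [Nat.card_prod, Nat.card_zpowers, hT, card_alt_five]
  have hbij : Function.Bijective Φ := (Nat.bijective_iff_injective_and_card Φ).2
    ⟨hΦ, le_antisymm (Nat.card_le_card_of_injective Φ hΦ) (by rw [hcard]; exact hle)⟩
  exact ⟨(MulEquiv.ofBijective Φ hbij).symm.trans (MulEquiv.prodCongr
    ((zmodCyclicMulEquiv (Subgroup.isCyclic_zpowers T)).symm.trans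
      (AddEquiv.toMultiplicative (ZMod.ringEquivCongr (by rw [Nat.card_zpowers, hT])).toAddEquiv))
    (MulEquiv.refl _))⟩

end CfsgLib.Sporadic.J1
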