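import Mathlib

/-! The index of a self-centralising elementary abelian normal subgroup. -/

set_option autoImplicit false

namespace CfsgLib.Sporadic.AutElementary

variable {G : Type*} [Group G] [Finite G]

/-- The index divides the order of the general linear group. -/
theorem index_dvd_card_GL {q a : ℕ} [Fact q.Prime] {N : Subgroup G} [N.Normal]
    (hcard : Nat.card N = q ^ a) (hcomm : ∀ m ∈ N, ∀ n ∈ N, m * n = n * m)
    (hexp : ∀ n ∈ N, n ^ q = 1) (hcent : Subgroup.centralizer (N : Set G) = N) :
    N.index ∣ Nat.card (GL (Fin a) (ZMod q)) := by
  letI : CommGroup N :=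
    { (inferInstance : Group N) with mul_comm := fun m n => Subtype.ext (hcomm m m.2 n n.2) }
  haveI : Module (ZMod q) (Additive N) := AddCommGroup.zmodModule fun x =>
    Additive.toMul.injective (Subtype.ext (hexp _ (Additive.toMul x).2))
  have hfin : Module.finrank (ZMod q) (Additive N) = a := by
    have h := Module.natCard_eq_pow_finrank (K := ZMod q) (V := Additive N)
    rw [Nat.card_zmod, Nat.card_congr (Additive.toMul : Additive N ≃ N), hcard] at h
    exact (Nat.pow_right_injective (Fact.out : q.Prime).two_le h).symm
  let b := Module.finBasisOfFinrankEq (ZMod q) (Additive N) hfin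
  let lin : G →* Module.End (ZMod q) (Additive N) :=
    { toFun := fun g => AddMonoidHom.toZModLinearMap q
        (MonoidHom.toAdditive (MulAut.conjNormal g : MulAut N).toMonoidHom)
      map_one' := by
        apply LinearMap.ext
        intro x
        apply Additive.toMul.injective
        apply Subtype.ext
        show (1 : G) * ((Additive.toMul x : N) : G) * (1 : G)⁻¹ = _
        simp
      map_mul' := fun g h => by
        apply LinearMap.ext
        intro x
        apply Additive.toMul.injective
        apply Subtype.ext
        show (g * h) * ((Additive.toMul x : N) : G) * (g * h)⁻¹ =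
          g * (h * ((Additive.toMul x : N) : G) * h⁻¹) * g⁻¹
        simp [mul_assoc] }
  let ρ : G →* GL (Fin a) (ZMod q) :=
    (Units.map ((LinearMap.toMatrixAlgEquiv b).toMonoidHom :
      Module.End (ZMod q) (Additive N) →* Matrix (Fin a) (Fin a) (ZMod q))).comp lin.toHomUnits
  have hker : ρ.ker = N := by
    rw [← hcent]
    ext g
    rw [MonoidHom.mem_ker, Subgroup.mem_centralizer_iff]
    constructor
    · intro h n hn
      have h1 : LinearMap.toMatrixAlgEquiv b (lin g) = 1 := congrArg Units.val h
      rw [← map_one (LinearMap.toMatrixAlgEquiv b)] at h1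
      have h2 := congrArg (fun z : Additive N => ((Additive.toMul z : N) : G))
        (LinearMap.congr_fun ((LinearMap.toMatrixAlgEquiv b).injective h1) (Additive.ofMul ⟨n, hn⟩))
      change g * n * g⁻¹ = n at h2
      rw [mul_inv_eq_iff_eq_mul] at h2
      exact h2.symm
    · intro h
      apply Units.ext
      show LinearMap.toMatrixAlgEquiv b (lin g) = 1
      rw [← map_one (LinearMap.toMatrixAlgEquiv b)]
      congr 1
      apply LinearMap.ext
      intro x
      apply Additive.toMul.injective
      apply Subtype.ext
      show g * ((Additive.toMul x : N) : G) * g⁻¹ = ((Additive.toMul x : N) : G)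
      rw [mul_inv_eq_iff_eq_mul]
      exact (h _ (Additive.toMul x).2).symm
  have := Subgroup.card_subgroup_dvd_card ρ.range
  rwa [← Subgroup.index_ker, hker] at this

end CfsgLib.Sporadic.AutElementary
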