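import Mathlib
import Cfsg.Agent.Lib.Golay.Co0
import Cfsg.Agent.Lib.Golay.Mathieu
import Cfsg.Agent.Lib.Sporadic.NormalizerCriterion

/-! Vectors fixed by elements of order 23 and 11, and the normalisers of those elements. -/

set_option autoImplicit false

namespace CfsgLib.Sporadic.Conway

open Cfsg CfsgLib.MonsterType CfsgLib.LeechEight CfsgLib.Golay

theorem sgnW_zero : sgnW (0 : golayCode) = 1 := map_one sgnHom

theorem permW_injective : Function.Injective permW := fun σ τ h =>
  mono_unique (c := 0) (d := 0) (by rw [h])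

theorem permHom_injective : Function.Injective permHom := permW_injective

/-- `(-3, 1^23)`. -/
def lA : leechLattice := ⟨oddVec, oddVec_mem⟩

theorem coe_add_lat (v w : leechLattice) :
    ((v + w : leechLattice) : GolayPt → ℤ) = (v : GolayPt → ℤ) + (w : GolayPt → ℤ) := rfl

theorem lA_none : (lA : GolayPt → ℤ) none = -3 := by simp [lA, oddVec]

theorem lA_some (i : GolayPt) (h : i ≠ none) : (lA : GolayPt → ℤ) i = 1 := by simp [lA, oddVec, h]

theorem sqNorm_lA : sqNorm (lA : GolayPt → ℤ) = 32 := by decide +kernel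

theorem sqNorm_lA_add : sqNorm ((lA + latE none : leechLattice) : GolayPt → ℤ) = 48 := by decide +kernel

theorem dot_lA_add : dotInt (lA : GolayPt → ℤ) ((lA + latE none : leechLattice) : GolayPt → ℤ) = 8 := by
  decide +kernel

/-- An element normalising a cyclic group permutes its fixed vectors. -/
theorem fixed_smul {X g : Co0} (h : g⁻¹ * X * g ∈ Subgroup.zpowers X) {v : leechLattice}
    (hv : X • v = v) : X • (g • v) = g • v := by
  obtain ⟨k, hk⟩ := Subgroup.mem_zpowers_iff.1 h
  have hk' : X ^ k • v = v := by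
    have : X ∈ MulAction.stabilizer Co0 v := hv
    exact (MulAction.stabilizer Co0 v).zpow_mem this k
  have e : X * g = g * X ^ k := by rw [hk]; group
  rw [← mul_smul, e, mul_smul, hk']

theorem conj_mem_of_mem_normalizer {X g : Co0}
    (h : g ∈ Subgroup.normalizer (Subgroup.zpowers X : Set Co0)) :
    g⁻¹ * X * g ∈ Subgroup.zpowers X :=
  (Subgroup.mem_normalizer_iff''.1 h X).1 (Subgroup.mem_zpowers X)

theorem fixed_const {σ : M24} {v : leechLattice} (h : permW σ • v = v) (n : ℕ) (i : GolayPt) :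
    (v : GolayPt → ℤ) (((σ : Equiv.Perm GolayPt) ^ n) i) = (v : GolayPt → ℤ) i := by
  induction n with
  | zero => rfl
  | succ n ih =>
    rw [pow_succ', Equiv.Perm.mul_apply]
    have h1 := congrFun (congrArg Subtype.val h) ((σ : Equiv.Perm GolayPt) (((σ : Equiv.Perm GolayPt) ^ n) i))
    rw [permW_apply, Equiv.symm_apply_apply] at h1
    rw [← h1, ih]

theorem permW_fix {σ : M24} {v : leechLattice}
    (h : ∀ i, (v : GolayPt → ℤ) ((σ : Equiv.Perm GolayPt) i) = (v : GolayPt → ℤ) i) :
    permW σ • v = v := by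
  apply Subtype.ext
  funext i
  rw [permW_apply]
  simpa using (h ((σ : Equiv.Perm GolayPt).symm i)).symm

/-- The element of order 23. -/
def shiftEl : M24 := ⟨shiftPerm, shiftPerm_mem_M24⟩

theorem shift_cover : ∀ i : GolayPt, i = none ∨ ∃ k : Fin 23, (shiftPerm ^ k.val) (some 0) = i := by
  decide +kernel

theorem shift_pattern {v : leechLattice} (h : permW shiftEl • v = v) :
    ∀ i, i ≠ none → (v : GolayPt → ℤ) i = (v : GolayPt → ℤ) (some 0) := by
  intro i hi
  obtain ⟨k, hk⟩ := (shift_cover i).resolve_left hi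
  rw [← hk]
  exact fixed_const h k.val (some 0)

theorem shift_fix_latE : permW shiftEl • latE none = latE none := by
  rw [permW_latE]
  rfl

theorem shift_fix_lA : permW shiftEl • lA = lA := by
  apply permW_fix
  decide +kernel

theorem sum_shift {F : GolayPt → ℤ} {b : ℤ} (h : ∀ i, i ≠ none → F i = b) :
    ∑ i, F i = F none + 23 * b := by
  rw [Fintype.sum_option, Finset.sum_congr rfl fun i _ => h (some i) (Option.some_ne_none i),
    Finset.sum_const, Finset.card_univ, ZMod.card, nsmul_eq_mul]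
  rfl

theorem shift_data {v : leechLattice} (h : permW shiftEl • v = v) :
    sqNorm (v : GolayPt → ℤ) =
        (v : GolayPt → ℤ) none ^ 2 + 23 * (v : GolayPt → ℤ) (some 0) ^ 2 ∧
      (8 : ℤ) ∣ -3 * (v : GolayPt → ℤ) none + 23 * (v : GolayPt → ℤ) (some 0) := by
  have hp := shift_pattern h
  constructor
  · exact sum_shift fun i hi => by rw [hp i hi]
  · have h8 := eight_dvd_dot v.2 oddVec_mem
    rw [dot_oddVec, sum_shift hp] at h8
    convert h8 using 1
    ring

theorem shift_fixed_32 {v : leechLattice} (h : permW shiftEl • v = v)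
    (hn : sqNorm (v : GolayPt → ℤ) = 32) : v = lA ∨ v = -lA := by
  obtain ⟨h1, h8⟩ := shift_data h
  have hp := shift_pattern h
  rw [hn] at h1
  set a := (v : GolayPt → ℤ) none
  set b := (v : GolayPt → ℤ) (some 0) with hb
  have hb1 : b = 0 ∨ b = 1 ∨ b = -1 := by
    have : -1 ≤ b ∧ b ≤ 1 := ⟨by nlinarith, by nlinarith⟩
    omega
  have ha : -5 ≤ a ∧ a ≤ 5 := ⟨by nlinarith, by nlinarith⟩
  have key : (a = -3 ∧ b = 1) ∨ (a = 3 ∧ b = -1) := by
    obtain ⟨ha1, ha2⟩ := ha
    rcases hb1 with hb' | hb' | hb' <;> rw [hb'] at h1 h8 ⊢ <;> interval_cases a <;>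
      first
        | exact Or.inl ⟨rfl, rfl⟩
        | exact Or.inr ⟨rfl, rfl⟩
        | omega
  rcases key with ⟨ea, eb⟩ | ⟨ea, eb⟩
  · refine Or.inl (Subtype.ext (funext fun i => ?_))
    rcases eq_or_ne i none with rfl | hi
    · rw [lA_none]; exact ea
    · rw [lA_some i hi, hp i hi]; exact eb
  · refine Or.inr (Subtype.ext (funext fun i => ?_))
    rw [AddSubgroup.coe_neg, Pi.neg_apply]
    rcases eq_or_ne i none with rfl | hi
    · rw [lA_none, neg_neg]; exact ea
    · rw [lA_some i hi, hp i hi]; exact eb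

theorem shift_fixed_48 {v : leechLattice} (h : permW shiftEl • v = v)
    (hn : sqNorm (v : GolayPt → ℤ) = 48) : v = lA + latE none ∨ v = -(lA + latE none) := by
  obtain ⟨h1, h8⟩ := shift_data h
  have hp := shift_pattern h
  rw [hn] at h1
  set a := (v : GolayPt → ℤ) none
  set b := (v : GolayPt → ℤ) (some 0) with hb
  have hb1 : b = 0 ∨ b = 1 ∨ b = -1 := by
    have : -1 ≤ b ∧ b ≤ 1 := ⟨by nlinarith, by nlinarith⟩
    omega
  have ha : -6 ≤ a ∧ a ≤ 6 := ⟨by nlinarith, by nlinarith⟩
  have key : (a = 5 ∧ b = 1) ∨ (a = -5 ∧ b = -1) := by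
    obtain ⟨ha1, ha2⟩ := ha
    rcases hb1 with hb' | hb' | hb' <;> rw [hb'] at h1 h8 ⊢ <;> interval_cases a <;>
      first
        | exact Or.inl ⟨rfl, rfl⟩
        | exact Or.inr ⟨rfl, rfl⟩
        | omega
  have he : ∀ i, i ≠ none → ((lA + latE none : leechLattice) : GolayPt → ℤ) i = 1 := fun i hi => by
    rw [coe_add_lat, Pi.add_apply, lA_some i hi, coe_latE, Pi.single_eq_of_ne hi, add_zero]
  have he' : ((lA + latE none : leechLattice) : GolayPt → ℤ) none = 5 := by decide +kernel
  rcases key with ⟨ea, eb⟩ | ⟨ea, eb⟩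
  · refine Or.inl (Subtype.ext (funext fun i => ?_))
    rcases eq_or_ne i none with rfl | hi
    · rw [he']; exact ea
    · rw [he i hi, hp i hi]; exact eb
  · refine Or.inr (Subtype.ext (funext fun i => ?_))
    rw [AddSubgroup.coe_neg, Pi.neg_apply]
    rcases eq_or_ne i none with rfl | hi
    · rw [he']; exact ea
    · rw [he i hi, hp i hi]; exact eb

/-- An element permuting the vectors fixed by the element of order 23. -/
theorem shift_normalizer {g : Co0} (hg : g⁻¹ * permW shiftEl * g ∈ Subgroup.zpowers (permW shiftEl)) :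
    (g • lA = lA ∧ g • latE none = latE none) ∨ (g • lA = -lA ∧ g • latE none = -latE none) := by
  have hA := shift_fixed_32 (fixed_smul hg shift_fix_lA) (by rw [sqNorm_smul_lat]; exact sqNorm_lA)
  have hB := shift_fixed_48 (fixed_smul hg (v := lA + latE none)
    (by rw [smul_add', shift_fix_lA, shift_fix_latE]))
    (by rw [sqNorm_smul_lat]; exact sqNorm_lA_add)
  have hd := dot_smul_lat g lA (lA + latE none)
  rw [dot_lA_add] at hd
  have hneg : dotInt (lA : GolayPt → ℤ) ((-(lA + latE none) : leechLattice) : GolayPt → ℤ) = -8 := by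
    rw [AddSubgroup.coe_neg, dot_neg_right, dot_lA_add]
  have hneg' : dotInt ((-lA : leechLattice) : GolayPt → ℤ) ((lA + latE none : leechLattice) : GolayPt → ℤ) = -8 := by
    rw [dot_symm, AddSubgroup.coe_neg, dot_neg_right, dot_symm, dot_lA_add]
  rcases hA with hA | hA <;> rcases hB with hB | hB
  · refine Or.inl ⟨hA, ?_⟩
    rw [smul_add', hA] at hB
    exact add_left_cancel hB
  · rw [hA, hB, hneg] at hd; norm_num at hd
  · rw [hA, hB, hneg'] at hd; norm_num at hd
  · refine Or.inr ⟨hA, ?_⟩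
    rw [smul_add', hA, neg_add] at hB
    exact add_left_cancel hB

/-- The monomial form of an element fixing `8 e` at the extra point. -/
theorem exists_monomial {g : Co0} (h : g • latE none = latE none) :
    ∃ (c : golayCode) (σ : M24), g = sgnW c * permW σ ∧ (σ : Equiv.Perm GolayPt) none = none ∧
      c.1 none = 0 := by
  obtain ⟨c, σ, rfl⟩ := cong_latE_iff.mp (show Cong (g • latE none) (latE none) by rw [h]; exact Cong.refl' _)
  rw [mul_smul, permW_latE, sgnW_latE] at h
  split_ifs at h with hc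
  · have hσ := latE_inj (Or.inl h)
    exact ⟨c, σ, rfl, hσ, by rwa [hσ] at hc⟩
  · exfalso
    have hσ := latE_inj (Or.inr (by rw [← h, neg_neg]) : latE ((σ : Equiv.Perm GolayPt) none) = latE none ∨
      latE ((σ : Equiv.Perm GolayPt) none) = -latE none)
    rw [hσ] at h
    have h1 := congrFun (congrArg Subtype.val h) none
    rw [AddSubgroup.coe_neg, Pi.neg_apply, latE_apply, if_pos rfl] at h1
    norm_num at h1

/-- Fixing `8 e` and a vector equal to one non-zero number elsewhere leaves only permutations. -/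
theorem eq_permW {g : Co0} (h : g • latE none = latE none) {v : leechLattice} {b : ℤ} (hb : b ≠ 0)
    (hv : ∀ i, i ≠ none → (v : GolayPt → ℤ) i = b) (hgv : g • v = v) :
    ∃ σ : M24, g = permW σ ∧ (σ : Equiv.Perm GolayPt) none = none := by
  obtain ⟨c, σ, rfl, hσ, hc⟩ := exists_monomial h
  have hall : c = 0 := by
    apply Subtype.ext
    funext i
    rcases eq_or_ne i none with rfl | hi
    · exact hc
    by_contra hne
    replace hne : ¬ c.1 i = 0 := hne
    have h1 := congrFun (congrArg Subtype.val hgv) i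
    rw [mul_smul, sgnW_apply, permW_apply, if_neg hne, hv i hi, hv _ (fun e => hi ?_)] at h1
    · omega
    · rw [← Equiv.apply_symm_apply (σ : Equiv.Perm GolayPt) i, e, hσ]
  exact ⟨σ, by rw [hall, sgnW_zero, one_mul], hσ⟩

/-- The element of order 11. -/
def doubleEl : M24 := ⟨doublePerm, doublePerm_mem_M24⟩

/-- The class of a point under the element of order 11. -/
def cls (i : GolayPt) : Fin 4 :=
  if i = none then 0 else if i = some 0 then 1
  else if ∃ k : Fin 11, (doublePerm ^ k.val) (some 1) = i then 2 else 3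

theorem double_cover : ∀ i : GolayPt, i = none ∨ i = some 0 ∨
    (∃ k : Fin 11, (doublePerm ^ k.val) (some 1) = i) ∨ ∃ k : Fin 11, (doublePerm ^ k.val) (some 5) = i := by
  decide +kernel

theorem double_pattern {v : leechLattice} (h : permW doubleEl • v = v) (i : GolayPt) :
    (v : GolayPt → ℤ) i = (![(v : GolayPt → ℤ) none, (v : GolayPt → ℤ) (some 0),
      (v : GolayPt → ℤ) (some 1), (v : GolayPt → ℤ) (some 5)] : Fin 4 → ℤ) (cls i) := by
  rw [cls]
  split_ifs with h1 h2 h3
  · rw [h1]; rfl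
  · rw [h2]; rfl
  · obtain ⟨k, hk⟩ := h3
    rw [← hk]
    exact fixed_const h k.val (some 1)
  · obtain ⟨k, hk⟩ := (((double_cover i).resolve_left h1).resolve_left h2).resolve_left h3
    rw [← hk]
    exact fixed_const h k.val (some 5)

theorem card_cls : ∀ j : Fin 4, (Finset.univ.filter fun i => cls i = j).card = ![1, 1, 11, 11] j := by
  decide +kernel

theorem sum_cls (F : Fin 4 → ℤ) : ∑ i, F (cls i) = F 0 + F 1 + 11 * F 2 + 11 * F 3 := by
  rw [← Finset.sum_fiberwise Finset.univ cls]
  have : ∀ j, ∑ i ∈ Finset.univ.filter (fun i => cls i = j), F (cls i) =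
      ((Finset.univ.filter fun i => cls i = j).card : ℤ) * F j := by
    intro j
    rw [Finset.sum_congr rfl fun i hi => by rw [(Finset.mem_filter.1 hi).2], Finset.sum_const,
      nsmul_eq_mul]
  simp only [this, card_cls, Fin.sum_univ_four]
  simp

theorem double_pair {v : leechLattice} (h : permW doubleEl • v = v)
    (hn : sqNorm (v : GolayPt → ℤ) = 32) {s : ℤ} (hs : s = 1 ∨ s = -1)
    (hV : dotInt Spor.vecV (v : GolayPt → ℤ) = -20 - 4 * s)
    (hU : (v : GolayPt → ℤ) none = s * (v : GolayPt → ℤ) (some 0)) :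
    (v : GolayPt → ℤ) = fun p => if p = none then 4 else if p = some 0 then 4 * s else 0 := by
  have hp := double_pattern h
  set a := (v : GolayPt → ℤ) none
  set b := (v : GolayPt → ℤ) (some 0)
  set c := (v : GolayPt → ℤ) (some 1)
  set d := (v : GolayPt → ℤ) (some 5)
  have hN : a ^ 2 + b ^ 2 + 11 * c ^ 2 + 11 * d ^ 2 = 32 := by
    rw [← hn, sqNorm]
    conv_rhs => rw [Finset.sum_congr rfl fun i _ => by rw [hp i]]
    rw [sum_cls (fun j => (![a, b, c, d] : Fin 4 → ℤ) j ^ 2)]
    simp
  have hD : -5 * a - b - 11 * c - 11 * d = -20 - 4 * s := by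
    rw [← hV, dotInt]
    have hvv : ∀ i, Spor.vecV i = (![-5, -1, -1, -1] : Fin 4 → ℤ) (cls i) := by decide +kernel
    conv_rhs => rw [Finset.sum_congr rfl fun i _ => by rw [hvv i, hp i]]
    rw [sum_cls (fun j => (![-5, -1, -1, -1] : Fin 4 → ℤ) j * (![a, b, c, d] : Fin 4 → ℤ) j)]
    simp
    ring
  have hcd : c ^ 2 + d ^ 2 ≤ 2 := by nlinarith [sq_nonneg a, sq_nonneg b]
  have hc : -1 ≤ c ∧ c ≤ 1 := ⟨by nlinarith [sq_nonneg d], by nlinarith [sq_nonneg d]⟩
  have hd : -1 ≤ d ∧ d ≤ 1 := ⟨by nlinarith [sq_nonneg c], by nlinarith [sq_nonneg c]⟩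
  have hb : -4 ≤ b ∧ b ≤ 4 := by
    rcases hs with rfl | rfl <;> constructor <;>
      nlinarith [sq_nonneg c, sq_nonneg d, hU]
  have key : a = 4 ∧ b = 4 * s ∧ c = 0 ∧ d = 0 := by
    obtain ⟨h1, h2⟩ := hb
    obtain ⟨h3, h4⟩ := hc
    obtain ⟨h5, h6⟩ := hd
    rcases hs with rfl | rfl <;> rw [hU] at hN hD ⊢ <;> interval_cases b <;> interval_cases c <;>
      interval_cases d <;> omega
  funext i
  rw [hp i, key.1, key.2.1, key.2.2.1, key.2.2.2, cls]
  split_ifs <;> rfl

end CfsgLib.Sporadic.Conway
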