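import Mathlib
import Cfsg.Agent.Lib.Sporadic.ConwayLocal
import Cfsg.Agent.Lib.Sporadic.AutElementary
import Cfsg.Prelude.Def_Sporadic

/-! The stabilisers of vectors of norms 32 and 48 are simple. -/

set_option autoImplicit false

namespace CfsgLib.Sporadic.ConwayTwoThree

open Cfsg CfsgLib.MonsterType CfsgLib.LeechEight CfsgLib.Golay
open CfsgLib.Sporadic.Conway CfsgLib.Sporadic.NormalizerCriterion

variable {v : leechLattice}

/-- The permutations fixing the extra point, inside the stabiliser of `v`. -/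
def embed (hv : ∀ i, i ≠ none → (v : GolayPt → ℤ) i = 1) :
    fixPts [none] →* MulAction.stabilizer Co0 v :=
  (permHom.comp (Subgroup.inclusion (fixPts_le_M24 [none]))).codRestrict _ fun σ => by
    show permW _ • v = v
    apply permW_fix
    intro i
    have h0 : (σ : Equiv.Perm GolayPt) none = none := (mem_fixPts.1 σ.2).2 none (by simp)
    rcases eq_or_ne i none with rfl | hi
    · exact congrArg _ h0
    · rw [hv i hi, hv]
      exact fun e => hi ((σ : Equiv.Perm GolayPt).injective (e.trans h0.symm))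

variable (hv : ∀ i, i ≠ none → (v : GolayPt → ℤ) i = 1)

theorem embed_injective : Function.Injective (embed hv) := fun σ τ h =>
  Subgroup.inclusion_injective (fixPts_le_M24 [none]) (permHom_injective (congrArg Subtype.val h))

/-- The element of order 23 in the stabiliser. -/
def xEl : MulAction.stabilizer Co0 v :=
  embed hv ⟨shiftPerm, mem_fixPts.mpr ⟨shiftPerm_mem_M24, by decide +kernel⟩⟩

theorem orderOf_xEl : orderOf (xEl hv) = 23 := by
  rw [xEl, orderOf_injective _ (embed_injective hv), ← Subgroup.orderOf_coe]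
  exact orderOf_shiftPerm

theorem coe_xEl : ((xEl hv : MulAction.stabilizer Co0 v) : Co0) = permW shiftEl := rfl

theorem range_simple : IsSimpleGroup (embed hv).range := by
  have := isSimpleGroup_sporM23
  rw [sporM23_eq] at this
  exact (MonoidHom.ofInjective (embed_injective hv)).symm.isSimpleGroup

theorem normalizer_le (hneg : ∀ g : Co0, g • lA = -lA → g • latE none = -latE none → g • v = -v) :
    Subgroup.normalizer (Subgroup.zpowers (xEl hv) : Set (MulAction.stabilizer Co0 v)) ≤
      (embed hv).range := by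
  rintro ⟨g, hg⟩ hn
  have h1 : g⁻¹ * permW shiftEl * g ∈ Subgroup.zpowers (permW shiftEl) := by
    have h := (Subgroup.mem_normalizer_iff''.1 hn (xEl hv)).1 (Subgroup.mem_zpowers _)
    obtain ⟨k, hk⟩ := Subgroup.mem_zpowers_iff.1 h
    refine Subgroup.mem_zpowers_iff.2 ⟨k, ?_⟩
    have h' := congrArg Subtype.val hk
    rw [Subgroup.coe_zpow, coe_xEl] at h'
    exact h'
  have hlat : g • latE none = latE none := by
    rcases shift_normalizer h1 with ⟨-, h⟩ | ⟨hA, h⟩
    · exact h
    · exfalso
      have h2 := hneg g hA h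
      rw [show g • v = v from hg] at h2
      have h3 := congrFun (congrArg Subtype.val h2) (some 0)
      rw [AddSubgroup.coe_neg, Pi.neg_apply, hv _ (Option.some_ne_none 0)] at h3
      norm_num at h3
  obtain ⟨σ, hσ, hσ0⟩ := eq_permW hlat one_ne_zero hv hg
  exact ⟨⟨σ, mem_fixPts.mpr ⟨σ.2, by simpa using hσ0⟩⟩, Subtype.ext hσ.symm⟩

theorem lA_one : ∀ i, i ≠ none → (lA : GolayPt → ℤ) i = 1 := lA_some

theorem lA_add_one : ∀ i, i ≠ none → ((lA + latE none : leechLattice) : GolayPt → ℤ) i = 1 :=
  fun i hi => by rw [coe_add_lat, Pi.add_apply, lA_some i hi, coe_latE, Pi.single_eq_of_ne hi, add_zero]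

theorem prime23 : Fact (Nat.Prime 23) := ⟨by norm_num⟩

theorem card_co2 : Nat.card (MulAction.stabilizer Co0 lA) = 42305421312000 := by
  have h := natCard_stabilizer_of_trans sqNorm_lA fun w hw => exists_smul_eq_norm32 sqNorm_lA hw
  rw [natCard_Co0] at h
  have hc : {x : GolayPt → ℤ | x ∈ leechLattice ∧ sqNorm x = 32}.ncard = 196560 := by
    rw [← card_norm32, ← Set.ncard_coe_finset]
    congr 1
    ext x
    simp [mem_norm32]
  rw [hc] at h
  omega

theorem card_co3 : Nat.card (MulAction.stabilizer Co0 (lA + latE none)) = 495766656000 := by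
  have h := natCard_stabilizer_of_trans sqNorm_lA_add fun w hw => exists_smul_eq_norm48 sqNorm_lA_add hw
  rw [natCard_Co0] at h
  have hc : {x : GolayPt → ℤ | x ∈ leechLattice ∧ sqNorm x = 48}.ncard = 16773120 := by
    rw [← card_norm48, ← Set.ncard_coe_finset]
    congr 1
    ext x
    simp [mem_norm48]
  rw [hc] at h
  omega

theorem isCo3_base : IsCo3 (MulAction.stabilizer Co0 (lA + latE none)) := by
  have := co0_finite
  have := prime23
  refine ⟨?_, card_co3⟩
  refine NormalizerCriterion.isSimpleGroup (p := 23) (by rw [card_co3]; norm_num) (orderOf_xEl lA_add_one)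
    (K := (embed lA_add_one).range) ⟨_, rfl⟩ (range_simple _)
    (normalizer_le _ fun g h1 h2 => by rw [smul_add', h1, h2, neg_add])
    [(2, 10), (3, 7), (5, 3), (7, 1), (11, 1), (23, 1)] (by rw [card_co3]; norm_num) (by norm_num)
    (by rw [card_co3]; norm_num) (by decide +kernel)

theorem five_part : ¬ 5 ^ 3 ∣ Nat.card (GL (Fin 11) (ZMod 2)) := by
  rw [Matrix.card_GL_field, ZMod.card]
  decide +kernel

theorem isCo2_base : IsCo2 (MulAction.stabilizer Co0 lA) := by
  have := co0_finite
  have := prime23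
  have : Fact (Nat.Prime 2) := ⟨Nat.prime_two⟩
  refine ⟨?_, card_co2⟩
  have : Nontrivial (MulAction.stabilizer Co0 lA) :=
    Finite.one_lt_card_iff_nontrivial.1 (by rw [card_co2]; norm_num)
  refine ⟨fun N hN => ?_⟩
  rcases normal_structure (p := 23) (q₀ := 2) (a := 11) (by rw [card_co2]; norm_num)
    (orderOf_xEl lA_one) (K := (embed lA_one).range) ⟨_, rfl⟩ (range_simple _)
    (normalizer_le _ fun g h1 _ => h1)
    [(2, 18), (3, 6), (5, 3), (7, 1), (11, 1), (23, 1)] (by rw [card_co2]; norm_num) (by norm_num)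
    (by rw [card_co2]; norm_num) (by decide +kernel) (fun k hk hk1 => by
      have hle : k ≤ 18 := by
        by_contra h
        have := (pow_dvd_pow 2 (show 19 ≤ k by omega)).trans (card_co2 ▸ hk)
        norm_num at this
      interval_cases k <;> simp_all) N with h | h | ⟨hc, hcomm, hexp, hcent⟩
  · exact Or.inl h
  · exact Or.inr h
  · exfalso
    apply five_part
    refine dvd_trans ?_ (AutElementary.index_dvd_card_GL hc hcomm hexp hcent)
    have hmul := N.index_mul_card
    rw [card_co2, hc] at hmul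
    rw [show N.index = 20656944000 by omega]
    norm_num

/-- Transfer to any vector in the orbit. -/
theorem equiv_of_smul {g : Co0} {u w : leechLattice} (h : g • u = w) :
    Nonempty (MulAction.stabilizer Co0 w ≃* MulAction.stabilizer Co0 u) :=
  ⟨(MulAction.stabilizerEquivStabilizer h.symm).symm⟩

theorem isCo2 (w : leechLattice) (hw : sqNorm (w : GolayPt → ℤ) = 32) :
    IsCo2 (MulAction.stabilizer Co0 w) := by
  obtain ⟨g, hg⟩ := exists_smul_eq_norm32 sqNorm_lA hw
  obtain ⟨e⟩ := equiv_of_smul hg
  obtain ⟨hs, hc⟩ := isCo2_base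
  exact ⟨e.isSimpleGroup, (Nat.card_congr e.toEquiv).trans hc⟩

theorem isCo3 (w : leechLattice) (hw : sqNorm (w : GolayPt → ℤ) = 48) :
    IsCo3 (MulAction.stabilizer Co0 w) := by
  obtain ⟨g, hg⟩ := exists_smul_eq_norm48 sqNorm_lA_add hw
  obtain ⟨e⟩ := equiv_of_smul hg
  obtain ⟨hs, hc⟩ := isCo3_base
  exact ⟨e.isSimpleGroup, (Nat.card_congr e.toEquiv).trans hc⟩

end CfsgLib.Sporadic.ConwayTwoThree
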