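import Cfsg.Agent.Lib.Sporadic.ConwayPairs
import Cfsg.Agent.Lib.Sporadic.ConwayTwoThree
import Cfsg.Agent.Lib.Golay.LeechOrbit.Transfer

/-! The pair stabilisers as McL and HS, from the two orbit counts. -/

set_option autoImplicit false

namespace CfsgLib.Sporadic.ConwayPairOrders

open Cfsg CfsgLib.MonsterType CfsgLib.LeechEight CfsgLib.Golay CfsgLib.Golay.LeechOrbit
open CfsgLib.Sporadic.ConwayPairs

theorem sqNorm_leechV : sqNorm (Spor.leechV : GolayPt → ℤ) = 48 := by decide +kernel

theorem consStab_one (c : ℤ) :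
    consStab [(Spor.leechV, c)] = MulAction.stabilizer Co0 Spor.leechV := by
  ext γ
  simp [mem_consStab, MulAction.mem_stabilizer_iff]

theorem card_pair {c : ℤ} {r : leechLattice} {n : ℕ} (h : OrbitSpec [(Spor.leechV, c)] r n) :
    Nat.card (pairStab r) * n = 495766656000 := by
  have := co0_finite
  set H := MulAction.stabilizer Co0 Spor.leechV
  have hH : Nat.card H = 495766656000 := (ConwayTwoThree.isCo3 _ sqNorm_leechV).2
  have horb : MulAction.orbit H r = consSet [(Spor.leechV, c)] := by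
    have h' := h.orbit_eq h.root_mem
    rw [consStab_one] at h'
    exact h'
  have hos := (MulAction.stabilizer H r).card_mul_index
  rw [MulAction.index_stabilizer, horb, h.ncard, hH] at hos
  have hst : MulAction.stabilizer H r = (pairStab r).subgroupOf H := by
    ext γ
    simp [Subgroup.mem_subgroupOf, MulAction.mem_stabilizer_iff, H, Subgroup.smul_def,
      MulAction.mem_stabilizer_iff.1 γ.2]
  rwa [hst, Nat.card_congr (Subgroup.subgroupOfEquivOfLe (inf_le_left)).toEquiv] at hos

theorem pairStab_neg (r : leechLattice) : pairStab (-r) = pairStab r := by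
  refine congrArg (_ ⊓ ·) ?_
  ext γ
  rw [MulAction.mem_stabilizer_iff, MulAction.mem_stabilizer_iff, smul_neg', neg_inj]

theorem inf_stab_congr {a b v w : leechLattice}
    (h : ∀ γ : Co0, (γ • a = a ∧ γ • b = b) ↔ (γ • v = v ∧ γ • w = w)) :
    MulAction.stabilizer Co0 a ⊓ MulAction.stabilizer Co0 b =
      MulAction.stabilizer Co0 v ⊓ MulAction.stabilizer Co0 w := by
  ext γ
  exact h γ

theorem stab_equiv (g : Co0) (a b : leechLattice) :
    Nonempty (↥(MulAction.stabilizer Co0 a ⊓ MulAction.stabilizer Co0 b) ≃*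
      ↥(MulAction.stabilizer Co0 (g • a) ⊓ MulAction.stabilizer Co0 (g • b))) := by
  refine ⟨((MulAut.conj g).subgroupMap _).trans (MulEquiv.subgroupCongr ?_)⟩
  rw [MulAction.stabilizer_smul_eq_stabilizer_map_conj, MulAction.stabilizer_smul_eq_stabilizer_map_conj,
    ← Subgroup.map_inf _ _ _ (MulAut.conj g).injective]
  rfl

/-- The general pair reduced to the standard one. -/
theorem exists_equiv {c : ℤ} {r : leechLattice} {n : ℕ} (h : OrbitSpec [(Spor.leechV, c)] r n)
    {a b : leechLattice} (ha : sqNorm (a : GolayPt → ℤ) = 48) (hb : sqNorm (b : GolayPt → ℤ) = 32)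
    (hab : dotInt (a : GolayPt → ℤ) (b : GolayPt → ℤ) = c) :
    Nonempty (↥(MulAction.stabilizer Co0 a ⊓ MulAction.stabilizer Co0 b) ≃* ↥(pairStab r)) := by
  obtain ⟨g, hg⟩ := exists_smul_eq_norm48 ha sqNorm_leechV
  have hmem : g • b ∈ consSet [(Spor.leechV, c)] := by
    refine ⟨by rw [sqNorm_smul_lat]; exact hb, fun d hd => ?_⟩
    rw [List.mem_singleton.1 hd, ← hg, dot_smul_lat]
    exact hab
  obtain ⟨γ, hγ, e⟩ := h.exists_smul hmem h.root_mem
  obtain ⟨f⟩ := stab_equiv (γ * g) a b
  refine ⟨f.trans (MulEquiv.subgroupCongr ?_)⟩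
  rw [mul_smul, mul_smul, hg, e, hγ _ (List.mem_singleton_self _)]

theorem isMcL (hA : OrbitSpec [(Spor.leechV, 24)] (-Spor.leechU) 552) (v w : leechLattice)
    (hv : sqNorm (v : GolayPt → ℤ) = 32) (hw : sqNorm (w : GolayPt → ℤ) = 32)
    (hvw : dotInt (v : GolayPt → ℤ) (w : GolayPt → ℤ) = -8) :
    IsMcL ↥(MulAction.stabilizer Co0 v ⊓ MulAction.stabilizer Co0 w) := by
  have hcard : Nat.card (pairStab Spor.leechU) = 898128000 := by
    have h := card_pair hA
    rw [pairStab_neg] at h
    exact Nat.eq_of_mul_eq_mul_right (show 0 < 552 by norm_num) (h.trans (by norm_num))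
  have hstd := isMcL_of_card hcard
  have ha : sqNorm ((-(v + w) : leechLattice) : GolayPt → ℤ) = 48 := by
    rw [AddSubgroup.coe_neg, AddSubgroup.coe_add, sqNorm_neg, sqNorm_add_eq, hv, hw, hvw]
    norm_num
  have hab : dotInt ((-(v + w) : leechLattice) : GolayPt → ℤ) ((-w : leechLattice) : GolayPt → ℤ) = 24 := by
    rw [AddSubgroup.coe_neg, AddSubgroup.coe_neg, AddSubgroup.coe_add, dot_neg_right, dot_symm,
      dot_neg_right, neg_neg, dot_add_right, dot_symm (w : GolayPt → ℤ) (v : GolayPt → ℤ), hvw,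
      dot_self, hw]
    norm_num
  have hb : sqNorm ((-w : leechLattice) : GolayPt → ℤ) = 32 := by
    rw [AddSubgroup.coe_neg, sqNorm_neg, hw]
  obtain ⟨f⟩ := exists_equiv hA ha hb hab
  rw [inf_stab_congr (a := v) (b := w) (v := -(v + w)) (w := -w) fun γ => by
    constructor
    · rintro ⟨h1, h2⟩; exact ⟨by rw [smul_neg', smul_add', h1, h2], by rw [smul_neg', h2]⟩
    · rintro ⟨h1, h2⟩
      rw [smul_neg', neg_inj] at h1 h2
      rw [smul_add', h2] at h1
      exact ⟨add_right_cancel h1, h2⟩]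
  rw [pairStab_neg] at f
  have := hstd.1
  exact ⟨f.isSimpleGroup, (Nat.card_congr f.toEquiv).trans hstd.2⟩

theorem isHS (hB : OrbitSpec [(Spor.leechV, -16)] Spor.leechU' 11178) (v w : leechLattice)
    (hv : sqNorm (v : GolayPt → ℤ) = 48) (hw : sqNorm (w : GolayPt → ℤ) = 48)
    (hvw : dotInt (v : GolayPt → ℤ) (w : GolayPt → ℤ) = -32) :
    IsHS ↥(MulAction.stabilizer Co0 v ⊓ MulAction.stabilizer Co0 w) := by
  have hcard : Nat.card (pairStab Spor.leechU') = 44352000 := by
    have h := card_pair hB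
    exact Nat.eq_of_mul_eq_mul_right (show 0 < 11178 by norm_num) (h.trans (by norm_num))
  have hstd := isHS_of_card hcard
  have hb : sqNorm ((-(v + w) : leechLattice) : GolayPt → ℤ) = 32 := by
    rw [AddSubgroup.coe_neg, AddSubgroup.coe_add, sqNorm_neg, sqNorm_add_eq, hv, hw, hvw]
    norm_num
  have hab : dotInt (v : GolayPt → ℤ) ((-(v + w) : leechLattice) : GolayPt → ℤ) = -16 := by
    rw [AddSubgroup.coe_neg, AddSubgroup.coe_add, dot_neg_right, dot_add_right, hvw, dot_self, hv]
    norm_num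
  obtain ⟨f⟩ := exists_equiv hB hv hb hab
  rw [inf_stab_congr (a := v) (b := w) (v := v) (w := -(v + w)) fun γ => by
    constructor
    · rintro ⟨h1, h2⟩; exact ⟨h1, by rw [smul_neg', smul_add', h1, h2]⟩
    · rintro ⟨h1, h2⟩
      rw [smul_neg', neg_inj, smul_add', h1] at h2
      exact ⟨h1, add_left_cancel h2⟩]
  have := hstd.1
  exact ⟨f.isSimpleGroup, (Nat.card_congr f.toEquiv).trans hstd.2⟩

end CfsgLib.Sporadic.ConwayPairOrders
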