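import Mathlib

/-!
Kernel-checkable certificates for orders of finite groups given by coded elements.

A group `G` embeds in a monoid `M` by `emb`; natural numbers code elements of `M` by `dec`,
with a product `mul` of codes.  A level consists of a list of generator codes, a table `T` of
`n` codes (`T.get 0` the identity), a table of parents showing that every entry lies in the
generated subgroup, and a table of factorisations showing that the products `g * T i` lie in
`T * K`.  This bounds the order of the generated subgroup by `n * card K`; a table of distinct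
entries gives the matching lower bound.
-/

set_option autoImplicit false

open scoped Pointwise

namespace CfsgLib.Sporadic

/-- A binary trie of naturals, indexed by the binary digits of the index, least significant first. -/
inductive Tr : Type where
  | leaf (v : ℕ)
  | node (l r : Tr)

/-- The entry at an index. -/
noncomputable def Tr.get (t : Tr) : ℕ → ℕ :=
  Tr.rec (fun v _ => v) (fun _ _ gl gr i => bif i % 2 == 0 then gl (i / 2) else gr (i / 2)) t

/-- `p` holds at `lo, lo + 1, ..., lo + m - 1`. -/
noncomputable def allFrom (lo m : ℕ) (p : ℕ → Bool) : Bool :=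
  Nat.rec true (fun i r => p (lo + i) && r) m

theorem allFrom_eq_true {lo m : ℕ} {p : ℕ → Bool} :
    allFrom lo m p = true ↔ ∀ i, lo ≤ i → i < lo + m → p i = true := by
  induction m with
  | zero =>
    refine iff_of_true rfl fun i hi hi' => ?_
    omega
  | succ m ih =>
    change (p (lo + m) && allFrom lo m p) = true ↔ _
    rw [Bool.and_eq_true, ih]
    constructor
    · rintro ⟨h, h'⟩ i hi hi'
      rcases Nat.lt_or_ge i (lo + m) with hlt | hge
      · exact h' i hi hlt
      · obtain rfl : i = lo + m := by omega
        exact h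
    · exact fun h => ⟨h _ (by omega) (by omega), fun i hi hi' => h i hi (by omega)⟩

theorem allFrom_append {lo m k : ℕ} {p : ℕ → Bool} (h₁ : allFrom lo m p = true)
    (h₂ : allFrom (lo + m) k p = true) : allFrom lo (m + k) p = true := by
  rw [allFrom_eq_true] at h₁ h₂ ⊢
  intro i hi hi'
  rcases Nat.lt_or_ge i (lo + m) with hlt | hge
  · exact h₁ i hi hlt
  · exact h₂ i hge (by omega)

theorem of_allFrom_zero {n : ℕ} {p : ℕ → Bool} (h : allFrom 0 n p = true) {i : ℕ} (hi : i < n) :
    p i = true :=
  allFrom_eq_true.1 h i (Nat.zero_le _) (by omega)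

section Group

variable {G : Type*} [Group G]

/-- Left multiplication by the generators keeps `T * K`, so `T * K` holds the closure. -/
theorem closure_subset_mul [Finite G] {S T : Set G} {K : Subgroup G} (h1 : (1 : G) ∈ T)
    (hstep : ∀ s ∈ S, ∀ t ∈ T, ∃ t' ∈ T, ∃ k ∈ K, s * t = t' * k) :
    ((Subgroup.closure S : Subgroup G) : Set G) ⊆ T * (K : Set G) := by
  have hle : Subgroup.closure S ≤ MulAction.stabilizer G (T * (K : Set G)) := by
    rw [Subgroup.closure_le]
    intro s hs
    rw [SetLike.mem_coe, MulAction.mem_stabilizer_set_iff_smul_set_subset (Set.toFinite _)]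
    rintro _ ⟨_, ⟨t, ht, k, hk, rfl⟩, rfl⟩
    obtain ⟨t', ht', k', hk', he⟩ := hstep s hs t ht
    refine ⟨t', ht', k' * k, mul_mem hk' hk, ?_⟩
    simp only [smul_eq_mul, ← mul_assoc, he]
  intro g hg
  have hgU : g • (T * (K : Set G)) = T * (K : Set G) := hle hg
  rw [← hgU]
  exact ⟨1, ⟨1, h1, 1, one_mem K, mul_one 1⟩, mul_one g⟩

/-- `card (closure S) ≤ |T| * card K` when the generators keep `T * K`. -/
theorem card_closure_le [Finite G] {S T : Set G} {K : Subgroup G} (h1 : (1 : G) ∈ T)
    (hstep : ∀ s ∈ S, ∀ t ∈ T, ∃ t' ∈ T, ∃ k ∈ K, s * t = t' * k) :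
    Nat.card (Subgroup.closure S) ≤ T.ncard * Nat.card K := by
  have h := Set.ncard_le_ncard (closure_subset_mul h1 hstep) (Set.toFinite _)
  calc Nat.card (Subgroup.closure S) = ((Subgroup.closure S : Subgroup G) : Set G).ncard :=
        (Nat.card_coe_set_eq _)
    _ ≤ (T * (K : Set G)).ncard := h
    _ ≤ T.ncard * Nat.card K := by
        rw [← Nat.card_coe_set_eq, ← Nat.card_coe_set_eq]
        exact Set.natCard_mul_le

end Group

section Coded

variable {G M : Type*} [Group G] [Monoid M] (emb : G →* M) (dec : ℕ → M)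

/-- The code `c` is that of an element of `H`. -/
def CodeMem (H : Subgroup G) (c : ℕ) : Prop := ∃ g ∈ H, emb g = dec c

variable {emb dec}

theorem CodeMem.mono {H H' : Subgroup G} (h : H ≤ H') {c : ℕ} (hc : CodeMem emb dec H c) :
    CodeMem emb dec H' c :=
  let ⟨g, hg, e⟩ := hc
  ⟨g, h hg, e⟩

theorem codeMem_one {H : Subgroup G} {one : ℕ} (hone : dec one = 1) : CodeMem emb dec H one :=
  ⟨1, one_mem H, by rw [map_one, hone]⟩

theorem CodeMem.mul {H : Subgroup G} {mul : ℕ → ℕ → ℕ}
    (hmul : ∀ a b, dec (mul a b) = dec a * dec b) {a b : ℕ} (ha : CodeMem emb dec H a)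
    (hb : CodeMem emb dec H b) : CodeMem emb dec H (mul a b) :=
  let ⟨x, hx, ex⟩ := ha
  let ⟨y, hy, ey⟩ := hb
  ⟨x * y, mul_mem hx hy, by rw [map_mul, ex, ey, hmul]⟩

/-- The code of a word in the lower transversals: the digits of `v` in the mixed radix given by
their lengths choose one entry from each, multiplied left to right. -/
noncomputable def wordCode (mul : ℕ → ℕ → ℕ) (one : ℕ) : List (ℕ × Tr) → ℕ → ℕ
  | [] => fun _ => one
  | (n, t) :: rest => fun v =>
    match rest with
    | [] => t.get (v % n)
    | _ :: _ => mul (t.get (v % n)) (wordCode mul one rest (v / n))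

/-- Entry `i` of a table is the product of the generator and the earlier entry named by its
parent entry `j * n + p`. -/
noncomputable def parentOK (mul : ℕ → ℕ → ℕ) (one : ℕ) (gens : List ℕ) (n : ℕ) (T par : Tr)
    (i : ℕ) : Bool :=
  bif i == 0 then T.get 0 == one
  else Nat.blt (par.get i % n) i &&
    T.get i == mul (gens.getD (par.get i / n) one) (T.get (par.get i % n))

/-- The product of generator `v / n` and entry `v % n` is the product of the entry and the word
named by the factorisation entry `t' + n * w`. -/
noncomputable def stepOK (mul : ℕ → ℕ → ℕ) (one : ℕ) (gens : List ℕ) (n : ℕ) (T fac : Tr)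
    (lower : List (ℕ × Tr)) (v : ℕ) : Bool :=
  mul (gens.getD (v / n) one) (T.get (v % n)) ==
    mul (T.get (fac.get v % n)) (wordCode mul one lower (fac.get v / n))

/-- Entry `i` is canonical, and sits at position `pos i` of a strictly increasing table, with
`inv` a left inverse of `pos`. -/
noncomputable def distinctOK (canon : ℕ → Bool) (n : ℕ) (T srt pos inv : Tr) (i : ℕ) : Bool :=
  canon (T.get i) && Nat.blt (pos.get i) n && srt.get (pos.get i) == T.get i &&
    inv.get (pos.get i) == i && (Nat.ble n (i + 1) || Nat.blt (srt.get i) (srt.get (i + 1)))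

variable {mul : ℕ → ℕ → ℕ} {one : ℕ}

theorem wordCode_mem (hmul : ∀ a b, dec (mul a b) = dec a * dec b) (hone : dec one = 1)
    {K : Subgroup G} : ∀ (lower : List (ℕ × Tr)),
      (∀ p ∈ lower, 0 < p.1 ∧ ∀ i < p.1, CodeMem emb dec K (p.2.get i)) →
      ∀ v, CodeMem emb dec K (wordCode mul one lower v)
  | [], _, _ => codeMem_one hone
  | (n, t) :: rest, h, v => by
    obtain ⟨hn, ht⟩ := h _ List.mem_cons_self
    cases rest with
    | nil => exact ht _ (Nat.mod_lt _ hn)
    | cons q qs =>
      exact (ht _ (Nat.mod_lt _ hn)).mul hmul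
        (wordCode_mem hmul hone (q :: qs) (fun p hp => h p (List.mem_cons_of_mem _ hp)) _)

variable (hmul : ∀ a b, dec (mul a b) = dec a * dec b) (hone : dec one = 1)
include hmul hone

theorem table_mem {H : Subgroup G} {gens : List ℕ} {n : ℕ} {T par : Tr}
    (hgens : ∀ c ∈ gens, CodeMem emb dec H c)
    (h : allFrom 0 n (parentOK mul one gens n T par) = true) :
    ∀ i < n, CodeMem emb dec H (T.get i) := by
  intro i
  induction i using Nat.strong_induction_on with
  | _ i ih =>
    intro hi
    have hb := of_allFrom_zero h hi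
    rcases Nat.eq_zero_or_pos i with rfl | hpos
    · simp only [parentOK, beq_self_eq_true, cond_true, beq_iff_eq] at hb
      rw [hb]
      exact codeMem_one hone
    · have hne : (i == 0) = false := by rw [beq_eq_false_iff_ne]; omega
      simp only [parentOK, hne, cond_false, Bool.and_eq_true, beq_iff_eq, Nat.blt_eq] at hb
      rw [hb.2]
      refine CodeMem.mul hmul ?_ (ih _ hb.1 (by omega))
      rcases Nat.lt_or_ge (par.get i / n) gens.length with hlt | hge
      · rw [List.getD_eq_getElem _ _ hlt]
        exact hgens _ (List.getElem_mem hlt)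
      · rw [List.getD_eq_default _ _ hge]
        exact codeMem_one hone

/-- The closure of the generators is covered by the table times `K`. -/
theorem exists_factor [Finite G] {S : Set G} {K : Subgroup G} {gens : List ℕ} {n : ℕ}
    {T fac : Tr} {lower : List (ℕ × Tr)} (hn : 0 < n) (hT0 : T.get 0 = one)
    (hS : ∀ s ∈ S, ∃ c ∈ gens, emb s = dec c)
    (hlower : ∀ p ∈ lower, 0 < p.1 ∧ ∀ i < p.1, CodeMem emb dec K (p.2.get i))
    (h : allFrom 0 (gens.length * n) (stepOK mul one gens n T fac lower) = true) :
    ((Subgroup.closure S : Subgroup G) : Set G) ⊆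
      {g | ∃ i < n, emb g = dec (T.get i)} * (K : Set G) := by
  refine closure_subset_mul ⟨0, hn, by rw [map_one, hT0, hone]⟩ ?_
  rintro s hs t ⟨i, hi, hti⟩
  obtain ⟨c, hc, hsc⟩ := hS s hs
  obtain ⟨j, hj, rfl⟩ := List.getElem_of_mem hc
  have hv : j * n + i < gens.length * n := by nlinarith
  have hb := of_allFrom_zero h hv
  have e1 : (j * n + i) / n = j := by
    rw [Nat.mul_comm, Nat.mul_add_div hn, Nat.div_eq_of_lt hi, Nat.add_zero]
  have e2 : (j * n + i) % n = i := by
    rw [Nat.mul_comm, Nat.mul_add_mod, Nat.mod_eq_of_lt hi]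
  simp only [stepOK, beq_iff_eq, e1, e2, List.getD_eq_getElem _ _ hj] at hb
  obtain ⟨k, hk, hke⟩ :=
    wordCode_mem hmul hone lower hlower (fac.get (j * n + i) / n)
  have he : emb (s * t * k⁻¹) = dec (T.get (fac.get (j * n + i) % n)) := by
    have hb' : emb (s * t) = dec (T.get (fac.get (j * n + i) % n)) * emb k := by
      rw [map_mul, hsc, hti, ← hmul, hb, hmul, hke]
    rw [map_mul, hb', mul_assoc, ← map_mul, mul_inv_cancel, map_one, mul_one]
  exact ⟨s * t * k⁻¹, ⟨_, Nat.mod_lt _ hn, he⟩, k, hk, by group⟩

variable (hemb : Function.Injective emb)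
include hemb

/-- Upper bound for the order of the closure. -/
theorem card_le_of_checks [Finite G] {S : Set G} {K : Subgroup G} {gens : List ℕ} {n : ℕ}
    {T fac : Tr} {lower : List (ℕ × Tr)} (hn : 0 < n) (hT0 : T.get 0 = one)
    (hS : ∀ s ∈ S, ∃ c ∈ gens, emb s = dec c)
    (hlower : ∀ p ∈ lower, 0 < p.1 ∧ ∀ i < p.1, CodeMem emb dec K (p.2.get i))
    (h : allFrom 0 (gens.length * n) (stepOK mul one gens n T fac lower) = true) :
    Nat.card (Subgroup.closure S) ≤ n * Nat.card K := by
  have hsub := exists_factor hmul hone hn hT0 hS hlower h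
  have hT : {g : G | ∃ i < n, emb g = dec (T.get i)}.ncard ≤ n := by
    classical
    let f : ℕ → G := fun i => if he : ∃ g, emb g = dec (T.get i) then he.choose else 1
    have hsubT : {g : G | ∃ i < n, emb g = dec (T.get i)} ⊆ f '' Set.Iio n := by
      rintro g ⟨i, hi, hg⟩
      refine ⟨i, hi, ?_⟩
      have hx : ∃ g, emb g = dec (T.get i) := ⟨g, hg⟩
      simp only [f, dif_pos hx]
      exact hemb (hx.choose_spec.trans hg.symm)
    refine (Set.ncard_le_ncard hsubT (Set.toFinite _)).trans ?_
    refine (Set.ncard_image_le (Set.finite_Iio n)).trans ?_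
    rw [Set.ncard_Iio_nat]
  calc Nat.card (Subgroup.closure S) = ((Subgroup.closure S : Subgroup G) : Set G).ncard :=
        (Nat.card_coe_set_eq _)
    _ ≤ ({g | ∃ i < n, emb g = dec (T.get i)} * (K : Set G)).ncard :=
        Set.ncard_le_ncard hsub (Set.toFinite _)
    _ ≤ n * Nat.card K := by
        rw [← Nat.card_coe_set_eq]
        refine Set.natCard_mul_le.trans ?_
        rw [Nat.card_coe_set_eq]
        exact Nat.mul_le_mul_right _ hT

/-- Upper bound for the order of a group given by one table. -/
theorem card_le_of_list [Finite G] {S : Set G} {gens : List ℕ} {n : ℕ}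
    {T fac : Tr} (hn : 0 < n) (hT0 : T.get 0 = one)
    (hS : ∀ s ∈ S, ∃ c ∈ gens, emb s = dec c)
    (h : allFrom 0 (gens.length * n) (stepOK mul one gens n T fac []) = true) :
    Nat.card (Subgroup.closure S) ≤ n := by
  have := card_le_of_checks hmul hone hemb (K := (⊥ : Subgroup G)) hn hT0 hS (by simp) h
  simpa using this

omit hmul hone hemb in
/-- A table of distinct entries of a subgroup bounds its order below. -/
theorem le_card_of_distinct [Finite G] {H : Subgroup G} {canon : ℕ → Bool}
    (hinj : ∀ a b, canon a = true → canon b = true → dec a = dec b → a = b) {n : ℕ}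
    {T srt pos inv : Tr} (hmem : ∀ i < n, CodeMem emb dec H (T.get i))
    (h : allFrom 0 n (distinctOK canon n T srt pos inv) = true) : n ≤ Nat.card H := by
  have hb : ∀ i < n, canon (T.get i) = true ∧ pos.get i < n ∧
      srt.get (pos.get i) = T.get i ∧ inv.get (pos.get i) = i ∧
      (i + 1 < n → srt.get i < srt.get (i + 1)) := by
    intro i hi
    have hb := of_allFrom_zero h hi
    simp only [distinctOK, Bool.and_eq_true, Bool.or_eq_true, beq_iff_eq, Nat.blt_eq,
      Nat.ble_eq] at hb
    refine ⟨hb.1.1.1.1, hb.1.1.1.2, hb.1.1.2, hb.1.2, fun hlt => ?_⟩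
    rcases hb.2 with h' | h'
    · omega
    · exact h'
  have hmono : ∀ i j, i < j → j < n → srt.get i < srt.get j := by
    intro i j hij hjn
    induction j with
    | zero => omega
    | succ j ih =>
      rcases Nat.lt_or_ge i j with hlt | hge
      · exact (ih hlt (by omega)).trans ((hb j (by omega)).2.2.2.2 hjn)
      · obtain rfl : i = j := by omega
        exact (hb i (by omega)).2.2.2.2 hjn
  choose g hgH hg using fun i : Fin n => hmem i i.2
  have hf : Function.Injective (fun i : Fin n => (⟨g i, hgH i⟩ : H)) := by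
    intro i j hij
    have e : dec (T.get i) = dec (T.get j) := by
      rw [← hg i, ← hg j]
      exact congrArg (fun x : H => emb x.1) hij
    obtain ⟨ci, pi, si, vi, -⟩ := hb i i.2
    obtain ⟨cj, pj, sj, vj, -⟩ := hb j j.2
    have e' : srt.get (pos.get i) = srt.get (pos.get j) := by
      rw [si, sj]; exact hinj _ _ ci cj e
    have hp : pos.get i = pos.get j := by
      rcases lt_trichotomy (pos.get i) (pos.get j) with hl | hl | hl
      · exact absurd e' (hmono _ _ hl pj).ne
      · exact hl
      · exact absurd e' (hmono _ _ hl pi).ne'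
    exact Fin.ext (by rw [← vi, ← vj, hp])
  simpa using Nat.card_le_card_of_injective _ hf

end Coded

end CfsgLib.Sporadic

namespace CfsgLib.Sporadic

section GenSet

variable {G M : Type*} [Group G] [Monoid M]

/-- The elements with codes in a list. -/
def genSet (emb : G →* M) (dec : ℕ → M) (gens : List ℕ) : Set G :=
  {g | ∃ c ∈ gens, emb g = dec c}

/-- The code of a word in the generators, given by their positions. -/
noncomputable def genWord (mul : ℕ → ℕ → ℕ) (one : ℕ) (gens : List ℕ) : List ℕ → ℕ
  | [] => one
  | j :: js => mul (gens.getD j one) (genWord mul one gens js)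

variable {emb : G →* M} {dec : ℕ → M}

theorem genSet_closure_le (hemb : Function.Injective emb) {H : Subgroup G} {gens : List ℕ}
    (h : ∀ c ∈ gens, CodeMem emb dec H c) : Subgroup.closure (genSet emb dec gens) ≤ H := by
  rw [Subgroup.closure_le]
  rintro g ⟨c, hc, hg⟩
  obtain ⟨g', hg', e⟩ := h c hc
  rwa [hemb (hg.trans e.symm)]

theorem codeMem_genSet {H : Subgroup G} {gens : List ℕ} (h : ∀ c ∈ gens, CodeMem emb dec H c) :
    ∀ c ∈ gens, CodeMem emb dec (Subgroup.closure (genSet emb dec gens)) c := fun c hc =>
  let ⟨g, _, e⟩ := h c hc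
  ⟨g, Subgroup.subset_closure ⟨c, hc, e⟩, e⟩

theorem codeMem_genWord {mul : ℕ → ℕ → ℕ} {one : ℕ}
    (hmul : ∀ a b, dec (mul a b) = dec a * dec b) (hone : dec one = 1) {H : Subgroup G}
    {gens : List ℕ} (h : ∀ c ∈ gens, CodeMem emb dec H c) :
    ∀ w : List ℕ, CodeMem emb dec H (genWord mul one gens w)
  | [] => codeMem_one hone
  | j :: js => by
    refine CodeMem.mul hmul ?_ (codeMem_genWord hmul hone h js)
    rcases Nat.lt_or_ge j gens.length with hlt | hge
    · rw [List.getD_eq_getElem _ _ hlt]
      exact h _ (List.getElem_mem hlt)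
    · rw [List.getD_eq_default _ _ hge]
      exact codeMem_one hone

/-- A subgroup listed in full: order exactly `n`, and every entry lies in it. -/
theorem card_genSet_eq [Finite G] {mul : ℕ → ℕ → ℕ} {one : ℕ}
    (hmul : ∀ a b, dec (mul a b) = dec a * dec b) (hone : dec one = 1)
    (hemb : Function.Injective emb) {canon : ℕ → Bool}
    (hinj : ∀ a b, canon a = true → canon b = true → dec a = dec b → a = b)
    {H : Subgroup G} {gens : List ℕ} (hgens : ∀ c ∈ gens, CodeMem emb dec H c) {n : ℕ}
    {T par fac srt pos inv : Tr} (hn : 0 < n) (hT0 : T.get 0 = one)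
    (hpar : allFrom 0 n (parentOK mul one gens n T par) = true)
    (hfac : allFrom 0 (gens.length * n) (stepOK mul one gens n T fac []) = true)
    (hdist : allFrom 0 n (distinctOK canon n T srt pos inv) = true) :
    Nat.card (Subgroup.closure (genSet emb dec gens)) = n ∧
      ∀ i < n, CodeMem emb dec (Subgroup.closure (genSet emb dec gens)) (T.get i) := by
  have hmem := table_mem hmul hone (codeMem_genSet hgens) hpar
  exact ⟨le_antisymm (card_le_of_list hmul hone hemb hn hT0 (fun s hs => hs) hfac)
    (le_card_of_distinct hinj hmem hdist), hmem⟩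

end GenSet

end CfsgLib.Sporadic
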