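import Mathlib
import Cfsg.Prelude.Def_Sporadic

/-!
Sharply k-transitive groups for k ≥ 4 (Jordan): the degrees, and simplicity in degrees 11 and 12.
-/

set_option autoImplicit false

namespace CfsgLib.Sporadic.SharpTrans

open scoped Classical

variable {α : Type*} [Fintype α] [DecidableEq α]

/-- Sharply k-transitive, in the form of the statements. -/
structure Sharp (G : Subgroup (Equiv.Perm α)) (k : ℕ) : Prop where
  trans : MulAction.IsMultiplyPretransitive G α k
  sharp : ∀ x : Fin k ↪ α, MulAction.stabilizer G x = ⊥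

variable {G : Subgroup (Equiv.Perm α)} {k : ℕ}

theorem Sharp.exists_map (h : Sharp G k) (x y : Fin k ↪ α) :
    ∃ g : G, ∀ i, (g : Equiv.Perm α) (x i) = y i := by
  obtain ⟨g, hg⟩ := (MulAction.isMultiplyPretransitive_iff (G := G) (α := α)).mp h.trans (x := x) (y := y)
  exact ⟨g, fun i => congrFun (congrArg DFunLike.coe hg) i⟩

theorem Sharp.eq_of_eq_on (h : Sharp G k) (x : Fin k ↪ α) {g g' : G}
    (he : ∀ i, (g : Equiv.Perm α) (x i) = (g' : Equiv.Perm α) (x i)) : g = g' := by
  have : g'⁻¹ * g ∈ MulAction.stabilizer G x := by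
    rw [MulAction.mem_stabilizer_iff]
    refine DFunLike.ext _ _ fun i => ?_
    show ((g'⁻¹ * g : G) : Equiv.Perm α) (x i) = x i
    rw [Subgroup.coe_mul, Subgroup.coe_inv, Equiv.Perm.mul_apply, he, Equiv.Perm.inv_eq_iff_eq]
  rw [h.sharp, Subgroup.mem_bot, inv_mul_eq_one] at this
  exact this.symm

theorem Sharp.natCard (h : Sharp G k) (hk : k ≤ Fintype.card α) :
    Nat.card G = (Fintype.card α).descFactorial k := by
  obtain ⟨x⟩ : Nonempty (Fin k ↪ α) :=
    Function.Embedding.nonempty_of_card_le (by simpa using hk)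
  have hbij : Function.Bijective fun g : G => x.trans (g : Equiv.Perm α).toEmbedding := by
    refine ⟨fun g g' hgg => h.eq_of_eq_on x fun i => congrFun (congrArg DFunLike.coe hgg) i, fun y => ?_⟩
    obtain ⟨g, hg⟩ := h.exists_map x y
    exact ⟨g, DFunLike.ext _ _ hg⟩
  rw [Nat.card_congr (Equiv.ofBijective _ hbij), Nat.card_eq_fintype_card,
    Fintype.card_embedding_eq, Fintype.card_fin]

section Four

theorem vec_injective {a b c d : α} (h1 : a ≠ b) (h2 : a ≠ c) (h3 : a ≠ d) (h4 : b ≠ c) (h5 : b ≠ d)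
    (h6 : c ≠ d) : Function.Injective ![a, b, c, d] := by
  intro i j hij
  fin_cases i <;> fin_cases j <;> simp_all

/-- Four distinct points as an embedding. -/
def emb4 {a b c d : α} (h1 : a ≠ b) (h2 : a ≠ c) (h3 : a ≠ d) (h4 : b ≠ c) (h5 : b ≠ d)
    (h6 : c ≠ d) : Fin 4 ↪ α := ⟨![a, b, c, d], vec_injective h1 h2 h3 h4 h5 h6⟩

theorem Sharp.eq_one4 (h : Sharp G 4) {g : G} {a b c d : α} (h1 : a ≠ b) (h2 : a ≠ c) (h3 : a ≠ d)
    (h4 : b ≠ c) (h5 : b ≠ d) (h6 : c ≠ d) (ha : (g : Equiv.Perm α) a = a)
    (hb : (g : Equiv.Perm α) b = b) (hc : (g : Equiv.Perm α) c = c) (hd : (g : Equiv.Perm α) d = d) :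
    g = 1 :=
  h.eq_of_eq_on (emb4 h1 h2 h3 h4 h5 h6) fun i => by
    fin_cases i <;> simp [emb4, ha, hb, hc, hd]

theorem Sharp.map4 (h : Sharp G 4) {a b c d a' b' c' d' : α} (h1 : a ≠ b) (h2 : a ≠ c) (h3 : a ≠ d)
    (h4 : b ≠ c) (h5 : b ≠ d) (h6 : c ≠ d) (k1 : a' ≠ b') (k2 : a' ≠ c') (k3 : a' ≠ d')
    (k4 : b' ≠ c') (k5 : b' ≠ d') (k6 : c' ≠ d') :
    ∃ g : G, (g : Equiv.Perm α) a = a' ∧ (g : Equiv.Perm α) b = b' ∧
      (g : Equiv.Perm α) c = c' ∧ (g : Equiv.Perm α) d = d' := by
  obtain ⟨g, hg⟩ := h.exists_map (emb4 h1 h2 h3 h4 h5 h6) (emb4 k1 k2 k3 k4 k5 k6)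
  exact ⟨g, hg 0, hg 1, hg 2, hg 3⟩

/-- The count behind Jordan's theorem: degree at most 11, and not 9. -/
theorem Sharp.jordan (h : Sharp G 4) (hn : 7 ≤ Fintype.card α) :
    Fintype.card α = 7 ∨ Fintype.card α = 11 := by
  set n := Fintype.card α with hn'
  -- four points and the involution fixing two of them and exchanging the other two
  obtain ⟨x⟩ : Nonempty (Fin 4 ↪ α) := Function.Embedding.nonempty_of_card_le (by simp; omega)
  have hne : ∀ i j : Fin 4, i ≠ j → x i ≠ x j := fun i j hij h => hij (x.injective h)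
  obtain ⟨p1, hp1⟩ : ∃ p, p = x 0 := ⟨_, rfl⟩
  obtain ⟨p2, hp2⟩ : ∃ p, p = x 1 := ⟨_, rfl⟩
  obtain ⟨p3, hp3⟩ : ∃ p, p = x 2 := ⟨_, rfl⟩
  obtain ⟨p4, hp4⟩ : ∃ p, p = x 3 := ⟨_, rfl⟩
  have d12 : p1 ≠ p2 := hp1 ▸ hp2 ▸ hne 0 1 (by decide)
  have d13 : p1 ≠ p3 := hp1 ▸ hp3 ▸ hne 0 2 (by decide)
  have d14 : p1 ≠ p4 := hp1 ▸ hp4 ▸ hne 0 3 (by decide)
  have d23 : p2 ≠ p3 := hp2 ▸ hp3 ▸ hne 1 2 (by decide)
  have d24 : p2 ≠ p4 := hp2 ▸ hp4 ▸ hne 1 3 (by decide)
  have d34 : p3 ≠ p4 := hp3 ▸ hp4 ▸ hne 2 3 (by decide)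
  obtain ⟨s, s1, s2, s3, s4⟩ := h.map4 d12 d13 d14 d23 d24 d34 d12 d14 d13 d24 d23 d34.symm
  have hss : s * s = 1 := h.eq_one4 d12 d13 d14 d23 d24 d34 (by simp [s1]) (by simp [s2])
    (by simp [s3, s4]) (by simp [s3, s4])
  have hsa : ∀ a, (s : Equiv.Perm α) ((s : Equiv.Perm α) a) = a := fun a => by
    have := congrArg (fun g : G => (g : Equiv.Perm α) a) hss
    simpa using this
  set σ : Equiv.Perm α := (s : Equiv.Perm α) with hσ
  set F : Finset α := Finset.univ.filter fun a => σ a = a with hF
  have memF : ∀ {a}, a ∈ F ↔ σ a = a := fun {a} => by simp [hF]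
  have hp1F : p1 ∈ F := memF.mpr s1
  have hp2F : p2 ∈ F := memF.mpr s2
  have hp3F : p3 ∉ F := fun h' => d34 ((memF.mp h').symm.trans s3)
  have hp4F : p4 ∉ F := fun h' => d34 (s4.symm.trans (memF.mp h'))
  have hF3 : F.card ≤ 3 := by
    by_contra hgt
    obtain ⟨T, hTF, hT⟩ := Finset.exists_subset_card_eq (show 4 ≤ F.card by omega)
    obtain ⟨a, b, c, d, e1, e2, e3, e4, e5, e6, rfl⟩ := Finset.card_eq_four.mp hT
    simp only [Finset.insert_subset_iff, Finset.singleton_subset_iff, memF] at hTF
    have := h.eq_one4 e1 e2 e3 e4 e5 e6 hTF.1 hTF.2.1 hTF.2.2.1 hTF.2.2.2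
    exact d34 (by rw [← s3, hσ, this]; rfl)
  have hF2 : 2 ≤ F.card := by
    rw [← Finset.card_pair d12]
    exact Finset.card_le_card (by simp [Finset.insert_subset_iff, hp1F, hp2F])
  -- a further moved point
  obtain ⟨y0, -, hy0⟩ := Finset.exists_mem_notMem_of_card_lt_card
    (s := F ∪ {p3, p4}) (t := Finset.univ) (by
      refine lt_of_le_of_lt (Finset.card_union_le _ _) ?_
      rw [Finset.card_univ, Finset.card_pair d34]; omega)
  simp only [Finset.mem_union, Finset.mem_insert, Finset.mem_singleton, not_or] at hy0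
  obtain ⟨hy0F, hy03, hy04⟩ := hy0
  -- the centraliser of `σ`
  let C : Subgroup G := Subgroup.centralizer {s}
  have hC : ∀ g : C, ∀ a, ((g : G) : Equiv.Perm α) (σ a) = σ (((g : G) : Equiv.Perm α) a) := by
    intro g a
    exact congrArg (fun u : G => (u : Equiv.Perm α) a) (Subgroup.mem_centralizer_singleton_iff.mp g.2)
  have hCF : ∀ g : C, ∀ a, ((g : G) : Equiv.Perm α) a ∈ F ↔ a ∈ F := fun g a => by
    rw [memF, memF, ← hC g a, Equiv.apply_eq_iff_eq]
  let P : Finset (α × α) :=
    (Finset.univ ×ˢ Finset.univ).filter fun q => q.1 ∉ F ∧ q.2 ∉ F ∧ q.2 ≠ q.1 ∧ q.2 ≠ σ q.1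
  have hbij : Nat.card C = P.card := by
    rw [Nat.card_eq_fintype_card, ← Finset.card_univ]
    refine Finset.card_bij (fun g _ => (((g : G) : Equiv.Perm α) p3, ((g : G) : Equiv.Perm α) y0))
      (fun g _ => ?_) (fun g _ g' _ hgg => ?_) (fun q hq => ?_)
    · simp only [P, Finset.mem_filter, Finset.mem_product, Finset.mem_univ, true_and, hCF, ← hC,
        ne_eq, Equiv.apply_eq_iff_eq]
      exact ⟨hp3F, hy0F, hy03, fun hh => hy04 (hh.trans s3)⟩
    · obtain ⟨e1, e2⟩ := Prod.ext_iff.mp hgg
      simp only at e1 e2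
      have f1 : ((g : G) : Equiv.Perm α) p4 = ((g' : G) : Equiv.Perm α) p4 := by
        rw [← s3, hC, hC, e1]
      have f2 : ((g : G) : Equiv.Perm α) (σ y0) = ((g' : G) : Equiv.Perm α) (σ y0) := by
        rw [hC, hC, e2]
      have hy0' : σ y0 ≠ y0 := fun h' => hy0F (memF.mpr h')
      apply Subtype.ext
      refine h.eq_of_eq_on (emb4 d34 (Ne.symm hy03) (fun h' => hy04 ?_) (Ne.symm hy04)
        (fun h' => hy03 ?_) hy0'.symm) fun i => ?_
      · rw [← hsa y0, ← h', s3]
      · rw [← hsa y0, ← h', s4]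
      · fin_cases i <;> simp [emb4, e1, e2, f1, f2]
    · simp only [P, Finset.mem_filter, Finset.mem_product, Finset.mem_univ, true_and] at hq
      obtain ⟨q1F, q2F, q21, q2s⟩ := hq
      have q1' : σ q.1 ≠ q.1 := fun h' => q1F (memF.mpr h')
      have q2' : σ q.2 ≠ q.2 := fun h' => q2F (memF.mpr h')
      have hy0' : σ y0 ≠ y0 := fun h' => hy0F (memF.mpr h')
      obtain ⟨g, g1, g2, g3, g4⟩ := h.map4 (a := p3) (b := p4) (c := y0) (d := σ y0) d34
        (Ne.symm hy03) (fun h' => hy04 (by rw [← hsa y0, ← h', s3])) (Ne.symm hy04)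
        (fun h' => hy03 (by rw [← hsa y0, ← h', s4])) hy0'.symm
        (a' := q.1) (b' := σ q.1) (c' := q.2) (d' := σ q.2) q1'.symm (Ne.symm q21)
        (fun h' => q2s (by rw [h', hsa])) (Ne.symm q2s)
        (fun h' => q21 (σ.injective h').symm) q2'.symm
      have hgC : g ∈ C := by
        rw [Subgroup.mem_centralizer_singleton_iff]
        refine h.eq_of_eq_on (emb4 d34 (Ne.symm hy03) (fun h' => hy04 ?_) (Ne.symm hy04)
          (fun h' => hy03 ?_) hy0'.symm) fun i => ?_
        · rw [← hsa y0, ← h', s3]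
        · rw [← hsa y0, ← h', s4]
        · fin_cases i <;> simp [emb4, ← hσ, g1, g2, g3, g4, s3, s4, hsa]
      exact ⟨⟨g, hgC⟩, Finset.mem_univ _, Prod.ext g1 g3⟩
  have hPcard : P.card = (n - F.card) * (n - F.card - 2) := by
    have hsig : P = (Finset.univ \ F).biUnion fun a =>
        ((Finset.univ \ F) \ {a, σ a}).image fun b => (a, b) := by
      ext ⟨a, b⟩
      simp [P, and_assoc]
    have hcompl : (Finset.univ \ F).card = n - F.card := by
      rw [Finset.card_sdiff_of_subset (Finset.subset_univ _), Finset.card_univ]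
    rw [hsig, Finset.card_biUnion]
    · rw [Finset.sum_const_nat (m := n - F.card - 2), hcompl]
      intro a ha
      rw [Finset.card_image_of_injective _ (fun b b' hbb => (Prod.ext_iff.mp hbb).2),
        Finset.card_sdiff_of_subset, hcompl, Finset.card_pair]
      · intro h'
        exact (Finset.mem_sdiff.mp ha).2 (memF.mpr h'.symm)
      · intro z hz
        simp only [Finset.mem_insert, Finset.mem_singleton] at hz
        simp only [Finset.mem_sdiff, Finset.mem_univ, true_and, memF] at ha ⊢
        rcases hz with rfl | rfl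
        · exact ha
        · exact fun h' => ha (σ.injective h')
    · intro a _ a' _ haa
      simp only [Function.onFun, Finset.disjoint_left, Finset.mem_image]
      rintro _ ⟨b, -, rfl⟩ ⟨b', -, hb'⟩
      exact haa (Prod.ext_iff.mp hb').1.symm
  -- restriction to the fixed points
  let ρ : C →* Equiv.Perm {a // a ∈ F} :=
    { toFun := fun g => ((g : G) : Equiv.Perm α).subtypePerm fun a => hCF g a
      map_one' := by ext; rfl
      map_mul' := fun _ _ => by ext; rfl }
  have hρ : Nat.card C = Nat.card ρ.ker * Nat.card ρ.range := by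
    rw [← Subgroup.index_ker, Subgroup.card_mul_index]
  have hrange : Nat.card ρ.range ∣ (F.card).factorial := by
    have := Subgroup.card_subgroup_dvd_card ρ.range
    rwa [Nat.card_eq_fintype_card (α := Equiv.Perm {a // a ∈ F}), Fintype.card_perm,
      Fintype.card_coe] at this
  have hfix : ∀ g : ρ.ker, ∀ a ∈ F, (((g : C) : G) : Equiv.Perm α) a = a := fun g a ha =>
    congrArg Subtype.val (congrArg (fun π : Equiv.Perm {a // a ∈ F} => π ⟨a, ha⟩) g.2)
  have hker_le : Nat.card ρ.ker ≤ n - F.card := by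
    let f : ρ.ker → {a // a ∈ Finset.univ \ F} := fun g =>
      ⟨(((g : C) : G) : Equiv.Perm α) p3, by simp [hCF, hp3F]⟩
    have hf : Function.Injective f := by
      intro g g' hgg
      have e1 : (((g : C) : G) : Equiv.Perm α) p3 = (((g' : C) : G) : Equiv.Perm α) p3 :=
        congrArg Subtype.val hgg
      apply Subtype.ext; apply Subtype.ext
      refine h.eq_of_eq_on x fun i => ?_
      fin_cases i
      · simp [← hp1, hfix g p1 hp1F, hfix g' p1 hp1F]
      · simp [← hp2, hfix g p2 hp2F, hfix g' p2 hp2F]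
      · simpa [← hp3] using e1
      · show (((g : C) : G) : Equiv.Perm α) (x 3) = (((g' : C) : G) : Equiv.Perm α) (x 3)
        rw [← hp4, ← s3, hC, hC, e1]
    refine le_trans (Nat.card_le_card_of_injective f hf) ?_
    rw [Nat.card_eq_fintype_card, Fintype.card_coe, Finset.card_sdiff_of_subset (Finset.subset_univ _),
      Finset.card_univ]
  rw [hPcard] at hbij
  have hrle := Nat.le_of_dvd (Nat.factorial_pos _) hrange
  have heven : ∃ m, n = F.card + 2 * m := by
    obtain ⟨j, hj⟩ : 2 ∣ (Finset.univ \ F).card := by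
      have h' := Equiv.Perm.sum_cycleType σ
      have hsupp : σ.support = Finset.univ \ F := by ext a; simp [memF]
      rw [hsupp] at h'
      rw [← h']
      refine Multiset.dvd_sum fun c hc => ?_
      have hdvd : c ∣ orderOf σ :=
        Equiv.Perm.lcm_cycleType σ ▸ Multiset.dvd_lcm hc
      have h2 : orderOf σ ∣ 2 := orderOf_dvd_of_pow_eq_one (by
        rw [pow_two]; exact Equiv.ext fun a => hsa a)
      have hc2 := Equiv.Perm.two_le_of_mem_cycleType hc
      have := Nat.le_of_dvd two_pos (hdvd.trans h2)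
      rw [show c = 2 by omega]
    refine ⟨j, ?_⟩
    rw [← hj, Finset.card_sdiff_of_subset (Finset.subset_univ _), Finset.card_univ]
    have := Finset.card_le_univ F
    omega
  obtain ⟨m, hm⟩ := heven
  have hf : F.card = 2 ∨ F.card = 3 := by omega
  rcases hf with hf | hf
  · exfalso
    rw [hf] at hbij hker_le hrle hm
    rw [show (2 : ℕ).factorial = 2 from rfl] at hrle
    have hle : (n - 2) * (n - 2 - 2) ≤ (n - 2) * 2 := by
      rw [← hbij, hρ]; exact Nat.mul_le_mul hker_le hrle
    have := Nat.le_of_mul_le_mul_left hle (by omega)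
    omega
  · rw [hf] at hbij hker_le hrle hm hrange
    rw [show (3 : ℕ).factorial = 6 from rfl] at hrle hrange
    have hle : (n - 3) * (n - 3 - 2) ≤ (n - 3) * 6 := by
      rw [← hbij, hρ]; exact Nat.mul_le_mul hker_le hrle
    have := Nat.le_of_mul_le_mul_left hle (by omega)
    have h9 : n ≠ 9 := by
      intro h9
      obtain ⟨a, b, c, hab, hac, hbc, hFeq⟩ := Finset.card_eq_three.mp hf
      let W : Subgroup G := fixingSubgroup G (F : Set α)
      have hWmem : ∀ g : W, ∀ z ∈ F, ((g : G) : Equiv.Perm α) z = z := fun g z hz =>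
        (mem_fixingSubgroup_iff G).mp g.2 z (Finset.mem_coe.mpr hz)
      have hW : Nat.card W = n - 3 := by
        rw [Nat.card_eq_fintype_card, ← Finset.card_univ]
        rw [show n - 3 = (Finset.univ \ F).card by
          rw [Finset.card_sdiff_of_subset (Finset.subset_univ _), Finset.card_univ, hf]]
        have haF : a ∈ F := by simp [hFeq]
        have hbF : b ∈ F := by simp [hFeq]
        have hcF : c ∈ F := by simp [hFeq]
        have ne3 : ∀ {z w}, z ∈ F → w ∉ F → z ≠ w := fun hz hw e => hw (e ▸ hz)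
        refine Finset.card_bij (fun g _ => ((g : G) : Equiv.Perm α) p3) (fun g _ => ?_)
          (fun g _ g' _ hgg => ?_) (fun z hz => ?_)
        · rw [Finset.mem_sdiff]
          refine ⟨Finset.mem_univ _, fun hmem => hp3F ?_⟩
          have := hWmem g _ hmem
          rw [Equiv.apply_eq_iff_eq] at this
          rwa [this] at hmem
        · apply Subtype.ext
          refine h.eq_of_eq_on (emb4 hab hac (ne3 haF hp3F) hbc (ne3 hbF hp3F) (ne3 hcF hp3F))
            fun i => ?_
          fin_cases i <;> simp [emb4, hWmem g _ haF, hWmem g' _ haF, hWmem g _ hbF, hWmem g' _ hbF,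
            hWmem g _ hcF, hWmem g' _ hcF, hgg]
        · have hzF := (Finset.mem_sdiff.mp hz).2
          obtain ⟨g, g1, g2, g3, g4⟩ := h.map4 hab hac (ne3 haF hp3F) hbc (ne3 hbF hp3F) (ne3 hcF hp3F)
            hab hac (ne3 haF hzF) hbc (ne3 hbF hzF) (ne3 hcF hzF)
          refine ⟨⟨g, (mem_fixingSubgroup_iff G).mpr fun w hw => ?_⟩, Finset.mem_univ _, g4⟩
          rw [Finset.mem_coe, hFeq] at hw
          simp only [Finset.mem_insert, Finset.mem_singleton] at hw
          rcases hw with rfl | rfl | rfl <;> assumption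
      have hkW : Nat.card ρ.ker ∣ Nat.card W := by
        have hle' : ρ.ker.map C.subtype ≤ W := by
          rintro _ ⟨g, hg, rfl⟩
          exact (mem_fixingSubgroup_iff G).mpr fun z hz => hfix ⟨g, hg⟩ z (Finset.mem_coe.mp hz)
        have := Subgroup.card_dvd_of_le hle'
        rwa [Subgroup.card_map_of_injective C.subtype_injective] at this
      rw [hW] at hkW
      have hdvd := Nat.mul_dvd_mul hkW hrange
      rw [← hρ, hbij, h9] at hdvd
      norm_num at hdvd
    omega

end Four

theorem index_seven (hα : Fintype.card α = 7) (hG : Nat.card G = 840) : False := by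
  haveI : Nontrivial α := Fintype.one_lt_card_iff_nontrivial.mp (by omega)
  haveI : IsSimpleGroup (alternatingGroup α) := alternatingGroup.isSimpleGroup (by simp [hα])
  have hA : Nat.card (alternatingGroup α) = 2520 := by
    rw [nat_card_alternatingGroup, Nat.card_eq_fintype_card, hα]; rfl
  have hidx : G.index = 6 := by
    have := Subgroup.card_mul_index G
    rw [hG, Nat.card_eq_fintype_card (α := Equiv.Perm α), Fintype.card_perm, hα] at this
    norm_num [Nat.factorial] at this
    omega
  haveI : Finite (Equiv.Perm α ⧸ G) := inferInstance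
  let φ : alternatingGroup α →* Equiv.Perm (Equiv.Perm α ⧸ G) :=
    (MulAction.toPermHom (Equiv.Perm α) (Equiv.Perm α ⧸ G)).comp (alternatingGroup α).subtype
  rcases IsSimpleGroup.eq_bot_or_eq_top_of_normal φ.ker inferInstance with hk | hk
  · have := Nat.card_le_card_of_injective φ ((MonoidHom.ker_eq_bot_iff φ).mp hk)
    rw [hA, Nat.card_perm, show Nat.card (Equiv.Perm α ⧸ G) = 6 from hidx] at this
    norm_num [Nat.factorial] at this
  · have hle : alternatingGroup α ≤ G := by
      intro σ hσ
      have hmem : (⟨σ, hσ⟩ : alternatingGroup α) ∈ φ.ker := hk ▸ Subgroup.mem_top _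
      have hfix := congrArg (fun π : Equiv.Perm (Equiv.Perm α ⧸ G) =>
        π ((1 : Equiv.Perm α) : Equiv.Perm α ⧸ G)) (MonoidHom.mem_ker.mp hmem)
      have : ((σ * 1 : Equiv.Perm α) : Equiv.Perm α ⧸ G) = ((1 : Equiv.Perm α) : Equiv.Perm α ⧸ G) := hfix
      rw [mul_one] at this
      simpa using (QuotientGroup.eq).mp this
    have := Subgroup.card_le_of_le hle
    omega

theorem degree_four (h : Sharp G 4) (h4 : 4 ≤ Fintype.card α) :
    Fintype.card α = 4 ∨ Fintype.card α = 5 ∨ Fintype.card α = 6 ∨ Fintype.card α = 11 := by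
  by_cases h7 : 7 ≤ Fintype.card α
  · rcases h.jordan h7 with h' | h'
    · exact (index_seven h' (by rw [h.natCard (by omega), h']; rfl)).elim
    · omega
  · omega

section Step

variable (G)

/-- The stabiliser of a point as a permutation group of the other points. -/
def restrictStab (a : α) : MulAction.stabilizer G a →* Equiv.Perm {x // x ≠ a} where
  toFun g := ((g : G) : Equiv.Perm α).subtypePerm fun x => by
    have ha : ((g : G) : Equiv.Perm α) a = a := g.2
    exact ⟨fun hne e => hne (by rw [e, ha]), fun hne e => hne (((g : G) : Equiv.Perm α).injective (e.trans ha.symm))⟩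
  map_one' := by ext; rfl
  map_mul' _ _ := by ext; rfl

theorem restrictStab_injective (a : α) : Function.Injective (restrictStab G a) := by
  rw [injective_iff_map_eq_one]
  intro g hg
  apply Subtype.ext; apply Subtype.ext
  refine Equiv.ext fun x => ?_
  by_cases hx : x = a
  · subst hx; exact g.2
  · exact congrArg Subtype.val (congrArg (fun π : Equiv.Perm {x // x ≠ a} => π ⟨x, hx⟩) hg)

variable {G}

theorem Sharp.step {k : ℕ} (h : Sharp G (k + 1)) (a : α) : Sharp (restrictStab G a).range k := by
  have hc : ∀ x : Fin k ↪ {x // x ≠ a}, Function.Injective (Fin.cons a fun i => (x i).1 : Fin (k+1) → α) :=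
    fun x => Fin.cons_injective_iff.mpr
      ⟨fun ⟨i, hi⟩ => (x i).2 hi, Subtype.val_injective.comp x.injective⟩
  constructor
  · rw [MulAction.isMultiplyPretransitive_iff]
    intro x y
    obtain ⟨g, hg⟩ := h.exists_map ⟨_, hc x⟩ ⟨_, hc y⟩
    have ga : (g : Equiv.Perm α) a = a := by simpa using hg 0
    refine ⟨⟨_, ⟨⟨g, ga⟩, rfl⟩⟩, DFunLike.ext _ _ fun i => Subtype.ext ?_⟩
    have := hg i.succ
    simp only [Function.Embedding.coeFn_mk, Fin.cons_succ] at this
    exact this
  · intro x
    rw [eq_bot_iff]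
    rintro ⟨_, g, rfl⟩ hg
    rw [MulAction.mem_stabilizer_iff] at hg
    have hg' : ∀ i, ((g : G) : Equiv.Perm α) (x i).1 = (x i).1 := fun i =>
      congrArg Subtype.val (congrFun (congrArg DFunLike.coe hg) i)
    have : (g : G) = 1 := h.eq_of_eq_on ⟨_, hc x⟩ fun i => by
      have ha : ((g : G) : Equiv.Perm α) a = a := g.2
      refine Fin.cases ?_ (fun i => ?_) i <;> simp [ha, hg']
    rw [Subgroup.mem_bot]
    apply Subtype.ext
    show restrictStab G a g = 1
    rw [show g = 1 from Subtype.ext this, map_one]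

end Step

theorem card_ne_sub (a : α) : Fintype.card {x // x ≠ a} = Fintype.card α - 1 := by
  rw [Fintype.card_subtype_compl, Fintype.card_subtype_eq]

/-- In prime degree, a Sylow normaliser has order `p * e` with `e ∣ p - 1`. -/
theorem sylow_data_prime {p : ℕ} [hp : Fact p.Prime] (hα : Fintype.card α = p)
    (hdvd : p ∣ Nat.card G) (P : Sylow p G) :
    Nat.card (P : Subgroup G) = p ∧
      ∃ e, e ∣ p - 1 ∧ Nat.card (Subgroup.normalizer ((P : Subgroup G) : Set G)) = p * e ∧
        (e = 1 → Subgroup.normalizer ((P : Subgroup G) : Set G) ≤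
          Subgroup.centralizer ((P : Subgroup G) : Set G)) := by
  have hpp := hp.out
  have hP : Nat.card (P : Subgroup G) = p := by
    have h1 : Nat.card (P : Subgroup G) ∣ Nat.card (Equiv.Perm α) :=
      (Subgroup.card_subgroup_dvd_card _).trans (Subgroup.card_subgroup_dvd_card _)
    have h2 := P.dvd_card_of_dvd_card hdvd
    obtain ⟨j, hj⟩ := IsPGroup.iff_card.mp P.isPGroup'
    rw [Nat.card_eq_fintype_card (α := Equiv.Perm α), Fintype.card_perm, hα, hj] at h1
    rw [hj] at h2
    rcases j with _ | _ | j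
    · simp [hpp.ne_one] at h2
    · rw [hj, pow_one]
    · exfalso
      have h3 : p * p ∣ p.factorial := (Dvd.intro _ (by ring : (p * p) * p ^ j = p ^ (j + 2))).trans h1
      rw [← Nat.mul_factorial_pred hpp.ne_zero] at h3
      have := (Nat.Prime.dvd_factorial hpp).mp ((Nat.mul_dvd_mul_iff_left hpp.pos).mp h3)
      have := hpp.pos
      omega
  refine ⟨hP, ?_⟩
  haveI : IsCyclic (P : Subgroup G) := isCyclic_of_prime_card hP
  obtain ⟨σ, hσ⟩ := IsCyclic.exists_generator (α := (P : Subgroup G))
  set τ : Equiv.Perm α := ((σ : G) : Equiv.Perm α) with hτ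
  have hord : orderOf τ = p := by
    rw [hτ, Subgroup.orderOf_coe, Subgroup.orderOf_coe, orderOf_eq_card_of_forall_mem_zpowers hσ, hP]
  have hcyc : τ.IsCycle := by
    refine Equiv.Perm.isCycle_of_prime_order (by rw [hord]; exact hpp) ?_
    rw [hord]
    have := Finset.card_le_univ τ.support
    have := hpp.pos
    omega
  have hsupp : τ.support = Finset.univ :=
    Finset.eq_univ_of_card _ (by rw [← hcyc.orderOf, hord, hα])
  set N := Subgroup.normalizer ((P : Subgroup G) : Set G) with hN
  set C := Subgroup.centralizer ((P : Subgroup G) : Set G) with hC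
  have hPC : (P : Subgroup G) ≤ C := by
    intro x hx y hy
    letI := (IsCyclic.commGroup : CommGroup (P : Subgroup G))
    exact congrArg Subtype.val (mul_comm (⟨y, hy⟩ : (P : Subgroup G)) ⟨x, hx⟩)
  have hCP : C ≤ (P : Subgroup G) := by
    intro g hg
    have hcomm : Commute (g : Equiv.Perm α) τ :=
      congrArg Subtype.val (Subgroup.mem_centralizer_iff.mp hg (σ : G) σ.2).symm
    obtain ⟨a⟩ : Nonempty α := Fintype.card_pos_iff.mp (hα ▸ hpp.pos)
    obtain ⟨i, hi⟩ := hcyc.exists_zpow_eq (x := a) (y := (g : Equiv.Perm α) a)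
      (Equiv.Perm.mem_support.mp (hsupp ▸ Finset.mem_univ a))
      (Equiv.Perm.mem_support.mp (hsupp ▸ Finset.mem_univ _))
    have : g = ((σ : G) ^ i) := by
      apply Subtype.ext
      refine Equiv.ext fun b => ?_
      obtain ⟨j, rfl⟩ := hcyc.exists_zpow_eq (x := a) (y := b)
        (Equiv.Perm.mem_support.mp (hsupp ▸ Finset.mem_univ a))
        (Equiv.Perm.mem_support.mp (hsupp ▸ Finset.mem_univ _))
      rw [← Equiv.Perm.mul_apply, (hcomm.zpow_right j).eq, Equiv.Perm.mul_apply, ← hi,
        Subgroup.coe_zpow, ← hτ, ← Equiv.Perm.mul_apply, ← Equiv.Perm.mul_apply, ← zpow_add,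
        ← zpow_add, add_comm]
    rw [this]
    exact zpow_mem σ.2 i
  have hCeq : C = (P : Subgroup G) := le_antisymm hCP hPC
  let ψ := Subgroup.normalizerMonoidHom (P : Subgroup G)
  have hkerle : ψ.ker = C.subgroupOf N := Subgroup.normalizerMonoidHom_ker _
  have hCN : C ≤ N := hCeq.le.trans Subgroup.le_normalizer
  have h1 : Nat.card ψ.ker = p := by
    rw [hkerle, Nat.card_congr (Subgroup.subgroupOfEquivOfLe hCN).toEquiv, hCeq, hP]
  refine ⟨ψ.ker.index, ?_, ?_, fun he => ?_⟩
  · rw [Subgroup.index_ker]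
    have := Subgroup.card_subgroup_dvd_card ψ.range
    rwa [IsCyclic.card_mulAut, hP, Nat.totient_prime hpp] at this
  · have := Subgroup.card_mul_index ψ.ker
    rw [h1] at this
    exact this.symm
  · rw [Subgroup.index_eq_one, hkerle] at he
    exact Subgroup.subgroupOf_eq_top.mp he

theorem no_six_thirteen (h : Sharp G 6) (hα : Fintype.card α = 13) : False := by
  haveI : Fact (Nat.Prime 13) := ⟨by norm_num⟩
  have hG : Nat.card G = 1235520 := by rw [h.natCard (by omega), hα]; rfl
  obtain ⟨P⟩ : Nonempty (Sylow 13 G) := inferInstance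
  obtain ⟨-, e, he, hN, -⟩ := sylow_data_prime hα (by rw [hG]; norm_num) P
  have h1 := card_sylow_modEq_one 13 G
  have h2 := Subgroup.card_mul_index (Subgroup.normalizer ((P : Subgroup G) : Set G))
  have h3 : Nat.card (Sylow 13 G) = (Subgroup.normalizer ((P : Subgroup G) : Set G)).index :=
    P.card_eq_index_normalizer
  rw [← h3, hN, hG] at h2
  have hle := Nat.le_of_dvd (by norm_num) he
  have hepos : 0 < e := Nat.pos_of_dvd_of_pos he (by norm_num)
  generalize Nat.card (Sylow 13 G) = s at h1 h2
  unfold Nat.ModEq at h1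
  interval_cases e <;> omega

theorem degree_five (h : Sharp G 5) (h5 : 5 ≤ Fintype.card α) :
    Fintype.card α = 5 ∨ Fintype.card α = 6 ∨ Fintype.card α = 7 ∨ Fintype.card α = 12 := by
  obtain ⟨a⟩ : Nonempty α := Fintype.card_pos_iff.mp (by omega)
  have hc := card_ne_sub a
  have := degree_four (h.step a) (by omega)
  omega

theorem degree_large : ∀ (k : ℕ), 6 ≤ k → ∀ {α : Type _} [Fintype α] [DecidableEq α]
    {G : Subgroup (Equiv.Perm α)}, Sharp G k → k ≤ Fintype.card α →
    Fintype.card α = k ∨ Fintype.card α = k + 1 ∨ Fintype.card α = k + 2 := by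
  intro k hk
  induction k, hk using Nat.le_induction with
  | base =>
    intro α _ _ G h h6
    obtain ⟨a⟩ : Nonempty α := Fintype.card_pos_iff.mp (by omega)
    have hc := card_ne_sub a
    have := degree_five (h.step a) (by omega)
    by_cases h13 : Fintype.card α = 13
    · exact (no_six_thirteen h h13).elim
    · omega
  | succ j _ ih =>
    intro α _ _ G h hj
    obtain ⟨a⟩ : Nonempty α := Fintype.card_pos_iff.mp (by omega)
    have hc := card_ne_sub a
    have := ih (h.step a) (by omega)
    omega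

theorem two_pretransitive (h : Sharp G k) (hk : 2 ≤ k) (hn : k ≤ Fintype.card α) :
    MulAction.IsMultiplyPretransitive G α 2 := by
  haveI := h.trans
  exact MulAction.isMultiplyPretransitive_of_le' hk (by simpa using hn)

theorem normal_transitive [MulAction.IsMultiplyPretransitive G α 2] (N : Subgroup G) [N.Normal]
    (hN : N ≠ ⊥) : MulAction.IsPretransitive N α := by
  haveI : MulAction.IsPreprimitive G α :=
    MulAction.isPreprimitive_of_is_two_pretransitive inferInstance
  refine MulAction.IsQuasiPreprimitive.isPretransitive_of_normal fun hfix => hN ?_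
  rw [eq_bot_iff]
  intro g hg
  rw [Subgroup.mem_bot]
  refine Subtype.ext (Equiv.ext fun x => ?_)
  have := Set.eq_univ_iff_forall.mp hfix x ⟨g, hg⟩
  exact this

theorem card_dvd_of_transitive (N : Subgroup G) [MulAction.IsPretransitive N α] (a : α) :
    Fintype.card α * Nat.card (MulAction.stabilizer N a) = Nat.card N := by
  rw [← Nat.card_eq_fintype_card, ← MulAction.index_stabilizer_of_transitive (G := N) a, mul_comm,
    Subgroup.card_mul_index]

theorem isM11 (hα : Fintype.card α = 11) (h : Sharp G 4) : Cfsg.IsM11 G := by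
  haveI : Fact (Nat.Prime 11) := ⟨by norm_num⟩
  have hG : Nat.card G = 7920 := by rw [h.natCard (by omega), hα]; rfl
  refine ⟨?_, hG⟩
  haveI := two_pretransitive h (by omega) (by omega)
  haveI : Nontrivial G := Finite.one_lt_card_iff_nontrivial.mp (by omega)
  refine ⟨fun N hN => or_iff_not_imp_left.mpr fun hne => ?_⟩
  haveI := hN
  haveI := normal_transitive N hne
  obtain ⟨a⟩ : Nonempty α := Fintype.card_pos_iff.mp (by omega)
  have h11 : 11 ∣ Nat.card N := Dvd.intro _ (hα ▸ card_dvd_of_transitive N a)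
  -- Sylow subgroups
  obtain ⟨Q⟩ : Nonempty (Sylow 11 N) := inferInstance
  obtain ⟨hQ, -⟩ : Nat.card (Q : Subgroup N) = 11 ∧ True := by
    refine ⟨?_, trivial⟩
    obtain ⟨j, hj⟩ := IsPGroup.iff_card.mp Q.isPGroup'
    have hd : Nat.card (Q : Subgroup N) ∣ 7920 :=
      hG ▸ (Subgroup.card_subgroup_dvd_card _).trans (Subgroup.card_subgroup_dvd_card _)
    have h2 := Q.dvd_card_of_dvd_card h11
    rw [hj] at hd h2 ⊢
    rcases j with _ | _ | j
    · simp at h2
    · norm_num
    · exfalso
      have h5 := (pow_dvd_pow 11 (show 2 ≤ j + 1 + 1 by omega)).trans hd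
      norm_num at h5
  let P0 : Subgroup G := (Q : Subgroup N).map N.subtype
  have hP0 : Nat.card P0 = 11 := by
    rw [Subgroup.card_map_of_injective N.subtype_injective, hQ]
  let P : Sylow 11 G := Sylow.ofCard P0 (by
    rw [hP0, hG]
    have : (7920 : ℕ).factorization 11 = 1 := by
      rw [show (7920 : ℕ) = 11 * 720 by norm_num, Nat.factorization_mul (by norm_num) (by norm_num)]
      simp [Nat.Prime.factorization_self (show Nat.Prime 11 by norm_num),
        Nat.factorization_eq_zero_of_not_dvd (show ¬ 11 ∣ 720 by norm_num)]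
    rw [this, pow_one])
  obtain ⟨-, e, he, hNe, -⟩ := sylow_data_prime hα (by rw [hG]; norm_num) P
  have h1 := card_sylow_modEq_one 11 G
  have h2 := Subgroup.card_mul_index (Subgroup.normalizer ((P : Subgroup G) : Set G))
  have h3 : Nat.card (Sylow 11 G) = (Subgroup.normalizer ((P : Subgroup G) : Set G)).index :=
    P.card_eq_index_normalizer
  rw [← h3, hNe, hG] at h2
  have hs : Nat.card (Sylow 11 G) = 144 ∧ e = 5 := by
    have hle := Nat.le_of_dvd (by norm_num) he
    have hepos : 0 < e := Nat.pos_of_dvd_of_pos he (by norm_num)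
    generalize Nat.card (Sylow 11 G) = s at h1 h2 ⊢
    unfold Nat.ModEq at h1
    interval_cases e <;> omega
  -- all Sylow 11-subgroups lie in `N`
  let f : Sylow 11 N → Sylow 11 G := fun R =>
    Sylow.ofCard ((R : Subgroup N).map N.subtype) (by
      rw [Subgroup.card_map_of_injective N.subtype_injective]
      have hRQ : Nat.card (R : Subgroup N) = 11 := by
        exact (Nat.card_congr (Sylow.equiv R Q).toEquiv).trans hQ
      rw [hRQ, hG]
      have : (7920 : ℕ).factorization 11 = 1 := by
        rw [show (7920 : ℕ) = 11 * 720 by norm_num, Nat.factorization_mul (by norm_num) (by norm_num)]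
        simp [Nat.Prime.factorization_self (show Nat.Prime 11 by norm_num),
          Nat.factorization_eq_zero_of_not_dvd (show ¬ 11 ∣ 720 by norm_num)]
      rw [this, pow_one])
  have hf : Function.Bijective f := by
    constructor
    · intro R R' hRR
      apply Sylow.ext
      exact Subgroup.map_injective N.subtype_injective (congrArg (fun S : Sylow 11 G => (S : Subgroup G)) hRR)
    · intro S
      obtain ⟨g, hg⟩ := MulAction.exists_smul_eq G P S
      have hSN : (S : Subgroup G) ≤ N := by
        rw [← hg]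
        intro x hx
        rw [Sylow.coe_subgroup_smul, Subgroup.mem_pointwise_smul_iff_inv_smul_mem] at hx
        obtain ⟨y, hy, hyx⟩ := hx
        have hmem : (y : G) ∈ N := y.2
        have := hN.conj_mem _ hmem g
        have hx' : x = g * (y : G) * g⁻¹ := by
          have hyx' : (y : G) = g⁻¹ * x * g := by
            rw [show (y : G) = _ from hyx]; simp [MulAut.smul_def, MulAut.conj_inv_apply]
          rw [hyx']; group
        rwa [hx']
      refine ⟨(S.subtype hSN), ?_⟩
      apply Sylow.ext
      exact Subgroup.map_subgroupOf_eq_of_le hSN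
  have hsN : Nat.card (Sylow 11 N) = 144 := (Nat.card_congr (Equiv.ofBijective f hf)).trans hs.1
  have hNN := Subgroup.card_mul_index (Subgroup.normalizer ((Q : Subgroup N) : Set N))
  have hQi : Nat.card (Sylow 11 N) = (Subgroup.normalizer ((Q : Subgroup N) : Set N)).index :=
    Q.card_eq_index_normalizer
  rw [← hQi, hsN] at hNN
  -- the normaliser in `N`
  have hle : (Subgroup.normalizer ((Q : Subgroup N) : Set N)).map N.subtype ≤
      Subgroup.normalizer ((P : Subgroup G) : Set G) := by
    exact Subgroup.le_normalizer_map N.subtype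
  have hd := Subgroup.card_dvd_of_le hle
  rw [Subgroup.card_map_of_injective N.subtype_injective, hNe, hs.2] at hd
  have hd11 : 11 ∣ Nat.card (Subgroup.normalizer ((Q : Subgroup N) : Set N)) :=
    hQ.symm.dvd.trans (Subgroup.card_dvd_of_le Subgroup.le_normalizer)
  obtain ⟨c, hc⟩ := hd11
  rw [hc, Nat.mul_dvd_mul_iff_left (by norm_num)] at hd
  rcases (Nat.dvd_prime (by norm_num)).mp hd with rfl | rfl
  · exfalso
    rw [mul_one] at hc
    have hQN : Subgroup.normalizer ((Q : Subgroup N) : Set N) = (Q : Subgroup N) := by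
      refine (Subgroup.eq_of_le_of_card_ge Subgroup.le_normalizer ?_).symm
      rw [hc, hQ]
    haveI : IsCyclic (Q : Subgroup N) := isCyclic_of_prime_card hQ
    have hQC : Subgroup.normalizer ((Q : Subgroup N) : Set N) ≤
        Subgroup.centralizer ((Q : Subgroup N) : Set N) := by
      rw [hQN]
      intro x hx y hy
      letI := (IsCyclic.commGroup : CommGroup (Q : Subgroup N))
      exact congrArg Subtype.val (mul_comm (⟨y, hy⟩ : (Q : Subgroup N)) ⟨x, hx⟩)
    have hcompl := MonoidHom.ker_transferSylow_isComplement' Q hQC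
    set K := (MonoidHom.transferSylow Q hQC).ker with hK
    have hKcard : Nat.card K = 144 := by
      have := hcompl.card_mul
      rw [hQ] at this
      rw [hc] at hNN
      omega
    -- `K` consists of all elements of `N` of order dividing 144
    have hKmem : ∀ x : N, x ∈ K ↔ x ^ 144 = 1 := fun x => by
      constructor
      · intro hx
        have := pow_card_eq_one' (G := K) (x := ⟨x, hx⟩)
        rw [hKcard] at this
        exact congrArg Subtype.val this
      · intro hx
        rw [hK, MonoidHom.mem_ker]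
        have hu : (MonoidHom.transferSylow Q hQC x) ^ 144 = 1 := by rw [← map_pow, hx, map_one]
        have hu' : (MonoidHom.transferSylow Q hQC x) ^ 11 = 1 := by
          have := pow_card_eq_one' (G := (Q : Subgroup N)) (x := MonoidHom.transferSylow Q hQC x)
          rwa [hQ] at this
        calc MonoidHom.transferSylow Q hQC x
            = MonoidHom.transferSylow Q hQC x ^ (144 : ℕ) := by
              rw [show (144 : ℕ) = 11 * 13 + 1 by norm_num, pow_add, pow_mul, hu', one_pow, one_mul,
                pow_one]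
          _ = 1 := hu
    let K' : Subgroup G := K.map N.subtype
    haveI : K'.Normal := ⟨fun x hx g => by
      obtain ⟨y, hy, rfl⟩ := hx
      refine ⟨⟨g * (y : G) * g⁻¹, hN.conj_mem _ y.2 g⟩, (hKmem _).mpr ?_, rfl⟩
      apply Subtype.ext
      simp [conj_pow, show (y : G) ^ 144 = 1 from congrArg Subtype.val ((hKmem y).mp hy)]⟩
    have hK'card : Nat.card K' = 144 := by
      rw [Subgroup.card_map_of_injective N.subtype_injective, hKcard]
    haveI := normal_transitive K' (fun hb => by rw [hb] at hK'card; simp at hK'card)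
    have := card_dvd_of_transitive K' a
    rw [hK'card, hα] at this
    omega
  · apply Subgroup.eq_top_of_card_eq
    rw [hG, ← hNN, hc]

theorem isM12 (hα : Fintype.card α = 12) (h : Sharp G 5) : Cfsg.IsM12 G := by
  have hG : Nat.card G = 95040 := by rw [h.natCard (by omega), hα]; rfl
  refine ⟨?_, hG⟩
  haveI := two_pretransitive h (by omega) (by omega)
  haveI : Nontrivial G := Finite.one_lt_card_iff_nontrivial.mp (by omega)
  haveI : MulAction.IsPretransitive G α := MulAction.isPretransitive_of_is_two_pretransitive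
  refine ⟨fun N hN => or_iff_not_imp_left.mpr fun hne => ?_⟩
  haveI := hN
  haveI := normal_transitive N hne
  obtain ⟨a⟩ : Nonempty α := Fintype.card_pos_iff.mp (by omega)
  have hstep := isM11 (by rw [card_ne_sub a, hα]) (h.step a)
  haveI : IsSimpleGroup (restrictStab G a).range := hstep.1
  let e : MulAction.stabilizer G a ≃* (restrictStab G a).range :=
    MonoidHom.ofInjective (restrictStab_injective G a)
  haveI : IsSimpleGroup (MulAction.stabilizer G a) := by
    haveI : Nontrivial (MulAction.stabilizer G a) := e.toEquiv.nontrivial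
    exact IsSimpleGroup.isSimpleGroup_of_surjective e.symm.toMonoidHom e.symm.surjective
  have hNa : Nat.card (MulAction.stabilizer N a) =
      Nat.card (N.subgroupOf (MulAction.stabilizer G a)) :=
    Nat.card_congr
      { toFun := fun x => ⟨⟨(x : N), x.2⟩, (x : N).2⟩
        invFun := fun x => ⟨⟨((x : MulAction.stabilizer G a) : G), x.2⟩, x.1.2⟩
        left_inv := fun _ => rfl
        right_inv := fun _ => rfl }
  have hcard := card_dvd_of_transitive N a
  rw [hNa, hα] at hcard
  rcases IsSimpleGroup.eq_bot_or_eq_top_of_normal (N.subgroupOf (MulAction.stabilizer G a))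
      inferInstance with hb | hb
  · exfalso
    rw [hb, Subgroup.card_bot, mul_one] at hcard
    -- the regular normal subgroup has all non-identity elements of one order
    have hreg : ∀ n n' : N, (((n : G) : Equiv.Perm α) a) = (((n' : G) : Equiv.Perm α) a) → n = n' := by
      intro n n' hnn
      have hmem : ((n'⁻¹ * n : N) : G) ∈ MulAction.stabilizer G a := by
        show (((n'⁻¹ * n : N) : G) : Equiv.Perm α) a = a
        rw [Subgroup.coe_mul, Subgroup.coe_mul, Equiv.Perm.mul_apply, hnn]
        simp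
      have : (⟨_, hmem⟩ : MulAction.stabilizer G a) ∈ N.subgroupOf (MulAction.stabilizer G a) :=
        (n'⁻¹ * n).2
      rw [hb, Subgroup.mem_bot] at this
      have := congrArg Subtype.val this
      simp only [Subgroup.coe_one] at this
      exact (inv_mul_eq_one.mp (Subtype.ext this)).symm
    have hne1 : ∀ n : N, n ≠ 1 → (((n : G) : Equiv.Perm α) a) ≠ a := fun n hn he =>
      hn (hreg n 1 (by simpa using he))
    have hord : ∀ n n' : N, n ≠ 1 → n' ≠ 1 → orderOf n = orderOf n' := by
      intro n n' hn hn'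
      obtain ⟨g, g1, g2⟩ := MulAction.is_two_pretransitive_iff.mp ‹MulAction.IsMultiplyPretransitive G α 2›
        (hne1 n hn).symm (hne1 n' hn').symm
      have heq : (⟨g * (n : G) * g⁻¹, hN.conj_mem _ n.2 g⟩ : N) = n' := by
        apply hreg
        change (g : Equiv.Perm α) a = a at g1
        change (g : Equiv.Perm α) (((n : G) : Equiv.Perm α) a) = _ at g2
        have g1' : (g : Equiv.Perm α)⁻¹ a = a := Equiv.Perm.inv_eq_iff_eq.mpr g1.symm
        have g1'' : (g : Equiv.Perm α).symm a = a := g1'
        simp [g1'', g2]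
      rw [← heq]
      exact (Subgroup.orderOf_coe n).symm.trans (((SemiconjBy.conj_mk g (n : G)).orderOf_eq g).trans
        (Subgroup.orderOf_coe (⟨g * (n : G) * g⁻¹, hN.conj_mem _ n.2 g⟩ : N)))
    haveI : Fact (Nat.Prime 2) := ⟨by norm_num⟩
    haveI : Fact (Nat.Prime 3) := ⟨by norm_num⟩
    obtain ⟨x, hx⟩ := exists_prime_orderOf_dvd_card' (G := N) 2 (by rw [← hcard]; norm_num)
    obtain ⟨y, hy⟩ := exists_prime_orderOf_dvd_card' (G := N) 3 (by rw [← hcard]; norm_num)
    have := hord x y (fun h1 => by simp [h1] at hx) (fun h1 => by simp [h1] at hy)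
    omega
  · apply Subgroup.eq_top_of_card_eq
    rw [hb, Subgroup.card_top, h.step a |> fun hs => (Nat.card_congr e.toEquiv).trans hstep.2] at hcard
    omega

end CfsgLib.Sporadic.SharpTrans
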