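import Cfsg.Agent.Lib.Sporadic.PairOutMain
import Cfsg.Agent.Lib.Sporadic.ConwayPairOrders

/-!
# Pair stabilisers as subgroups of permutations of the lattice
-/

set_option autoImplicit false

namespace CfsgLib.Sporadic.PairOutApps

open Cfsg CfsgLib.Golay
open ConwayPairs (pairStab)

theorem map_pairStab (u : leechLattice) :
    (pairStab u).map Co0.subtype = Spor.Co3 ⊓ MulAction.stabilizer (Equiv.Perm leechLattice) u := by
  ext g
  simp only [Subgroup.mem_map, Spor.Co3, Subgroup.mem_inf, MulAction.mem_stabilizer_iff]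
  constructor
  · rintro ⟨x, ⟨hxV, hxu⟩, rfl⟩
    exact ⟨⟨x.2, hxV⟩, hxu⟩
  · rintro ⟨⟨hg, hgV⟩, hgu⟩
    exact ⟨⟨g, hg⟩, ⟨hgV, hgu⟩, rfl⟩

theorem card_out_map (u : leechLattice) :
    Nat.card (Cfsg.Out ↥(Spor.Co3 ⊓ MulAction.stabilizer (Equiv.Perm leechLattice) u)) =
      Nat.card (Cfsg.Out (pairStab u)) :=
  (Conway.ThreeOut.card_out_congr (((pairStab u).equivMapOfInjective Co0.subtype
    Co0.subtype_injective).trans (MulEquiv.subgroupCongr (map_pairStab u)))).symm

end CfsgLib.Sporadic.PairOutApps
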