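import Cfsg.Agent.Lib.Sporadic.HsOut
import Cfsg.Agent.Lib.Sporadic.PairOutApps
import Cfsg.Agent.Lib.Golay.LeechOrbit.CertB

/-!
# The outer automorphism group, final form
-/

set_option autoImplicit false

namespace CfsgLib.Sporadic.PairOutApps

open Cfsg CfsgLib.Golay
open ConwayPairs (pairStab)

theorem card_hs : Nat.card (pairStab Spor.leechU') = 100 * 443520 := by
  have h := ConwayPairOrders.card_pair LeechOrbit.spec11178
  rw [LeechOrbit.root11178] at h
  exact Nat.eq_of_mul_eq_mul_right (show 0 < 11178 by norm_num) (h.trans (by norm_num))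

theorem card_out_sporHS : Nat.card (Cfsg.Out Spor.HS) = 2 :=
  (card_out_map Spor.leechU').trans (HsOut.card_out card_hs)

end CfsgLib.Sporadic.PairOutApps
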