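import Cfsg.Agent.Lib.Sporadic.HeSp
import Cfsg.Agent.Lib.Sporadic.Simple

/-! The order and simplicity of the 51-dimensional matrix group `heGroup` (the Held group). -/

set_option autoImplicit false

namespace CfsgLib.Sporadic.He

open CfsgLib.Sporadic.J3 (FieldFour)
open Matrix (symplecticGroup)

variable {F : Type*} [Field F] {ω : F} (h : FieldFour F ω)
include h

theorem card_hGroup : Nat.card hGroup = 979200 := by
  rw [Nat.card_congr (spIso h).toEquiv, card_sp h]

theorem card_kGroup : Nat.card kGroup = 1958400 := by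
  obtain ⟨g, hg, e⟩ := kT_mem 1 (by norm_num)
  have hne : hGroup ≠ kGroup := fun he => tau_notMem h (g := g) e (he ▸ hg)
  have hd := Subgroup.card_dvd_of_le hGroup_le
  rw [card_hGroup h] at hd
  obtain ⟨m, hm⟩ := hd
  have h2 := card_kGroup_le
  rw [card_hGroup h, hm] at h2
  have hm1 : m ≠ 1 := fun e1 => hne <| Subgroup.eq_of_le_of_card_ge hGroup_le <| by
    rw [card_hGroup h, hm, e1, mul_one]
  have hm0 : m ≠ 0 := fun e0 => (Nat.card_pos (α := kGroup)).ne' (by rw [hm, e0, mul_zero])
  have hm2 : m = 2 := by omega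
  rw [hm, hm2]

theorem card_heGroup : Nat.card heGroup = 4030387200 := by
  rw [card_heGroup_eq, card_kGroup h]

omit h in
/-- A subgroup of the group holding all its elements with `x ^ 17 = 1` is everything. -/
theorem eq_top_of_seventeen (S : Subgroup heGroup) (hS : ∀ x : heGroup, x ^ 17 = 1 → x ∈ S) :
    S = ⊤ := by
  have hmem : ∀ c ∈ topGens, CodeMem emb dec (S.map heGroup.subtype) c := by
    have hb := primeData_ok
    simp only [Bool.and_eq_true, beq_iff_eq, List.all_eq_true] at hb
    obtain ⟨hmap, hall⟩ := hb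
    rw [← hmap]
    intro c hc
    obtain ⟨pr, hpr, rfl⟩ := List.mem_map.1 hc
    refine codeMem_genWord (emb := emb) (dec := dec) (mul := mulF2 51) (one := one)
      dec_mul dec_one ?_ _
    intro c hc
    obtain ⟨cv, hcv, rfl⟩ := List.mem_map.1 hc
    obtain ⟨hw, hp⟩ := hall pr hpr cv hcv
    obtain ⟨x, hx, e⟩ : CodeMem emb dec heGroup cv.1 := hw ▸ chain_mem cv.2
    refine ⟨x, ⟨⟨x, hx⟩, hS _ (Subtype.ext (emb_injective ?_)), rfl⟩, e⟩
    rw [SubmonoidClass.coe_pow, OneMemClass.coe_one, map_pow, e, ← dec_genWord_replicate, hp,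
      dec_one, map_one]
  have hle : heGroup ≤ S.map heGroup.subtype := genSet_closure_le emb_injective hmem
  rw [eq_top_iff]
  intro x _
  obtain ⟨y, hy, e⟩ := hle x.2
  rwa [← Subtype.ext e]

omit h in
/-- An element commuting with everything is trivial. -/
theorem eq_one_of_central {z : GL (Fin 51) (ZMod 2)} (hz : ∀ g ∈ heGroup, g * z = z * g) :
    z = 1 := by
  have hchar : ∀ v : Fin 51 → ZMod 2, v + v = 0 := fun v => funext fun i => by
    rw [Pi.add_apply, Pi.zero_apply, CharTwo.add_self_eq_zero]
  let e0 : Fin 51 → ZMod 2 := Pi.single 0 1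
  let u := z.1.mulVec e0
  have hfix : ∀ c ∈ kGens, (dec c).mulVec u = u := by
    intro c hc
    obtain ⟨g, hg, e⟩ := codeMem_genSet kGens_mem c hc
    have hgz := congrArg (fun x : GL (Fin 51) (ZMod 2) => x.1.mulVec e0) (hz g (kGroup_le hg))
    simp only [Units.val_mul, ← Matrix.mulVec_mulVec] at hgz
    rw [show g.1.mulVec e0 = e0 from kGroup_fix hg] at hgz
    rw [← e, emb_apply]
    exact hgz
  have hu : (dec (one ^^^ 1)).mulVec u = 0 := by
    rw [← fixCert_ok]
    have hl : ∀ lc ∈ List.zip fixCert kGens, (dec lc.2).mulVec u = u :=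
      fun lc hlc => hfix _ (List.of_mem_zip hlc).2
    revert hl
    generalize List.zip fixCert kGens = l
    intro hl
    induction l with
    | nil => rw [List.foldr_nil, dec, decF2_zero, Matrix.zero_mulVec]
    | cons lc rest ih =>
      have hstep : (dec (lc.2 ^^^ one)).mulVec u = 0 := by
        have hxor : dec (lc.2 ^^^ one) = dec lc.2 + dec one := decF2_xor _ _
        rw [hxor, Matrix.add_mulVec, hl lc List.mem_cons_self, dec_one, Matrix.one_mulVec]
        exact hchar _
      have hadd : ∀ a b, dec (a ^^^ b) = dec a + dec b := decF2_xor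
      rw [List.foldr_cons, hadd, Matrix.add_mulVec, dec_mul, ← Matrix.mulVec_mulVec, hstep,
        Matrix.mulVec_zero, zero_add]
      exact ih fun x hx => hl x (List.mem_cons_of_mem _ hx)
  have hu' : u = u 0 • e0 := by
    have hd : dec 1 = Matrix.single (0 : Fin 51) 0 (1 : ZMod 2) := by decide +kernel
    have hadd : dec (one ^^^ 1) = dec one + dec 1 := decF2_xor _ _
    rw [hadd, Matrix.add_mulVec, dec_one, Matrix.one_mulVec, hd] at hu
    funext i
    have := congrFun hu i
    rw [Pi.add_apply, Pi.zero_apply, CharTwo.add_eq_zero] at this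
    rw [this, Pi.smul_apply, Matrix.single_mulVec]
    rcases eq_or_ne i 0 with rfl | hi
    · simp [e0]
    · simp [e0, Pi.single_eq_of_ne hi, Function.update_of_ne hi]
  have hinv : (z⁻¹ : GL (Fin 51) (ZMod 2)).1.mulVec u = e0 := by
    change (z⁻¹).1.mulVec (z.1.mulVec e0) = e0
    rw [Matrix.mulVec_mulVec, ← Units.val_mul, inv_mul_cancel, Units.val_one, Matrix.one_mulVec]
  have hue : u = e0 := by
    have h0 : u 0 = 1 := by
      have h01 : ∀ a : ZMod 2, a = 0 ∨ a = 1 := by decide
      rcases h01 (u 0) with h0 | h0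
      · exfalso
        rw [hu', h0, zero_smul, Matrix.mulVec_zero] at hinv
        exact one_ne_zero (by simpa [e0] using (congrFun hinv 0).symm : (1 : ZMod 2) = 0)
      · exact h0
    rw [hu', h0, one_smul]
  have hcol : ∀ j : Fin 51, z.1.mulVec (fun i => dec spanMat i j) = fun i => dec spanMat i j := by
    intro j
    have hb := of_allFrom_zero spanMat_ok j.2
    simp only [Bool.and_eq_true, beq_iff_eq, Nat.blt_eq] at hb
    obtain ⟨g, hg, e⟩ := topT_mem _ hb.1
    have hge : (fun i => dec spanMat i j) = g.1.mulVec e0 := by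
      have h1 := congrArg (decVecF2 51) hb.2
      rw [decVecF2_colVec (by norm_num), decVecF2_colVec (by norm_num)] at h1
      funext i
      have h2 := congrFun h1 i
      simp only [e0, Matrix.mulVec_single_one, Matrix.col_apply]
      rw [← emb_apply, e]
      refine Eq.trans ?_ h2
      simp only [dec, decF2, Matrix.of_apply, Nat.testBit_shiftRight]
      rw [Nat.add_zero, Nat.add_comm]
    rw [hge]
    have hgz := congrArg (fun x : GL (Fin 51) (ZMod 2) => x.1.mulVec e0) (hz g hg)
    simp only [Units.val_mul, ← Matrix.mulVec_mulVec] at hgz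
    rw [← hgz]
    exact congrArg _ hue
  have hzP : z.1 * dec spanMat = dec spanMat := by
    ext i j
    exact congrFun (hcol j) i
  refine Units.ext ?_
  calc z.1 = z.1 * (dec spanMat * dec spanInv) := by
        rw [← dec_mul, spanInv_ok, dec_one, mul_one]
    _ = 1 := by rw [← mul_assoc, hzP, ← dec_mul, spanInv_ok, dec_one]

/-- The group is simple. -/
theorem isSimple_heGroup : IsSimpleGroup heGroup := by
  have := h.finite
  have := Fintype.ofFinite F
  have := finiteSp h
  have : Nontrivial heGroup := by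
    rw [← Finite.one_lt_card_iff_nontrivial, card_heGroup h]
    norm_num
  refine ⟨fun N hN => ?_⟩
  by_cases hN17 : 17 ∣ Nat.card N
  · exact .inr (eq_top_of_seventeen N fun x hx =>
      mem_of_pow_eq_one (by norm_num) hN17 (by rw [card_heGroup h]; norm_num) hx)
  left
  have := Fact.mk (show Nat.Prime 17 by norm_num)
  let H0 : Subgroup heGroup := hGroup.subgroupOf heGroup
  have hH0le : hGroup ≤ heGroup := hGroup_le.trans kGroup_le
  let e : H0 ≃* symplecticGroup (Fin 2) F :=
    (Subgroup.subgroupOfEquivOfLe hH0le).trans (spIso h)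
  have hH0card : Nat.card H0 = 979200 := by rw [Nat.card_congr e.toEquiv, card_sp h]
  have hinf : Disjoint H0 N := by
    rw [disjoint_iff, eq_bot_iff]
    have hperf : commutator (symplecticGroup (Fin 2) F) = ⊤ :=
      CfsgLib.Sp.commutator_eq_top_of_card (q := 4) (by rw [Fintype.card_eq_nat_card, h.card])
        (.inl le_rfl)
    have : ((N.subgroupOf H0).map e.toMonoidHom).Normal :=
      Subgroup.Normal.map (Subgroup.normal_subgroupOf) _ e.surjective
    rcases CfsgLib.Sp.normal_le_center_or_eq_top hperf ((N.subgroupOf H0).map e.toMonoidHom) with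
      hc | htop
    · have hcz : Subgroup.center (symplecticGroup (Fin 2) F) = ⊥ := by
        rw [← Subgroup.card_eq_one,
          CfsgLib.Sp.card_center (q := 4) (by rw [Fintype.card_eq_nat_card, h.card]) (by norm_num)]
        decide +kernel
      intro x hx
      rw [hcz] at hc
      have h1 := hc (Subgroup.mem_map_of_mem e.toMonoidHom
        (show (⟨x, hx.1⟩ : H0) ∈ N.subgroupOf H0 from hx.2))
      rw [Subgroup.mem_bot] at h1 ⊢
      exact congrArg Subtype.val (e.injective (h1.trans (map_one e).symm))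
    · exfalso
      have hle : H0 ≤ N := by
        intro x hx
        have h1 : e ⟨x, hx⟩ ∈ (N.subgroupOf H0).map e.toMonoidHom := by
          rw [htop]; trivial
        obtain ⟨y, hy, he⟩ := h1
        have := e.injective he
        rw [this] at hy
        exact hy
      refine hN17 (dvd_trans ?_ (Subgroup.card_dvd_of_le hle))
      rw [hH0card]
      norm_num
  have hdvd : Nat.card N ∣ 4116 := by
    have h3 : N.subgroupOf H0 = ⊥ := by
      rw [Subgroup.subgroupOf_eq_bot]
      exact hinf.symm
    have h2 : Nat.card H0 ∣ N.index := by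
      have h1 := Subgroup.relIndex_dvd_index_of_normal (H := N) (K := H0)
      rwa [Subgroup.relIndex, h3, Subgroup.index_bot] at h1
    have h4 : Nat.card N * Nat.card H0 ∣ 4030387200 := by
      rw [← card_heGroup h, ← N.card_mul_index]
      exact Nat.mul_dvd_mul_left _ h2
    rw [hH0card] at h4
    exact Nat.dvd_of_mul_dvd_mul_right (by norm_num : 0 < 979200) (by simpa using h4)
  have hq : ∀ q, q.Prime → ∀ i j, q ^ i ∣ Nat.card N → q ^ j ∣ Nat.card N →
      q ^ i ≡ q ^ j [MOD 17] → i = j := by
    intro q hq i j hi hj hij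
    have key : ∀ q ∈ [2, 3, 7], ∀ i ≤ 12, ∀ j ≤ 12,
        q ^ i ∣ 4116 → q ^ j ∣ 4116 → q ^ i % 17 = q ^ j % 17 → i = j := by decide +kernel
    have bound : ∀ k, q ^ k ∣ Nat.card N → k ≤ 12 := by
      intro k hk
      by_contra hlt
      have h1 : q ^ k ≤ 4116 := Nat.le_of_dvd (by norm_num) (hk.trans hdvd)
      have h2 : 2 ^ 13 ≤ q ^ k :=
        le_trans (Nat.pow_le_pow_left hq.two_le 13) (Nat.pow_le_pow_right hq.pos (by omega))
      omega
    rcases Nat.eq_zero_or_pos i with hi0 | hi0
    · rcases Nat.eq_zero_or_pos j with hj0 | hj0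
      · rw [hi0, hj0]
      · have hq4 : q ∣ 4116 := (dvd_pow_self q hj0.ne').trans (hj.trans hdvd)
        exact key q (prime_cases hq hq4) i (bound i hi) j (bound j hj)
          (hi.trans hdvd) (hj.trans hdvd) hij
    · have hq4 : q ∣ 4116 := (dvd_pow_self q hi0.ne').trans (hi.trans hdvd)
      exact key q (prime_cases hq hq4) i (bound i hi) j (bound j hj)
        (hi.trans hdvd) (hj.trans hdvd) hij
  rw [eq_bot_iff]
  intro y hy
  rw [Subgroup.mem_bot]
  have htop := eq_top_of_seventeen (Subgroup.centralizer {y}) fun x hx =>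
    Subgroup.mem_centralizer_singleton_iff.2 (commute_of_pow_eq_one hN17 hq hx y hy)
  refine Subtype.ext (eq_one_of_central fun g hg => ?_)
  have hmem : (⟨g, hg⟩ : heGroup) ∈ Subgroup.centralizer {y} := by
    rw [htop]
    exact Subgroup.mem_top _
  have hc := Subgroup.mem_centralizer_singleton_iff.1 hmem
  simpa only [Subgroup.coe_mul] using congrArg Subtype.val hc
where
  prime_cases {q : ℕ} (hq : q.Prime) (h4 : q ∣ 4116) : q ∈ [2, 3, 7] := by
    rw [show (4116 : ℕ) = 2 ^ 2 * 3 * 7 ^ 3 from rfl] at h4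
    rcases (Nat.Prime.dvd_mul hq).1 h4 with h5 | h5
    · rcases (Nat.Prime.dvd_mul hq).1 h5 with h6 | h6
      · simp [(Nat.prime_dvd_prime_iff_eq hq Nat.prime_two).1 (hq.dvd_of_dvd_pow h6)]
      · simp [(Nat.prime_dvd_prime_iff_eq hq Nat.prime_three).1 h6]
    · simp [(Nat.prime_dvd_prime_iff_eq hq (by norm_num : Nat.Prime 7)).1 (hq.dvd_of_dvd_pow h5)]

end CfsgLib.Sporadic.He
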