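import Mathlib

/-!
Square matrices over `ZMod 2` packed into natural numbers, one bit per entry, for kernel
evaluation: a product is `n` carry-free multiplications of a spread column by a row.
-/

set_option autoImplicit false

namespace CfsgLib.Sporadic

/-- Bits at `0, n, 2 n, ..., (m - 1) n`. -/
noncomputable def colMask (n m : ℕ) : ℕ :=
  Nat.rec 0 (fun i r => r ||| 1 <<< (i * n)) m

/-- Exclusive or of `f 0, ..., f (m - 1)`. -/
noncomputable def xorUpto (f : ℕ → ℕ) (m : ℕ) : ℕ :=
  Nat.rec 0 (fun i r => r ^^^ f i) m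

theorem testBit_colMask {n m i : ℕ} :
    (colMask n m).testBit i = true ↔ ∃ k < m, i = k * n := by
  induction m with
  | zero => simp [colMask]
  | succ m ih =>
    change (colMask n m ||| 1 <<< (m * n)).testBit i = true ↔ _
    rw [Nat.testBit_or, Bool.or_eq_true, ih, Nat.one_shiftLeft, Nat.testBit_two_pow,
      decide_eq_true_eq]
    constructor
    · rintro (⟨k, hk, rfl⟩ | rfl)
      · exact ⟨k, by omega, rfl⟩
      · exact ⟨m, by omega, rfl⟩
    · rintro ⟨k, hk, rfl⟩
      rcases Nat.lt_or_ge k m with hlt | hge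
      · exact Or.inl ⟨k, hlt, rfl⟩
      · exact Or.inr (by rw [show k = m by omega])

/-- A number with all bits at multiples of `n`, times one below `2 ^ n`: no carries. -/
theorem testBit_spread_mul {n r : ℕ} (hr : r < 2 ^ n) : ∀ (i : ℕ) (c j : ℕ),
    (∀ m, c.testBit m = true → n ∣ m) → j < n →
    (c * r).testBit (i * n + j) = (c.testBit (i * n) && r.testBit j) := by
  intro i
  induction i with
  | zero =>
    intro c j hc hj
    simp only [Nat.zero_mul, Nat.zero_add]
    have key : c % 2 ^ n = c % 2 := by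
      refine Nat.eq_of_testBit_eq fun m => ?_
      rw [Nat.testBit_mod_two_pow, show (2 : ℕ) = 2 ^ 1 from rfl, Nat.testBit_mod_two_pow]
      by_cases hb : c.testBit m = true
      · have hm := hc m hb
        rcases Nat.eq_zero_or_pos m with rfl | hpos
        · simp [show 0 < n by omega]
        · have := Nat.le_of_dvd hpos hm
          simp [show ¬ m < n by omega, show ¬ m < 1 by omega]
      · simp [hb]
    have e : c * r = 2 ^ n * (c / 2 ^ n * r) + c % 2 * r := by
      conv_lhs => rw [← Nat.div_add_mod c (2 ^ n), key]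
      ring
    have hlt : c % 2 * r < 2 ^ n := by
      rcases Nat.mod_two_eq_zero_or_one c with h | h <;> simp [h, hr]
    rw [e, Nat.testBit_two_pow_mul_add _ hlt, if_pos hj, Nat.testBit_zero]
    rcases Nat.mod_two_eq_zero_or_one c with h | h <;> simp [h]
  | succ i ih =>
    intro c j hc hj
    have key : c % 2 ^ n = c % 2 := by
      refine Nat.eq_of_testBit_eq fun m => ?_
      rw [Nat.testBit_mod_two_pow, show (2 : ℕ) = 2 ^ 1 from rfl, Nat.testBit_mod_two_pow]
      by_cases hb : c.testBit m = true
      · have hm := hc m hb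
        rcases Nat.eq_zero_or_pos m with rfl | hpos
        · simp [show 0 < n by omega]
        · have := Nat.le_of_dvd hpos hm
          simp [show ¬ m < n by omega, show ¬ m < 1 by omega]
      · simp [hb]
    have e : c * r = 2 ^ n * (c / 2 ^ n * r) + c % 2 * r := by
      conv_lhs => rw [← Nat.div_add_mod c (2 ^ n), key]
      ring
    have hlt : c % 2 * r < 2 ^ n := by
      rcases Nat.mod_two_eq_zero_or_one c with h | h <;> simp [h, hr]
    have hidx : (i + 1) * n + j - n = i * n + j := by
      rw [Nat.add_mul]; omega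
    rw [e, Nat.testBit_two_pow_mul_add _ hlt, if_neg (by rw [Nat.add_mul]; omega), hidx,
      ih (c / 2 ^ n) j ?_ hj, Nat.testBit_div_two_pow]
    · congr 2
      ring
    · intro m hm
      rw [Nat.testBit_div_two_pow] at hm
      exact (Nat.dvd_add_right (dvd_refl n)).1 (by simpa [Nat.add_comm] using hc _ hm)

variable (n : ℕ)

/-- The packed product over `ZMod 2`. -/
noncomputable def mulF2 (a b : ℕ) : ℕ :=
  xorUpto (fun k => ((a >>> k) &&& colMask n n) * ((b >>> (n * k)) % 2 ^ n)) n

/-- The matrix coded by `c`. -/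
noncomputable def decF2 (c : ℕ) : Matrix (Fin n) (Fin n) (ZMod 2) :=
  Matrix.of fun i j => ((c.testBit (i.1 * n + j.1)).toNat : ZMod 2)

/-- The code has no bits outside the matrix. -/
noncomputable def canonF2 (c : ℕ) : Bool := Nat.blt c (2 ^ (n * n))

/-- The code of the identity matrix. -/
noncomputable def oneF2 : ℕ := colMask (n + 1) n

variable {n}

theorem testBit_xorUpto (f : ℕ → ℕ) (m i : ℕ) :
    (((xorUpto f m).testBit i).toNat : ZMod 2) =
      ∑ k ∈ Finset.range m, (((f k).testBit i).toNat : ZMod 2) := by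
  induction m with
  | zero => simp [xorUpto]
  | succ m ih =>
    change (((xorUpto f m ^^^ f m).testBit i).toNat : ZMod 2) = _
    rw [Finset.sum_range_succ, ← ih, Nat.testBit_xor]
    cases (xorUpto f m).testBit i <;> cases (f m).testBit i <;> decide

theorem decF2_mulF2 (a b : ℕ) : decF2 n (mulF2 n a b) = decF2 n a * decF2 n b := by
  ext i j
  simp only [decF2, mulF2, Matrix.of_apply, Matrix.mul_apply, testBit_xorUpto]
  rw [← Fin.sum_univ_eq_sum_range]
  refine Finset.sum_congr rfl fun k _ => ?_
  rw [testBit_spread_mul (Nat.mod_lt _ (Nat.two_pow_pos n)) _ _ _ ?_ j.2]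
  · have hmask : (colMask n n).testBit (i.1 * n) = true := testBit_colMask.2 ⟨i.1, i.2, rfl⟩
    rw [Nat.testBit_and, Nat.testBit_shiftRight, hmask, Nat.testBit_mod_two_pow,
      Nat.testBit_shiftRight, Bool.and_true, Nat.add_comm (k : ℕ), Nat.mul_comm n (k : ℕ)]
    simp only [j.2, decide_true, Bool.true_and]
    cases a.testBit (i.1 * n + k) <;> cases b.testBit (k * n + j) <;> simp
  · intro m hm
    rw [Nat.testBit_and, Bool.and_eq_true] at hm
    obtain ⟨q, -, rfl⟩ := testBit_colMask.1 hm.2
    exact dvd_mul_left n q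

theorem decF2_oneF2 : decF2 n (oneF2 n) = 1 := by
  ext i j
  have hiff : (oneF2 n).testBit (i.1 * n + j.1) = true ↔ i = j := by
    rw [oneF2, testBit_colMask]
    constructor
    · rintro ⟨k, hk, he⟩
      have he' : i.1 * n + j.1 = k * n + k := by rw [he]; ring
      have h1 := congrArg (· % n) he'
      simp only [Nat.mul_add_mod', Nat.mod_eq_of_lt hk, Nat.mod_eq_of_lt j.2] at h1
      have h2 : i.1 * n = k * n := by omega
      exact Fin.ext (by rw [Nat.eq_of_mul_eq_mul_right i.pos h2, h1])
    · rintro rfl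
      exact ⟨i.1, i.2, by ring⟩
  simp only [decF2, Matrix.of_apply, Matrix.one_apply]
  by_cases h : i = j
  · rw [hiff.2 h, if_pos h]; rfl
  · rw [Bool.eq_false_iff.2 (fun hc => h (hiff.1 hc)), if_neg h]; rfl

theorem decF2_injOn {a b : ℕ} (ha : canonF2 n a = true) (hb : canonF2 n b = true)
    (h : decF2 n a = decF2 n b) : a = b := by
  rw [canonF2, Nat.blt_eq] at ha hb
  refine Nat.eq_of_testBit_eq fun m => ?_
  rcases Nat.lt_or_ge m (n * n) with hlt | hge
  · have hn : 0 < n := by
      rcases Nat.eq_zero_or_pos n with rfl | hp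
      · simp at hlt
      · exact hp
    have h' := congrFun (congrFun h ⟨m / n, (Nat.div_lt_iff_lt_mul hn).2 hlt⟩)
      ⟨m % n, Nat.mod_lt _ hn⟩
    simp only [decF2, Matrix.of_apply, Nat.div_add_mod'] at h'
    revert h'
    cases a.testBit m <;> cases b.testBit m <;> decide
  · have hle : 2 ^ (n * n) ≤ 2 ^ m := Nat.pow_le_pow_right (by norm_num) hge
    rw [Nat.testBit_lt_two_pow (ha.trans_le hle), Nat.testBit_lt_two_pow (hb.trans_le hle)]

end CfsgLib.Sporadic
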