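import Cfsg.Agent.Lib.Sporadic.Chain

/-! Generated parents and factorisations for the transversal of index 6156. -/

set_option autoImplicit false
set_option maxRecDepth 20000

namespace CfsgLib.Sporadic.J3

/-- Part of `topPar`. -/
def topPar_p0000 : Tr := .node (.node (.node (.node (.node (.node (.node (.node (.node (.leaf 0) (.leaf 2628)) (.node (.leaf 1149) (.leaf 5844))) (.node (.node (.leaf 547) (.leaf 3709)) (.leaf 7968))) (.node (.node (.node (.leaf 264) (.leaf 3126)) (.leaf 7629)) (.node (.node (.leaf 838) (.leaf 10596)) (.leaf 2202)))) (.node (.node (.node (.node (.leaf 132) (.leaf 2856)) (.leaf 1305)) (.node (.node (.leaf 6850) (.leaf 10192)) (.leaf 8154))) (.node (.node (.node (.leaf 404) (.leaf 3417)) (.leaf 1636)) (.node (.node (.leaf 993) (.leaf 11047)) (.leaf 2410))))) (.node (.node (.node (.node (.node (.leaf 6221) (.leaf 8893)) (.leaf 1226)) (.node (.node (.leaf 619) (.leaf 10021)) (.leaf 1898))) (.node (.node (.node (.leaf 6489) (.leaf 3264)) (.leaf 7710)) (.node (.node (.leaf 916) (.leaf 10811))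 (.leaf 2310)))) (.node (.node (.node (.node (.leaf 198) (.leaf 2991)) (.leaf 1389)) (.node (.node (.leaf 6921) (.leaf 4230)) (.leaf 2099))) (.node (.node (.node (.leaf 476) (.leaf 9720)) (.leaf 1719)) (.node (.node (.leaf 1068) (.leaf 11430)) (.leaf 8683)))))) (.node (.node (.node (.node (.node (.node (.leaf 32) (.leaf 8842)) (.leaf 1187)) (.node (.node (.leaf 582) (.leaf 3784)) (.leaf 8010))) (.node (.node (.node (.leaf 6453) (.leaf 3189)) (.leaf 7667)) (.node (.node (.leaf 7032) (.leaf 4537)) (.leaf 8409)))) (.node (.node (.node (.node (.leaf 165) (.leaf 9080)) (.leaf 7501)) (.node (.node (.leaf 6884) (.leaf 10286)) (.leaf 2048))) (.node (.node (.node (.leaf 6596) (.leaf 3482)) (.leaf 1677)) (.node (.node (.leaf 1029) (.leaf 11244)) (.leaf 8628))))) (.node (.node (.node (.node (.node (.leaf 6254) (.leaf 8948)) (.leaf 7420)) (.node (.node (.leaf 6814) (.leaf 3952)) (.leaf 1948))) (.node (.node (.node (.leaf 6526) (.leaf 9489)) (.leaf 7749)) (.node (.node (.leaf 957) (.leaf 4754)) (.leaf 2361)))) (.node (.node (.node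 (.node (.leaf 231) (.leaf 3052)) (.leaf 1431)) (.node (.node (.leaf 6955) (.leaf 4327)) (.leaf 2149))) (.node (.node (.node (.leaf 6666) (.leaf 3636)) (.leaf 7923)) (.node (.node (.leaf 7268) (.leaf 11680)) (.leaf 8735))))))) (.node (.node (.node (.node (.node (.node (.node (.leaf 16) (.leaf 8816)) (.leaf 7323)) (.node (.node (.leaf 6719) (.leaf 9902)) (.leaf 7990))) (.node (.node (.node (.leaf 6436) (.leaf 9315)) (.leaf 7650)) (.node (.node (.leaf 7012) (.leaf 10640)) (.leaf 8385)))) (.node (.node (.node (.node (.leaf 6304) (.leaf 2890)) (.leaf 7479)) (.node (.node (.leaf 712) (.leaf 4091)) (.leaf 2025))) (.node (.node (.node (.leaf 423) (.leaf 9602)) (.leaf 7812)) (.node (.node (.leaf 7168) (.leaf 11145)) (.leaf 2443))))) (.node (.node (.node (.node (.node (.leaf 6238) (.leaf 2768)) (.leaf 7401)) (.node (.node (.leaf 638) (.leaf 3908)) (.leaf 8080))) (.node (.node (.node (.leaf 6506) (.leaf 3303)) (.leaf 1572)) (.node (.node (.leaf 7092) (.leaf 4707)) (.leaf 2334)))) (.node (.node (.node (.node (.leaf 214) (.leaf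 9183)) (.leaf 7566)) (.node (.node (.leaf 783) (.leaf 4276)) (.leaf 2120))) (.node (.node (.node (.leaf 493) (.leaf 3596)) (.leaf 7896)) (.node (.node (.leaf 7247) (.leaf 11571)) (.leaf 8706)))))) (.node (.node (.node (.node (.node (.node (.leaf 6204) (.leaf 2716)) (.leaf 7361)) (.node (.node (.leaf 601) (.leaf 9980)) (.leaf 8034))) (.node (.node (.node (.leaf 6471) (.leaf 3222)) (.leaf 1531)) (.node (.node (.leaf 7052) (.leaf 4597)) (.leaf 8433)))) (.node (.node (.node (.node (.leaf 6337) (.leaf 2953)) (.leaf 1365)) (.node (.node (.leaf 6902) (.leaf 10328)) (.leaf 8229))) (.node (.node (.node (.leaf 458) (.leaf 3527)) (.leaf 7856)) (.node (.node (.leaf 7203) (.leaf 11340)) (.leaf 2501))))) (.node (.node (.node (.node (.node (.leaf 6271) (.leaf 8979)) (.leaf 1285)) (.node (.node (.leaf 6832) (.leaf 3990)) (.leaf 1973))) (.node (.node (.node (.leaf 387) (.leaf 3376)) (.leaf 1616)) (.node (.node (.leaf 7130) (.leaf 10978)) (.leaf 2389)))) (.node (.node (.node (.node (.leaf 248) (.leaf 9241)) (.leaf 7605)) (.node (.node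 (.leaf 819) (.leaf 10537)) (.leaf 8332))) (.node (.node (.node (.leaf 6684) (.leaf 3667)) (.leaf 7943)) (.node (.node (.leaf 7285) (.leaf 5644)) (.leaf 2605)))))))) (.node (.node (.node (.node (.node (.node (.node (.node (.leaf 6163) (.leaf 2644)) (.leaf 7313)) (.node (.node (.leaf 6711) (.leaf 9882)) (.leaf 7979))) (.node (.node (.node (.leaf 272) (.leaf 9300)) (.leaf 1483)) (.node (.node (.leaf 7004) (.leaf 4464)) (.leaf 8372)))) (.node (.node (.node (.node (.leaf 6296) (.leaf 9027)) (.leaf 1313)) (.node (.node (.leaf 6858) (.leaf 4063)) (.leaf 8168))) (.node (.node (.node (.leaf 6570) (.leaf 3430)) (.leaf 7800)) (.node (.node (.leaf 1003) (.leaf 11085)) (.leaf 2426))))) (.node (.node (.node (.node (.node (.leaf 6229) (.leaf 2753)) (.leaf 1236)) (.node (.node (.leaf 628) (.leaf 10040)) (.leaf 1910))) (.node (.node (.node (.leaf 342) (.leaf 3284)) (.leaf 1563)) (.node (.node (.leaf 7082) (.leaf 4680)) (.leaf 8478)))) (.node (.node (.node (.node (.leaf 206) (.leaf 3009)) (.leaf 7555)) (.node (.node (.leaf 6930) (.leaf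 4254)) (.leaf 2110))) (.node (.node (.node (.leaf 6640) (.leaf 9736)) (.leaf 1730)) (.node (.node (.leaf 7235) (.leaf 11481)) (.leaf 2538)))))) (.node (.node (.node (.node (.node (.node (.leaf 40) (.leaf 8854)) (.leaf 1197)) (.node (.node (.leaf 6747) (.leaf 9959)) (.leaf 1867))) (.node (.node (.node (.leaf 6462) (.leaf 9360)) (.leaf 7676)) (.node (.node (.leaf 886) (.leaf 10725)) (.leaf 8422)))) (.node (.node (.node (.node (.leaf 173) (.leaf 2937)) (.leaf 1355)) (.node (.node (.leaf 6893) (.leaf 10309)) (.leaf 8215))) (.node (.node (.node (.leaf 449) (.leaf 3501)) (.leaf 1688)) (.node (.node (.leaf 7194) (.leaf 5137)) (.leaf 2485))))) (.node (.node (.node (.node (.node (.leaf 107) (.leaf 2807)) (.leaf 1275)) (.node (.node (.leaf 667) (.leaf 10122)) (.leaf 8115))) (.node (.node (.node (.leaf 6534) (.leaf 9506)) (.leaf 7761)) (.node (.node (.leaf 7122) (.leaf 4787)) (.leaf 2375)))) (.node (.node (.node (.node (.leaf 239) (.leaf 3070)) (.leaf 7597)) (.node (.node (.leaf 6965) (.leaf 10507)) (.leaf 8318))) (.node (.node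 (.node (.leaf 6676) (.leaf 9809)) (.leaf 7932)) (.node (.node (.leaf 7277) (.leaf 11750)) (.leaf 2592))))))) (.node (.node (.node (.node (.node (.node (.node (.leaf 24) (.leaf 8829)) (.leaf 7333)) (.node (.node (.leaf 6729) (.leaf 3767)) (.leaf 1844))) (.node (.node (.node (.leaf 289) (.leaf 9330)) (.leaf 1503)) (.node (.node (.leaf 865) (.leaf 10665)) (.leaf 2242)))) (.node (.node (.node (.node (.leaf 6312) (.leaf 2906)) (.leaf 7491)) (.node (.node (.leaf 720) (.leaf 4106)) (.leaf 8190))) (.node (.node (.node (.leaf 6587) (.leaf 9616)) (.leaf 7822)) (.node (.node (.leaf 1021) (.leaf 5044)) (.leaf 8617))))) (.node (.node (.node (.node (.node (.leaf 6246) (.leaf 2780)) (.leaf 1255)) (.node (.node (.leaf 6804) (.leaf 3926)) (.leaf 1936))) (.node (.node (.node (.leaf 6516) (.leaf 3317)) (.leaf 7739)) (.node (.node (.leaf 946) (.leaf 4732)) (.leaf 2346)))) (.node (.node (.node (.node (.leaf 6378) (.leaf 3039)) (.leaf 1421)) (.node (.node (.leaf 791) (.leaf 4310)) (.leaf 8289))) (.node (.node (.node (.leaf 6657) (.leaf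 9771)) (.leaf 7907)) (.node (.node (.leaf 7257) (.leaf 11598)) (.leaf 2565)))))) (.node (.node (.node (.node (.node (.node (.leaf 6213) (.leaf 2728)) (.leaf 7371)) (.node (.node (.leaf 610) (.leaf 10004)) (.leaf 1888))) (.node (.node (.node (.leaf 6480) (.leaf 3241)) (.leaf 7701)) (.node (.node (.leaf 7061) (.leaf 10776)) (.leaf 8448)))) (.node (.node (.node (.node (.leaf 6345) (.leaf 2969)) (.leaf 1376)) (.node (.node (.leaf 6911) (.leaf 10356)) (.leaf 2086))) (.node (.node (.node (.leaf 467) (.leaf 9697)) (.leaf 7866)) (.node (.node (.leaf 1059) (.leaf 5232)) (.leaf 2516))))) (.node (.node (.node (.node (.node (.leaf 124) (.leaf 2841)) (.leaf 7451)) (.node (.node (.leaf 685) (.leaf 4011)) (.leaf 1984))) (.node (.node (.node (.leaf 396) (.leaf 3397)) (.leaf 7781)) (.node (.node (.leaf 7139) (.leaf 4853)) (.leaf 8554)))) (.node (.node (.node (.node (.leaf 256) (.leaf 3106)) (.leaf 1462)) (.node (.node (.leaf 829) (.leaf 4409)) (.leaf 8343))) (.node (.node (.node (.leaf 6693) (.leaf 9844)) (.leaf 7953)) (.node (.node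 (.leaf 1139) (.leaf 5711)) (.leaf 8774))))))))

/-- Part of `topPar`. -/
def topPar_p0001 : Tr := .node (.node (.node (.node (.node (.node (.node (.node (.node (.leaf 6159) (.leaf 2635)) (.node (.leaf 7309) (.leaf 12138))) (.node (.node (.leaf 6707) (.leaf 9874)) (.leaf 7973))) (.node (.node (.node (.leaf 268) (.leaf 3134)) (.leaf 1478)) (.node (.node (.leaf 7000) (.leaf 4447)) (.leaf 8365)))) (.node (.node (.node (.node (.leaf 6292) (.leaf 9019)) (.leaf 1309)) (.node (.node (.leaf 6854) (.leaf 10205)) (.leaf 2004))) (.node (.node (.node (.leaf 6564) (.leaf 3422)) (.leaf 1640)) (.node (.node (.leaf 998) (.leaf 4913)) (.leaf 8574))))) (.node (.node (.node (.node (.node (.leaf 6225) (.leaf 2747)) (.leaf 1231)) (.node (.node (.leaf 624) (.leaf 10030)) (.leaf 8059))) (.node (.node (.node (.leaf 338) (.leaf 3278)) (.leaf 1559)) (.node (.node (.leaf 922) (.leaf 4669)) (.leaf 2316)))) (.node (.node (.node (.node (.leaf 202) (.leaf 9158)) (.leaf 1394)) (.node (.node (.leaf 6925) (.leaf 4242)) (.leaf 8261))) (.node (.node (.node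 (.leaf 480) (.leaf 9726)) (.leaf 1724)) (.node (.node (.leaf 7228) (.leaf 11452)) (.leaf 2532)))))) (.node (.node (.node (.node (.node (.node (.leaf 36) (.leaf 8847)) (.leaf 1192)) (.node (.node (.leaf 6742) (.leaf 9951)) (.leaf 8018))) (.node (.node (.node (.leaf 6458) (.leaf 9354)) (.leaf 7671)) (.node (.node (.leaf 7037) (.leaf 10709)) (.leaf 2260)))) (.node (.node (.node (.node (.leaf 169) (.leaf 9086)) (.leaf 7506)) (.node (.node (.leaf 6888) (.leaf 4140)) (.leaf 2053))) (.node (.node (.node (.leaf 445) (.leaf 9648)) (.leaf 7838)) (.node (.node (.leaf 7190) (.leaf 5116)) (.leaf 8635))))) (.node (.node (.node (.node (.node (.leaf 6258) (.leaf 2799)) (.leaf 1271)) (.node (.node (.leaf 6818) (.leaf 10116)) (.leaf 8110))) (.node (.node (.node (.leaf 6530) (.leaf 3344)) (.leaf 1600)) (.node (.node (.leaf 962) (.leaf 10924)) (.leaf 8524)))) (.node (.node (.node (.node (.leaf 235) (.leaf 9214)) (.leaf 7591)) (.node (.node (.leaf 6960) (.leaf 10491)) (.leaf 2157))) (.node (.node (.node (.leaf 516) (.leaf 9803)) (.leaf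 7927)) (.node (.node (.leaf 7273) (.leaf 11706)) (.leaf 2585))))))) (.node (.node (.node (.node (.node (.node (.node (.leaf 20) (.leaf 2668)) (.leaf 1172)) (.node (.node (.leaf 6725) (.leaf 3754)) (.leaf 1840))) (.node (.node (.node (.leaf 285) (.leaf 9323)) (.leaf 1499)) (.node (.node (.leaf 861) (.leaf 10654)) (.leaf 8393)))) (.node (.node (.node (.node (.leaf 6308) (.leaf 2899)) (.leaf 7485)) (.node (.node (.leaf 716) (.leaf 10256)) (.leaf 2029))) (.node (.node (.node (.leaf 6583) (.leaf 3452)) (.leaf 1662)) (.node (.node (.leaf 1017) (.leaf 5026)) (.leaf 2448))))) (.node (.node (.node (.node (.node (.leaf 6242) (.leaf 2774)) (.leaf 7406)) (.node (.node (.leaf 6799) (.leaf 10076)) (.leaf 8087))) (.node (.node (.node (.leaf 6510) (.leaf 9466)) (.leaf 1577)) (.node (.node (.leaf 942) (.leaf 4716)) (.leaf 8497)))) (.node (.node (.node (.node (.leaf 218) (.leaf 3033)) (.leaf 1416)) (.node (.node (.leaf 787) (.leaf 4296)) (.leaf 8283))) (.node (.node (.node (.leaf 497) (.leaf 3606)) (.leaf 7903)) (.node (.node (.leaf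 7252) (.leaf 5428)) (.leaf 8712)))))) (.node (.node (.node (.node (.node (.node (.leaf 6208) (.leaf 2721)) (.leaf 7366)) (.node (.node (.leaf 6761) (.leaf 9993)) (.leaf 1884))) (.node (.node (.node (.leaf 6475) (.leaf 9389)) (.leaf 7695)) (.node (.node (.leaf 901) (.leaf 10762)) (.leaf 8440)))) (.node (.node (.node (.node (.leaf 6341) (.leaf 9115)) (.leaf 1370)) (.node (.node (.leaf 6906) (.leaf 4188)) (.leaf 2080))) (.node (.node (.node (.leaf 462) (.leaf 9691)) (.leaf 7860)) (.node (.node (.leaf 1054) (.leaf 5216)) (.leaf 2511))))) (.node (.node (.node (.node (.node (.leaf 120) (.leaf 2834)) (.leaf 7446)) (.node (.node (.leaf 681) (.leaf 4003)) (.leaf 8134))) (.node (.node (.node (.leaf 392) (.leaf 9543)) (.leaf 1621)) (.node (.node (.leaf 7134) (.leaf 10992)) (.leaf 8549)))) (.node (.node (.node (.node (.leaf 252) (.leaf 3099)) (.leaf 1455)) (.node (.node (.leaf 824) (.leaf 10552)) (.leaf 2182))) (.node (.node (.node (.leaf 533) (.leaf 3676)) (.leaf 1792)) (.node (.node (.leaf 7290) (.leaf 5669)) (.leaf 2610))))))))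 (.node (.node (.node (.node (.node (.node (.node (.node (.leaf 6167) (.leaf 2654)) (.leaf 1162)) (.node (.node (.leaf 6715) (.leaf 3735)) (.leaf 1829))) (.node (.node (.node (.leaf 6432) (.leaf 9307)) (.leaf 7644)) (.node (.node (.leaf 7008) (.leaf 10626)) (.leaf 2225)))) (.node (.node (.node (.node (.leaf 6300) (.leaf 9033)) (.leaf 7474)) (.node (.node (.leaf 6862) (.leaf 10232)) (.leaf 2017))) (.node (.node (.node (.leaf 6574) (.leaf 3438)) (.leaf 7806)) (.node (.node (.leaf 7163) (.leaf 4958)) (.leaf 2437))))) (.node (.node (.node (.node (.node (.leaf 6234) (.leaf 8917)) (.leaf 7396)) (.node (.node (.leaf 634) (.leaf 3894)) (.leaf 1917))) (.node (.node (.node (.leaf 6502) (.leaf 3292)) (.leaf 7723)) (.node (.node (.leaf 931) (.leaf 4691)) (.leaf 8485)))) (.node (.node (.node (.node (.leaf 210) (.leaf 3022)) (.leaf 7561)) (.node (.node (.leaf 779) (.leaf 4261)) (.leaf 8270))) (.node (.node (.node (.leaf 489) (.leaf 3591)) (.leaf 1736)) (.node (.node (.leaf 1084) (.leaf 5369)) (.leaf 2543)))))) (.node (.node (.node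 (.node (.node (.node (.leaf 44) (.leaf 2706)) (.leaf 7357)) (.node (.node (.leaf 597) (.leaf 9971)) (.leaf 1872))) (.node (.node (.node (.leaf 311) (.leaf 9369)) (.leaf 7681)) (.node (.node (.leaf 7047) (.leaf 4584)) (.leaf 2272)))) (.node (.node (.node (.node (.leaf 6333) (.leaf 2944)) (.leaf 7516)) (.node (.node (.leaf 6897) (.leaf 10319)) (.leaf 8224))) (.node (.node (.node (.leaf 453) (.leaf 3515)) (.leaf 7849)) (.node (.node (.leaf 1043) (.leaf 5162)) (.leaf 8651))))) (.node (.node (.node (.node (.node (.leaf 6267) (.leaf 2813)) (.leaf 7436)) (.node (.node (.leaf 6827) (.leaf 10134)) (.leaf 1965))) (.node (.node (.node (.leaf 6538) (.leaf 3362)) (.leaf 7766)) (.node (.node (.leaf 7126) (.leaf 4805)) (.leaf 2381)))) (.node (.node (.node (.node (.leaf 244) (.leaf 3078)) (.leaf 7601)) (.node (.node (.leaf 814) (.leaf 10520)) (.leaf 8324))) (.node (.node (.node (.leaf 6680) (.leaf 3662)) (.leaf 7939)) (.node (.node (.leaf 7281) (.leaf 11771)) (.leaf 2600))))))) (.node (.node (.node (.node (.node (.node (.node (.leaf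 28) (.leaf 2681)) (.leaf 7338)) (.node (.node (.leaf 578) (.leaf 9931)) (.leaf 8006))) (.node (.node (.node (.leaf 6449) (.leaf 9337)) (.leaf 1507)) (.node (.node (.leaf 870) (.leaf 4529)) (.leaf 8404)))) (.node (.node (.node (.node (.leaf 6316) (.leaf 9072)) (.leaf 1341)) (.node (.node (.leaf 724) (.leaf 10271)) (.leaf 8198))) (.node (.node (.node (.leaf 436) (.leaf 3471)) (.leaf 1672)) (.node (.node (.leaf 1025) (.leaf 5078)) (.leaf 2468))))) (.node (.node (.node (.node (.node (.leaf 6250) (.leaf 2787)) (.leaf 7415)) (.node (.node (.leaf 6809) (.leaf 10095)) (.leaf 8097))) (.node (.node (.node (.leaf 6521) (.leaf 3326)) (.leaf 1588)) (.node (.node (.leaf 952) (.leaf 10900)) (.leaf 2353)))) (.node (.node (.node (.node (.leaf 6382) (.leaf 9202)) (.leaf 1426)) (.node (.node (.leaf 795) (.leaf 10475)) (.leaf 8296))) (.node (.node (.node (.leaf 6661) (.leaf 3625)) (.leaf 1759)) (.node (.node (.leaf 1106) (.leaf 11636)) (.leaf 2574)))))) (.node (.node (.node (.node (.node (.node (.leaf 6217) (.leaf 8888)) (.leaf 7376))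 (.node (.node (.leaf 615) (.leaf 10012)) (.leaf 8048))) (.node (.node (.node (.leaf 6484) (.leaf 9410)) (.leaf 7705)) (.node (.node (.leaf 7067) (.leaf 10793)) (.leaf 8456)))) (.node (.node (.node (.node (.leaf 194) (.leaf 9137)) (.leaf 1382)) (.node (.node (.leaf 6916) (.leaf 4210)) (.leaf 8247))) (.node (.node (.node (.leaf 472) (.leaf 3557)) (.leaf 1715)) (.node (.node (.leaf 1064) (.leaf 11415)) (.leaf 2522))))) (.node (.node (.node (.node (.node (.leaf 128) (.leaf 2847)) (.leaf 7455)) (.node (.node (.leaf 690) (.leaf 4021)) (.leaf 8147))) (.node (.node (.node (.leaf 400) (.leaf 3407)) (.leaf 1631)) (.node (.node (.leaf 7143) (.leaf 4867)) (.leaf 8559)))) (.node (.node (.node (.node (.leaf 260) (.leaf 9272)) (.leaf 1467)) (.node (.node (.leaf 6989) (.leaf 4429)) (.leaf 8352))) (.node (.node (.node (.leaf 6698) (.leaf 3699)) (.leaf 1805)) (.node (.node (.leaf 7299) (.leaf 5769)) (.leaf 2624))))))))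

/-- Part of `topPar`. -/
def topPar_p0010 : Tr := .node (.node (.node (.node (.node (.node (.node (.node (.node (.leaf 6157) (.leaf 2632)) (.node (.leaf 7307) (.leaf 12052))) (.node (.node (.leaf 6705) (.leaf 9870)) (.leaf 1815))) (.node (.node (.node (.leaf 266) (.leaf 3131)) (.leaf 1476)) (.node (.node (.leaf 6996) (.leaf 4443)) (.leaf 2205)))) (.node (.node (.node (.node (.leaf 6290) (.leaf 2861)) (.leaf 1307)) (.node (.node (.leaf 6852) (.leaf 10197)) (.leaf 8156))) (.node (.node (.node (.leaf 6562) (.leaf 3419)) (.leaf 1638)) (.node (.node (.leaf 7151) (.leaf 4899)) (.leaf 2414))))) (.node (.node (.node (.node (.node (.leaf 6223) (.leaf 8900)) (.leaf 1229)) (.node (.node (.leaf 621) (.leaf 3869)) (.leaf 1901))) (.node (.node (.node (.leaf 6491) (.leaf 9422)) (.leaf 1557)) (.node (.node (.leaf 7075) (.leaf 4659)) (.leaf 2313)))) (.node (.node (.node (.node (.leaf 200) (.leaf 2995)) (.leaf 1391)) (.node (.node (.leaf 6923) (.leaf 4235)) (.leaf 8259))) (.node (.node (.node (.leaf 478) (.leaf 9723)) (.leaf 1722))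 (.node (.node (.leaf 1070) (.leaf 5283)) (.leaf 8685)))))) (.node (.node (.node (.node (.node (.node (.leaf 34) (.leaf 8844)) (.leaf 1189)) (.node (.node (.leaf 6740) (.leaf 3792)) (.leaf 8014))) (.node (.node (.node (.leaf 300) (.leaf 9348)) (.leaf 7669)) (.node (.node (.leaf 879) (.leaf 4540)) (.leaf 8412)))) (.node (.node (.node (.node (.leaf 167) (.leaf 2927)) (.leaf 1348)) (.node (.node (.leaf 6886) (.leaf 4134)) (.leaf 2050))) (.node (.node (.node (.leaf 6598) (.leaf 9643)) (.leaf 1679)) (.node (.node (.leaf 1031) (.leaf 11264)) (.leaf 8632))))) (.node (.node (.node (.node (.node (.leaf 6256) (.leaf 8951)) (.leaf 1267)) (.node (.node (.leaf 6816) (.leaf 10111)) (.leaf 1951))) (.node (.node (.node (.leaf 6528) (.leaf 3339)) (.leaf 7753)) (.node (.node (.leaf 959) (.leaf 10918)) (.leaf 8521)))) (.node (.node (.node (.node (.leaf 233) (.leaf 9211)) (.leaf 1433)) (.node (.node (.leaf 6958) (.leaf 4332)) (.leaf 2152))) (.node (.node (.node (.leaf 6668) (.leaf 9798)) (.leaf 7925)) (.node (.node (.leaf 1115) (.leaf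 5540)) (.leaf 8737))))))) (.node (.node (.node (.node (.node (.node (.node (.leaf 18) (.leaf 2664)) (.leaf 1170)) (.node (.node (.leaf 6722) (.leaf 3750)) (.leaf 1837))) (.node (.node (.node (.leaf 283) (.leaf 3164)) (.leaf 7652)) (.node (.node (.leaf 859) (.leaf 10649)) (.leaf 2233)))) (.node (.node (.node (.node (.leaf 6306) (.leaf 9051)) (.leaf 1327)) (.node (.node (.leaf 714) (.leaf 4096)) (.leaf 2027))) (.node (.node (.node (.leaf 425) (.leaf 9605)) (.leaf 7815)) (.node (.node (.leaf 1015) (.leaf 5001)) (.leaf 2445))))) (.node (.node (.node (.node (.node (.leaf 6240) (.leaf 2771)) (.leaf 7403)) (.node (.node (.leaf 6796) (.leaf 10070)) (.leaf 8083))) (.node (.node (.node (.leaf 6508) (.leaf 3307)) (.leaf 7730)) (.node (.node (.leaf 940) (.leaf 4713)) (.leaf 8492)))) (.node (.node (.node (.node (.leaf 216) (.leaf 9185)) (.leaf 7568)) (.node (.node (.leaf 785) (.leaf 10437)) (.leaf 8280))) (.node (.node (.node (.leaf 495) (.leaf 9757)) (.leaf 1745)) (.node (.node (.leaf 1094) (.leaf 11576)) (.leaf 8709)))))) (.node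 (.node (.node (.node (.node (.node (.leaf 6206) (.leaf 8874)) (.leaf 1208)) (.node (.node (.leaf 603) (.leaf 9986)) (.leaf 1881))) (.node (.node (.node (.leaf 6473) (.leaf 9382)) (.leaf 7692)) (.node (.node (.leaf 7054) (.leaf 10757)) (.leaf 2282)))) (.node (.node (.node (.node (.leaf 6339) (.leaf 9112)) (.leaf 1367)) (.node (.node (.leaf 6904) (.leaf 4183)) (.leaf 2076))) (.node (.node (.node (.leaf 460) (.leaf 9685)) (.leaf 7858)) (.node (.node (.leaf 7207) (.leaf 5197)) (.leaf 8662))))) (.node (.node (.node (.node (.node (.leaf 118) (.leaf 8984)) (.leaf 1288)) (.node (.node (.leaf 679) (.leaf 10153)) (.leaf 1975))) (.node (.node (.node (.leaf 389) (.leaf 9538)) (.leaf 7774)) (.node (.node (.leaf 7132) (.leaf 10987)) (.leaf 2391)))) (.node (.node (.node (.node (.leaf 250) (.leaf 3094)) (.leaf 7608)) (.node (.node (.leaf 821) (.leaf 10541)) (.leaf 8335))) (.node (.node (.node (.leaf 531) (.leaf 9826)) (.leaf 7945)) (.node (.node (.leaf 7287) (.leaf 11807)) (.leaf 8763)))))))) (.node (.node (.node (.node (.node (.node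 (.node (.node (.leaf 6165) (.leaf 2651)) (.leaf 1160)) (.node (.node (.leaf 6713) (.leaf 9888)) (.leaf 7982))) (.node (.node (.node (.leaf 6430) (.leaf 9304)) (.leaf 7641)) (.node (.node (.leaf 7006) (.leaf 4467)) (.leaf 2222)))) (.node (.node (.node (.node (.leaf 6298) (.leaf 9031)) (.leaf 1316)) (.node (.node (.leaf 6860) (.leaf 10227)) (.leaf 2015))) (.node (.node (.node (.leaf 6572) (.leaf 3434)) (.leaf 7804)) (.node (.node (.leaf 1005) (.leaf 4948)) (.leaf 8587))))) (.node (.node (.node (.node (.node (.leaf 6231) (.leaf 8911)) (.leaf 7394)) (.node (.node (.leaf 6786) (.leaf 10046)) (.leaf 8069))) (.node (.node (.node (.leaf 344) (.leaf 3290)) (.leaf 1565)) (.node (.node (.leaf 7084) (.leaf 4687)) (.leaf 2326)))) (.node (.node (.node (.node (.leaf 208) (.leaf 9171)) (.leaf 1403)) (.node (.node (.leaf 777) (.leaf 4259)) (.leaf 8268))) (.node (.node (.node (.leaf 6642) (.leaf 3585)) (.leaf 1733)) (.node (.node (.leaf 7237) (.leaf 11499)) (.leaf 2541)))))) (.node (.node (.node (.node (.node (.node (.leaf 42) (.leaf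 2702)) (.leaf 7355)) (.node (.node (.leaf 594) (.leaf 3812)) (.leaf 1869))) (.node (.node (.node (.leaf 309) (.leaf 9364)) (.leaf 7678)) (.node (.node (.leaf 7045) (.leaf 4576)) (.leaf 8424)))) (.node (.node (.node (.node (.leaf 175) (.leaf 2941)) (.leaf 1358)) (.node (.node (.leaf 6895) (.leaf 4158)) (.leaf 2066))) (.node (.node (.node (.leaf 451) (.leaf 9663)) (.leaf 7846)) (.node (.node (.leaf 1041) (.leaf 11302)) (.leaf 8646))))) (.node (.node (.node (.node (.node (.leaf 6265) (.leaf 8965)) (.leaf 1277)) (.node (.node (.leaf 669) (.leaf 3972)) (.leaf 8117))) (.node (.node (.node (.leaf 6536) (.leaf 3356)) (.leaf 1608)) (.node (.node (.leaf 7124) (.leaf 10949)) (.leaf 2379)))) (.node (.node (.node (.node (.leaf 6397) (.leaf 3074)) (.leaf 7599)) (.node (.node (.leaf 6967) (.leaf 4357)) (.leaf 2166))) (.node (.node (.node (.leaf 6678) (.leaf 9812)) (.leaf 1781)) (.node (.node (.leaf 7279) (.leaf 5603)) (.leaf 8751))))))) (.node (.node (.node (.node (.node (.node (.node (.leaf 26) (.leaf 2678)) (.leaf 7335)) (.node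 (.node (.leaf 6731) (.leaf 3772)) (.leaf 8004))) (.node (.node (.node (.leaf 291) (.leaf 3178)) (.leaf 1505)) (.node (.node (.leaf 868) (.leaf 10675)) (.leaf 8400)))) (.node (.node (.node (.node (.leaf 6314) (.leaf 9067)) (.leaf 7494)) (.node (.node (.leaf 722) (.leaf 4112)) (.leaf 2039))) (.node (.node (.node (.leaf 434) (.leaf 3465)) (.leaf 7824)) (.node (.node (.leaf 1023) (.leaf 5063)) (.leaf 2465))))) (.node (.node (.node (.node (.node (.leaf 6248) (.leaf 2784)) (.leaf 1257)) (.node (.node (.leaf 651) (.leaf 10090)) (.leaf 1939))) (.node (.node (.node (.leaf 6518) (.leaf 9478)) (.leaf 1586)) (.node (.node (.leaf 949) (.leaf 10896)) (.leaf 2351)))) (.node (.node (.node (.node (.leaf 6380) (.leaf 9198)) (.leaf 1423)) (.node (.node (.leaf 793) (.leaf 10471)) (.leaf 2137))) (.node (.node (.node (.leaf 6659) (.leaf 3618)) (.leaf 1756)) (.node (.node (.leaf 7259) (.leaf 11613)) (.leaf 2571)))))) (.node (.node (.node (.node (.node (.node (.leaf 6215) (.leaf 8886)) (.leaf 1218)) (.node (.node (.leaf 613) (.leaf 3851))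 (.leaf 1890))) (.node (.node (.node (.leaf 6482) (.leaf 3248)) (.leaf 7703)) (.node (.node (.leaf 909) (.leaf 10783)) (.leaf 8451)))) (.node (.node (.node (.node (.leaf 6347) (.leaf 9134)) (.leaf 1378)) (.node (.node (.leaf 758) (.leaf 4204)) (.leaf 8245))) (.node (.node (.node (.leaf 6625) (.leaf 3550)) (.leaf 7868)) (.node (.node (.leaf 7217) (.leaf 11408)) (.leaf 2519))))) (.node (.node (.node (.node (.node (.leaf 126) (.leaf 2845)) (.leaf 7453)) (.node (.node (.leaf 687) (.leaf 10170)) (.leaf 1988))) (.node (.node (.node (.leaf 398) (.leaf 9558)) (.leaf 7783)) (.node (.node (.leaf 7141) (.leaf 4860)) (.leaf 2401)))) (.node (.node (.node (.node (.leaf 258) (.leaf 3112)) (.leaf 1464)) (.node (.node (.leaf 831) (.leaf 10575)) (.leaf 2191))) (.node (.node (.node (.leaf 6695) (.leaf 3696)) (.leaf 1801)) (.node (.node (.leaf 1141) (.leaf 11891)) (.leaf 2621))))))))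

/-- Part of `topPar`. -/
def topPar_p0011 : Tr := .node (.node (.node (.node (.node (.node (.node (.node (.node (.leaf 6161) (.leaf 8796)) (.leaf 7311)) (.node (.node (.leaf 6709) (.leaf 9877)) (.leaf 7976))) (.node (.node (.node (.leaf 270) (.leaf 9297)) (.leaf 1481)) (.node (.node (.leaf 7002) (.leaf 4455)) (.leaf 2213)))) (.node (.node (.node (.node (.leaf 6294) (.leaf 2868)) (.leaf 1311)) (.node (.node (.leaf 6856) (.leaf 4058)) (.leaf 8163))) (.node (.node (.node (.leaf 411) (.leaf 3428)) (.leaf 1642)) (.node (.node (.leaf 1000) (.leaf 4919)) (.leaf 2423))))) (.node (.node (.node (.node (.node (.leaf 6227) (.leaf 2751)) (.leaf 1233)) (.node (.node (.leaf 626) (.leaf 3878)) (.leaf 1906))) (.node (.node (.node (.leaf 340) (.leaf 3282)) (.leaf 1561)) (.node (.node (.leaf 924) (.leaf 10829)) (.leaf 2318)))) (.node (.node (.node (.node (.leaf 204) (.leaf 9161)) (.leaf 7552)) (.node (.node (.leaf 6928) (.leaf 10403)) (.leaf 8263))) (.node (.node (.node (.leaf 482) (.leaf 3574)) (.leaf 1727)) (.node (.node (.leaf 7233)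 (.leaf 5317)) (.leaf 2536)))))) (.node (.node (.node (.node (.node (.node (.leaf 38) (.leaf 8851)) (.leaf 7350)) (.node (.node (.leaf 6745) (.leaf 9954)) (.leaf 8020))) (.node (.node (.node (.leaf 6460) (.leaf 3202)) (.leaf 1518)) (.node (.node (.leaf 7039) (.leaf 4559)) (.leaf 2263)))) (.node (.node (.node (.node (.leaf 171) (.leaf 9089)) (.leaf 1353)) (.node (.node (.leaf 6891) (.leaf 4144)) (.leaf 8211))) (.node (.node (.node (.leaf 447) (.leaf 3496)) (.leaf 7840)) (.node (.node (.leaf 7192) (.leaf 11280)) (.leaf 2482))))) (.node (.node (.node (.node (.node (.leaf 6260) (.leaf 8959)) (.leaf 1273)) (.node (.node (.leaf 665) (.leaf 10119)) (.leaf 8112))) (.node (.node (.node (.leaf 6532) (.leaf 9503)) (.leaf 7759)) (.node (.node (.leaf 964) (.leaf 4781)) (.leaf 8527)))) (.node (.node (.node (.node (.leaf 237) (.leaf 3063)) (.leaf 7594)) (.node (.node (.leaf 807) (.leaf 10499)) (.leaf 8316))) (.node (.node (.node (.leaf 518) (.leaf 3651)) (.leaf 1774)) (.node (.node (.leaf 7275) (.leaf 5575)) (.leaf 2589))))))) (.node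 (.node (.node (.node (.node (.node (.node (.leaf 22) (.leaf 8827)) (.leaf 1175)) (.node (.node (.leaf 6727) (.leaf 3761)) (.leaf 1842))) (.node (.node (.node (.leaf 287) (.leaf 3171)) (.leaf 1501)) (.node (.node (.leaf 863) (.leaf 4505)) (.leaf 8395)))) (.node (.node (.node (.node (.leaf 6310) (.leaf 2903)) (.leaf 7488)) (.node (.node (.leaf 718) (.leaf 10259)) (.leaf 2032))) (.node (.node (.node (.leaf 6585) (.leaf 9611)) (.leaf 7820)) (.node (.node (.leaf 1019) (.leaf 5033)) (.leaf 2456))))) (.node (.node (.node (.node (.node (.leaf 6244) (.leaf 8932)) (.leaf 7408)) (.node (.node (.leaf 6801) (.leaf 3923)) (.leaf 1934))) (.node (.node (.node (.leaf 358) (.leaf 3313)) (.leaf 1579)) (.node (.node (.leaf 944) (.leaf 4725)) (.leaf 8499)))) (.node (.node (.node (.node (.leaf 6376) (.leaf 3037)) (.leaf 1418)) (.node (.node (.leaf 789) (.leaf 10458)) (.leaf 2130))) (.node (.node (.node (.leaf 499) (.leaf 3612)) (.leaf 7905)) (.node (.node (.leaf 7255) (.leaf 11590)) (.leaf 8715)))))) (.node (.node (.node (.node (.node (.node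 (.leaf 55) (.leaf 8880)) (.leaf 1213)) (.node (.node (.leaf 6763) (.leaf 9995)) (.leaf 1886))) (.node (.node (.node (.leaf 322) (.leaf 9394)) (.leaf 7698)) (.node (.node (.leaf 7059) (.leaf 4611)) (.leaf 8443)))) (.node (.node (.node (.node (.leaf 6343) (.leaf 2965)) (.leaf 1374)) (.node (.node (.leaf 753) (.leaf 4195)) (.leaf 8239))) (.node (.node (.node (.leaf 465) (.leaf 9694)) (.leaf 7862)) (.node (.node (.leaf 7212) (.leaf 11381)) (.leaf 2514))))) (.node (.node (.node (.node (.node (.leaf 122) (.leaf 8992)) (.leaf 7448)) (.node (.node (.leaf 683) (.leaf 4008)) (.leaf 8136))) (.node (.node (.node (.leaf 394) (.leaf 3392)) (.leaf 1623)) (.node (.node (.leaf 981) (.leaf 11002)) (.leaf 8551)))) (.node (.node (.node (.node (.leaf 254) (.leaf 3102)) (.leaf 7615)) (.node (.node (.leaf 6982) (.leaf 4404)) (.leaf 8340))) (.node (.node (.node (.leaf 6691) (.leaf 3683)) (.leaf 7950)) (.node (.node (.leaf 7292) (.leaf 11846)) (.leaf 2614)))))))) (.node (.node (.node (.node (.node (.node (.node (.node (.leaf 6169) (.leaf 8814))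 (.leaf 1164)) (.node (.node (.leaf 6717) (.leaf 9899)) (.leaf 7987))) (.node (.node (.node (.leaf 6434) (.leaf 3155)) (.leaf 7646)) (.node (.node (.leaf 7010) (.leaf 10631)) (.leaf 2227)))) (.node (.node (.node (.node (.leaf 6302) (.leaf 9039)) (.leaf 7477)) (.node (.node (.leaf 6864) (.leaf 4085)) (.leaf 8176))) (.node (.node (.node (.leaf 421) (.leaf 9598)) (.leaf 1653)) (.node (.node (.leaf 1010) (.leaf 11133)) (.leaf 8595))))) (.node (.node (.node (.node (.node (.leaf 6236) (.leaf 8921)) (.leaf 1243)) (.node (.node (.leaf 636) (.leaf 10058)) (.leaf 1921))) (.node (.node (.node (.leaf 6504) (.leaf 9453)) (.leaf 1570)) (.node (.node (.leaf 7090) (.leaf 10855)) (.leaf 8487)))) (.node (.node (.node (.node (.leaf 212) (.leaf 3024)) (.leaf 1408)) (.node (.node (.leaf 781) (.leaf 4266)) (.leaf 2117))) (.node (.node (.node (.leaf 491) (.leaf 9749)) (.leaf 1738)) (.node (.node (.leaf 1088) (.leaf 5404)) (.leaf 8702)))))) (.node (.node (.node (.node (.node (.node (.leaf 6202) (.leaf 8868)) (.leaf 7359)) (.node (.node (.leaf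 599) (.leaf 3819)) (.leaf 1875))) (.node (.node (.node (.leaf 313) (.leaf 3218)) (.leaf 7684)) (.node (.node (.leaf 7049) (.leaf 10745)) (.leaf 2274)))) (.node (.node (.node (.node (.leaf 6335) (.leaf 2950)) (.leaf 1363)) (.node (.node (.leaf 6899) (.leaf 10322)) (.leaf 2071))) (.node (.node (.node (.leaf 456) (.leaf 9676)) (.leaf 7852)) (.node (.node (.leaf 7201) (.leaf 11334)) (.leaf 8653))))) (.node (.node (.node (.node (.node (.leaf 6269) (.leaf 2819)) (.leaf 1283)) (.node (.node (.leaf 6830) (.leaf 10138)) (.leaf 1970))) (.node (.node (.node (.leaf 6540) (.leaf 9521)) (.leaf 7769)) (.node (.node (.leaf 7128) (.leaf 10970)) (.leaf 8539)))) (.node (.node (.node (.node (.leaf 246) (.leaf 3082)) (.leaf 7603)) (.node (.node (.leaf 816) (.leaf 10527)) (.leaf 2173))) (.node (.node (.node (.leaf 6682) (.leaf 3664)) (.leaf 7941)) (.node (.node (.leaf 7283) (.leaf 5633)) (.leaf 2602))))))) (.node (.node (.node (.node (.node (.node (.node (.leaf 30) (.leaf 2684)) (.leaf 1185)) (.node (.node (.leaf 580) (.leaf 9936)) (.leaf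 8008))) (.node (.node (.node (.leaf 6451) (.leaf 9340)) (.leaf 1509)) (.node (.node (.leaf 873) (.leaf 4533)) (.leaf 8407)))) (.node (.node (.node (.node (.leaf 6318) (.leaf 9076)) (.leaf 1343)) (.node (.node (.leaf 726) (.leaf 10281)) (.leaf 8201))) (.node (.node (.node (.leaf 438) (.leaf 9633)) (.leaf 7830)) (.node (.node (.leaf 1027) (.leaf 5083)) (.leaf 8626))))) (.node (.node (.node (.node (.node (.leaf 6252) (.leaf 8945)) (.leaf 1262)) (.node (.node (.leaf 6812) (.leaf 10104)) (.leaf 1945))) (.node (.node (.node (.leaf 368) (.leaf 9484)) (.leaf 7747)) (.node (.node (.leaf 7110) (.leaf 4749)) (.leaf 8513)))) (.node (.node (.node (.node (.leaf 6384) (.leaf 3049)) (.leaf 1428)) (.node (.node (.leaf 797) (.leaf 10478)) (.leaf 2144))) (.node (.node (.node (.leaf 6663) (.leaf 9788)) (.leaf 7920)) (.node (.node (.leaf 7266) (.leaf 11659)) (.leaf 2576)))))) (.node (.node (.node (.node (.node (.node (.leaf 6219) (.leaf 8890)) (.leaf 1223)) (.node (.node (.leaf 617) (.leaf 3863)) (.leaf 8051))) (.node (.node (.node (.leaf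 6486) (.leaf 3259)) (.leaf 1552)) (.node (.node (.leaf 7069) (.leaf 10803)) (.leaf 2306)))) (.node (.node (.node (.node (.leaf 196) (.leaf 9142)) (.leaf 1386)) (.node (.node (.leaf 763) (.leaf 4219)) (.leaf 8251))) (.node (.node (.node (.leaf 474) (.leaf 9717)) (.leaf 1717)) (.node (.node (.leaf 1066) (.leaf 11419)) (.leaf 2524))))) (.node (.node (.node (.node (.node (.leaf 130) (.leaf 2852)) (.leaf 7458)) (.node (.node (.leaf 692) (.leaf 10189)) (.leaf 1994))) (.node (.node (.node (.leaf 402) (.leaf 3412)) (.leaf 1634)) (.node (.node (.leaf 990) (.leaf 11035)) (.leaf 8563)))) (.node (.node (.node (.node (.leaf 262) (.leaf 9277)) (.leaf 7625)) (.node (.node (.leaf 836) (.leaf 10589)) (.leaf 8355))) (.node (.node (.node (.leaf 6700) (.leaf 3704)) (.leaf 1809)) (.node (.node (.leaf 7301) (.leaf 5808)) (.leaf 2626))))))))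

/-- Part of `topPar`. -/
def topPar_p0100 : Tr := .node (.node (.node (.node (.node (.node (.node (.node (.node (.leaf 6156) (.leaf 2630)) (.node (.leaf 7306) (.leaf 5884))) (.node (.node (.leaf 6704) (.leaf 9869)) (.leaf 7969))) (.node (.node (.node (.leaf 265) (.leaf 9283)) (.leaf 1475)) (.node (.node (.leaf 6995) (.leaf 10597)) (.leaf 2204)))) (.node (.node (.node (.node (.leaf 6289) (.leaf 9014)) (.leaf 1306)) (.node (.node (.leaf 6851) (.leaf 10196)) (.leaf 8155))) (.node (.node (.node (.leaf 405) (.leaf 3418)) (.leaf 1637)) (.node (.node (.leaf 994) (.leaf 11053)) (.leaf 2411))))) (.node (.node (.node (.node (.node (.leaf 6222) (.leaf 2740)) (.leaf 7383)) (.node (.node (.leaf 620) (.leaf 3867)) (.leaf 1899))) (.node (.node (.node (.leaf 6490) (.leaf 3265)) (.leaf 1556)) (.node (.node (.leaf 7073) (.leaf 4657)) (.leaf 2311)))) (.node (.node (.node (.node (.leaf 199) (.leaf 9149)) (.leaf 1390)) (.node (.node (.leaf 6922) (.leaf 4232)) (.leaf 8257))) (.node (.node (.node (.leaf 477) (.leaf 3566)) (.leaf 7876))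 (.node (.node (.leaf 1069) (.leaf 5279)) (.leaf 8684)))))) (.node (.node (.node (.node (.node (.node (.leaf 33) (.leaf 8843)) (.leaf 1188)) (.node (.node (.leaf 583) (.leaf 9941)) (.leaf 1857))) (.node (.node (.node (.leaf 6454) (.leaf 3191)) (.leaf 7668)) (.node (.node (.leaf 878) (.leaf 4539)) (.leaf 8410)))) (.node (.node (.node (.node (.leaf 166) (.leaf 9081)) (.leaf 1347)) (.node (.node (.leaf 6885) (.leaf 4133)) (.leaf 2049))) (.node (.node (.node (.leaf 6597) (.leaf 3486)) (.leaf 1678)) (.node (.node (.leaf 1030) (.leaf 11249)) (.leaf 2475))))) (.node (.node (.node (.node (.node (.leaf 6255) (.leaf 8950)) (.leaf 1266)) (.node (.node (.leaf 6815) (.leaf 10109)) (.leaf 8105))) (.node (.node (.node (.leaf 6527) (.leaf 3335)) (.leaf 7751)) (.node (.node (.leaf 958) (.leaf 10915)) (.leaf 8519)))) (.node (.node (.node (.node (.leaf 232) (.leaf 3054)) (.leaf 1432)) (.node (.node (.leaf 801) (.leaf 10484)) (.leaf 2150))) (.node (.node (.node (.leaf 6667) (.leaf 3639)) (.leaf 7924)) (.node (.node (.leaf 7269) (.leaf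 5534)) (.leaf 8736))))))) (.node (.node (.node (.node (.node (.node (.node (.leaf 17) (.leaf 2662)) (.leaf 7324)) (.node (.node (.leaf 565) (.leaf 9903)) (.leaf 1836))) (.node (.node (.node (.leaf 6437) (.leaf 3162)) (.leaf 7651)) (.node (.node (.leaf 7013) (.leaf 10644)) (.leaf 8387)))) (.node (.node (.node (.node (.leaf 6305) (.leaf 2894)) (.leaf 1325)) (.node (.node (.leaf 713) (.leaf 4093)) (.leaf 2026))) (.node (.node (.node (.leaf 424) (.leaf 9603)) (.leaf 1658)) (.node (.node (.leaf 1014) (.leaf 11150)) (.leaf 2444))))) (.node (.node (.node (.node (.node (.leaf 6239) (.leaf 2770)) (.leaf 7402)) (.node (.node (.leaf 639) (.leaf 3910)) (.leaf 1926))) (.node (.node (.node (.leaf 6507) (.leaf 9461)) (.leaf 1573)) (.node (.node (.leaf 7093) (.leaf 4709)) (.leaf 8491)))) (.node (.node (.node (.node (.leaf 215) (.leaf 9184)) (.leaf 7567)) (.node (.node (.leaf 784) (.leaf 4277)) (.leaf 8279))) (.node (.node (.node (.leaf 494) (.leaf 9754)) (.leaf 7898)) (.node (.node (.leaf 7248) (.leaf 5418)) (.leaf 8707)))))) (.node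 (.node (.node (.node (.node (.node (.leaf 6205) (.leaf 8873)) (.leaf 1207)) (.node (.node (.leaf 602) (.leaf 9983)) (.leaf 8035))) (.node (.node (.node (.leaf 6472) (.leaf 9381)) (.leaf 7690)) (.node (.node (.leaf 7053) (.leaf 10755)) (.leaf 2279)))) (.node (.node (.node (.node (.leaf 6338) (.leaf 9111)) (.leaf 1366)) (.node (.node (.leaf 6903) (.leaf 4177)) (.leaf 2075))) (.node (.node (.node (.leaf 459) (.leaf 9684)) (.leaf 7857)) (.node (.node (.leaf 7206) (.leaf 5193)) (.leaf 2504))))) (.node (.node (.node (.node (.node (.leaf 117) (.leaf 2827)) (.leaf 1287)) (.node (.node (.leaf 678) (.leaf 10147)) (.leaf 1974))) (.node (.node (.node (.leaf 388) (.leaf 9534)) (.leaf 1617)) (.node (.node (.leaf 7131) (.leaf 4828)) (.leaf 2390)))) (.node (.node (.node (.node (.leaf 249) (.leaf 9247)) (.leaf 7607)) (.node (.node (.leaf 820) (.leaf 4383)) (.leaf 8334))) (.node (.node (.node (.leaf 6685) (.leaf 3668)) (.leaf 7944)) (.node (.node (.leaf 7286) (.leaf 11806)) (.leaf 8762)))))))) (.node (.node (.node (.node (.node (.node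 (.node (.node (.leaf 6164) (.leaf 8803)) (.leaf 1159)) (.node (.node (.leaf 6712) (.leaf 9883)) (.leaf 7980))) (.node (.node (.node (.leaf 6429) (.leaf 3147)) (.leaf 7640)) (.node (.node (.leaf 7005) (.leaf 4465)) (.leaf 8373)))) (.node (.node (.node (.node (.leaf 6297) (.leaf 2874)) (.leaf 1314)) (.node (.node (.leaf 6859) (.leaf 4070)) (.leaf 8169))) (.node (.node (.node (.leaf 6571) (.leaf 3432)) (.leaf 1646)) (.node (.node (.leaf 1004) (.leaf 11091)) (.leaf 8585))))) (.node (.node (.node (.node (.node (.leaf 6230) (.leaf 8910)) (.leaf 1237)) (.node (.node (.leaf 629) (.leaf 3889)) (.leaf 8067))) (.node (.node (.node (.leaf 343) (.leaf 9444)) (.leaf 1564)) (.node (.node (.leaf 7083) (.leaf 10841)) (.leaf 8480)))) (.node (.node (.node (.node (.leaf 207) (.leaf 3012)) (.leaf 1402)) (.node (.node (.leaf 776) (.leaf 4256)) (.leaf 8267))) (.node (.node (.node (.leaf 6641) (.leaf 9737)) (.leaf 1731)) (.node (.node (.leaf 7236) (.leaf 11490)) (.leaf 8695)))))) (.node (.node (.node (.node (.node (.node (.leaf 41) (.leaf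 2701)) (.leaf 1198)) (.node (.node (.leaf 6748) (.leaf 9961)) (.leaf 1868))) (.node (.node (.node (.leaf 308) (.leaf 9362)) (.leaf 7677)) (.node (.node (.leaf 7044) (.leaf 10730)) (.leaf 8423)))) (.node (.node (.node (.node (.leaf 174) (.leaf 2939)) (.leaf 1356)) (.node (.node (.leaf 6894) (.leaf 4155)) (.leaf 8220))) (.node (.node (.node (.leaf 450) (.leaf 9661)) (.leaf 1689)) (.node (.node (.leaf 7195) (.leaf 5139)) (.leaf 2487))))) (.node (.node (.node (.node (.node (.leaf 108) (.leaf 8964)) (.leaf 1276)) (.node (.node (.leaf 668) (.leaf 10125)) (.leaf 8116))) (.node (.node (.node (.leaf 6535) (.leaf 3353)) (.leaf 7762)) (.node (.node (.leaf 7123) (.leaf 10946)) (.leaf 2376)))) (.node (.node (.node (.node (.leaf 6396) (.leaf 3073)) (.leaf 7598)) (.node (.node (.leaf 6966) (.leaf 4355)) (.leaf 2164))) (.node (.node (.node (.leaf 6677) (.leaf 9810)) (.leaf 1779)) (.node (.node (.leaf 7278) (.leaf 11752)) (.leaf 8750))))))) (.node (.node (.node (.node (.node (.node (.node (.leaf 25) (.leaf 8832)) (.leaf 7334)) (.node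 (.node (.leaf 6730) (.leaf 3769)) (.leaf 1846))) (.node (.node (.node (.leaf 290) (.leaf 9332)) (.leaf 1504)) (.node (.node (.leaf 866) (.leaf 10668)) (.leaf 8399)))) (.node (.node (.node (.node (.leaf 6313) (.leaf 9065)) (.leaf 7493)) (.node (.node (.leaf 721) (.leaf 4109)) (.leaf 8193))) (.node (.node (.node (.leaf 433) (.leaf 9619)) (.leaf 7823)) (.node (.node (.leaf 1022) (.leaf 5049)) (.leaf 2464))))) (.node (.node (.node (.node (.node (.leaf 6247) (.leaf 2783)) (.leaf 1256)) (.node (.node (.leaf 6805) (.leaf 3932)) (.leaf 1937))) (.node (.node (.node (.leaf 6517) (.leaf 3321)) (.leaf 7740)) (.node (.node (.leaf 7103) (.leaf 4734)) (.leaf 8505)))) (.node (.node (.node (.node (.leaf 6379) (.leaf 3041)) (.leaf 1422)) (.node (.node (.leaf 792) (.leaf 4314)) (.leaf 8290))) (.node (.node (.node (.leaf 6658) (.leaf 3617)) (.leaf 1753)) (.node (.node (.leaf 7258) (.leaf 11605)) (.leaf 2568)))))) (.node (.node (.node (.node (.node (.node (.leaf 6214) (.leaf 8885)) (.leaf 1217)) (.node (.node (.leaf 6767) (.leaf 3850))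 (.leaf 1889))) (.node (.node (.node (.leaf 6481) (.leaf 9399)) (.leaf 7702)) (.node (.node (.leaf 908) (.leaf 4622)) (.leaf 2294)))) (.node (.node (.node (.node (.leaf 6346) (.leaf 2973)) (.leaf 1377)) (.node (.node (.leaf 757) (.leaf 4202)) (.leaf 2087))) (.node (.node (.node (.leaf 468) (.leaf 9703)) (.leaf 7867)) (.node (.node (.leaf 1060) (.leaf 11404)) (.leaf 8673))))) (.node (.node (.node (.node (.node (.leaf 125) (.leaf 8999)) (.leaf 7452)) (.node (.node (.leaf 686) (.leaf 4012)) (.leaf 1986))) (.node (.node (.node (.leaf 397) (.leaf 3401)) (.leaf 7782)) (.node (.node (.leaf 7140) (.leaf 4857)) (.leaf 2400)))) (.node (.node (.node (.node (.leaf 257) (.leaf 9264)) (.leaf 1463)) (.node (.node (.leaf 830) (.leaf 4414)) (.leaf 8344))) (.node (.node (.node (.leaf 6694) (.leaf 3693)) (.leaf 7954)) (.node (.node (.leaf 1140) (.leaf 5715)) (.leaf 8775))))))))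

/-- Part of `topPar`. -/
def topPar_p0101 : Tr := .node (.node (.node (.node (.node (.node (.node (.node (.node (.leaf 6160) (.leaf 8793)) (.node (.leaf 7310) (.leaf 6035))) (.node (.node (.leaf 6708) (.leaf 9876)) (.leaf 1819))) (.node (.node (.node (.leaf 269) (.leaf 9296)) (.leaf 7635)) (.node (.node (.leaf 7001) (.leaf 4450)) (.leaf 8367)))) (.node (.node (.node (.node (.leaf 6293) (.leaf 2865)) (.leaf 1310)) (.node (.node (.leaf 6855) (.leaf 10208)) (.leaf 8162))) (.node (.node (.node (.leaf 6565) (.leaf 3423)) (.leaf 1641)) (.node (.node (.leaf 999) (.leaf 11071)) (.leaf 8575))))) (.node (.node (.node (.node (.node (.leaf 6226) (.leaf 8905)) (.leaf 1232)) (.node (.node (.leaf 625) (.leaf 10031)) (.leaf 1905))) (.node (.node (.node (.leaf 339) (.leaf 3280)) (.leaf 1560)) (.node (.node (.leaf 923) (.leaf 4671)) (.leaf 2317)))) (.node (.node (.node (.node (.leaf 203) (.leaf 9159)) (.leaf 7551)) (.node (.node (.leaf 6926) (.leaf 10400)) (.leaf 8262))) (.node (.node (.node (.leaf 481) (.leaf 3572)) (.leaf 1725))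 (.node (.node (.leaf 7231) (.leaf 5304)) (.leaf 8689)))))) (.node (.node (.node (.node (.node (.node (.leaf 37) (.leaf 2694)) (.leaf 7349)) (.node (.node (.leaf 588) (.leaf 3797)) (.leaf 8019))) (.node (.node (.node (.leaf 6459) (.leaf 3201)) (.leaf 7672)) (.node (.node (.leaf 7038) (.leaf 10711)) (.leaf 2262)))) (.node (.node (.node (.node (.leaf 170) (.leaf 2932)) (.leaf 1352)) (.node (.node (.leaf 6890) (.leaf 4141)) (.leaf 8210))) (.node (.node (.node (.leaf 446) (.leaf 3494)) (.leaf 7839)) (.node (.node (.leaf 7191) (.leaf 11275)) (.leaf 2481))))) (.node (.node (.node (.node (.node (.leaf 6259) (.leaf 2800)) (.leaf 1272)) (.node (.node (.leaf 6819) (.leaf 10117)) (.leaf 8111))) (.node (.node (.node (.leaf 6531) (.leaf 9502)) (.leaf 7758)) (.node (.node (.leaf 963) (.leaf 4777)) (.leaf 8526)))) (.node (.node (.node (.node (.leaf 236) (.leaf 9216)) (.leaf 7592)) (.node (.node (.leaf 806) (.leaf 4338)) (.leaf 8314))) (.node (.node (.node (.leaf 517) (.leaf 3650)) (.leaf 1773)) (.node (.node (.leaf 7274) (.leaf 5555))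 (.leaf 2587))))))) (.node (.node (.node (.node (.node (.node (.node (.leaf 21) (.leaf 8826)) (.leaf 7329)) (.node (.node (.leaf 6726) (.leaf 9914)) (.leaf 1841))) (.node (.node (.node (.leaf 286) (.leaf 9325)) (.leaf 1500)) (.node (.node (.leaf 862) (.leaf 4502)) (.leaf 8394)))) (.node (.node (.node (.node (.leaf 6309) (.leaf 2902)) (.leaf 7486)) (.node (.node (.leaf 717) (.leaf 10258)) (.leaf 2030))) (.node (.node (.node (.leaf 6584) (.leaf 9609)) (.leaf 1663)) (.node (.node (.leaf 1018) (.leaf 11187)) (.leaf 2450))))) (.node (.node (.node (.node (.node (.leaf 6243) (.leaf 2775)) (.leaf 7407)) (.node (.node (.leaf 6800) (.leaf 10077)) (.leaf 1933))) (.node (.node (.node (.leaf 357) (.leaf 3312)) (.leaf 1578)) (.node (.node (.leaf 943) (.leaf 10878)) (.leaf 8498)))) (.node (.node (.node (.node (.leaf 6375) (.leaf 3036)) (.leaf 1417)) (.node (.node (.leaf 788) (.leaf 10457)) (.leaf 8284))) (.node (.node (.node (.leaf 498) (.leaf 9765)) (.leaf 7904)) (.node (.node (.leaf 1098) (.leaf 11586)) (.leaf 2558)))))) (.node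 (.node (.node (.node (.node (.node (.leaf 54) (.leaf 2722)) (.leaf 7367)) (.node (.node (.leaf 6762) (.leaf 9994)) (.leaf 1885))) (.node (.node (.node (.leaf 321) (.leaf 3237)) (.leaf 1541)) (.node (.node (.leaf 902) (.leaf 10763)) (.leaf 2286)))) (.node (.node (.node (.node (.leaf 6342) (.leaf 9119)) (.leaf 1372)) (.node (.node (.leaf 6907) (.leaf 4194)) (.leaf 8237))) (.node (.node (.node (.leaf 6619) (.leaf 3537)) (.leaf 7861)) (.node (.node (.leaf 7211) (.leaf 11376)) (.leaf 8668))))) (.node (.node (.node (.node (.node (.leaf 121) (.leaf 2835)) (.leaf 7447)) (.node (.node (.leaf 682) (.leaf 10160)) (.leaf 8135))) (.node (.node (.node (.leaf 393) (.leaf 9545)) (.leaf 1622)) (.node (.node (.leaf 980) (.leaf 10996)) (.leaf 8550)))) (.node (.node (.node (.node (.leaf 253) (.leaf 3100)) (.leaf 1458)) (.node (.node (.leaf 6981) (.leaf 10557)) (.leaf 8339))) (.node (.node (.node (.leaf 6690) (.leaf 9836)) (.leaf 1793)) (.node (.node (.leaf 7291) (.leaf 5675)) (.leaf 2611)))))))) (.node (.node (.node (.node (.node (.node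 (.node (.node (.leaf 6168) (.leaf 2657)) (.leaf 1163)) (.node (.node (.leaf 6716) (.leaf 3741)) (.leaf 7986))) (.node (.node (.node (.leaf 6433) (.leaf 9308)) (.leaf 7645)) (.node (.node (.leaf 7009) (.leaf 4474)) (.leaf 2226)))) (.node (.node (.node (.node (.leaf 6301) (.leaf 2879)) (.leaf 1320)) (.node (.node (.leaf 6863) (.leaf 4082)) (.leaf 8174))) (.node (.node (.node (.leaf 420) (.leaf 3439)) (.leaf 1652)) (.node (.node (.leaf 7164) (.leaf 11127)) (.leaf 8594))))) (.node (.node (.node (.node (.node (.leaf 6235) (.leaf 8918)) (.leaf 1242)) (.node (.node (.leaf 635) (.leaf 3901)) (.leaf 1920))) (.node (.node (.node (.leaf 6503) (.leaf 3296)) (.leaf 1569)) (.node (.node (.leaf 933) (.leaf 4697)) (.leaf 8486)))) (.node (.node (.node (.node (.leaf 211) (.leaf 3023)) (.leaf 1407)) (.node (.node (.leaf 780) (.leaf 10418)) (.leaf 8271))) (.node (.node (.node (.leaf 490) (.leaf 9748)) (.leaf 1737)) (.node (.node (.leaf 1085) (.leaf 5400)) (.leaf 2545)))))) (.node (.node (.node (.node (.node (.node (.leaf 45) (.leaf 8867))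 (.leaf 7358)) (.node (.node (.leaf 598) (.leaf 3818)) (.leaf 8029))) (.node (.node (.node (.leaf 312) (.leaf 9372)) (.leaf 1527)) (.node (.node (.leaf 7048) (.leaf 4588)) (.leaf 2273)))) (.node (.node (.node (.node (.leaf 6334) (.leaf 9102)) (.leaf 1362)) (.node (.node (.leaf 6898) (.leaf 4165)) (.leaf 2070))) (.node (.node (.node (.leaf 455) (.leaf 3518)) (.leaf 1695)) (.node (.node (.leaf 1044) (.leaf 11322)) (.leaf 8652))))) (.node (.node (.node (.node (.node (.leaf 6268) (.leaf 2818)) (.leaf 1282)) (.node (.node (.leaf 6828) (.leaf 10135)) (.leaf 8123))) (.node (.node (.node (.leaf 6539) (.leaf 3363)) (.leaf 7767)) (.node (.node (.leaf 7127) (.leaf 4810)) (.leaf 8538)))) (.node (.node (.node (.node (.leaf 245) (.leaf 3080)) (.leaf 7602)) (.node (.node (.leaf 815) (.leaf 10522)) (.leaf 2171))) (.node (.node (.node (.leaf 6681) (.leaf 3663)) (.leaf 7940)) (.node (.node (.leaf 7282) (.leaf 11782)) (.leaf 2601))))))) (.node (.node (.node (.node (.node (.node (.node (.leaf 29) (.leaf 8838)) (.leaf 7339)) (.node (.node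 (.leaf 579) (.leaf 9934)) (.leaf 8007))) (.node (.node (.node (.leaf 6450) (.leaf 9338)) (.leaf 1508)) (.node (.node (.leaf 871) (.leaf 10686)) (.leaf 8406)))) (.node (.node (.node (.node (.leaf 6317) (.leaf 2919)) (.leaf 1342)) (.node (.node (.leaf 725) (.leaf 10278)) (.leaf 2044))) (.node (.node (.node (.leaf 437) (.leaf 9629)) (.leaf 7829)) (.node (.node (.leaf 1026) (.leaf 11236)) (.leaf 8625))))) (.node (.node (.node (.node (.node (.leaf 6251) (.leaf 2788)) (.leaf 1261)) (.node (.node (.leaf 6811) (.leaf 3945)) (.leaf 1944))) (.node (.node (.node (.leaf 6522) (.leaf 3327)) (.leaf 7745)) (.node (.node (.leaf 7109) (.leaf 10903)) (.leaf 2355)))) (.node (.node (.node (.node (.leaf 6383) (.leaf 3048)) (.leaf 1427)) (.node (.node (.leaf 796) (.leaf 10477)) (.leaf 8297))) (.node (.node (.node (.leaf 6662) (.leaf 9784)) (.leaf 7918)) (.node (.node (.leaf 7263) (.leaf 11647)) (.leaf 2575)))))) (.node (.node (.node (.node (.node (.node (.leaf 6218) (.leaf 8889)) (.leaf 7377)) (.node (.node (.leaf 616) (.leaf 10015)) (.leaf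 1894))) (.node (.node (.node (.leaf 6485) (.leaf 9413)) (.leaf 7706)) (.node (.node (.leaf 7068) (.leaf 10799)) (.leaf 8458)))) (.node (.node (.node (.node (.leaf 195) (.leaf 9138)) (.leaf 1383)) (.node (.node (.leaf 6917) (.leaf 10369)) (.leaf 8250))) (.node (.node (.node (.leaf 473) (.leaf 9714)) (.leaf 1716)) (.node (.node (.leaf 1065) (.leaf 11416)) (.leaf 2523))))) (.node (.node (.node (.node (.node (.leaf 129) (.leaf 9006)) (.leaf 7456)) (.node (.node (.leaf 691) (.leaf 10187)) (.leaf 8148))) (.node (.node (.node (.leaf 401) (.leaf 9565)) (.leaf 7788)) (.node (.node (.leaf 989) (.leaf 11025)) (.leaf 8561)))) (.node (.node (.node (.node (.leaf 261) (.leaf 9275)) (.leaf 1468)) (.node (.node (.leaf 835) (.leaf 4431)) (.leaf 8354))) (.node (.node (.node (.leaf 6699) (.leaf 3702)) (.leaf 1808)) (.node (.node (.leaf 7300) (.leaf 11943)) (.leaf 2625))))))))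

/-- Part of `topPar`. -/
def topPar_p0110 : Tr := .node (.node (.node (.node (.node (.node (.node (.node (.node (.leaf 6158) (.leaf 2633)) (.node (.leaf 7308) (.leaf 5924))) (.node (.node (.leaf 6706) (.leaf 9872)) (.leaf 7972))) (.node (.node (.node (.leaf 267) (.leaf 3133)) (.leaf 1477)) (.node (.node (.leaf 6997) (.leaf 4445)) (.leaf 2208)))) (.node (.node (.node (.node (.leaf 6291) (.leaf 9018)) (.leaf 1308)) (.node (.node (.leaf 6853) (.leaf 10202)) (.leaf 8157))) (.node (.node (.node (.leaf 6563) (.leaf 9576)) (.leaf 1639)) (.node (.node (.leaf 997) (.leaf 4903)) (.leaf 8571))))) (.node (.node (.node (.node (.node (.leaf 6224) (.leaf 8901)) (.leaf 1230)) (.node (.node (.leaf 622) (.leaf 10028)) (.leaf 1902))) (.node (.node (.node (.leaf 6492) (.leaf 3275)) (.leaf 1558)) (.node (.node (.leaf 7076) (.leaf 4664)) (.leaf 2314)))) (.node (.node (.node (.node (.leaf 201) (.leaf 9152)) (.leaf 1393)) (.node (.node (.leaf 6924) (.leaf 10392)) (.leaf 8260))) (.node (.node (.node (.leaf 479) (.leaf 9725)) (.leaf 1723))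 (.node (.node (.leaf 7227) (.leaf 11445)) (.leaf 2531)))))) (.node (.node (.node (.node (.node (.node (.leaf 35) (.leaf 8845)) (.leaf 7346)) (.node (.node (.leaf 6741) (.leaf 9949)) (.leaf 8017))) (.node (.node (.node (.leaf 6457) (.leaf 9350)) (.leaf 7670)) (.node (.node (.leaf 7036) (.leaf 4549)) (.leaf 8414)))) (.node (.node (.node (.node (.leaf 168) (.leaf 2929)) (.leaf 7505)) (.node (.node (.leaf 6887) (.leaf 10294)) (.leaf 8207))) (.node (.node (.node (.leaf 6599) (.leaf 9647)) (.leaf 1680)) (.node (.node (.leaf 7188) (.leaf 11266)) (.leaf 8634))))) (.node (.node (.node (.node (.node (.leaf 6257) (.leaf 8953)) (.leaf 7424)) (.node (.node (.leaf 6817) (.leaf 3959)) (.leaf 8108))) (.node (.node (.node (.leaf 6529) (.leaf 9497)) (.leaf 7754)) (.node (.node (.leaf 960) (.leaf 4767)) (.leaf 8523)))) (.node (.node (.node (.node (.leaf 234) (.leaf 9212)) (.leaf 1434)) (.node (.node (.leaf 6959) (.leaf 4333)) (.leaf 2153))) (.node (.node (.node (.leaf 6670) (.leaf 9801)) (.leaf 7926)) (.node (.node (.leaf 7272) (.leaf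 5545)) (.leaf 8739))))))) (.node (.node (.node (.node (.node (.node (.node (.leaf 19) (.leaf 2666)) (.leaf 1171)) (.node (.node (.leaf 6723) (.leaf 3751)) (.leaf 1839))) (.node (.node (.node (.leaf 284) (.leaf 9321)) (.leaf 1498)) (.node (.node (.leaf 860) (.leaf 4496)) (.leaf 2236)))) (.node (.node (.node (.node (.leaf 6307) (.leaf 9053)) (.leaf 1328)) (.node (.node (.leaf 715) (.leaf 10254)) (.leaf 2028))) (.node (.node (.node (.leaf 426) (.leaf 3451)) (.leaf 7816)) (.node (.node (.leaf 1016) (.leaf 5017)) (.leaf 8602))))) (.node (.node (.node (.node (.node (.leaf 6241) (.leaf 8928)) (.leaf 1249)) (.node (.node (.leaf 642) (.leaf 3918)) (.leaf 1930))) (.node (.node (.node (.leaf 6509) (.leaf 9464)) (.leaf 1576)) (.node (.node (.leaf 941) (.leaf 4715)) (.leaf 2339)))) (.node (.node (.node (.node (.leaf 217) (.leaf 9187)) (.leaf 1415)) (.node (.node (.leaf 786) (.leaf 4286)) (.leaf 2126))) (.node (.node (.node (.leaf 496) (.leaf 9760)) (.leaf 7902)) (.node (.node (.leaf 7251) (.leaf 11578)) (.leaf 2555)))))) (.node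 (.node (.node (.node (.node (.node (.leaf 6207) (.leaf 2720)) (.leaf 1209)) (.node (.node (.leaf 6760) (.leaf 3834)) (.leaf 8038))) (.node (.node (.node (.leaf 6474) (.leaf 9387)) (.leaf 1538)) (.node (.node (.leaf 7055) (.leaf 4603)) (.leaf 8439)))) (.node (.node (.node (.node (.leaf 6340) (.leaf 9114)) (.leaf 7524)) (.node (.node (.leaf 6905) (.leaf 10340)) (.leaf 2079))) (.node (.node (.node (.leaf 461) (.leaf 3532)) (.leaf 7859)) (.node (.node (.leaf 7208) (.leaf 11370)) (.leaf 2508))))) (.node (.node (.node (.node (.node (.leaf 119) (.leaf 2831)) (.leaf 1289)) (.node (.node (.leaf 680) (.leaf 4000)) (.leaf 1976))) (.node (.node (.node (.leaf 6546) (.leaf 3384)) (.leaf 7775)) (.node (.node (.leaf 7133) (.leaf 10991)) (.leaf 2392)))) (.node (.node (.node (.node (.leaf 251) (.leaf 3096)) (.leaf 7609)) (.node (.node (.leaf 823) (.leaf 4391)) (.leaf 2181))) (.node (.node (.node (.leaf 532) (.leaf 9827)) (.leaf 7946)) (.node (.node (.leaf 7289) (.leaf 5658)) (.leaf 2609)))))))) (.node (.node (.node (.node (.node (.node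 (.node (.node (.leaf 6166) (.leaf 2653)) (.leaf 1161)) (.node (.node (.leaf 6714) (.leaf 9889)) (.leaf 7983))) (.node (.node (.node (.leaf 6431) (.leaf 9305)) (.leaf 1487)) (.node (.node (.leaf 7007) (.leaf 4469)) (.leaf 2224)))) (.node (.node (.node (.node (.leaf 6299) (.leaf 9032)) (.leaf 1317)) (.node (.node (.leaf 6861) (.leaf 4073)) (.leaf 2016))) (.node (.node (.node (.leaf 6573) (.leaf 9591)) (.leaf 7805)) (.node (.node (.leaf 1006) (.leaf 4953)) (.leaf 8589))))) (.node (.node (.node (.node (.node (.leaf 77) (.leaf 2758)) (.leaf 7395)) (.node (.node (.leaf 6788) (.leaf 3892)) (.leaf 1916))) (.node (.node (.node (.leaf 345) (.leaf 3291)) (.leaf 7722)) (.node (.node (.leaf 930) (.leaf 4689)) (.leaf 2328)))) (.node (.node (.node (.node (.leaf 209) (.leaf 9172)) (.leaf 1404)) (.node (.node (.leaf 778) (.leaf 4260)) (.leaf 8269))) (.node (.node (.node (.leaf 6643) (.leaf 3589)) (.leaf 1734)) (.node (.node (.leaf 7238) (.leaf 5364)) (.leaf 2542)))))) (.node (.node (.node (.node (.node (.node (.leaf 43) (.leaf 8860))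 (.leaf 7356)) (.node (.node (.leaf 6751) (.leaf 9970)) (.leaf 1871))) (.node (.node (.node (.leaf 310) (.leaf 9366)) (.leaf 7679)) (.node (.node (.leaf 7046) (.leaf 10738)) (.leaf 8426)))) (.node (.node (.node (.node (.leaf 6332) (.leaf 9098)) (.leaf 1359)) (.node (.node (.leaf 6896) (.leaf 4161)) (.leaf 2067))) (.node (.node (.node (.leaf 452) (.leaf 3513)) (.leaf 7848)) (.node (.node (.leaf 1042) (.leaf 11309)) (.leaf 2494))))) (.node (.node (.node (.node (.node (.leaf 6266) (.leaf 8967)) (.leaf 1278)) (.node (.node (.leaf 6826) (.leaf 3973)) (.leaf 8119))) (.node (.node (.node (.leaf 6537) (.leaf 9513)) (.leaf 7765)) (.node (.node (.leaf 7125) (.leaf 4801)) (.leaf 2380)))) (.node (.node (.node (.node (.leaf 243) (.leaf 9231)) (.leaf 7600)) (.node (.node (.leaf 6968) (.leaf 10516)) (.leaf 2167))) (.node (.node (.node (.leaf 6679) (.leaf 9815)) (.leaf 1782)) (.node (.node (.leaf 7280) (.leaf 5613)) (.leaf 8753))))))) (.node (.node (.node (.node (.node (.node (.node (.leaf 27) (.leaf 2679)) (.leaf 1181)) (.node (.node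 (.leaf 6732) (.leaf 3773)) (.leaf 8005))) (.node (.node (.node (.leaf 292) (.leaf 3180)) (.leaf 1506)) (.node (.node (.leaf 869) (.leaf 4528)) (.leaf 8401)))) (.node (.node (.node (.node (.leaf 6315) (.leaf 9069)) (.leaf 1340)) (.node (.node (.leaf 723) (.leaf 4114)) (.leaf 2040))) (.node (.node (.node (.leaf 435) (.leaf 9622)) (.leaf 1670)) (.node (.node (.leaf 1024) (.leaf 11228)) (.leaf 8622))))) (.node (.node (.node (.node (.node (.leaf 6249) (.leaf 8941)) (.leaf 7414)) (.node (.node (.leaf 6808) (.leaf 3938)) (.leaf 1940))) (.node (.node (.node (.leaf 6520) (.leaf 9480)) (.leaf 1587)) (.node (.node (.leaf 7106) (.leaf 4742)) (.leaf 2352)))) (.node (.node (.node (.node (.leaf 6381) (.leaf 3045)) (.leaf 1424)) (.node (.node (.leaf 794) (.leaf 4317)) (.leaf 8295))) (.node (.node (.node (.leaf 6660) (.leaf 9777)) (.leaf 1757)) (.node (.node (.leaf 1105) (.leaf 5469)) (.leaf 2573)))))) (.node (.node (.node (.node (.node (.node (.leaf 6216) (.leaf 8887)) (.leaf 7375)) (.node (.node (.leaf 614) (.leaf 10008)) (.leaf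 1891))) (.node (.node (.node (.leaf 6483) (.leaf 9406)) (.leaf 7704)) (.node (.node (.leaf 7066) (.leaf 10786)) (.leaf 8455)))) (.node (.node (.node (.node (.leaf 6348) (.leaf 2980)) (.leaf 7535)) (.node (.node (.leaf 759) (.leaf 10364)) (.leaf 8246))) (.node (.node (.node (.leaf 6626) (.leaf 3554)) (.leaf 1714)) (.node (.node (.leaf 1063) (.leaf 11412)) (.leaf 2521))))) (.node (.node (.node (.node (.node (.leaf 127) (.leaf 2846)) (.leaf 7454)) (.node (.node (.leaf 689) (.leaf 10173)) (.leaf 8146))) (.node (.node (.node (.leaf 399) (.leaf 3404)) (.leaf 7784)) (.node (.node (.leaf 7142) (.leaf 4864)) (.leaf 2402)))) (.node (.node (.node (.node (.leaf 259) (.leaf 9270)) (.leaf 7621)) (.node (.node (.leaf 6988) (.leaf 10582)) (.leaf 8350))) (.node (.node (.node (.leaf 541) (.leaf 3697)) (.leaf 1803)) (.node (.node (.leaf 1142) (.leaf 11906)) (.leaf 2622))))))))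

/-- Part of `topPar`. -/
def topPar_p0111 : Tr := .node (.node (.node (.node (.node (.node (.node (.node (.node (.leaf 6162) (.leaf 8797)) (.leaf 7312)) (.node (.node (.leaf 6710) (.leaf 3725)) (.leaf 7978))) (.node (.node (.node (.leaf 271) (.leaf 9298)) (.leaf 1482)) (.node (.node (.leaf 7003) (.leaf 4462)) (.leaf 2215)))) (.node (.node (.node (.node (.leaf 6295) (.leaf 9025)) (.leaf 1312)) (.node (.node (.leaf 6857) (.leaf 4060)) (.leaf 2011))) (.node (.node (.node (.leaf 412) (.leaf 3429)) (.leaf 1643)) (.node (.node (.leaf 7157) (.leaf 11082)) (.leaf 2424))))) (.node (.node (.node (.node (.node (.leaf 6228) (.leaf 2752)) (.leaf 7390)) (.node (.node (.leaf 627) (.leaf 10035)) (.leaf 1908))) (.node (.node (.node (.leaf 341) (.leaf 3283)) (.leaf 1562)) (.node (.node (.leaf 925) (.leaf 4677)) (.leaf 2320)))) (.node (.node (.node (.node (.leaf 205) (.leaf 9163)) (.leaf 7553)) (.node (.node (.leaf 6929) (.leaf 4251)) (.leaf 2109))) (.node (.node (.node (.leaf 483) (.leaf 9733)) (.leaf 1729)) (.node (.node (.leaf 7234)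 (.leaf 11479)) (.leaf 2537)))))) (.node (.node (.node (.node (.node (.node (.leaf 39) (.leaf 2697)) (.leaf 1196)) (.node (.node (.leaf 6746) (.leaf 3802)) (.leaf 1866))) (.node (.node (.node (.leaf 6461) (.leaf 9359)) (.leaf 1519)) (.node (.node (.leaf 7040) (.leaf 4564)) (.leaf 8420)))) (.node (.node (.node (.node (.leaf 172) (.leaf 9091)) (.leaf 1354)) (.node (.node (.leaf 6892) (.leaf 4147)) (.leaf 8214))) (.node (.node (.node (.leaf 448) (.leaf 9654)) (.leaf 7841)) (.node (.node (.leaf 7193) (.leaf 11283)) (.leaf 2483))))) (.node (.node (.node (.node (.node (.leaf 6261) (.leaf 2806)) (.leaf 1274)) (.node (.node (.leaf 666) (.leaf 10120)) (.leaf 1958))) (.node (.node (.node (.leaf 6533) (.leaf 3349)) (.leaf 7760)) (.node (.node (.leaf 7121) (.leaf 4784)) (.leaf 2374)))) (.node (.node (.node (.node (.leaf 238) (.leaf 9223)) (.leaf 7595)) (.node (.node (.leaf 6964) (.leaf 10504)) (.leaf 8317))) (.node (.node (.node (.leaf 519) (.leaf 9808)) (.leaf 7931)) (.node (.node (.leaf 7276) (.leaf 5587)) (.leaf 8746)))))))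 (.node (.node (.node (.node (.node (.node (.node (.leaf 23) (.leaf 8828)) (.leaf 7332)) (.node (.node (.leaf 6728) (.leaf 9920)) (.leaf 1843))) (.node (.node (.node (.leaf 288) (.leaf 3172)) (.leaf 1502)) (.node (.node (.leaf 864) (.leaf 10663)) (.leaf 2241)))) (.node (.node (.node (.node (.leaf 6311) (.leaf 9060)) (.leaf 7490)) (.node (.node (.leaf 719) (.leaf 10260)) (.leaf 2033))) (.node (.node (.node (.leaf 6586) (.leaf 9612)) (.leaf 7821)) (.node (.node (.leaf 1020) (.leaf 5040)) (.leaf 2459))))) (.node (.node (.node (.node (.node (.leaf 6245) (.leaf 2778)) (.leaf 1254)) (.node (.node (.leaf 647) (.leaf 3924)) (.leaf 1935))) (.node (.node (.node (.leaf 6515) (.leaf 3314)) (.leaf 7738)) (.node (.node (.leaf 945) (.leaf 10882)) (.leaf 2345)))) (.node (.node (.node (.node (.leaf 6377) (.leaf 3038)) (.leaf 7575)) (.node (.node (.leaf 790) (.leaf 4307)) (.leaf 2132))) (.node (.node (.node (.leaf 6656) (.leaf 9769)) (.leaf 7906)) (.node (.node (.leaf 7256) (.leaf 5438)) (.leaf 2563)))))) (.node (.node (.node (.node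 (.node (.node (.leaf 56) (.leaf 2727)) (.leaf 1214)) (.node (.node (.leaf 609) (.leaf 3846)) (.leaf 1887))) (.node (.node (.node (.leaf 6479) (.leaf 9395)) (.leaf 7700)) (.node (.node (.leaf 7060) (.leaf 4616)) (.leaf 2289)))) (.node (.node (.node (.node (.leaf 6344) (.leaf 2967)) (.leaf 1375)) (.node (.node (.leaf 754) (.leaf 4197)) (.leaf 8240))) (.node (.node (.node (.leaf 466) (.leaf 3540)) (.leaf 1709)) (.node (.node (.leaf 7213) (.leaf 11384)) (.leaf 2515))))) (.node (.node (.node (.node (.node (.leaf 123) (.leaf 8994)) (.leaf 7449)) (.node (.node (.leaf 684) (.leaf 4010)) (.leaf 8137))) (.node (.node (.node (.leaf 395) (.leaf 3393)) (.leaf 1624)) (.node (.node (.leaf 982) (.leaf 4850)) (.leaf 8552)))) (.node (.node (.node (.node (.leaf 255) (.leaf 9260)) (.leaf 7616)) (.node (.node (.leaf 828) (.leaf 4407)) (.leaf 8341))) (.node (.node (.node (.leaf 6692) (.leaf 9841)) (.leaf 7951)) (.node (.node (.leaf 1138) (.leaf 5699)) (.leaf 2617)))))))) (.node (.node (.node (.node (.node (.node (.node (.node (.leaf 6170)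 (.leaf 8815)) (.leaf 1166)) (.node (.node (.leaf 6718) (.leaf 9901)) (.leaf 7988))) (.node (.node (.node (.leaf 6435) (.leaf 9313)) (.leaf 7648)) (.node (.node (.leaf 7011) (.leaf 10639)) (.leaf 8384)))) (.node (.node (.node (.node (.leaf 6303) (.leaf 9040)) (.leaf 7478)) (.node (.node (.leaf 710) (.leaf 4088)) (.leaf 8178))) (.node (.node (.node (.leaf 422) (.leaf 9600)) (.leaf 7811)) (.node (.node (.leaf 1011) (.leaf 4986)) (.leaf 2442))))) (.node (.node (.node (.node (.node (.leaf 6237) (.leaf 8922)) (.leaf 1244)) (.node (.node (.leaf 637) (.leaf 10060)) (.leaf 8079))) (.node (.node (.node (.leaf 6505) (.leaf 9455)) (.leaf 1571)) (.node (.node (.leaf 7091) (.leaf 10861)) (.leaf 8488)))) (.node (.node (.node (.node (.leaf 213) (.leaf 3026)) (.leaf 1409)) (.node (.node (.leaf 782) (.leaf 4267)) (.leaf 8274))) (.node (.node (.node (.leaf 492) (.leaf 9750)) (.leaf 7895)) (.node (.node (.leaf 1090) (.leaf 11564)) (.leaf 2548)))))) (.node (.node (.node (.node (.node (.node (.leaf 6203) (.leaf 8869)) (.leaf 7360)) (.node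 (.node (.leaf 600) (.leaf 3822)) (.leaf 8032))) (.node (.node (.node (.leaf 314) (.leaf 3220)) (.leaf 7685)) (.node (.node (.leaf 7050) (.leaf 10748)) (.leaf 2276)))) (.node (.node (.node (.node (.leaf 6336) (.leaf 2951)) (.leaf 1364)) (.node (.node (.leaf 6901) (.leaf 4171)) (.leaf 8228))) (.node (.node (.node (.leaf 457) (.leaf 9679)) (.leaf 1698)) (.node (.node (.leaf 7202) (.leaf 5183)) (.leaf 8655))))) (.node (.node (.node (.node (.node (.leaf 6270) (.leaf 8978)) (.leaf 1284)) (.node (.node (.leaf 6831) (.leaf 10141)) (.leaf 8127))) (.node (.node (.node (.leaf 386) (.leaf 3372)) (.leaf 1615)) (.node (.node (.leaf 7129) (.leaf 10974)) (.leaf 8541)))) (.node (.node (.node (.node (.leaf 247) (.leaf 3084)) (.leaf 7604)) (.node (.node (.leaf 817) (.leaf 10535)) (.leaf 2175))) (.node (.node (.node (.leaf 6683) (.leaf 3666)) (.leaf 7942)) (.node (.node (.leaf 7284) (.leaf 5640)) (.leaf 2603))))))) (.node (.node (.node (.node (.node (.node (.node (.leaf 31) (.leaf 2685)) (.leaf 1186)) (.node (.node (.leaf 581) (.leaf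 9938)) (.leaf 8009))) (.node (.node (.node (.leaf 6452) (.leaf 3188)) (.leaf 7666)) (.node (.node (.leaf 874) (.leaf 10691)) (.leaf 8408)))) (.node (.node (.node (.node (.leaf 164) (.leaf 9077)) (.leaf 1344)) (.node (.node (.leaf 6883) (.leaf 4127)) (.leaf 2047))) (.node (.node (.node (.leaf 6595) (.leaf 9634)) (.leaf 7831)) (.node (.node (.leaf 1028) (.leaf 5085)) (.leaf 8627))))) (.node (.node (.node (.node (.node (.leaf 6253) (.leaf 8947)) (.leaf 1263)) (.node (.node (.leaf 6813) (.leaf 3951)) (.leaf 8102))) (.node (.node (.node (.leaf 369) (.leaf 3331)) (.leaf 7748)) (.node (.node (.leaf 7111) (.leaf 4752)) (.leaf 8515)))) (.node (.node (.node (.node (.leaf 6385) (.leaf 3050)) (.leaf 1429)) (.node (.node (.leaf 6954) (.leaf 4324)) (.leaf 2146))) (.node (.node (.node (.leaf 509) (.leaf 3635)) (.leaf 7922)) (.node (.node (.leaf 7267) (.leaf 5518)) (.leaf 8734)))))) (.node (.node (.node (.node (.node (.node (.leaf 6220) (.leaf 8892)) (.leaf 1225)) (.node (.node (.leaf 618) (.leaf 3864)) (.leaf 8052))) (.node (.node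 (.node (.leaf 6487) (.leaf 3260)) (.leaf 1553)) (.node (.node (.leaf 7070) (.leaf 4653)) (.leaf 8463)))) (.node (.node (.node (.node (.leaf 197) (.leaf 9145)) (.leaf 7543)) (.node (.node (.leaf 6920) (.leaf 4224)) (.leaf 2098))) (.node (.node (.node (.leaf 475) (.leaf 9718)) (.leaf 1718)) (.node (.node (.leaf 1067) (.leaf 5266)) (.leaf 2526))))) (.node (.node (.node (.node (.node (.leaf 131) (.leaf 9009)) (.leaf 7459)) (.node (.node (.leaf 6849) (.leaf 10190)) (.leaf 1996))) (.node (.node (.node (.leaf 403) (.leaf 9571)) (.leaf 1635)) (.node (.node (.leaf 7147) (.leaf 11038)) (.leaf 2409)))) (.node (.node (.node (.node (.leaf 263) (.leaf 9280)) (.leaf 1472)) (.node (.node (.leaf 837) (.leaf 4437)) (.leaf 2201))) (.node (.node (.node (.leaf 546) (.leaf 9862)) (.leaf 1810)) (.node (.node (.leaf 1147) (.leaf 5816)) (.leaf 2627))))))))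

/-- Part of `topPar`. -/
def topPar_p1000 : Tr := .node (.node (.node (.node (.node (.node (.node (.node (.node (.leaf 0) (.leaf 8784)) (.node (.leaf 1150) (.leaf 12031))) (.node (.node (.leaf 548) (.leaf 9865)) (.leaf 1813))) (.node (.node (.node (.leaf 6420) (.leaf 9282)) (.leaf 1474)) (.node (.node (.leaf 839) (.leaf 4441)) (.leaf 8358)))) (.node (.node (.node (.node (.leaf 6288) (.leaf 2857)) (.leaf 7461)) (.node (.node (.leaf 695) (.leaf 4038)) (.leaf 1999))) (.node (.node (.node (.leaf 6560) (.leaf 9573)) (.leaf 7792)) (.node (.node (.leaf 7149) (.leaf 11051)) (.leaf 8566))))) (.node (.node (.node (.node (.node (.leaf 66) (.leaf 8895)) (.leaf 1227)) (.node (.node (.leaf 6775) (.leaf 3866)) (.leaf 8054))) (.node (.node (.node (.leaf 334) (.leaf 9420)) (.leaf 7711)) (.node (.node (.leaf 917) (.leaf 4656)) (.leaf 8466)))) (.node (.node (.node (.node (.leaf 6354) (.leaf 2992)) (.leaf 7545)) (.node (.node (.leaf 766) (.leaf 10386)) (.leaf 8255))) (.node (.node (.node (.leaf 6632) (.leaf 9721)) (.leaf 7875)) (.node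 (.node (.leaf 7224) (.leaf 11431)) (.leaf 2528)))))) (.node (.node (.node (.node (.node (.node (.leaf 6188) (.leaf 2687)) (.leaf 7343)) (.node (.node (.leaf 6738) (.leaf 3785)) (.leaf 1855))) (.node (.node (.node (.leaf 298) (.leaf 9346)) (.leaf 1512)) (.node (.node (.leaf 877) (.leaf 10694)) (.leaf 2254)))) (.node (.node (.node (.node (.leaf 6321) (.leaf 2925)) (.leaf 1346)) (.node (.node (.leaf 729) (.leaf 10288)) (.leaf 8204))) (.node (.node (.node (.leaf 441) (.leaf 3485)) (.leaf 7833)) (.node (.node (.leaf 7185) (.leaf 5092)) (.leaf 2474))))) (.node (.node (.node (.node (.node (.leaf 99) (.leaf 2794)) (.leaf 7421)) (.node (.node (.leaf 659) (.leaf 10108)) (.leaf 1949))) (.node (.node (.node (.leaf 371) (.leaf 9490)) (.leaf 1594)) (.node (.node (.leaf 7113) (.leaf 10910)) (.leaf 8518)))) (.node (.node (.node (.node (.leaf 6387) (.leaf 9208)) (.leaf 7587)) (.node (.node (.leaf 6956) (.leaf 4328)) (.leaf 8305))) (.node (.node (.node (.leaf 511) (.leaf 9792)) (.leaf 1768)) (.node (.node (.leaf 1113) (.leaf 11683))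 (.leaf 2580))))))) (.node (.node (.node (.node (.node (.node (.node (.leaf 6172) (.leaf 2661)) (.leaf 1168)) (.node (.node (.leaf 6720) (.leaf 3747)) (.leaf 7991))) (.node (.node (.node (.leaf 281) (.leaf 9316)) (.leaf 1495)) (.node (.node (.leaf 857) (.leaf 4488)) (.leaf 8386)))) (.node (.node (.node (.node (.leaf 149) (.leaf 2893)) (.leaf 7480)) (.node (.node (.leaf 6868) (.leaf 4092)) (.leaf 8181))) (.node (.node (.node (.leaf 6579) (.leaf 3447)) (.leaf 1657)) (.node (.node (.leaf 7169) (.leaf 11147)) (.leaf 8599))))) (.node (.node (.node (.node (.node (.leaf 83) (.leaf 8924)) (.leaf 1246)) (.node (.node (.leaf 6794) (.leaf 3909)) (.leaf 1925))) (.node (.node (.node (.leaf 351) (.leaf 9459)) (.leaf 7728)) (.node (.node (.leaf 937) (.leaf 4708)) (.leaf 8490)))) (.node (.node (.node (.node (.leaf 6370) (.leaf 3028)) (.leaf 1411)) (.node (.node (.leaf 6939) (.leaf 10432)) (.leaf 8276))) (.node (.node (.node (.leaf 6649) (.leaf 3598)) (.leaf 1742)) (.node (.node (.leaf 1092) (.leaf 11572)) (.leaf 2551)))))) (.node (.node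 (.node (.node (.node (.node (.leaf 49) (.leaf 2717)) (.leaf 1206)) (.node (.node (.leaf 6757) (.leaf 9981)) (.leaf 1879))) (.node (.node (.node (.leaf 316) (.leaf 9378)) (.leaf 1533)) (.node (.node (.leaf 897) (.leaf 4598)) (.leaf 8434)))) (.node (.node (.node (.node (.leaf 182) (.leaf 2955)) (.leaf 7521)) (.node (.node (.leaf 747) (.leaf 4175)) (.leaf 2074))) (.node (.node (.node (.leaf 6614) (.leaf 9683)) (.leaf 1701)) (.node (.node (.leaf 1048) (.leaf 5186)) (.leaf 8657))))) (.node (.node (.node (.node (.node (.leaf 6272) (.leaf 8982)) (.leaf 7442)) (.node (.node (.leaf 6833) (.leaf 3991)) (.leaf 8129))) (.node (.node (.node (.leaf 6543) (.leaf 9533)) (.leaf 7772)) (.node (.node (.leaf 975) (.leaf 4824)) (.leaf 8545)))) (.node (.node (.node (.node (.leaf 6404) (.leaf 9246)) (.leaf 1450)) (.node (.node (.leaf 6975) (.leaf 10538)) (.leaf 2178))) (.node (.node (.node (.leaf 529) (.leaf 9823)) (.leaf 1788)) (.node (.node (.leaf 1130) (.leaf 11802)) (.leaf 2606)))))))) (.node (.node (.node (.node (.node (.node (.node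 (.node (.leaf 8) (.leaf 2646)) (.leaf 7314)) (.node (.node (.leaf 556) (.leaf 3727)) (.leaf 1824))) (.node (.node (.node (.leaf 6428) (.leaf 9302)) (.leaf 1484)) (.node (.node (.leaf 849) (.leaf 10620)) (.leaf 2217)))) (.node (.node (.node (.node (.leaf 141) (.leaf 9028)) (.leaf 7469)) (.node (.node (.leaf 703) (.leaf 4069)) (.leaf 2013))) (.node (.node (.node (.leaf 415) (.leaf 3431)) (.leaf 7801)) (.node (.node (.leaf 7159) (.leaf 11087)) (.leaf 8583))))) (.node (.node (.node (.node (.node (.leaf 74) (.leaf 8909)) (.leaf 7392)) (.node (.node (.leaf 6784) (.leaf 3886)) (.leaf 1911))) (.node (.node (.node (.leaf 6498) (.leaf 9442)) (.leaf 7719)) (.node (.node (.leaf 927) (.leaf 4684)) (.leaf 2323)))) (.node (.node (.node (.node (.leaf 6362) (.leaf 3011)) (.leaf 1401)) (.node (.node (.leaf 6931) (.leaf 4255)) (.leaf 2111))) (.node (.node (.node (.leaf 485) (.leaf 3581)) (.leaf 7886)) (.node (.node (.leaf 1080) (.leaf 5333)) (.leaf 8694)))))) (.node (.node (.node (.node (.node (.node (.leaf 6196) (.leaf 8856)) (.leaf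 7353)) (.node (.node (.leaf 592) (.leaf 3804)) (.leaf 8023))) (.node (.node (.node (.leaf 6463) (.leaf 3205)) (.leaf 1521)) (.node (.node (.leaf 7042) (.leaf 4570)) (.leaf 2267)))) (.node (.node (.node (.node (.leaf 6329) (.leaf 9093)) (.leaf 7511)) (.node (.node (.leaf 738) (.leaf 4154)) (.leaf 8216))) (.node (.node (.node (.leaf 6605) (.leaf 3503)) (.leaf 7844)) (.node (.node (.leaf 1039) (.leaf 11294)) (.leaf 8642))))) (.node (.node (.node (.node (.node (.leaf 6263) (.leaf 2808)) (.leaf 7431)) (.node (.node (.leaf 6823) (.leaf 10124)) (.leaf 1960))) (.node (.node (.node (.leaf 379) (.leaf 3352)) (.leaf 1606)) (.node (.node (.leaf 967) (.leaf 10943)) (.leaf 8531)))) (.node (.node (.node (.node (.leaf 240) (.leaf 9227)) (.leaf 1442)) (.node (.node (.leaf 810) (.leaf 4354)) (.leaf 2163))) (.node (.node (.node (.leaf 521) (.leaf 3654)) (.leaf 7933)) (.node (.node (.leaf 1122) (.leaf 11751)) (.leaf 8749))))))) (.node (.node (.node (.node (.node (.node (.node (.leaf 6180) (.leaf 8831)) (.leaf 1178)) (.node (.node (.leaf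 574) (.leaf 9923)) (.leaf 8000))) (.node (.node (.node (.leaf 6445) (.leaf 9331)) (.leaf 7659)) (.node (.node (.leaf 7021) (.leaf 10667)) (.leaf 8398)))) (.node (.node (.node (.node (.leaf 157) (.leaf 2907)) (.leaf 7492)) (.node (.node (.leaf 6876) (.leaf 4108)) (.leaf 2037))) (.node (.node (.node (.leaf 6588) (.leaf 3461)) (.leaf 1667)) (.node (.node (.leaf 7177) (.leaf 5045)) (.leaf 2463))))) (.node (.node (.node (.node (.node (.leaf 91) (.leaf 8938)) (.leaf 7411)) (.node (.node (.leaf 649) (.leaf 3928)) (.leaf 8092))) (.node (.node (.node (.leaf 361) (.leaf 9476)) (.leaf 1584)) (.node (.node (.leaf 947) (.leaf 10889)) (.leaf 8502)))) (.node (.node (.node (.node (.leaf 223) (.leaf 9196)) (.leaf 7577)) (.node (.node (.leaf 6947) (.leaf 10467)) (.leaf 2134))) (.node (.node (.node (.leaf 502) (.leaf 9772)) (.leaf 1752)) (.node (.node (.leaf 1102) (.leaf 11604)) (.leaf 2566)))))) (.node (.node (.node (.node (.node (.node (.leaf 58) (.leaf 2729)) (.leaf 7372)) (.node (.node (.leaf 611) (.leaf 10005)) (.leaf 8044))) (.node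 (.node (.node (.leaf 325) (.leaf 9397)) (.leaf 1546)) (.node (.node (.leaf 7063) (.leaf 10777)) (.leaf 8449)))) (.node (.node (.node (.node (.leaf 190) (.leaf 9127)) (.leaf 7532)) (.node (.node (.leaf 6912) (.leaf 10357)) (.leaf 8242))) (.node (.node (.node (.leaf 6623) (.leaf 3545)) (.leaf 1711)) (.node (.node (.leaf 7215) (.leaf 5233)) (.leaf 2517))))) (.node (.node (.node (.node (.node (.leaf 6280) (.leaf 2842)) (.leaf 1296)) (.node (.node (.leaf 6841) (.leaf 10167)) (.leaf 8140))) (.node (.node (.node (.leaf 6552) (.leaf 9555)) (.leaf 1626)) (.node (.node (.leaf 984) (.leaf 11012)) (.leaf 8555)))) (.node (.node (.node (.node (.leaf 6412) (.leaf 9263)) (.leaf 7618)) (.node (.node (.leaf 6985) (.leaf 4411)) (.leaf 2188))) (.node (.node (.node (.leaf 538) (.leaf 9848)) (.leaf 1798)) (.node (.node (.leaf 7295) (.leaf 5712)) (.leaf 2619))))))))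

/-- Part of `topPar`. -/
def topPar_p1001 : Tr := .node (.node (.node (.node (.node (.node (.node (.node (.node (.leaf 4) (.leaf 8791)) (.node (.leaf 1154) (.leaf 6029))) (.node (.node (.leaf 552) (.leaf 9875)) (.leaf 7974))) (.node (.node (.node (.leaf 6424) (.leaf 3139)) (.leaf 7634)) (.node (.node (.leaf 845) (.leaf 10605)) (.leaf 2211)))) (.node (.node (.node (.node (.leaf 137) (.leaf 9020)) (.leaf 7465)) (.node (.node (.leaf 699) (.leaf 4051)) (.leaf 2005))) (.node (.node (.node (.leaf 409) (.leaf 9578)) (.leaf 7796)) (.node (.node (.leaf 7154) (.leaf 11070)) (.leaf 2419))))) (.node (.node (.node (.node (.node (.leaf 70) (.leaf 2749)) (.leaf 7387)) (.node (.node (.leaf 6780) (.leaf 3875)) (.leaf 8060))) (.node (.node (.node (.leaf 6494) (.leaf 3279)) (.leaf 7715)) (.node (.node (.leaf 7078) (.leaf 10826)) (.leaf 8472)))) (.node (.node (.node (.node (.leaf 6358) (.leaf 3003)) (.leaf 7550)) (.node (.node (.leaf 770) (.leaf 10399)) (.leaf 2106))) (.node (.node (.node (.leaf 6636) (.leaf 3571)) (.leaf 7880)) (.node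 (.node (.leaf 1073) (.leaf 5302)) (.leaf 2533)))))) (.node (.node (.node (.node (.node (.node (.leaf 6192) (.leaf 8848)) (.leaf 7348)) (.node (.node (.leaf 587) (.leaf 9952)) (.leaf 1863))) (.node (.node (.node (.leaf 303) (.leaf 9356)) (.leaf 1516)) (.node (.node (.leaf 882) (.leaf 10710)) (.leaf 2261)))) (.node (.node (.node (.node (.leaf 6325) (.leaf 9087)) (.leaf 1351)) (.node (.node (.leaf 733) (.leaf 10296)) (.leaf 8209))) (.node (.node (.node (.leaf 6601) (.leaf 9649)) (.leaf 1683)) (.node (.node (.leaf 1035) (.leaf 11273)) (.leaf 8636))))) (.node (.node (.node (.node (.node (.leaf 103) (.leaf 8955)) (.leaf 7427)) (.node (.node (.leaf 663) (.leaf 3961)) (.leaf 1955))) (.node (.node (.node (.leaf 375) (.leaf 3345)) (.leaf 7757)) (.node (.node (.leaf 7118) (.leaf 4775)) (.leaf 2370)))) (.node (.node (.node (.node (.leaf 6391) (.leaf 3059)) (.leaf 1436)) (.node (.node (.leaf 805) (.leaf 4337)) (.leaf 8313))) (.node (.node (.node (.leaf 6672) (.leaf 3648)) (.leaf 1772)) (.node (.node (.leaf 1118) (.leaf 5551)) (.leaf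 8741))))))) (.node (.node (.node (.node (.node (.node (.node (.leaf 6176) (.leaf 8824)) (.leaf 7328)) (.node (.node (.leaf 570) (.leaf 3755)) (.leaf 7996))) (.node (.node (.node (.leaf 6441) (.leaf 9324)) (.leaf 7655)) (.node (.node (.leaf 7017) (.leaf 10657)) (.leaf 2238)))) (.node (.node (.node (.node (.leaf 153) (.leaf 2900)) (.leaf 1330)) (.node (.node (.leaf 6872) (.leaf 4101)) (.leaf 8185))) (.node (.node (.node (.leaf 428) (.leaf 9608)) (.leaf 7818)) (.node (.node (.leaf 7173) (.leaf 5030)) (.leaf 8604))))) (.node (.node (.node (.node (.node (.leaf 87) (.leaf 8930)) (.leaf 1251)) (.node (.node (.leaf 644) (.leaf 3921)) (.leaf 8088))) (.node (.node (.node (.leaf 6512) (.leaf 9467)) (.leaf 7733)) (.node (.node (.leaf 7098) (.leaf 4718)) (.leaf 2342)))) (.node (.node (.node (.node (.leaf 6374) (.leaf 9189)) (.leaf 7572)) (.node (.node (.leaf 6943) (.leaf 10454)) (.leaf 2128))) (.node (.node (.node (.leaf 6653) (.leaf 3607)) (.leaf 1748)) (.node (.node (.leaf 7253) (.leaf 5430)) (.leaf 8713)))))) (.node (.node (.node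 (.node (.node (.node (.leaf 53) (.leaf 8877)) (.leaf 1211)) (.node (.node (.leaf 606) (.leaf 3838)) (.leaf 8040))) (.node (.node (.node (.leaf 6476) (.leaf 9391)) (.leaf 7696)) (.node (.node (.leaf 7057) (.leaf 4607)) (.leaf 2285)))) (.node (.node (.node (.node (.leaf 186) (.leaf 2960)) (.leaf 7527)) (.node (.node (.leaf 751) (.leaf 10345)) (.leaf 8236))) (.node (.node (.node (.leaf 6618) (.leaf 3536)) (.leaf 1705)) (.node (.node (.leaf 7210) (.leaf 11374)) (.leaf 8667))))) (.node (.node (.node (.node (.node (.leaf 6276) (.leaf 8990)) (.leaf 1291)) (.node (.node (.leaf 6837) (.leaf 10159)) (.leaf 1979))) (.node (.node (.node (.leaf 6548) (.leaf 9544)) (.leaf 7777)) (.node (.node (.leaf 7135) (.leaf 4837)) (.leaf 2394)))) (.node (.node (.node (.node (.leaf 6408) (.leaf 9255)) (.leaf 7611)) (.node (.node (.leaf 6980) (.leaf 4399)) (.leaf 8338))) (.node (.node (.node (.leaf 534) (.leaf 3677)) (.leaf 7948)) (.node (.node (.leaf 1135) (.leaf 11828)) (.leaf 8766)))))))) (.node (.node (.node (.node (.node (.node (.node (.node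 (.leaf 12) (.leaf 2655)) (.leaf 7318)) (.node (.node (.leaf 560) (.leaf 3737)) (.leaf 7985))) (.node (.node (.node (.leaf 277) (.leaf 3152)) (.leaf 1489)) (.node (.node (.leaf 853) (.leaf 10627)) (.leaf 8381)))) (.node (.node (.node (.node (.leaf 145) (.leaf 2878)) (.leaf 7475)) (.node (.node (.leaf 707) (.leaf 10234)) (.leaf 2018))) (.node (.node (.node (.leaf 419) (.leaf 9594)) (.leaf 7807)) (.node (.node (.leaf 1008) (.leaf 11120)) (.leaf 2438))))) (.node (.node (.node (.node (.node (.leaf 79) (.leaf 2762)) (.leaf 1241)) (.node (.node (.leaf 6790) (.leaf 3899)) (.leaf 1919))) (.node (.node (.node (.leaf 347) (.leaf 9450)) (.leaf 1568)) (.node (.node (.leaf 7087) (.leaf 4695)) (.leaf 2330)))) (.node (.node (.node (.node (.leaf 6366) (.leaf 9178)) (.leaf 1406)) (.node (.node (.leaf 6935) (.leaf 4262)) (.leaf 2115))) (.node (.node (.node (.leaf 6645) (.leaf 3592)) (.leaf 7892)) (.node (.node (.leaf 7240) (.leaf 5381)) (.leaf 8699)))))) (.node (.node (.node (.node (.node (.node (.leaf 6200) (.leaf 8863)) (.leaf 1202))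 (.node (.node (.leaf 6753) (.leaf 9973)) (.leaf 1873))) (.node (.node (.node (.leaf 6467) (.leaf 9371)) (.leaf 1526)) (.node (.node (.leaf 892) (.leaf 4587)) (.leaf 8428)))) (.node (.node (.node (.node (.leaf 178) (.leaf 2945)) (.leaf 1361)) (.node (.node (.leaf 742) (.leaf 4164)) (.leaf 2069))) (.node (.node (.node (.leaf 6610) (.leaf 9673)) (.leaf 1694)) (.node (.node (.leaf 7199) (.leaf 5166)) (.leaf 2496))))) (.node (.node (.node (.node (.node (.leaf 112) (.leaf 2817)) (.leaf 1281)) (.node (.node (.leaf 672) (.leaf 3979)) (.leaf 8121))) (.node (.node (.node (.leaf 383) (.leaf 9518)) (.leaf 1611)) (.node (.node (.leaf 971) (.leaf 4807)) (.leaf 8537)))) (.node (.node (.node (.node (.leaf 6400) (.leaf 9235)) (.leaf 1446)) (.node (.node (.leaf 6970) (.leaf 4366)) (.leaf 8325))) (.node (.node (.node (.leaf 525) (.leaf 9818)) (.leaf 1784)) (.node (.node (.leaf 1126) (.leaf 5622)) (.leaf 8756))))))) (.node (.node (.node (.node (.node (.node (.node (.leaf 6184) (.leaf 8837)) (.leaf 1183)) (.node (.node (.leaf 6734) (.leaf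 3778)) (.leaf 1851))) (.node (.node (.node (.leaf 294) (.leaf 3182)) (.leaf 7663)) (.node (.node (.leaf 7026) (.leaf 10685)) (.leaf 2249)))) (.node (.node (.node (.node (.leaf 161) (.leaf 9073)) (.leaf 7497)) (.node (.node (.leaf 6880) (.leaf 10276)) (.leaf 2043))) (.node (.node (.node (.leaf 6592) (.leaf 3472)) (.leaf 1673)) (.node (.node (.leaf 7181) (.leaf 11235)) (.leaf 2469))))) (.node (.node (.node (.node (.node (.leaf 95) (.leaf 8943)) (.leaf 1260)) (.node (.node (.leaf 655) (.leaf 3943)) (.leaf 1942))) (.node (.node (.node (.leaf 366) (.leaf 9482)) (.leaf 1589)) (.node (.node (.leaf 7108) (.leaf 4745)) (.leaf 8510)))) (.node (.node (.node (.node (.leaf 227) (.leaf 9203)) (.leaf 7582)) (.node (.node (.leaf 6951) (.leaf 10476)) (.leaf 2141))) (.node (.node (.node (.leaf 506) (.leaf 3628)) (.leaf 7915)) (.node (.node (.leaf 7262) (.leaf 5490)) (.leaf 8730)))))) (.node (.node (.node (.node (.node (.node (.leaf 62) (.leaf 2733)) (.leaf 1221)) (.node (.node (.leaf 6771) (.leaf 3858)) (.leaf 8049))) (.node (.node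 (.node (.leaf 329) (.leaf 3257)) (.leaf 1550)) (.node (.node (.leaf 912) (.leaf 10796)) (.leaf 2302)))) (.node (.node (.node (.node (.leaf 6350) (.leaf 2982)) (.leaf 7538)) (.node (.node (.leaf 761) (.leaf 4213)) (.leaf 2093))) (.node (.node (.node (.leaf 6628) (.leaf 3558)) (.leaf 7871)) (.node (.node (.leaf 7220) (.leaf 5260)) (.leaf 8678))))) (.node (.node (.node (.node (.node (.leaf 6284) (.leaf 2849)) (.leaf 1300)) (.node (.node (.leaf 6846) (.leaf 10177)) (.leaf 1992))) (.node (.node (.node (.leaf 6556) (.leaf 9564)) (.leaf 7787)) (.node (.node (.leaf 7144) (.leaf 11023)) (.leaf 2404)))) (.node (.node (.node (.node (.leaf 6416) (.leaf 3118)) (.leaf 7623)) (.node (.node (.leaf 834) (.leaf 10585)) (.leaf 2197))) (.node (.node (.node (.leaf 543) (.leaf 9857)) (.leaf 1806)) (.node (.node (.leaf 1144) (.leaf 11939)) (.leaf 8780))))))))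

/-- Part of `topPar`. -/
def topPar_p1010 : Tr := .node (.node (.node (.node (.node (.node (.node (.node (.node (.leaf 2) (.leaf 8788)) (.node (.leaf 1152) (.leaf 5911))) (.node (.node (.leaf 550) (.leaf 3715)) (.leaf 7971))) (.node (.node (.node (.leaf 6422) (.leaf 9288)) (.leaf 7632)) (.node (.node (.leaf 841) (.leaf 4444)) (.leaf 2206)))) (.node (.node (.node (.node (.leaf 135) (.leaf 9017)) (.leaf 7463)) (.node (.node (.leaf 697) (.leaf 10199)) (.leaf 2001))) (.node (.node (.node (.leaf 407) (.leaf 9575)) (.leaf 7794)) (.node (.node (.leaf 996) (.leaf 11058)) (.leaf 2415))))) (.node (.node (.node (.node (.node (.leaf 68) (.leaf 2745)) (.leaf 7385)) (.node (.node (.leaf 6777) (.leaf 3871)) (.leaf 8057))) (.node (.node (.node (.leaf 336) (.leaf 9426)) (.leaf 7713)) (.node (.node (.leaf 920) (.leaf 4663)) (.leaf 8469)))) (.node (.node (.node (.node (.leaf 6356) (.leaf 9151)) (.leaf 1392)) (.node (.node (.leaf 768) (.leaf 10391)) (.leaf 2104))) (.node (.node (.node (.leaf 6634) (.leaf 3569)) (.leaf 7878)) (.node (.node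 (.leaf 1071) (.leaf 5286)) (.leaf 8686)))))) (.node (.node (.node (.node (.node (.node (.leaf 6190) (.leaf 2689)) (.leaf 1190)) (.node (.node (.leaf 585) (.leaf 3793)) (.leaf 1860))) (.node (.node (.node (.leaf 6456) (.leaf 3194)) (.leaf 1514)) (.node (.node (.leaf 880) (.leaf 10702)) (.leaf 8413)))) (.node (.node (.node (.node (.leaf 6323) (.leaf 9083)) (.leaf 1349)) (.node (.node (.leaf 731) (.leaf 10293)) (.leaf 8206))) (.node (.node (.node (.leaf 443) (.leaf 9645)) (.leaf 7835)) (.node (.node (.leaf 7187) (.leaf 11265)) (.leaf 2477))))) (.node (.node (.node (.node (.node (.leaf 101) (.leaf 2796)) (.leaf 1268)) (.node (.node (.leaf 661) (.leaf 3957)) (.leaf 8107))) (.node (.node (.node (.leaf 373) (.leaf 3340)) (.leaf 1598)) (.node (.node (.leaf 7115) (.leaf 10920)) (.leaf 2367)))) (.node (.node (.node (.node (.leaf 6389) (.leaf 3056)) (.leaf 7589)) (.node (.node (.leaf 803) (.leaf 10488)) (.leaf 8308))) (.node (.node (.node (.leaf 6669) (.leaf 3645)) (.leaf 1770)) (.node (.node (.leaf 7271) (.leaf 5544)) (.leaf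 2582))))))) (.node (.node (.node (.node (.node (.node (.node (.leaf 6174) (.leaf 8820)) (.leaf 7326)) (.node (.node (.leaf 567) (.leaf 9906)) (.leaf 7994))) (.node (.node (.node (.leaf 6439) (.leaf 3165)) (.leaf 7653)) (.node (.node (.leaf 7015) (.leaf 10651)) (.leaf 2235)))) (.node (.node (.node (.node (.leaf 151) (.leaf 2897)) (.leaf 7483)) (.node (.node (.leaf 6870) (.leaf 10252)) (.leaf 8183))) (.node (.node (.node (.leaf 6581) (.leaf 3450)) (.leaf 1660)) (.node (.node (.leaf 7171) (.leaf 11163)) (.leaf 8601))))) (.node (.node (.node (.node (.node (.leaf 85) (.leaf 8927)) (.leaf 7404)) (.node (.node (.leaf 641) (.leaf 3916)) (.leaf 1929))) (.node (.node (.node (.leaf 353) (.leaf 9463)) (.leaf 7731)) (.node (.node (.leaf 7096) (.leaf 10869)) (.leaf 2338)))) (.node (.node (.node (.node (.leaf 6372) (.leaf 3030)) (.leaf 7569)) (.node (.node (.leaf 6941) (.leaf 10438)) (.leaf 8281))) (.node (.node (.node (.leaf 6651) (.leaf 9758)) (.leaf 1746)) (.node (.node (.leaf 7250) (.leaf 5422)) (.leaf 8710)))))) (.node (.node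 (.node (.node (.node (.node (.leaf 51) (.leaf 2719)) (.leaf 7364)) (.node (.node (.leaf 6759) (.leaf 9988)) (.leaf 8037))) (.node (.node (.node (.leaf 318) (.leaf 3227)) (.leaf 7693)) (.node (.node (.leaf 899) (.leaf 4602)) (.leaf 2283)))) (.node (.node (.node (.node (.leaf 184) (.leaf 9113)) (.leaf 1368)) (.node (.node (.leaf 749) (.leaf 4184)) (.leaf 8233))) (.node (.node (.node (.leaf 6616) (.leaf 9686)) (.leaf 1703)) (.node (.node (.leaf 1052) (.leaf 11363)) (.leaf 8663))))) (.node (.node (.node (.node (.node (.leaf 6274) (.leaf 2830)) (.leaf 7444)) (.node (.node (.leaf 6835) (.leaf 10155)) (.leaf 8131))) (.node (.node (.node (.leaf 6545) (.leaf 9539)) (.leaf 1619)) (.node (.node (.leaf 977) (.leaf 4832)) (.leaf 8547)))) (.node (.node (.node (.node (.leaf 6406) (.leaf 3095)) (.leaf 1453)) (.node (.node (.leaf 6977) (.leaf 4389)) (.leaf 8336))) (.node (.node (.node (.leaf 6687) (.leaf 3671)) (.leaf 1790)) (.node (.node (.leaf 1132) (.leaf 5656)) (.leaf 2608)))))))) (.node (.node (.node (.node (.node (.node (.node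 (.node (.leaf 10) (.leaf 2652)) (.leaf 7316)) (.node (.node (.leaf 558) (.leaf 3733)) (.leaf 1827))) (.node (.node (.node (.leaf 275) (.leaf 3149)) (.leaf 7642)) (.node (.node (.leaf 851) (.leaf 10623)) (.leaf 8378)))) (.node (.node (.node (.node (.leaf 143) (.leaf 2876)) (.leaf 7472)) (.node (.node (.leaf 705) (.leaf 10228)) (.leaf 8171))) (.node (.node (.node (.leaf 417) (.leaf 3435)) (.leaf 1649)) (.node (.node (.leaf 7161) (.leaf 4952)) (.leaf 2433))))) (.node (.node (.node (.node (.node (.leaf 6232) (.leaf 2756)) (.leaf 1239)) (.node (.node (.leaf 631) (.leaf 10047)) (.leaf 8070))) (.node (.node (.node (.leaf 6500) (.leaf 9446)) (.leaf 1566)) (.node (.node (.leaf 929) (.leaf 10844)) (.leaf 8482)))) (.node (.node (.node (.node (.leaf 6364) (.leaf 3016)) (.leaf 7559)) (.node (.node (.leaf 6933) (.leaf 10415)) (.leaf 2113))) (.node (.node (.node (.leaf 487) (.leaf 3587)) (.leaf 7889)) (.node (.node (.leaf 1082) (.leaf 11517)) (.leaf 8697)))))) (.node (.node (.node (.node (.node (.node (.leaf 6198) (.leaf 2703)) (.leaf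 1200)) (.node (.node (.leaf 595) (.leaf 3814)) (.leaf 1870))) (.node (.node (.node (.leaf 6465) (.leaf 9365)) (.leaf 1523)) (.node (.node (.leaf 890) (.leaf 10734)) (.leaf 2270)))) (.node (.node (.node (.node (.leaf 6331) (.leaf 9097)) (.leaf 7514)) (.node (.node (.leaf 740) (.leaf 4159)) (.leaf 8222))) (.node (.node (.node (.leaf 6607) (.leaf 9666)) (.leaf 7847)) (.node (.node (.leaf 7197) (.leaf 11307)) (.leaf 2491))))) (.node (.node (.node (.node (.node (.leaf 110) (.leaf 8966)) (.leaf 7433)) (.node (.node (.leaf 6825) (.leaf 10128)) (.leaf 1962))) (.node (.node (.node (.leaf 381) (.leaf 3357)) (.leaf 7764)) (.node (.node (.leaf 969) (.leaf 4794)) (.leaf 8535)))) (.node (.node (.node (.node (.leaf 6398) (.leaf 3075)) (.leaf 1444)) (.node (.node (.leaf 812) (.leaf 10514)) (.leaf 8322))) (.node (.node (.node (.leaf 523) (.leaf 9814)) (.leaf 7937)) (.node (.node (.leaf 1124) (.leaf 5604)) (.leaf 2596))))))) (.node (.node (.node (.node (.node (.node (.node (.leaf 6182) (.leaf 8834)) (.leaf 7336)) (.node (.node (.leaf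 576) (.leaf 9928)) (.leaf 1849))) (.node (.node (.node (.leaf 6447) (.leaf 9334)) (.leaf 7661)) (.node (.node (.leaf 7024) (.leaf 4521)) (.leaf 2245)))) (.node (.node (.node (.node (.leaf 159) (.leaf 2913)) (.leaf 7495)) (.node (.node (.leaf 6878) (.leaf 10268)) (.leaf 8195))) (.node (.node (.node (.leaf 6590) (.leaf 9621)) (.leaf 1669)) (.node (.node (.leaf 7179) (.leaf 11224)) (.leaf 8621))))) (.node (.node (.node (.node (.node (.leaf 93) (.leaf 8940)) (.leaf 7413)) (.node (.node (.leaf 6807) (.leaf 3935)) (.leaf 8095))) (.node (.node (.node (.leaf 364) (.leaf 3323)) (.leaf 7742)) (.node (.node (.leaf 950) (.leaf 4741)) (.leaf 8507)))) (.node (.node (.node (.node (.leaf 225) (.leaf 9200)) (.leaf 7579)) (.node (.node (.leaf 6949) (.leaf 10472)) (.leaf 8293))) (.node (.node (.node (.leaf 504) (.leaf 9776)) (.leaf 7912)) (.node (.node (.leaf 7260) (.leaf 11614)) (.leaf 2572)))))) (.node (.node (.node (.node (.node (.node (.leaf 60) (.leaf 2731)) (.leaf 7374)) (.node (.node (.leaf 6769) (.leaf 3852)) (.leaf 8046))) (.node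 (.node (.node (.leaf 327) (.leaf 9405)) (.leaf 1548)) (.node (.node (.leaf 910) (.leaf 4630)) (.leaf 2299)))) (.node (.node (.node (.node (.leaf 192) (.leaf 2979)) (.leaf 7534)) (.node (.node (.leaf 6914) (.leaf 10360)) (.leaf 2090))) (.node (.node (.node (.leaf 470) (.leaf 3552)) (.leaf 7869)) (.node (.node (.leaf 1062) (.leaf 5255)) (.leaf 8676))))) (.node (.node (.node (.node (.node (.leaf 6282) (.leaf 9001)) (.leaf 1298)) (.node (.node (.leaf 6844) (.leaf 4017)) (.leaf 8145))) (.node (.node (.node (.leaf 6554) (.leaf 3403)) (.leaf 1628)) (.node (.node (.leaf 986) (.leaf 11017)) (.leaf 8557)))) (.node (.node (.node (.node (.leaf 6414) (.leaf 3113)) (.leaf 1465)) (.node (.node (.leaf 6987) (.leaf 4420)) (.leaf 2194))) (.node (.node (.node (.leaf 6696) (.leaf 9852)) (.leaf 7958)) (.node (.node (.leaf 7297) (.leaf 11902)) (.leaf 8777))))))))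

/-- Part of `topPar`. -/
def topPar_p1011 : Tr := .node (.node (.node (.node (.node (.node (.node (.node (.node (.leaf 6) (.leaf 2641)) (.leaf 1156)) (.node (.node (.leaf 554) (.leaf 9878)) (.leaf 7977))) (.node (.node (.node (.leaf 6426) (.leaf 3142)) (.leaf 7637)) (.node (.node (.leaf 847) (.leaf 4458)) (.leaf 8370)))) (.node (.node (.node (.node (.leaf 139) (.leaf 9024)) (.leaf 7467)) (.node (.node (.leaf 701) (.leaf 10215)) (.leaf 8164))) (.node (.node (.node (.leaf 6567) (.leaf 9584)) (.leaf 7798)) (.node (.node (.leaf 7156) (.leaf 11077)) (.leaf 8579))))) (.node (.node (.node (.node (.node (.leaf 72) (.leaf 8907)) (.leaf 7389)) (.node (.node (.leaf 6782) (.leaf 3879)) (.leaf 8062))) (.node (.node (.node (.leaf 6496) (.leaf 9438)) (.leaf 7717)) (.node (.node (.leaf 7080) (.leaf 10832)) (.leaf 2319)))) (.node (.node (.node (.node (.leaf 6360) (.leaf 3006)) (.leaf 1397)) (.node (.node (.leaf 773) (.leaf 4248)) (.leaf 8264))) (.node (.node (.node (.leaf 6638) (.leaf 9731)) (.leaf 7884)) (.node (.node (.leaf 1078)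 (.leaf 5320)) (.leaf 8692)))))) (.node (.node (.node (.node (.node (.node (.leaf 6194) (.leaf 2696)) (.leaf 7351)) (.node (.node (.leaf 590) (.leaf 3801)) (.leaf 1865))) (.node (.node (.node (.leaf 305) (.leaf 9358)) (.leaf 7674)) (.node (.node (.leaf 884) (.leaf 4560)) (.leaf 2264)))) (.node (.node (.node (.node (.leaf 6327) (.leaf 2934)) (.leaf 7509)) (.node (.node (.leaf 736) (.leaf 10300)) (.leaf 8212))) (.node (.node (.node (.leaf 6603) (.leaf 9652)) (.leaf 1685)) (.node (.node (.leaf 1037) (.leaf 11281)) (.leaf 8638))))) (.node (.node (.node (.node (.node (.leaf 105) (.leaf 8961)) (.leaf 7429)) (.node (.node (.leaf 6821) (.leaf 3964)) (.leaf 8113))) (.node (.node (.node (.leaf 377) (.leaf 9504)) (.leaf 1604)) (.node (.node (.leaf 965) (.leaf 10938)) (.leaf 8528)))) (.node (.node (.node (.node (.leaf 6393) (.leaf 9221)) (.leaf 1439)) (.node (.node (.leaf 808) (.leaf 4345)) (.leaf 2161))) (.node (.node (.node (.leaf 6674) (.leaf 9807)) (.leaf 1775)) (.node (.node (.leaf 1120) (.leaf 5585)) (.leaf 8745))))))) (.node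 (.node (.node (.node (.node (.node (.node (.leaf 6178) (.leaf 2672)) (.leaf 7331)) (.node (.node (.leaf 572) (.leaf 3763)) (.leaf 7998))) (.node (.node (.node (.leaf 6443) (.leaf 9327)) (.leaf 7657)) (.node (.node (.leaf 7019) (.leaf 4507)) (.leaf 8396)))) (.node (.node (.node (.node (.leaf 155) (.leaf 9059)) (.leaf 7489)) (.node (.node (.leaf 6874) (.leaf 4104)) (.leaf 8188))) (.node (.node (.node (.leaf 430) (.leaf 3456)) (.leaf 1665)) (.node (.node (.leaf 7175) (.leaf 5037)) (.leaf 8613))))) (.node (.node (.node (.node (.node (.leaf 89) (.leaf 8933)) (.leaf 7409)) (.node (.node (.leaf 646) (.leaf 10079)) (.leaf 8090))) (.node (.node (.node (.leaf 6514) (.leaf 9469)) (.leaf 7735)) (.node (.node (.leaf 7100) (.leaf 10881)) (.leaf 8500)))) (.node (.node (.node (.node (.leaf 221) (.leaf 9193)) (.leaf 1419)) (.node (.node (.leaf 6945) (.leaf 10461)) (.leaf 8286))) (.node (.node (.node (.leaf 500) (.leaf 3613)) (.leaf 1750)) (.node (.node (.leaf 1100) (.leaf 11592)) (.leaf 8718)))))) (.node (.node (.node (.node (.node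 (.node (.leaf 6211) (.leaf 2725)) (.leaf 7369)) (.node (.node (.leaf 6764) (.leaf 10000)) (.leaf 8042))) (.node (.node (.node (.leaf 323) (.leaf 3239)) (.leaf 7699)) (.node (.node (.leaf 904) (.leaf 10770)) (.leaf 2288)))) (.node (.node (.node (.node (.leaf 188) (.leaf 2966)) (.leaf 7530)) (.node (.node (.leaf 6909) (.leaf 4196)) (.leaf 2084))) (.node (.node (.node (.leaf 6621) (.leaf 9695)) (.leaf 7863)) (.node (.node (.leaf 1057) (.leaf 5227)) (.leaf 8670))))) (.node (.node (.node (.node (.node (.leaf 6278) (.leaf 2838)) (.leaf 1293)) (.node (.node (.leaf 6839) (.leaf 4009)) (.leaf 1981))) (.node (.node (.node (.leaf 6550) (.leaf 9548)) (.leaf 7779)) (.node (.node (.leaf 7137) (.leaf 11005)) (.leaf 2396)))) (.node (.node (.node (.node (.leaf 6410) (.leaf 3103)) (.leaf 1460)) (.node (.node (.leaf 6983) (.leaf 4406)) (.leaf 2185))) (.node (.node (.node (.leaf 536) (.leaf 9840)) (.leaf 1795)) (.node (.node (.leaf 7293) (.leaf 11852)) (.leaf 8772)))))))) (.node (.node (.node (.node (.node (.node (.node (.node (.leaf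 14) (.leaf 2659)) (.leaf 7320)) (.node (.node (.leaf 562) (.leaf 9900)) (.leaf 1832))) (.node (.node (.node (.leaf 279) (.leaf 3157)) (.leaf 7647)) (.node (.node (.leaf 855) (.leaf 4482)) (.leaf 2228)))) (.node (.node (.node (.node (.leaf 147) (.leaf 2884)) (.leaf 1322)) (.node (.node (.leaf 709) (.leaf 4087)) (.leaf 2022))) (.node (.node (.node (.leaf 6577) (.leaf 3444)) (.leaf 1654)) (.node (.node (.leaf 7166) (.leaf 11134)) (.leaf 2441))))) (.node (.node (.node (.node (.node (.leaf 81) (.leaf 2766)) (.leaf 7399)) (.node (.node (.leaf 6792) (.leaf 3903)) (.leaf 8078))) (.node (.node (.node (.leaf 349) (.leaf 9454)) (.leaf 7726)) (.node (.node (.leaf 935) (.leaf 4703)) (.leaf 2332)))) (.node (.node (.node (.node (.leaf 6368) (.leaf 9180)) (.leaf 7564)) (.node (.node (.leaf 6937) (.leaf 10422)) (.leaf 2118))) (.node (.node (.node (.leaf 6647) (.leaf 3594)) (.leaf 7894)) (.node (.node (.leaf 1089) (.leaf 11563)) (.leaf 2547)))))) (.node (.node (.node (.node (.node (.node (.leaf 47) (.leaf 2713)) (.leaf 1204)) (.node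 (.node (.leaf 6755) (.leaf 9975)) (.leaf 8031))) (.node (.node (.node (.leaf 6469) (.leaf 3219)) (.leaf 1529)) (.node (.node (.leaf 894) (.leaf 4591)) (.leaf 8430)))) (.node (.node (.node (.node (.leaf 180) (.leaf 9106)) (.leaf 7519)) (.node (.node (.leaf 6900) (.leaf 4168)) (.leaf 8227))) (.node (.node (.node (.leaf 6612) (.leaf 9678)) (.leaf 7853)) (.node (.node (.leaf 1046) (.leaf 11336)) (.leaf 8654))))) (.node (.node (.node (.node (.node (.leaf 114) (.leaf 8977)) (.leaf 7439)) (.node (.node (.leaf 675) (.leaf 10139)) (.leaf 1971))) (.node (.node (.node (.leaf 385) (.leaf 9522)) (.leaf 1614)) (.node (.node (.leaf 973) (.leaf 4817)) (.leaf 2385)))) (.node (.node (.node (.node (.leaf 6402) (.leaf 3083)) (.leaf 1448)) (.node (.node (.leaf 6972) (.leaf 10531)) (.leaf 8329))) (.node (.node (.node (.leaf 527) (.leaf 9820)) (.leaf 1786)) (.node (.node (.leaf 1128) (.leaf 5634)) (.leaf 8758))))))) (.node (.node (.node (.node (.node (.node (.node (.leaf 6186) (.leaf 8840)) (.leaf 7341)) (.node (.node (.leaf 6736) (.leaf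 9937)) (.leaf 1853))) (.node (.node (.node (.leaf 296) (.leaf 9342)) (.leaf 1510)) (.node (.node (.leaf 7029) (.leaf 10690)) (.leaf 2252)))) (.node (.node (.node (.node (.leaf 6319) (.leaf 2921)) (.leaf 7499)) (.node (.node (.leaf 6882) (.leaf 10282)) (.leaf 2046))) (.node (.node (.node (.leaf 6594) (.leaf 3478)) (.leaf 1675)) (.node (.node (.leaf 7183) (.leaf 5084)) (.leaf 2471))))) (.node (.node (.node (.node (.node (.leaf 97) (.leaf 2790)) (.leaf 7418)) (.node (.node (.leaf 657) (.leaf 3949)) (.leaf 1946))) (.node (.node (.node (.leaf 6524) (.leaf 9486)) (.leaf 1592)) (.node (.node (.leaf 955) (.leaf 10906)) (.leaf 2358)))) (.node (.node (.node (.node (.leaf 229) (.leaf 9205)) (.leaf 7584)) (.node (.node (.leaf 798) (.leaf 4323)) (.leaf 8300))) (.node (.node (.node (.leaf 508) (.leaf 3633)) (.leaf 1765)) (.node (.node (.leaf 1111) (.leaf 11673)) (.leaf 8733)))))) (.node (.node (.node (.node (.node (.node (.leaf 64) (.leaf 2736)) (.leaf 7380)) (.node (.node (.leaf 6773) (.leaf 10019)) (.leaf 1896))) (.node (.node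 (.node (.leaf 331) (.leaf 9415)) (.leaf 7708)) (.node (.node (.leaf 914) (.leaf 4651)) (.leaf 8462)))) (.node (.node (.node (.node (.leaf 6352) (.leaf 2989)) (.leaf 1387)) (.node (.node (.leaf 764) (.leaf 4221)) (.leaf 2096))) (.node (.node (.node (.leaf 6630) (.leaf 3562)) (.leaf 7873)) (.node (.node (.leaf 7222) (.leaf 11420)) (.leaf 8680))))) (.node (.node (.node (.node (.node (.leaf 6286) (.leaf 2853)) (.leaf 1303)) (.node (.node (.leaf 693) (.leaf 4034)) (.leaf 8151))) (.node (.node (.node (.leaf 6558) (.leaf 3414)) (.leaf 7790)) (.node (.node (.leaf 991) (.leaf 4880)) (.leaf 8564)))) (.node (.node (.node (.node (.leaf 6418) (.leaf 9279)) (.leaf 1470)) (.node (.node (.leaf 6992) (.leaf 4434)) (.leaf 2200))) (.node (.node (.node (.leaf 6701) (.leaf 9860)) (.leaf 7965)) (.node (.node (.leaf 7302) (.leaf 11964)) (.leaf 8782))))))))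

/-- Part of `topPar`. -/
def topPar_p1100 : Tr := .node (.node (.node (.node (.node (.node (.node (.node (.node (.leaf 1) (.leaf 8787)) (.node (.leaf 1151) (.leaf 12049))) (.node (.node (.leaf 549) (.leaf 3714)) (.leaf 7970))) (.node (.node (.node (.leaf 6421) (.leaf 9286)) (.leaf 7631)) (.node (.node (.leaf 840) (.leaf 10598)) (.leaf 8360)))) (.node (.node (.node (.node (.leaf 134) (.leaf 9015)) (.leaf 7462)) (.node (.node (.leaf 696) (.leaf 4041)) (.leaf 2000))) (.node (.node (.node (.leaf 406) (.leaf 9574)) (.leaf 7793)) (.node (.node (.leaf 7150) (.leaf 11054)) (.leaf 8567))))) (.node (.node (.node (.node (.node (.leaf 67) (.leaf 8899)) (.leaf 7384)) (.node (.node (.leaf 6776) (.leaf 10023)) (.leaf 8055))) (.node (.node (.node (.leaf 335) (.leaf 9421)) (.leaf 7712)) (.node (.node (.leaf 918) (.leaf 10814)) (.leaf 8468)))) (.node (.node (.node (.node (.leaf 6355) (.leaf 2994)) (.leaf 7546)) (.node (.node (.leaf 767) (.leaf 10390)) (.leaf 8258))) (.node (.node (.node (.leaf 6633) (.leaf 3567)) (.leaf 7877)) (.node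 (.node (.leaf 7225) (.leaf 11438)) (.leaf 2529)))))) (.node (.node (.node (.node (.node (.node (.leaf 6189) (.leaf 2688)) (.leaf 7344)) (.node (.node (.leaf 584) (.leaf 3787)) (.leaf 1858))) (.node (.node (.node (.leaf 299) (.leaf 3192)) (.leaf 1513)) (.node (.node (.leaf 7034) (.leaf 10695)) (.leaf 8411)))) (.node (.node (.node (.node (.leaf 6322) (.leaf 2926)) (.leaf 7503)) (.node (.node (.leaf 730) (.leaf 10289)) (.leaf 8205))) (.node (.node (.node (.leaf 442) (.leaf 9642)) (.leaf 7834)) (.node (.node (.leaf 7186) (.leaf 5105)) (.leaf 2476))))) (.node (.node (.node (.node (.node (.leaf 100) (.leaf 2795)) (.leaf 7422)) (.node (.node (.leaf 660) (.leaf 3955)) (.leaf 1950))) (.node (.node (.node (.leaf 372) (.leaf 3338)) (.leaf 1596)) (.node (.node (.leaf 7114) (.leaf 4760)) (.leaf 8520)))) (.node (.node (.node (.node (.leaf 6388) (.leaf 3055)) (.leaf 7588)) (.node (.node (.leaf 6957) (.leaf 10486)) (.leaf 8307))) (.node (.node (.node (.leaf 512) (.leaf 3642)) (.leaf 1769)) (.node (.node (.leaf 7270) (.leaf 5539))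 (.leaf 2581))))))) (.node (.node (.node (.node (.node (.node (.node (.leaf 6173) (.leaf 8818)) (.leaf 7325)) (.node (.node (.leaf 566) (.leaf 3749)) (.leaf 7992))) (.node (.node (.node (.leaf 6438) (.leaf 9318)) (.leaf 1496)) (.node (.node (.leaf 7014) (.leaf 4492)) (.leaf 2232)))) (.node (.node (.node (.node (.leaf 150) (.leaf 2895)) (.leaf 7482)) (.node (.node (.leaf 6869) (.leaf 10251)) (.leaf 8182))) (.node (.node (.node (.leaf 6580) (.leaf 3448)) (.leaf 1659)) (.node (.node (.leaf 7170) (.leaf 4995)) (.leaf 8600))))) (.node (.node (.node (.node (.node (.leaf 84) (.leaf 8926)) (.leaf 1247)) (.node (.node (.leaf 6795) (.leaf 3913)) (.leaf 8082))) (.node (.node (.node (.leaf 352) (.leaf 9462)) (.leaf 1574)) (.node (.node (.leaf 7095) (.leaf 4711)) (.leaf 2336)))) (.node (.node (.node (.node (.leaf 6371) (.leaf 3029)) (.leaf 1412)) (.node (.node (.leaf 6940) (.leaf 10433)) (.leaf 2124))) (.node (.node (.node (.leaf 6650) (.leaf 3601)) (.leaf 7900)) (.node (.node (.leaf 7249) (.leaf 11575)) (.leaf 2553)))))) (.node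 (.node (.node (.node (.node (.node (.leaf 50) (.leaf 2718)) (.leaf 7363)) (.node (.node (.leaf 6758) (.leaf 3828)) (.leaf 1880))) (.node (.node (.node (.leaf 317) (.leaf 3226)) (.leaf 1536)) (.node (.node (.leaf 898) (.leaf 4601)) (.leaf 8437)))) (.node (.node (.node (.node (.leaf 183) (.leaf 2956)) (.leaf 7522)) (.node (.node (.leaf 748) (.leaf 4180)) (.leaf 8231))) (.node (.node (.node (.leaf 6615) (.leaf 3529)) (.leaf 1702)) (.node (.node (.leaf 1051) (.leaf 11352)) (.leaf 8661))))) (.node (.node (.node (.node (.node (.leaf 6273) (.leaf 8983)) (.leaf 7443)) (.node (.node (.leaf 6834) (.leaf 10148)) (.leaf 8130))) (.node (.node (.node (.leaf 6544) (.leaf 9536)) (.leaf 7773)) (.node (.node (.leaf 976) (.leaf 10986)) (.leaf 8546)))) (.node (.node (.node (.node (.leaf 6405) (.leaf 9248)) (.leaf 1452)) (.node (.node (.leaf 6976) (.leaf 10540)) (.leaf 2179))) (.node (.node (.node (.leaf 6686) (.leaf 9825)) (.leaf 1789)) (.node (.node (.leaf 1131) (.leaf 5651)) (.leaf 2607)))))))) (.node (.node (.node (.node (.node (.node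 (.node (.node (.leaf 9) (.leaf 8806)) (.leaf 7315)) (.node (.node (.leaf 557) (.leaf 3728)) (.leaf 1825))) (.node (.node (.node (.leaf 274) (.leaf 9303)) (.leaf 1485)) (.node (.node (.leaf 850) (.leaf 10621)) (.leaf 2221)))) (.node (.node (.node (.node (.leaf 142) (.leaf 9030)) (.leaf 7470)) (.node (.node (.leaf 704) (.leaf 4071)) (.leaf 8170))) (.node (.node (.node (.leaf 416) (.leaf 9589)) (.leaf 7802)) (.node (.node (.leaf 7160) (.leaf 11093)) (.leaf 8586))))) (.node (.node (.node (.node (.node (.leaf 75) (.leaf 2755)) (.leaf 7393)) (.node (.node (.leaf 6785) (.leaf 3890)) (.leaf 1913))) (.node (.node (.node (.leaf 6499) (.leaf 3289)) (.leaf 7720)) (.node (.node (.leaf 928) (.leaf 4686)) (.leaf 8481)))) (.node (.node (.node (.node (.leaf 6363) (.leaf 9168)) (.leaf 7558)) (.node (.node (.leaf 6932) (.leaf 10412)) (.leaf 2112))) (.node (.node (.node (.leaf 486) (.leaf 3582)) (.leaf 7887)) (.node (.node (.leaf 1081) (.leaf 5337)) (.leaf 2540)))))) (.node (.node (.node (.node (.node (.node (.leaf 6197) (.leaf 8857))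 (.leaf 7354)) (.node (.node (.leaf 6749) (.leaf 9963)) (.leaf 8024))) (.node (.node (.node (.leaf 6464) (.leaf 9363)) (.leaf 1522)) (.node (.node (.leaf 889) (.leaf 4575)) (.leaf 2268)))) (.node (.node (.node (.node (.leaf 6330) (.leaf 9095)) (.leaf 7512)) (.node (.node (.leaf 739) (.leaf 10312)) (.leaf 8221))) (.node (.node (.node (.leaf 6606) (.leaf 3507)) (.leaf 1690)) (.node (.node (.leaf 7196) (.leaf 5140)) (.leaf 2488))))) (.node (.node (.node (.node (.node (.leaf 6264) (.leaf 2809)) (.leaf 7432)) (.node (.node (.leaf 6824) (.leaf 3971)) (.leaf 1961))) (.node (.node (.node (.leaf 380) (.leaf 9509)) (.leaf 7763)) (.node (.node (.leaf 968) (.leaf 4792)) (.leaf 8534)))) (.node (.node (.node (.node (.leaf 241) (.leaf 9229)) (.leaf 1443)) (.node (.node (.leaf 811) (.leaf 10511)) (.leaf 2165))) (.node (.node (.node (.leaf 522) (.leaf 3655)) (.leaf 7936)) (.node (.node (.leaf 1123) (.leaf 5598)) (.leaf 2595))))))) (.node (.node (.node (.node (.node (.node (.node (.leaf 6181) (.leaf 2677)) (.leaf 1179)) (.node (.node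 (.leaf 575) (.leaf 9926)) (.leaf 1847))) (.node (.node (.node (.leaf 6446) (.leaf 3177)) (.leaf 7660)) (.node (.node (.leaf 7023) (.leaf 4517)) (.leaf 2244)))) (.node (.node (.node (.node (.leaf 158) (.leaf 2910)) (.leaf 1338)) (.node (.node (.leaf 6877) (.leaf 4110)) (.leaf 8194))) (.node (.node (.node (.leaf 6589) (.leaf 3464)) (.leaf 1668)) (.node (.node (.leaf 7178) (.leaf 11217)) (.leaf 8620))))) (.node (.node (.node (.node (.node (.leaf 92) (.leaf 8939)) (.leaf 7412)) (.node (.node (.leaf 650) (.leaf 3933)) (.leaf 8093))) (.node (.node (.node (.leaf 362) (.leaf 3322)) (.leaf 7741)) (.node (.node (.leaf 948) (.leaf 10895)) (.leaf 2350)))) (.node (.node (.node (.node (.leaf 224) (.leaf 3042)) (.leaf 7578)) (.node (.node (.leaf 6948) (.leaf 10470)) (.leaf 2135))) (.node (.node (.node (.leaf 503) (.leaf 9773)) (.leaf 7911)) (.node (.node (.leaf 1103) (.leaf 5456)) (.leaf 8724)))))) (.node (.node (.node (.node (.node (.node (.leaf 59) (.leaf 2730)) (.leaf 7373)) (.node (.node (.leaf 6768) (.leaf 10006)) (.leaf 8045)))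 (.node (.node (.node (.leaf 326) (.leaf 3244)) (.leaf 1547)) (.node (.node (.leaf 7064) (.leaf 10780)) (.leaf 2295)))) (.node (.node (.node (.node (.leaf 191) (.leaf 9133)) (.leaf 7533)) (.node (.node (.leaf 6913) (.leaf 10358)) (.leaf 2088))) (.node (.node (.node (.leaf 6624) (.leaf 9705)) (.leaf 1712)) (.node (.node (.leaf 1061) (.leaf 11406)) (.leaf 8674))))) (.node (.node (.node (.node (.node (.leaf 6281) (.leaf 9000)) (.leaf 1297)) (.node (.node (.leaf 6842) (.leaf 4014)) (.leaf 8143))) (.node (.node (.node (.leaf 6553) (.leaf 3402)) (.leaf 1627)) (.node (.node (.leaf 985) (.leaf 11013)) (.leaf 8556)))) (.node (.node (.node (.node (.leaf 6413) (.leaf 9267)) (.leaf 7619)) (.node (.node (.leaf 6986) (.leaf 4415)) (.leaf 2189))) (.node (.node (.node (.leaf 539) (.leaf 9851)) (.leaf 7956)) (.node (.node (.leaf 7296) (.leaf 11880)) (.leaf 2620))))))))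

/-- Part of `topPar`. -/
def topPar_p1101 : Tr := .node (.node (.node (.node (.node (.node (.node (.node (.node (.leaf 5) (.leaf 8794)) (.node (.leaf 1155) (.leaf 12202))) (.node (.node (.leaf 553) (.leaf 3721)) (.leaf 1820))) (.node (.node (.node (.leaf 6425) (.leaf 3141)) (.leaf 1480)) (.node (.node (.leaf 846) (.leaf 4453)) (.leaf 8368)))) (.node (.node (.node (.node (.leaf 138) (.leaf 2866)) (.leaf 7466)) (.node (.node (.leaf 700) (.leaf 10209)) (.leaf 2007))) (.node (.node (.node (.leaf 410) (.leaf 3424)) (.leaf 7797)) (.node (.node (.leaf 7155) (.leaf 4917)) (.leaf 2420))))) (.node (.node (.node (.node (.node (.leaf 71) (.leaf 2750)) (.leaf 7388)) (.node (.node (.leaf 6781) (.leaf 10033)) (.leaf 8061))) (.node (.node (.node (.leaf 6495) (.leaf 3281)) (.leaf 7716)) (.node (.node (.leaf 7079) (.leaf 10827)) (.leaf 8473)))) (.node (.node (.node (.node (.leaf 6359) (.leaf 3005)) (.leaf 1396)) (.node (.node (.leaf 772) (.leaf 4245)) (.leaf 2107))) (.node (.node (.node (.leaf 6637) (.leaf 3573)) (.leaf 7881)) (.node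 (.node (.leaf 1077) (.leaf 11461)) (.leaf 8690)))))) (.node (.node (.node (.node (.node (.node (.leaf 6193) (.leaf 8850)) (.leaf 1194)) (.node (.node (.leaf 6744) (.leaf 9953)) (.leaf 1864))) (.node (.node (.node (.leaf 304) (.leaf 9357)) (.leaf 7673)) (.node (.node (.leaf 883) (.leaf 4558)) (.leaf 8418)))) (.node (.node (.node (.node (.leaf 6326) (.leaf 9088)) (.leaf 7508)) (.node (.node (.leaf 735) (.leaf 4142)) (.leaf 2055))) (.node (.node (.node (.leaf 6602) (.leaf 3495)) (.leaf 1684)) (.node (.node (.leaf 1036) (.leaf 5121)) (.leaf 8637))))) (.node (.node (.node (.node (.node (.leaf 104) (.leaf 2801)) (.leaf 7428)) (.node (.node (.leaf 664) (.leaf 3963)) (.leaf 1956))) (.node (.node (.node (.leaf 376) (.leaf 3347)) (.leaf 1603)) (.node (.node (.leaf 7119) (.leaf 10936)) (.leaf 2371)))) (.node (.node (.node (.node (.leaf 6392) (.leaf 9217)) (.leaf 1438)) (.node (.node (.leaf 6962) (.leaf 4342)) (.leaf 8315))) (.node (.node (.node (.leaf 6673) (.leaf 9806)) (.leaf 7929)) (.node (.node (.leaf 1119) (.leaf 5570))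 (.leaf 8743))))))) (.node (.node (.node (.node (.node (.node (.node (.leaf 6177) (.leaf 2671)) (.leaf 1174)) (.node (.node (.leaf 571) (.leaf 3759)) (.leaf 7997))) (.node (.node (.node (.leaf 6442) (.leaf 9326)) (.leaf 7656)) (.node (.node (.leaf 7018) (.leaf 10660)) (.leaf 2239)))) (.node (.node (.node (.node (.leaf 154) (.leaf 9058)) (.leaf 1331)) (.node (.node (.leaf 6873) (.leaf 4103)) (.leaf 8186))) (.node (.node (.node (.leaf 429) (.leaf 3455)) (.leaf 1664)) (.node (.node (.leaf 7174) (.leaf 5032)) (.leaf 8609))))) (.node (.node (.node (.node (.node (.leaf 88) (.leaf 8931)) (.leaf 1252)) (.node (.node (.leaf 645) (.leaf 10078)) (.leaf 8089))) (.node (.node (.node (.leaf 6513) (.leaf 9468)) (.leaf 7734)) (.node (.node (.leaf 7099) (.leaf 10879)) (.leaf 2343)))) (.node (.node (.node (.node (.leaf 220) (.leaf 9192)) (.leaf 7573)) (.node (.node (.leaf 6944) (.leaf 4302)) (.leaf 2129))) (.node (.node (.node (.leaf 6654) (.leaf 3610)) (.leaf 1749)) (.node (.node (.leaf 7254) (.leaf 5431)) (.leaf 2559)))))) (.node (.node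 (.node (.node (.node (.node (.leaf 6210) (.leaf 8879)) (.leaf 7368)) (.node (.node (.leaf 607) (.leaf 3839)) (.leaf 8041))) (.node (.node (.node (.leaf 6477) (.leaf 3238)) (.leaf 7697)) (.node (.node (.leaf 903) (.leaf 4610)) (.leaf 8442)))) (.node (.node (.node (.node (.leaf 187) (.leaf 9120)) (.leaf 7529)) (.node (.node (.leaf 752) (.leaf 10350)) (.leaf 2083))) (.node (.node (.node (.leaf 464) (.leaf 3538)) (.leaf 1706)) (.node (.node (.leaf 1056) (.leaf 11380)) (.leaf 8669))))) (.node (.node (.node (.node (.node (.leaf 6277) (.leaf 8991)) (.leaf 1292)) (.node (.node (.leaf 6838) (.leaf 4005)) (.leaf 1980))) (.node (.node (.node (.leaf 6549) (.leaf 9547)) (.leaf 7778)) (.node (.node (.leaf 7136) (.leaf 11000)) (.leaf 2395)))) (.node (.node (.node (.node (.leaf 6409) (.leaf 9257)) (.leaf 7614)) (.node (.node (.leaf 826) (.leaf 10559)) (.leaf 2184))) (.node (.node (.node (.leaf 535) (.leaf 3682)) (.leaf 7949)) (.node (.node (.leaf 1136) (.leaf 5680)) (.leaf 8769)))))))) (.node (.node (.node (.node (.node (.node (.node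 (.node (.leaf 13) (.leaf 2658)) (.leaf 7319)) (.node (.node (.leaf 561) (.leaf 9898)) (.leaf 1831))) (.node (.node (.node (.leaf 278) (.leaf 3153)) (.leaf 1490)) (.node (.node (.leaf 854) (.leaf 10630)) (.leaf 8382)))) (.node (.node (.node (.node (.leaf 146) (.leaf 9037)) (.leaf 1321)) (.node (.node (.leaf 708) (.leaf 10240)) (.leaf 8175))) (.node (.node (.node (.leaf 6576) (.leaf 3441)) (.leaf 7808)) (.node (.node (.leaf 7165) (.leaf 4975)) (.leaf 2439))))) (.node (.node (.node (.node (.node (.leaf 80) (.leaf 8919)) (.leaf 7398)) (.node (.node (.leaf 6791) (.leaf 10057)) (.leaf 8076))) (.node (.node (.node (.leaf 348) (.leaf 3297)) (.leaf 7725)) (.node (.node (.leaf 7089) (.leaf 10853)) (.leaf 2331)))) (.node (.node (.node (.node (.leaf 6367) (.leaf 9179)) (.leaf 7563)) (.node (.node (.leaf 6936) (.leaf 4264)) (.leaf 8272))) (.node (.node (.node (.leaf 6646) (.leaf 3593)) (.leaf 7893)) (.node (.node (.leaf 7241) (.leaf 11556)) (.leaf 2546)))))) (.node (.node (.node (.node (.node (.node (.leaf 6201) (.leaf 2712)) (.leaf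 1203)) (.node (.node (.leaf 6754) (.leaf 9974)) (.leaf 8030))) (.node (.node (.node (.leaf 6468) (.leaf 3217)) (.leaf 1528)) (.node (.node (.leaf 893) (.leaf 10744)) (.leaf 8429)))) (.node (.node (.node (.node (.leaf 179) (.leaf 2948)) (.leaf 7518)) (.node (.node (.leaf 743) (.leaf 4166)) (.leaf 8226))) (.node (.node (.node (.leaf 6611) (.leaf 3519)) (.leaf 1696)) (.node (.node (.leaf 7200) (.leaf 5170)) (.leaf 2497))))) (.node (.node (.node (.node (.node (.leaf 113) (.leaf 8974)) (.leaf 7438)) (.node (.node (.leaf 6829) (.leaf 10137)) (.leaf 1969))) (.node (.node (.node (.leaf 384) (.leaf 9519)) (.leaf 1612)) (.node (.node (.leaf 972) (.leaf 10966)) (.leaf 2383)))) (.node (.node (.node (.node (.leaf 6401) (.leaf 3081)) (.leaf 1447)) (.node (.node (.leaf 6971) (.leaf 4371)) (.leaf 8327))) (.node (.node (.node (.leaf 526) (.leaf 9819)) (.leaf 1785)) (.node (.node (.leaf 1127) (.leaf 11788)) (.leaf 8757))))))) (.node (.node (.node (.node (.node (.node (.node (.leaf 6185) (.leaf 2683)) (.leaf 7340)) (.node (.node (.leaf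 6735) (.leaf 3779)) (.leaf 1852))) (.node (.node (.node (.leaf 295) (.leaf 9339)) (.leaf 7664)) (.node (.node (.leaf 7028) (.leaf 4531)) (.leaf 2251)))) (.node (.node (.node (.node (.leaf 162) (.leaf 2920)) (.leaf 7498)) (.node (.node (.leaf 6881) (.leaf 10279)) (.leaf 8200))) (.node (.node (.node (.leaf 6593) (.leaf 3477)) (.leaf 1674)) (.node (.node (.leaf 7182) (.leaf 11238)) (.leaf 2470))))) (.node (.node (.node (.node (.node (.leaf 96) (.leaf 2789)) (.leaf 7417)) (.node (.node (.leaf 656) (.leaf 3946)) (.leaf 8100))) (.node (.node (.node (.leaf 6523) (.leaf 9483)) (.leaf 7746)) (.node (.node (.leaf 954) (.leaf 4748)) (.leaf 2356)))) (.node (.node (.node (.node (.leaf 228) (.leaf 9204)) (.leaf 7583)) (.node (.node (.leaf 6952) (.leaf 4322)) (.leaf 2143))) (.node (.node (.node (.leaf 507) (.leaf 3632)) (.leaf 7919)) (.node (.node (.leaf 1109) (.leaf 5498)) (.leaf 8731)))))) (.node (.node (.node (.node (.node (.node (.leaf 63) (.leaf 2734)) (.leaf 1222)) (.node (.node (.leaf 6772) (.leaf 3860)) (.leaf 1895))) (.node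 (.node (.node (.leaf 330) (.leaf 9414)) (.leaf 7707)) (.node (.node (.leaf 913) (.leaf 10802)) (.leaf 2303)))) (.node (.node (.node (.node (.leaf 6351) (.leaf 2984)) (.leaf 7541)) (.node (.node (.leaf 762) (.leaf 10374)) (.leaf 2095))) (.node (.node (.node (.leaf 6629) (.leaf 3560)) (.leaf 7872)) (.node (.node (.leaf 7221) (.leaf 11417)) (.leaf 8679))))) (.node (.node (.node (.node (.node (.leaf 6285) (.leaf 2851)) (.leaf 1302)) (.node (.node (.leaf 6847) (.leaf 4032)) (.leaf 8149))) (.node (.node (.node (.leaf 6557) (.leaf 3410)) (.leaf 7789)) (.node (.node (.leaf 7145) (.leaf 4875)) (.leaf 2406)))) (.node (.node (.node (.node (.leaf 6417) (.leaf 3120)) (.leaf 7624)) (.node (.node (.leaf 6991) (.leaf 10587)) (.leaf 2199))) (.node (.node (.node (.leaf 544) (.leaf 9858)) (.leaf 7964)) (.node (.node (.leaf 1145) (.leaf 5789)) (.leaf 8781))))))))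

/-- Part of `topPar`. -/
def topPar_p1110 : Tr := .node (.node (.node (.node (.node (.node (.node (.node (.node (.leaf 3) (.leaf 8789)) (.node (.leaf 1153) (.leaf 5973))) (.node (.node (.leaf 551) (.leaf 9873)) (.leaf 1817))) (.node (.node (.node (.leaf 6423) (.leaf 9289)) (.leaf 7633)) (.node (.node (.leaf 843) (.leaf 10601)) (.leaf 2209)))) (.node (.node (.node (.node (.leaf 136) (.leaf 2863)) (.leaf 7464)) (.node (.node (.leaf 698) (.leaf 10203)) (.leaf 2003))) (.node (.node (.node (.leaf 408) (.leaf 3421)) (.leaf 7795)) (.node (.node (.leaf 7153) (.leaf 4907)) (.leaf 8572))))) (.node (.node (.node (.node (.node (.leaf 69) (.leaf 2746)) (.leaf 7386)) (.node (.node (.leaf 6778) (.leaf 3874)) (.leaf 8058))) (.node (.node (.node (.leaf 6493) (.leaf 9433)) (.leaf 7714)) (.node (.node (.leaf 921) (.leaf 10820)) (.leaf 8470)))) (.node (.node (.node (.node (.leaf 6357) (.leaf 3001)) (.leaf 7549)) (.node (.node (.leaf 769) (.leaf 4240)) (.leaf 2105))) (.node (.node (.node (.leaf 6635) (.leaf 3570)) (.leaf 7879)) (.node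 (.node (.leaf 1072) (.leaf 5290)) (.leaf 8687)))))) (.node (.node (.node (.node (.node (.node (.leaf 6191) (.leaf 8846)) (.leaf 7347)) (.node (.node (.leaf 586) (.leaf 3795)) (.leaf 1862))) (.node (.node (.node (.leaf 302) (.leaf 9352)) (.leaf 1515)) (.node (.node (.leaf 881) (.leaf 4553)) (.leaf 8415)))) (.node (.node (.node (.node (.leaf 6324) (.leaf 2930)) (.leaf 1350)) (.node (.node (.leaf 732) (.leaf 4139)) (.leaf 8208))) (.node (.node (.node (.leaf 6600) (.leaf 3492)) (.leaf 1682)) (.node (.node (.leaf 7189) (.leaf 11268)) (.leaf 2479))))) (.node (.node (.node (.node (.node (.leaf 102) (.leaf 2798)) (.leaf 7425)) (.node (.node (.leaf 662) (.leaf 3960)) (.leaf 8109))) (.node (.node (.node (.leaf 374) (.leaf 9499)) (.leaf 7755)) (.node (.node (.leaf 7116) (.leaf 4768)) (.leaf 2368)))) (.node (.node (.node (.node (.leaf 6390) (.leaf 3057)) (.leaf 1435)) (.node (.node (.leaf 804) (.leaf 4335)) (.leaf 8309))) (.node (.node (.node (.leaf 6671) (.leaf 3647)) (.leaf 1771)) (.node (.node (.leaf 1117) (.leaf 11702)) (.leaf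 2584))))))) (.node (.node (.node (.node (.node (.node (.node (.leaf 6175) (.leaf 2667)) (.leaf 7327)) (.node (.node (.leaf 6724) (.leaf 9907)) (.leaf 7995))) (.node (.node (.node (.leaf 6440) (.leaf 3166)) (.leaf 7654)) (.node (.node (.leaf 7016) (.leaf 10653)) (.leaf 8392)))) (.node (.node (.node (.node (.leaf 152) (.leaf 9054)) (.leaf 1329)) (.node (.node (.leaf 6871) (.leaf 10255)) (.leaf 8184))) (.node (.node (.node (.leaf 6582) (.leaf 9607)) (.leaf 1661)) (.node (.node (.leaf 7172) (.leaf 5018)) (.leaf 8603))))) (.node (.node (.node (.node (.node (.leaf 86) (.leaf 8929)) (.leaf 1250)) (.node (.node (.leaf 6798) (.leaf 10075)) (.leaf 8086))) (.node (.node (.node (.leaf 354) (.leaf 3309)) (.leaf 7732)) (.node (.node (.leaf 7097) (.leaf 10871)) (.leaf 2341)))) (.node (.node (.node (.node (.leaf 6373) (.leaf 3032)) (.leaf 7571)) (.node (.node (.leaf 6942) (.leaf 10446)) (.leaf 2127))) (.node (.node (.node (.leaf 6652) (.leaf 9761)) (.leaf 1747)) (.node (.node (.leaf 1096) (.leaf 5425)) (.leaf 2556)))))) (.node (.node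 (.node (.node (.node (.node (.leaf 52) (.leaf 8876)) (.leaf 1210)) (.node (.node (.leaf 605) (.leaf 3835)) (.leaf 1883))) (.node (.node (.node (.leaf 319) (.leaf 3232)) (.leaf 1539)) (.node (.node (.leaf 900) (.leaf 10759)) (.leaf 2284)))) (.node (.node (.node (.node (.leaf 185) (.leaf 2959)) (.leaf 1369)) (.node (.node (.leaf 750) (.leaf 10341)) (.leaf 8235))) (.node (.node (.node (.leaf 6617) (.leaf 9689)) (.leaf 1704)) (.node (.node (.leaf 1053) (.leaf 5215)) (.leaf 8665))))) (.node (.node (.node (.node (.node (.leaf 6275) (.leaf 8989)) (.leaf 7445)) (.node (.node (.leaf 6836) (.leaf 4002)) (.leaf 8132))) (.node (.node (.node (.leaf 391) (.leaf 9540)) (.leaf 1620)) (.node (.node (.leaf 978) (.leaf 4836)) (.leaf 8548)))) (.node (.node (.node (.node (.leaf 6407) (.leaf 3098)) (.leaf 7610)) (.node (.node (.leaf 6979) (.leaf 4396)) (.leaf 8337))) (.node (.node (.node (.leaf 6688) (.leaf 9828)) (.leaf 7947)) (.node (.node (.leaf 1134) (.leaf 11822)) (.leaf 8765)))))))) (.node (.node (.node (.node (.node (.node (.node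 (.node (.leaf 11) (.leaf 8809)) (.leaf 7317)) (.node (.node (.leaf 559) (.leaf 3734)) (.leaf 1828))) (.node (.node (.node (.leaf 276) (.leaf 3150)) (.leaf 1488)) (.node (.node (.leaf 852) (.leaf 4470)) (.leaf 8380)))) (.node (.node (.node (.node (.leaf 144) (.leaf 2877)) (.leaf 1318)) (.node (.node (.leaf 706) (.leaf 10229)) (.leaf 8172))) (.node (.node (.node (.leaf 418) (.leaf 9592)) (.leaf 1650)) (.node (.node (.leaf 7162) (.leaf 4956)) (.leaf 8590))))) (.node (.node (.node (.node (.node (.leaf 6233) (.leaf 8914)) (.leaf 1240)) (.node (.node (.leaf 6789) (.leaf 3893)) (.leaf 8072))) (.node (.node (.node (.leaf 346) (.leaf 9447)) (.leaf 1567)) (.node (.node (.leaf 7086) (.leaf 10846)) (.leaf 2329)))) (.node (.node (.node (.node (.leaf 6365) (.leaf 3020)) (.leaf 1405)) (.node (.node (.leaf 6934) (.leaf 10416)) (.leaf 2114))) (.node (.node (.node (.leaf 488) (.leaf 9745)) (.leaf 7890)) (.node (.node (.leaf 7239) (.leaf 11522)) (.leaf 8698)))))) (.node (.node (.node (.node (.node (.node (.leaf 6199) (.leaf 2705)) (.leaf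 1201)) (.node (.node (.leaf 6752) (.leaf 3815)) (.leaf 8027))) (.node (.node (.node (.leaf 6466) (.leaf 9368)) (.leaf 7680)) (.node (.node (.leaf 891) (.leaf 4583)) (.leaf 2271)))) (.node (.node (.node (.node (.leaf 177) (.leaf 9099)) (.leaf 1360)) (.node (.node (.leaf 741) (.leaf 10317)) (.leaf 2068))) (.node (.node (.node (.leaf 6608) (.leaf 3514)) (.leaf 1693)) (.node (.node (.leaf 7198) (.leaf 5161)) (.leaf 8650))))) (.node (.node (.node (.node (.node (.leaf 111) (.leaf 8968)) (.leaf 7435)) (.node (.node (.leaf 671) (.leaf 10130)) (.leaf 8120))) (.node (.node (.node (.leaf 382) (.leaf 3358)) (.leaf 1610)) (.node (.node (.leaf 970) (.leaf 10957)) (.leaf 8536)))) (.node (.node (.node (.node (.leaf 6399) (.leaf 3077)) (.leaf 1445)) (.node (.node (.leaf 6969) (.leaf 10518)) (.leaf 8323))) (.node (.node (.node (.leaf 524) (.leaf 9817)) (.leaf 7938)) (.node (.node (.leaf 1125) (.leaf 11769)) (.leaf 8755))))))) (.node (.node (.node (.node (.node (.node (.node (.leaf 6183) (.leaf 2680)) (.leaf 7337)) (.node (.node (.leaf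 577) (.leaf 9930)) (.leaf 1850))) (.node (.node (.node (.leaf 293) (.leaf 9336)) (.leaf 7662)) (.node (.node (.leaf 7025) (.leaf 10684)) (.leaf 2247)))) (.node (.node (.node (.node (.leaf 160) (.leaf 2914)) (.leaf 7496)) (.node (.node (.leaf 6879) (.leaf 10270)) (.leaf 2042))) (.node (.node (.node (.leaf 6591) (.leaf 3467)) (.leaf 7826)) (.node (.node (.leaf 7180) (.leaf 5073)) (.leaf 8623))))) (.node (.node (.node (.node (.node (.leaf 94) (.leaf 2786)) (.leaf 1259)) (.node (.node (.leaf 653) (.leaf 3939)) (.leaf 8096))) (.node (.node (.node (.leaf 365) (.leaf 9481)) (.leaf 7743)) (.node (.node (.leaf 7107) (.leaf 10899)) (.leaf 8508)))) (.node (.node (.node (.node (.leaf 226) (.leaf 3046)) (.leaf 1425)) (.node (.node (.leaf 6950) (.leaf 10473)) (.leaf 2140))) (.node (.node (.node (.leaf 505) (.leaf 9779)) (.leaf 7913)) (.node (.node (.leaf 7261) (.leaf 11634)) (.leaf 8729)))))) (.node (.node (.node (.node (.node (.node (.leaf 61) (.leaf 2732)) (.leaf 1220)) (.node (.node (.leaf 6770) (.leaf 3853)) (.leaf 1892))) (.node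 (.node (.node (.leaf 328) (.leaf 3251)) (.leaf 1549)) (.node (.node (.leaf 911) (.leaf 4632)) (.leaf 2300)))) (.node (.node (.node (.node (.leaf 6349) (.leaf 2981)) (.leaf 7536)) (.node (.node (.leaf 760) (.leaf 4209)) (.leaf 2091))) (.node (.node (.node (.leaf 6627) (.leaf 9712)) (.leaf 7870)) (.node (.node (.leaf 7219) (.leaf 5259)) (.leaf 8677))))) (.node (.node (.node (.node (.node (.leaf 6283) (.leaf 9002)) (.leaf 1299)) (.node (.node (.leaf 6845) (.leaf 4020)) (.leaf 1991))) (.node (.node (.node (.leaf 6555) (.leaf 9561)) (.leaf 1629)) (.node (.node (.leaf 987) (.leaf 4866)) (.leaf 8558)))) (.node (.node (.node (.node (.leaf 6415) (.leaf 3116)) (.leaf 1466)) (.node (.node (.leaf 833) (.leaf 10583)) (.leaf 2196))) (.node (.node (.node (.leaf 6697) (.leaf 3698)) (.leaf 7960)) (.node (.node (.leaf 1143) (.leaf 11907)) (.leaf 8779))))))))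

/-- Part of `topPar`. -/
def topPar_p1111 : Tr := .node (.node (.node (.node (.node (.node (.node (.node (.node (.leaf 7) (.leaf 8799)) (.leaf 1157)) (.node (.node (.leaf 555) (.leaf 3726)) (.leaf 1823))) (.node (.node (.node (.leaf 6427) (.leaf 9299)) (.leaf 7638)) (.node (.node (.leaf 848) (.leaf 10618)) (.leaf 2216)))) (.node (.node (.node (.node (.leaf 140) (.leaf 2870)) (.leaf 7468)) (.node (.node (.leaf 702) (.leaf 10216)) (.leaf 8167))) (.node (.node (.node (.leaf 413) (.leaf 9585)) (.leaf 7799)) (.node (.node (.leaf 7158) (.leaf 4928)) (.leaf 8581))))) (.node (.node (.node (.node (.node (.leaf 73) (.leaf 8908)) (.leaf 7391)) (.node (.node (.leaf 6783) (.leaf 3880)) (.leaf 8064))) (.node (.node (.node (.leaf 6497) (.leaf 9439)) (.leaf 7718)) (.node (.node (.leaf 7081) (.leaf 4679)) (.leaf 8476)))) (.node (.node (.node (.node (.leaf 6361) (.leaf 3008)) (.leaf 7554)) (.node (.node (.leaf 774) (.leaf 10409)) (.leaf 8265))) (.node (.node (.node (.leaf 6639) (.leaf 9735)) (.leaf 7885)) (.node (.node (.leaf 1079)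 (.leaf 5324)) (.leaf 8693)))))) (.node (.node (.node (.node (.node (.node (.leaf 6195) (.leaf 2698)) (.leaf 7352)) (.node (.node (.leaf 591) (.leaf 9958)) (.leaf 8022))) (.node (.node (.node (.leaf 306) (.leaf 3204)) (.leaf 7675)) (.node (.node (.leaf 885) (.leaf 4567)) (.leaf 8421)))) (.node (.node (.node (.node (.leaf 6328) (.leaf 9092)) (.leaf 7510)) (.node (.node (.leaf 737) (.leaf 10305)) (.leaf 2059))) (.node (.node (.node (.leaf 6604) (.leaf 9656)) (.leaf 1687)) (.node (.node (.leaf 1038) (.leaf 5136)) (.leaf 2484))))) (.node (.node (.node (.node (.node (.leaf 6262) (.leaf 8962)) (.leaf 7430)) (.node (.node (.leaf 6822) (.leaf 3966)) (.leaf 1959))) (.node (.node (.node (.leaf 378) (.leaf 3350)) (.leaf 1605)) (.node (.node (.leaf 966) (.leaf 4785)) (.leaf 8530)))) (.node (.node (.node (.node (.leaf 6394) (.leaf 9225)) (.leaf 1440)) (.node (.node (.leaf 809) (.leaf 10505)) (.leaf 2162))) (.node (.node (.node (.leaf 6675) (.leaf 3653)) (.leaf 1776)) (.node (.node (.leaf 1121) (.leaf 5590)) (.leaf 2591))))))) (.node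 (.node (.node (.node (.node (.node (.node (.leaf 6179) (.leaf 2673)) (.leaf 1177)) (.node (.node (.leaf 573) (.leaf 3765)) (.leaf 7999))) (.node (.node (.node (.leaf 6444) (.leaf 3173)) (.leaf 7658)) (.node (.node (.leaf 7020) (.leaf 4508)) (.leaf 8397)))) (.node (.node (.node (.node (.leaf 156) (.leaf 9061)) (.leaf 1335)) (.node (.node (.leaf 6875) (.leaf 4105)) (.leaf 8189))) (.node (.node (.node (.leaf 431) (.leaf 9613)) (.leaf 1666)) (.node (.node (.leaf 7176) (.leaf 11198)) (.leaf 8616))))) (.node (.node (.node (.node (.node (.leaf 90) (.leaf 8935)) (.leaf 7410)) (.node (.node (.leaf 648) (.leaf 3925)) (.leaf 8091))) (.node (.node (.node (.leaf 360) (.leaf 9471)) (.leaf 1583)) (.node (.node (.leaf 7101) (.leaf 4727)) (.leaf 8501)))) (.node (.node (.node (.node (.leaf 222) (.leaf 9194)) (.leaf 1420)) (.node (.node (.leaf 6946) (.leaf 10463)) (.leaf 2133))) (.node (.node (.node (.leaf 501) (.leaf 3614)) (.leaf 1751)) (.node (.node (.leaf 1101) (.leaf 5440)) (.leaf 2564)))))) (.node (.node (.node (.node (.node (.node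 (.leaf 6212) (.leaf 8883)) (.leaf 7370)) (.node (.node (.leaf 6765) (.leaf 10002)) (.leaf 8043))) (.node (.node (.node (.leaf 324) (.leaf 9396)) (.leaf 1545)) (.node (.node (.leaf 905) (.leaf 4618)) (.leaf 8446)))) (.node (.node (.node (.node (.leaf 189) (.leaf 9123)) (.leaf 7531)) (.node (.node (.leaf 6910) (.leaf 4199)) (.leaf 2085))) (.node (.node (.node (.leaf 6622) (.leaf 9696)) (.leaf 7865)) (.node (.node (.leaf 7214) (.leaf 11386)) (.leaf 8671))))) (.node (.node (.node (.node (.node (.leaf 6279) (.leaf 2840)) (.leaf 1295)) (.node (.node (.leaf 6840) (.leaf 10166)) (.leaf 8139))) (.node (.node (.node (.leaf 6551) (.leaf 3396)) (.leaf 7780)) (.node (.node (.leaf 983) (.leaf 4851)) (.leaf 8553)))) (.node (.node (.node (.node (.leaf 6411) (.leaf 3105)) (.leaf 7617)) (.node (.node (.leaf 6984) (.leaf 10563)) (.leaf 2187))) (.node (.node (.node (.leaf 537) (.leaf 3686)) (.leaf 1796)) (.node (.node (.leaf 7294) (.leaf 11857)) (.leaf 8773)))))))) (.node (.node (.node (.node (.node (.node (.node (.node (.leaf 6171) (.leaf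 2660)) (.leaf 1167)) (.node (.node (.leaf 563) (.leaf 3746)) (.leaf 1833))) (.node (.node (.node (.leaf 280) (.leaf 3159)) (.leaf 1493)) (.node (.node (.leaf 856) (.leaf 4484)) (.leaf 2229)))) (.node (.node (.node (.node (.leaf 148) (.leaf 9042)) (.leaf 1323)) (.node (.node (.leaf 6867) (.leaf 10244)) (.leaf 8179))) (.node (.node (.node (.leaf 6578) (.leaf 9601)) (.leaf 1656)) (.node (.node (.leaf 7167) (.leaf 11144)) (.leaf 8598))))) (.node (.node (.node (.node (.node (.leaf 82) (.leaf 8923)) (.leaf 7400)) (.node (.node (.leaf 6793) (.leaf 10061)) (.leaf 1924))) (.node (.node (.node (.leaf 350) (.leaf 3300)) (.leaf 7727)) (.node (.node (.leaf 936) (.leaf 4706)) (.leaf 8489)))) (.node (.node (.node (.node (.leaf 6369) (.leaf 3027)) (.leaf 1410)) (.node (.node (.leaf 6938) (.leaf 4274)) (.leaf 2119))) (.node (.node (.node (.leaf 6648) (.leaf 9751)) (.leaf 1740)) (.node (.node (.leaf 7246) (.leaf 11568)) (.leaf 2549)))))) (.node (.node (.node (.node (.node (.node (.leaf 48) (.leaf 2714)) (.leaf 1205)) (.node (.node (.leaf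 6756) (.leaf 3824)) (.leaf 8033))) (.node (.node (.node (.leaf 315) (.leaf 9377)) (.leaf 1530)) (.node (.node (.leaf 895) (.leaf 10749)) (.leaf 2277)))) (.node (.node (.node (.node (.leaf 181) (.leaf 9107)) (.leaf 7520)) (.node (.node (.leaf 746) (.leaf 4172)) (.leaf 2073))) (.node (.node (.node (.leaf 6613) (.leaf 9681)) (.leaf 7855)) (.node (.node (.leaf 1047) (.leaf 5184)) (.leaf 8656))))) (.node (.node (.node (.node (.node (.leaf 115) (.leaf 2823)) (.leaf 7440)) (.node (.node (.leaf 676) (.leaf 3987)) (.leaf 8128))) (.node (.node (.node (.leaf 6542) (.leaf 9529)) (.leaf 7771)) (.node (.node (.leaf 974) (.leaf 4820)) (.leaf 8542)))) (.node (.node (.node (.node (.leaf 6403) (.leaf 3085)) (.leaf 1449)) (.node (.node (.leaf 6974) (.leaf 10536)) (.leaf 8331))) (.node (.node (.node (.leaf 528) (.leaf 9822)) (.leaf 1787)) (.node (.node (.leaf 1129) (.leaf 5642)) (.leaf 8760))))))) (.node (.node (.node (.node (.node (.node (.node (.leaf 6187) (.leaf 2686)) (.leaf 7342)) (.node (.node (.leaf 6737) (.leaf 3783)) (.leaf 1854)))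 (.node (.node (.node (.leaf 297) (.leaf 9344)) (.leaf 1511)) (.node (.node (.leaf 876) (.leaf 4536)) (.leaf 2253)))) (.node (.node (.node (.node (.leaf 6320) (.leaf 9078)) (.leaf 7500)) (.node (.node (.leaf 728) (.leaf 10285)) (.leaf 8203))) (.node (.node (.node (.leaf 440) (.leaf 9635)) (.leaf 1676)) (.node (.node (.leaf 7184) (.leaf 11243)) (.leaf 2472))))) (.node (.node (.node (.node (.node (.leaf 98) (.leaf 2792)) (.leaf 1264)) (.node (.node (.leaf 658) (.leaf 10107)) (.leaf 8103))) (.node (.node (.node (.leaf 6525) (.leaf 3332)) (.leaf 1593)) (.node (.node (.leaf 7112) (.leaf 10908)) (.leaf 2360)))) (.node (.node (.node (.node (.leaf 230) (.leaf 9206)) (.leaf 1430)) (.node (.node (.leaf 799) (.leaf 4325)) (.leaf 2147))) (.node (.node (.node (.leaf 6665) (.leaf 9791)) (.leaf 1767)) (.node (.node (.leaf 1112) (.leaf 5523)) (.leaf 2579)))))) (.node (.node (.node (.node (.node (.node (.leaf 65) (.leaf 2737)) (.leaf 7381)) (.node (.node (.leaf 6774) (.leaf 3865)) (.leaf 1897))) (.node (.node (.node (.leaf 6488) (.leaf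 9418)) (.leaf 7709)) (.node (.node (.leaf 915) (.leaf 10810)) (.leaf 2308)))) (.node (.node (.node (.node (.leaf 6353) (.leaf 9146)) (.leaf 7544)) (.node (.node (.leaf 765) (.leaf 10385)) (.leaf 8254))) (.node (.node (.node (.leaf 6631) (.leaf 3564)) (.leaf 7874)) (.node (.node (.leaf 7223) (.leaf 11425)) (.leaf 8682))))) (.node (.node (.node (.node (.node (.leaf 6287) (.leaf 2854)) (.leaf 1304)) (.node (.node (.leaf 694) (.leaf 4036)) (.leaf 1998))) (.node (.node (.node (.leaf 6559) (.leaf 3416)) (.leaf 7791)) (.node (.node (.leaf 992) (.leaf 11039)) (.leaf 8565)))) (.node (.node (.node (.node (.leaf 6419) (.leaf 3125)) (.leaf 1473)) (.node (.node (.leaf 6993) (.leaf 10594)) (.leaf 8357))) (.node (.node (.node (.leaf 6702) (.leaf 3708)) (.leaf 7967)) (.node (.node (.leaf 7303) (.leaf 5818)) (.leaf 8783))))))))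

/-- Parents. -/
def topPar : Tr := .node (.node (.node (.node (topPar_p0000) (topPar_p0001)) (.node (topPar_p0010) (topPar_p0011))) (.node (.node (topPar_p0100) (topPar_p0101)) (.node (topPar_p0110) (topPar_p0111)))) (.node (.node (.node (topPar_p1000) (topPar_p1001)) (.node (topPar_p1010) (topPar_p1011))) (.node (.node (topPar_p1100) (topPar_p1101)) (.node (topPar_p1110) (topPar_p1111))))

/-- Part of `topFac`. -/
def topFac_p00000 : Tr := .node (.node (.node (.node (.node (.node (.node (.node (.node (.leaf 1) (.leaf 30928095)) (.node (.leaf 5412) (.leaf 131894034))) (.node (.node (.leaf 3392) (.leaf 5403)) (.leaf 63086080))) (.node (.node (.node (.leaf 1846) (.leaf 4554)) (.leaf 123611220)) (.node (.node (.leaf 73167034) (.leaf 5956)) (.leaf 1824)))) (.node (.node (.node (.node (.leaf 963) (.leaf 61131938)) (.leaf 30708955)) (.node (.node (.leaf 21632839) (.leaf 2319530)) (.leaf 942))) (.node (.node (.node (.leaf 2659) (.leaf 146883911)) (.leaf 29886427)) (.node (.node (.leaf 110164585) (.leaf 54184732)) (.leaf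 2647))))) (.node (.node (.node (.node (.node (.leaf 496) (.leaf 3696)) (.leaf 12646298)) (.node (.node (.leaf 3516314) (.leaf 33631635)) (.leaf 473))) (.node (.node (.node (.leaf 122819922) (.leaf 131730075)) (.leaf 15803473)) (.node (.node (.leaf 47951777) (.leaf 10168822)) (.leaf 2246)))) (.node (.node (.node (.node (.leaf 1413) (.leaf 55463039)) (.leaf 5878)) (.node (.node (.leaf 50088761) (.leaf 9436466)) (.leaf 1393))) (.node (.node (.node (.leaf 3048) (.leaf 28303667)) (.leaf 149433330)) (.node (.node (.leaf 11549769) (.leaf 44587878)) (.leaf 3027)))))) (.node (.node (.node (.node (.node (.node (.leaf 248) (.leaf 29329004)) (.leaf 5502)) (.node (.node (.leaf 56035459) (.leaf 139622427)) (.leaf 225))) (.node (.node (.node (.leaf 2053) (.leaf 4671)) (.leaf 110610512)) (.node (.node (.leaf 3707407) (.leaf 133745100)) (.leaf 2035)))) (.node (.node (.node (.node (.leaf 53034370) (.leaf 4146)) (.leaf 582)) (.node (.node (.leaf 4163) (.leaf 127883636)) (.leaf 1169))) (.node (.node (.node (.leaf 2859) (.leaf 99053659))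 (.leaf 1477380)) (.node (.node (.leaf 79601617) (.leaf 137061339)) (.leaf 2843))))) (.node (.node (.node (.node (.node (.leaf 731) (.leaf 120596464)) (.leaf 517)) (.node (.node (.leaf 24107599) (.leaf 34)) (.leaf 708))) (.node (.node (.node (.leaf 2460) (.leaf 4894)) (.leaf 76758826)) (.node (.node (.leaf 4909) (.leaf 129881055)) (.leaf 2444)))) (.node (.node (.node (.node (.leaf 65) (.leaf 4427)) (.leaf 15234140)) (.node (.node (.leaf 4440) (.leaf 58847169)) (.leaf 1614))) (.node (.node (.node (.leaf 3226) (.leaf 88060739)) (.leaf 75244634)) (.node (.node (.leaf 114966870) (.leaf 96780503)) (.leaf 3215))))))) (.node (.node (.node (.node (.node (.node (.node (.leaf 125) (.leaf 119311020)) (.leaf 150260774)) (.node (.node (.leaf 3475) (.leaf 108395001)) (.leaf 104))) (.node (.node (.node (.leaf 1948) (.leaf 4606)) (.leaf 5983)) (.node (.node (.leaf 143387214) (.leaf 11656285)) (.leaf 50948368)))) (.node (.node (.node (.node (.leaf 1077) (.leaf 74464323)) (.leaf 68586024)) (.node (.node (.leaf 4088) (.leaf 58250931))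 (.leaf 1057))) (.node (.node (.node (.leaf 2760) (.leaf 5057)) (.leaf 14695680)) (.node (.node (.leaf 5065) (.leaf 106801787)) (.leaf 75706795))))) (.node (.node (.node (.node (.node (.leaf 35176000) (.leaf 17590985)) (.leaf 55220394)) (.node (.node (.leaf 3783) (.leaf 44321132)) (.leaf 595))) (.node (.node (.node (.leaf 2366) (.leaf 4835)) (.leaf 6063)) (.node (.node (.leaf 4844) (.leaf 127782796)) (.leaf 2348)))) (.node (.node (.node (.node (.leaf 140714495) (.leaf 4365)) (.leaf 5903)) (.node (.node (.leaf 12998945) (.leaf 103040524)) (.leaf 1507))) (.node (.node (.node (.leaf 135789224) (.leaf 125149319)) (.leaf 44333341)) (.node (.node (.leaf 58146031) (.leaf 50608410)) (.leaf 3121)))))) (.node (.node (.node (.node (.node (.node (.leaf 373) (.leaf 3614)) (.leaf 27040315)) (.node (.node (.leaf 119164523) (.leaf 5537)) (.leaf 350))) (.node (.node (.node (.leaf 92876763) (.leaf 11343845)) (.leaf 99396811)) (.node (.node (.leaf 4736) (.leaf 44488668)) (.leaf 2142)))) (.node (.node (.node (.node (.leaf 1299) (.leaf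 111980501)) (.leaf 142928344)) (.node (.node (.leaf 4238) (.leaf 17069899)) (.leaf 69132390))) (.node (.node (.node (.leaf 110169753) (.leaf 5166)) (.leaf 35303479)) (.node (.node (.leaf 139259271) (.leaf 113326169)) (.leaf 2939))))) (.node (.node (.node (.node (.node (.leaf 846) (.leaf 51767405)) (.leaf 41104375)) (.node (.node (.leaf 3929) (.leaf 32951442)) (.leaf 825))) (.node (.node (.node (.leaf 2558) (.leaf 29744420)) (.leaf 144218482)) (.node (.node (.leaf 141423639) (.leaf 32865112)) (.leaf 2542)))) (.node (.node (.node (.node (.leaf 1734) (.leaf 4486)) (.leaf 148956430)) (.node (.node (.leaf 4495) (.leaf 9782159)) (.leaf 13556929))) (.node (.node (.node (.leaf 3312) (.leaf 130739357)) (.leaf 127940147)) (.node (.node (.leaf 5371) (.leaf 122589440)) (.leaf 3295)))))))) (.node (.node (.node (.node (.node (.node (.node (.node (.leaf 64) (.leaf 3416)) (.leaf 48508506)) (.node (.node (.leaf 3432) (.leaf 124610753)) (.leaf 41))) (.node (.node (.node (.leaf 1899) (.leaf 4579)) (.leaf 15696329)) (.node (.node (.leaf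 78481213) (.leaf 16465147)) (.leaf 1883)))) (.node (.node (.node (.node (.leaf 1019) (.leaf 4034)) (.leaf 92083960)) (.node (.node (.leaf 4048) (.leaf 51891186)) (.leaf 999))) (.node (.node (.node (.leaf 2713) (.leaf 5030)) (.leaf 72713489)) (.node (.node (.leaf 50161157) (.leaf 130927357)) (.leaf 2691))))) (.node (.node (.node (.node (.node (.leaf 558) (.leaf 3730)) (.leaf 109998113)) (.node (.node (.leaf 3747) (.leaf 60872132)) (.leaf 536))) (.node (.node (.node (.leaf 2318) (.leaf 4813)) (.leaf 49932459)) (.node (.node (.leaf 150348323) (.leaf 9825908)) (.leaf 2298)))) (.node (.node (.node (.node (.leaf 78403025) (.leaf 4332)) (.leaf 38562715)) (.node (.node (.leaf 91814893) (.leaf 56535651)) (.leaf 1451))) (.node (.node (.node (.leaf 3089) (.leaf 127780385)) (.leaf 104550461)) (.node (.node (.leaf 399) (.leaf 52288913)) (.leaf 3072)))))) (.node (.node (.node (.node (.node (.node (.leaf 311) (.leaf 3576)) (.leaf 5522)) (.node (.node (.leaf 3590) (.leaf 5514)) (.leaf 288))) (.node (.node (.node (.leaf 58410028) (.leaf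 44304982)) (.leaf 108380754)) (.node (.node (.leaf 4711) (.leaf 92708566)) (.leaf 2089)))) (.node (.node (.node (.node (.leaf 1241) (.leaf 59753153)) (.leaf 5831)) (.node (.node (.leaf 4198) (.leaf 116285073)) (.leaf 1220))) (.node (.node (.node (.leaf 2907) (.leaf 5140)) (.leaf 1068)) (.node (.node (.leaf 58591246) (.leaf 92912846)) (.leaf 2892))))) (.node (.node (.node (.node (.node (.leaf 787) (.leaf 63862802)) (.leaf 117090594)) (.node (.node (.leaf 3890) (.leaf 135496744)) (.leaf 769))) (.node (.node (.node (.leaf 2511) (.leaf 37284024)) (.leaf 886)) (.node (.node (.leaf 133973474) (.leaf 6080)) (.leaf 2493)))) (.node (.node (.node (.node (.leaf 1683) (.leaf 4459)) (.leaf 44359743)) (.node (.node (.leaf 123672334) (.leaf 44896755)) (.leaf 49377865))) (.node (.node (.node (.leaf 116954216) (.leaf 61044512)) (.leaf 11379956)) (.node (.node (.leaf 5350) (.leaf 84899098)) (.leaf 3255))))))) (.node (.node (.node (.node (.node (.node (.node (.leaf 187) (.leaf 122112791)) (.leaf 81757095)) (.node (.node (.leaf 3516)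 (.leaf 119178073)) (.leaf 164))) (.node (.node (.node (.leaf 1997) (.leaf 76589106)) (.leaf 5992)) (.node (.node (.leaf 99091028) (.leaf 50523524)) (.leaf 55231945)))) (.node (.node (.node (.node (.leaf 16449366) (.leaf 57074664)) (.leaf 69701257)) (.node (.node (.leaf 52822189) (.leaf 14857586)) (.leaf 1111))) (.node (.node (.node (.leaf 146156294) (.leaf 30581396)) (.leaf 22493197)) (.node (.node (.leaf 31609105) (.leaf 136452280)) (.leaf 120918548))))) (.node (.node (.node (.node (.node (.leaf 675) (.leaf 48371037)) (.leaf 107974155)) (.node (.node (.leaf 3826) (.leaf 147847434)) (.leaf 653))) (.node (.node (.node (.leaf 2416) (.leaf 104561448)) (.leaf 99424899)) (.node (.node (.leaf 4875) (.leaf 145219021)) (.leaf 2399)))) (.node (.node (.node (.node (.leaf 1582) (.leaf 23860759)) (.leaf 130524522)) (.node (.node (.leaf 17831430) (.leaf 26678307)) (.leaf 1560))) (.node (.node (.node (.leaf 3184) (.leaf 130204480)) (.leaf 23515435)) (.node (.node (.leaf 28800555) (.leaf 78084309)) (.leaf 3166)))))) (.node (.node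 (.node (.node (.node (.node (.leaf 435) (.leaf 58424028)) (.leaf 40548330)) (.node (.node (.leaf 3672) (.leaf 139135753)) (.leaf 413))) (.node (.node (.node (.leaf 93855394) (.leaf 81186146)) (.leaf 147441541)) (.node (.node (.leaf 4762) (.leaf 30194215)) (.leaf 2193)))) (.node (.node (.node (.node (.leaf 1357) (.leaf 4262)) (.leaf 5861)) (.node (.node (.leaf 4276) (.leaf 150522499)) (.leaf 1337))) (.node (.node (.node (.leaf 664) (.leaf 5193)) (.leaf 78802518)) (.node (.node (.leaf 75838165) (.leaf 44956395)) (.leaf 2986))))) (.node (.node (.node (.node (.node (.leaf 904) (.leaf 131310418)) (.leaf 5716)) (.node (.node (.leaf 3969) (.leaf 42266462)) (.leaf 883))) (.node (.node (.node (.leaf 2610) (.leaf 4975)) (.leaf 41712857)) (.node (.node (.leaf 4981) (.leaf 31635020)) (.leaf 2590)))) (.node (.node (.node (.node (.leaf 1791) (.leaf 4514)) (.leaf 696)) (.node (.node (.leaf 116333333) (.leaf 16874922)) (.leaf 1771))) (.node (.node (.node (.leaf 3350) (.leaf 5386)) (.leaf 90707717)) (.node (.node (.leaf 97790995) (.leaf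 10742)) (.leaf 65822060))))))))

/-- Part of `topFac`. -/
def topFac_p00001 : Tr := .node (.node (.node (.node (.node (.node (.node (.node (.node (.leaf 32) (.leaf 3399)) (.node (.leaf 5428) (.leaf 133534798))) (.node (.node (.leaf 112563775) (.leaf 5416)) (.leaf 10))) (.node (.node (.node (.leaf 106850429) (.leaf 68793329)) (.leaf 5967)) (.node (.node (.leaf 130804348) (.leaf 5964)) (.leaf 1855)))) (.node (.node (.node (.node (.leaf 991) (.leaf 65851590)) (.leaf 9668538)) (.node (.node (.leaf 4028) (.leaf 32065257)) (.leaf 969))) (.node (.node (.node (.leaf 2684) (.leaf 59754045)) (.leaf 87517500)) (.node (.node (.leaf 38085515) (.leaf 39927087)) (.leaf 2665))))) (.node (.node (.node (.node (.node (.leaf 528) (.leaf 56961874)) (.leaf 99479730)) (.node (.node (.leaf 3726) (.leaf 133933366)) (.leaf 505))) (.node (.node (.node (.leaf 2289) (.leaf 135330835)) (.leaf 135236331)) (.node (.node (.leaf 4808) (.leaf 5426)) (.leaf 2271)))) (.node (.node (.node (.node (.leaf 1442) (.leaf 23727648)) (.leaf 5885)) (.node (.node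 (.leaf 47280285) (.leaf 81759619)) (.leaf 1420))) (.node (.node (.node (.leaf 3066) (.leaf 5229)) (.leaf 101024616)) (.node (.node (.leaf 395) (.leaf 74134141)) (.leaf 77832228)))))) (.node (.node (.node (.node (.node (.node (.leaf 279) (.leaf 3557)) (.leaf 5511)) (.node (.node (.leaf 180) (.leaf 85273267)) (.leaf 257))) (.node (.node (.node (.leaf 2081) (.leaf 4688)) (.leaf 90318498)) (.node (.node (.leaf 14859032) (.leaf 6004)) (.leaf 2062)))) (.node (.node (.node (.node (.leaf 1211) (.leaf 4169)) (.leaf 5822)) (.node (.node (.leaf 233) (.leaf 5812)) (.leaf 1194))) (.node (.node (.node (.leaf 2886) (.leaf 5126)) (.leaf 33928943)) (.node (.node (.leaf 5139) (.leaf 118774037)) (.leaf 2868))))) (.node (.node (.node (.node (.node (.leaf 760) (.leaf 21671518)) (.leaf 5670)) (.node (.node (.leaf 3880) (.leaf 5664)) (.leaf 739))) (.node (.node (.node (.leaf 2486) (.leaf 4912)) (.leaf 97757105)) (.node (.node (.leaf 4921) (.leaf 53329094)) (.leaf 2468)))) (.node (.node (.node (.node (.leaf 1657) (.leaf 57512382)) (.leaf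 67628214)) (.node (.node (.leaf 4457) (.leaf 107508010)) (.leaf 78476885))) (.node (.node (.node (.leaf 3248) (.leaf 5333)) (.leaf 130165953)) (.node (.node (.leaf 97296487) (.leaf 91075533)) (.leaf 3232))))))) (.node (.node (.node (.node (.node (.node (.node (.leaf 155) (.leaf 3483)) (.leaf 24547023)) (.node (.node (.leaf 3497) (.leaf 111462492)) (.leaf 134))) (.node (.node (.node (.leaf 453) (.leaf 4618)) (.leaf 37215866)) (.node (.node (.leaf 4633) (.leaf 81306795)) (.leaf 1954)))) (.node (.node (.node (.node (.leaf 1105) (.leaf 4097)) (.leaf 83631069)) (.node (.node (.leaf 126281623) (.leaf 5773)) (.leaf 1085))) (.node (.node (.node (.leaf 2784) (.leaf 5070)) (.leaf 6129)) (.node (.node (.leaf 5084) (.leaf 68730432)) (.leaf 2766))))) (.node (.node (.node (.node (.node (.leaf 645) (.leaf 3789)) (.leaf 29182741)) (.node (.node (.leaf 28750800) (.leaf 80509490)) (.leaf 624))) (.node (.node (.node (.leaf 2391) (.leaf 5648551)) (.leaf 6067)) (.node (.node (.leaf 110584785) (.leaf 48472097)) (.leaf 2218031)))) (.node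 (.node (.node (.node (.leaf 1551) (.leaf 4382)) (.leaf 24374)) (.node (.node (.leaf 66937692) (.leaf 40778901)) (.leaf 1533))) (.node (.node (.node (.leaf 3160) (.leaf 142884989)) (.leaf 116844835)) (.node (.node (.leaf 20898374) (.leaf 118275105)) (.leaf 110537978)))))) (.node (.node (.node (.node (.node (.node (.leaf 404) (.leaf 3636)) (.leaf 475)) (.node (.node (.leaf 118364124) (.leaf 28726708)) (.leaf 381))) (.node (.node (.node (.leaf 2186) (.leaf 146628211)) (.leaf 119179703)) (.node (.node (.leaf 4746) (.leaf 82744944)) (.leaf 2168)))) (.node (.node (.node (.node (.leaf 1328) (.leaf 8486507)) (.leaf 33228999)) (.node (.node (.leaf 4256) (.leaf 70934787)) (.leaf 1308))) (.node (.node (.node (.leaf 55761799) (.leaf 5180)) (.leaf 102078372)) (.node (.node (.leaf 5188) (.leaf 123646370)) (.leaf 66947058))))) (.node (.node (.node (.node (.node (.leaf 875) (.leaf 3935)) (.leaf 5709)) (.node (.node (.leaf 140126685) (.leaf 32895149)) (.leaf 855))) (.node (.node (.node (.leaf 2583) (.leaf 38096967)) (.leaf 78813500))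 (.node (.node (.leaf 4969) (.leaf 69921781)) (.leaf 2565)))) (.node (.node (.node (.node (.leaf 1763) (.leaf 4499)) (.leaf 131435107)) (.node (.node (.leaf 4508) (.leaf 100938415)) (.leaf 130926926))) (.node (.node (.node (.leaf 3331) (.leaf 5376)) (.leaf 73301692)) (.node (.node (.leaf 105241128) (.leaf 131054896)) (.leaf 123892153)))))))) (.node (.node (.node (.node (.node (.node (.node (.node (.leaf 95) (.leaf 3438)) (.leaf 5452)) (.node (.node (.leaf 3453) (.leaf 5441)) (.leaf 73))) (.node (.node (.node (.leaf 1927) (.leaf 4594)) (.leaf 135305640)) (.node (.node (.leaf 4603) (.leaf 106477791)) (.leaf 137950800)))) (.node (.node (.node (.node (.leaf 1049) (.leaf 11807542)) (.leaf 5761)) (.node (.node (.leaf 4069) (.leaf 82274231)) (.leaf 1026))) (.node (.node (.node (.leaf 2737) (.leaf 5045)) (.leaf 6123)) (.node (.node (.leaf 5051) (.leaf 12079075)) (.leaf 2721))))) (.node (.node (.node (.node (.node (.leaf 587) (.leaf 45280086)) (.leaf 497)) (.node (.node (.leaf 3766) (.leaf 130952670)) (.leaf 86529068))) (.node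 (.node (.node (.leaf 2342) (.leaf 61221646)) (.leaf 81899190)) (.node (.node (.leaf 4832) (.leaf 6047)) (.leaf 2325)))) (.node (.node (.node (.node (.leaf 1500) (.leaf 41042679)) (.leaf 97161411)) (.node (.node (.leaf 56851973) (.leaf 40170896)) (.leaf 1480))) (.node (.node (.node (.leaf 3112) (.leaf 30149626)) (.leaf 58671641)) (.node (.node (.leaf 36895001) (.leaf 63861903)) (.leaf 60194772)))))) (.node (.node (.node (.node (.node (.node (.leaf 112242632) (.leaf 3595)) (.leaf 31751625)) (.node (.node (.leaf 3606) (.leaf 5527)) (.leaf 319))) (.node (.node (.node (.leaf 2133) (.leaf 57418791)) (.leaf 53998748)) (.node (.node (.leaf 4724) (.leaf 28634593)) (.leaf 2115)))) (.node (.node (.node (.node (.leaf 95492832) (.leaf 4204)) (.leaf 5838)) (.node (.node (.leaf 4221) (.leaf 56905365)) (.leaf 1248))) (.node (.node (.node (.leaf 2931) (.leaf 72647387)) (.leaf 6140)) (.node (.node (.leaf 10500111) (.leaf 119961437)) (.leaf 2912))))) (.node (.node (.node (.node (.node (.leaf 79899394) (.leaf 15750720)) (.leaf 5686))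 (.node (.node (.leaf 143171827) (.leaf 97103659)) (.leaf 795))) (.node (.node (.node (.leaf 111) (.leaf 4936)) (.leaf 12863374)) (.node (.node (.leaf 149201091) (.leaf 147804618)) (.leaf 2518)))) (.node (.node (.node (.node (.leaf 1708) (.leaf 76101837)) (.leaf 5934)) (.node (.node (.leaf 4481) (.leaf 46582852)) (.leaf 65279321))) (.node (.node (.node (.leaf 82398621) (.leaf 5354)) (.leaf 10959784)) (.node (.node (.leaf 15262179) (.leaf 147416878)) (.leaf 3276))))))) (.node (.node (.node (.node (.node (.node (.node (.leaf 217) (.leaf 145842880)) (.leaf 38862014)) (.node (.node (.leaf 43468228) (.leaf 522584)) (.leaf 196))) (.node (.node (.node (.leaf 2027) (.leaf 19186624)) (.leaf 6000)) (.node (.node (.leaf 123787531) (.leaf 5994)) (.leaf 2006)))) (.node (.node (.node (.node (.leaf 1160) (.leaf 4128)) (.leaf 128195795)) (.node (.node (.leaf 4141) (.leaf 33019771)) (.leaf 1139))) (.node (.node (.node (.leaf 15557458) (.leaf 5101)) (.leaf 70028952)) (.node (.node (.leaf 5108) (.leaf 118939232)) (.leaf 2817))))) (.node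 (.node (.node (.node (.node (.leaf 700) (.leaf 138424769)) (.leaf 5648)) (.node (.node (.leaf 105774532) (.leaf 24494135)) (.leaf 681))) (.node (.node (.node (.leaf 2437) (.leaf 4877)) (.leaf 4315269)) (.node (.node (.leaf 57259100) (.leaf 82513410)) (.leaf 2423)))) (.node (.node (.node (.node (.leaf 1605) (.leaf 4408)) (.leaf 6930899)) (.node (.node (.leaf 69146019) (.leaf 5913)) (.leaf 1589))) (.node (.node (.node (.leaf 147450680) (.leaf 122599822)) (.leaf 21458754)) (.node (.node (.leaf 5312) (.leaf 27949027)) (.leaf 3192)))))) (.node (.node (.node (.node (.node (.node (.leaf 465) (.leaf 82370333)) (.leaf 91837188)) (.node (.node (.leaf 3693) (.leaf 24952795)) (.leaf 444))) (.node (.node (.node (.leaf 2239) (.leaf 144735475)) (.leaf 9036021)) (.node (.node (.leaf 4778) (.leaf 147332646)) (.leaf 2220)))) (.node (.node (.node (.node (.leaf 1387) (.leaf 132381384)) (.leaf 21489298)) (.node (.node (.leaf 4298) (.leaf 5864)) (.leaf 1366))) (.node (.node (.node (.leaf 3023) (.leaf 24080277)) (.leaf 1153)) (.node (.node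 (.leaf 5215) (.leaf 24362688)) (.leaf 3004))))) (.node (.node (.node (.node (.node (.leaf 934) (.leaf 12695408)) (.leaf 544)) (.node (.node (.leaf 216) (.leaf 128425426)) (.leaf 912))) (.node (.node (.node (.leaf 123374330) (.leaf 4983)) (.leaf 46138915)) (.node (.node (.leaf 140440972) (.leaf 123658058)) (.leaf 2619)))) (.node (.node (.node (.node (.leaf 1817) (.leaf 4533)) (.leaf 119000231)) (.node (.node (.leaf 4549) (.leaf 145681292)) (.leaf 22901857))) (.node (.node (.node (.leaf 3372) (.leaf 74924994)) (.leaf 86718358)) (.node (.node (.leaf 10012021) (.leaf 4246685)) (.leaf 3356))))))))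

/-- Part of `topFac`. -/
def topFac_p00010 : Tr := .node (.node (.node (.node (.node (.node (.node (.node (.node (.leaf 17) (.leaf 3387)) (.node (.leaf 5421) (.leaf 22087352))) (.node (.node (.leaf 88014340) (.leaf 112601632)) (.leaf 142532512))) (.node (.node (.node (.leaf 143713523) (.leaf 80720500)) (.leaf 31082936)) (.node (.node (.leaf 4570) (.leaf 100782286)) (.leaf 1839)))) (.node (.node (.node (.node (.leaf 39774247) (.leaf 4008)) (.leaf 5742)) (.node (.node (.leaf 4018) (.leaf 4306305)) (.leaf 123373169))) (.node (.node (.node (.leaf 63825963) (.leaf 5008)) (.leaf 6110)) (.node (.node (.leaf 5017) (.leaf 92073986)) (.leaf 39080487))))) (.node (.node (.node (.node (.node (.leaf 512) (.leaf 3704)) (.leaf 1937261)) (.node (.node (.leaf 192) (.leaf 5582)) (.leaf 489))) (.node (.node (.node (.leaf 2276) (.leaf 4790)) (.leaf 57259580)) (.node (.node (.leaf 63466797) (.leaf 325265)) (.leaf 2259)))) (.node (.node (.node (.node (.leaf 1426) (.leaf 4311)) (.leaf 88668482)) (.node (.node (.leaf 61043482) (.leaf 59658040))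 (.leaf 1406))) (.node (.node (.node (.leaf 125084363) (.leaf 35364220)) (.leaf 68189920)) (.node (.node (.leaf 124475726) (.leaf 63800513)) (.leaf 3042)))))) (.node (.node (.node (.node (.node (.node (.leaf 263) (.leaf 148422128)) (.leaf 5506)) (.node (.node (.leaf 3563) (.leaf 9528131)) (.leaf 241))) (.node (.node (.node (.leaf 2068) (.leaf 4679)) (.leaf 19263719)) (.node (.node (.leaf 51344817) (.leaf 112804244)) (.leaf 37490862)))) (.node (.node (.node (.node (.leaf 1199) (.leaf 4157)) (.leaf 23350703)) (.node (.node (.leaf 4173) (.leaf 86532036)) (.leaf 1181))) (.node (.node (.node (.leaf 2872) (.leaf 38201605)) (.leaf 49363239)) (.node (.node (.leaf 28898211) (.leaf 123305875)) (.leaf 2854))))) (.node (.node (.node (.node (.node (.leaf 744) (.leaf 130614347)) (.leaf 5665)) (.node (.node (.leaf 47989579) (.leaf 141901092)) (.leaf 724))) (.node (.node (.node (.leaf 2472) (.leaf 4905)) (.leaf 144737984)) (.node (.node (.leaf 4915) (.leaf 30426848)) (.leaf 136817)))) (.node (.node (.node (.node (.leaf 1645) (.leaf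 34505150)) (.leaf 119688057)) (.node (.node (.leaf 33471077) (.leaf 5919)) (.leaf 1626))) (.node (.node (.node (.leaf 116035761) (.leaf 5326)) (.leaf 34327759)) (.node (.node (.leaf 61158652) (.leaf 2578617)) (.leaf 3223))))))) (.node (.node (.node (.node (.node (.node (.node (.leaf 141) (.leaf 3469)) (.leaf 5469)) (.node (.node (.leaf 3488) (.leaf 5459)) (.leaf 118))) (.node (.node (.node (.leaf 1959) (.leaf 4613)) (.leaf 75588086)) (.node (.node (.leaf 24361403) (.leaf 5981)) (.leaf 1945)))) (.node (.node (.node (.node (.leaf 1091) (.leaf 79458259)) (.leaf 5776)) (.node (.node (.leaf 4100) (.leaf 39059359)) (.leaf 1070))) (.node (.node (.node (.leaf 2772) (.leaf 145800809)) (.leaf 110671725)) (.node (.node (.leaf 364) (.leaf 28929542)) (.leaf 136659093))))) (.node (.node (.node (.node (.node (.leaf 631) (.leaf 3779)) (.leaf 2305613)) (.node (.node (.leaf 3794) (.leaf 77096370)) (.leaf 610))) (.node (.node (.node (.leaf 2378) (.leaf 4841)) (.leaf 107559200)) (.node (.node (.leaf 10045061) (.leaf 6061)) (.leaf 2359))))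 (.node (.node (.node (.node (.leaf 1539) (.leaf 4374)) (.leaf 123321957)) (.node (.node (.leaf 63016271) (.leaf 11378556)) (.leaf 1519))) (.node (.node (.node (.leaf 3147) (.leaf 145985601)) (.leaf 23225584)) (.node (.node (.leaf 93543245) (.leaf 69672001)) (.leaf 3132)))))) (.node (.node (.node (.node (.node (.node (.leaf 388) (.leaf 3623)) (.leaf 5544)) (.node (.node (.leaf 76176718) (.leaf 59199778)) (.leaf 366))) (.node (.node (.node (.leaf 102049238) (.leaf 25582520)) (.leaf 6029)) (.node (.node (.leaf 82239958) (.leaf 63644168)) (.leaf 2155)))) (.node (.node (.node (.node (.leaf 1312) (.leaf 84013314)) (.leaf 132954311)) (.node (.node (.leaf 16851832) (.leaf 70377491)) (.leaf 1292))) (.node (.node (.node (.leaf 2968) (.leaf 5173)) (.leaf 124273833)) (.node (.node (.leaf 5184) (.leaf 57632424)) (.leaf 2953))))) (.node (.node (.node (.node (.node (.leaf 860) (.leaf 40675946)) (.leaf 109646572)) (.node (.node (.leaf 3938) (.leaf 86071092)) (.leaf 839))) (.node (.node (.node (.leaf 2571) (.leaf 29500950)) (.leaf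 120194886)) (.node (.node (.leaf 121013308) (.leaf 79453087)) (.leaf 2555)))) (.node (.node (.node (.node (.leaf 1747) (.leaf 137667647)) (.leaf 142998847)) (.node (.node (.leaf 4501) (.leaf 53991215)) (.leaf 1727))) (.node (.node (.node (.leaf 3321) (.leaf 116751849)) (.leaf 44581443)) (.node (.node (.leaf 132736805) (.leaf 46188369)) (.leaf 3308)))))))) (.node (.node (.node (.node (.node (.node (.node (.node (.leaf 80) (.leaf 76932356)) (.leaf 127064723)) (.node (.node (.leaf 3443) (.leaf 96082973)) (.leaf 57))) (.node (.node (.node (.leaf 1912) (.leaf 130837486)) (.leaf 57366638)) (.node (.node (.leaf 4596) (.leaf 71299901)) (.leaf 1894)))) (.node (.node (.node (.node (.leaf 1033) (.leaf 46509111)) (.leaf 148973866)) (.node (.node (.leaf 4056) (.leaf 123913043)) (.leaf 1013))) (.node (.node (.node (.leaf 2726) (.leaf 5052783)) (.leaf 85906277)) (.node (.node (.leaf 4559276) (.leaf 93046016)) (.leaf 2707))))) (.node (.node (.node (.node (.node (.leaf 573) (.leaf 3742)) (.leaf 91534903)) (.node (.node (.leaf 110467010)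 (.leaf 5599)) (.leaf 551))) (.node (.node (.node (.leaf 2330) (.leaf 107486863)) (.leaf 135324735)) (.node (.node (.leaf 108510276) (.leaf 44793746)) (.leaf 2311)))) (.node (.node (.node (.node (.leaf 1485) (.leaf 4339)) (.leaf 26455509)) (.node (.node (.leaf 4352) (.leaf 105199456)) (.leaf 1467))) (.node (.node (.node (.leaf 3101) (.leaf 15343121)) (.leaf 94164289)) (.node (.node (.leaf 5263) (.leaf 136846954)) (.leaf 3084)))))) (.node (.node (.node (.node (.node (.node (.leaf 326) (.leaf 3587)) (.leaf 5531)) (.node (.node (.leaf 3599) (.leaf 68003027)) (.leaf 304))) (.node (.node (.node (.leaf 2120) (.leaf 103985587)) (.leaf 12138692)) (.node (.node (.leaf 59919102) (.leaf 113891644)) (.leaf 2101)))) (.node (.node (.node (.node (.leaf 1254) (.leaf 19105581)) (.leaf 29403657)) (.node (.node (.leaf 4208) (.leaf 5829)) (.leaf 1235))) (.node (.node (.node (.leaf 2919) (.leaf 100762133)) (.leaf 55174740)) (.node (.node (.leaf 89548346) (.leaf 53012014)) (.leaf 2902))))) (.node (.node (.node (.node (.node (.leaf 802) (.leaf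 3887)) (.leaf 21064075)) (.node (.node (.leaf 3903) (.leaf 17589008)) (.leaf 68787924))) (.node (.node (.node (.leaf 2525) (.leaf 32383451)) (.leaf 6085)) (.node (.node (.leaf 4940) (.leaf 66068637)) (.leaf 2506)))) (.node (.node (.node (.node (.leaf 1695) (.leaf 61047209)) (.leaf 5931)) (.node (.node (.leaf 4475) (.leaf 57169060)) (.leaf 1677))) (.node (.node (.node (.leaf 3281) (.leaf 79047675)) (.leaf 94488440)) (.node (.node (.leaf 5356) (.leaf 143145465)) (.leaf 115303336))))))) (.node (.node (.node (.node (.node (.node (.node (.leaf 203) (.leaf 3512)) (.leaf 23144184)) (.node (.node (.leaf 3524) (.leaf 138467654)) (.leaf 180))) (.node (.node (.node (.leaf 2013) (.leaf 93981655)) (.leaf 42995622)) (.node (.node (.leaf 54803910) (.leaf 104153123)) (.leaf 1990)))) (.node (.node (.node (.node (.leaf 1146) (.leaf 73749489)) (.leaf 128041536)) (.node (.node (.leaf 4132) (.leaf 118422014)) (.leaf 1126))) (.node (.node (.node (.leaf 2824) (.leaf 21907977)) (.leaf 74859180)) (.node (.node (.leaf 140332579) (.leaf 6131))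 (.leaf 2806))))) (.node (.node (.node (.node (.node (.leaf 687) (.leaf 3822)) (.leaf 119832047)) (.node (.node (.leaf 7265702) (.leaf 66333799)) (.leaf 668))) (.node (.node (.node (.leaf 146045100) (.leaf 4870)) (.leaf 24712512)) (.node (.node (.leaf 4882) (.leaf 98138451)) (.leaf 139613667)))) (.node (.node (.node (.node (.leaf 63) (.leaf 140974379)) (.leaf 126895737)) (.node (.node (.leaf 4411) (.leaf 21797298)) (.leaf 1575))) (.node (.node (.node (.leaf 3197) (.leaf 23942821)) (.leaf 104367825)) (.node (.node (.leaf 413) (.leaf 11451639)) (.leaf 3177)))))) (.node (.node (.node (.node (.node (.node (.leaf 450) (.leaf 3668)) (.leaf 5569)) (.node (.node (.leaf 103522611) (.leaf 5557)) (.leaf 428))) (.node (.node (.node (.leaf 2226) (.leaf 148003448)) (.leaf 27964235)) (.node (.node (.leaf 85897378) (.leaf 92590159)) (.leaf 2207)))) (.node (.node (.node (.node (.leaf 28139234) (.leaf 103359543)) (.leaf 10900598)) (.node (.node (.leaf 4287) (.leaf 3698571)) (.leaf 1352))) (.node (.node (.node (.leaf 3009) (.leaf 16262754))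 (.leaf 38978876)) (.node (.node (.leaf 5569131) (.leaf 113836532)) (.leaf 2997))))) (.node (.node (.node (.node (.node (.leaf 919) (.leaf 3965)) (.leaf 5720)) (.node (.node (.leaf 3980) (.leaf 93971574)) (.leaf 897))) (.node (.node (.node (.leaf 2625) (.leaf 89579798)) (.leaf 100393019)) (.node (.node (.leaf 4987) (.leaf 6098)) (.leaf 2603)))) (.node (.node (.node (.node (.leaf 1804) (.leaf 4523)) (.leaf 698)) (.node (.node (.leaf 4538) (.leaf 8234400)) (.leaf 1785))) (.node (.node (.node (.leaf 52862950) (.leaf 5391)) (.leaf 139463233)) (.node (.node (.leaf 71096159) (.leaf 52903785)) (.leaf 3344))))))))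

/-- Part of `topFac`. -/
def topFac_p00011 : Tr := .node (.node (.node (.node (.node (.node (.node (.node (.node (.leaf 48) (.leaf 3409)) (.leaf 25946035)) (.node (.node (.leaf 20889385) (.leaf 30581222)) (.leaf 26))) (.node (.node (.node (.leaf 1889) (.leaf 31410319)) (.leaf 35059806)) (.node (.node (.leaf 4582) (.leaf 63829750)) (.leaf 1868)))) (.node (.node (.node (.node (.leaf 1005) (.leaf 38515085)) (.leaf 5751)) (.node (.node (.leaf 4039) (.leaf 5744)) (.leaf 984))) (.node (.node (.node (.leaf 2698) (.leaf 73079852)) (.leaf 6117)) (.node (.node (.leaf 129564205) (.leaf 16461041)) (.leaf 2678))))) (.node (.node (.node (.node (.node (.leaf 543) (.leaf 3721)) (.leaf 150271369)) (.node (.node (.leaf 3734) (.leaf 5592)) (.leaf 521))) (.node (.node (.node (.leaf 2303) (.leaf 35726386)) (.leaf 6042)) (.node (.node (.leaf 4817) (.leaf 8073342)) (.leaf 2284)))) (.node (.node (.node (.node (.leaf 1458) (.leaf 4324)) (.leaf 12065018)) (.node (.node (.leaf 4335) (.leaf 31946736)) (.leaf 1435))) (.node (.node (.node (.leaf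 26736216) (.leaf 5238)) (.leaf 53926292)) (.node (.node (.leaf 5246) (.leaf 4236762)) (.leaf 3063)))))) (.node (.node (.node (.node (.node (.node (.leaf 295) (.leaf 3570)) (.leaf 5517)) (.node (.node (.leaf 3581) (.leaf 5510)) (.leaf 272))) (.node (.node (.node (.leaf 101009493) (.leaf 4695)) (.leaf 85130719)) (.node (.node (.leaf 64069629) (.leaf 6010)) (.leaf 2077)))) (.node (.node (.node (.node (.leaf 1227) (.leaf 4177)) (.leaf 5827)) (.node (.node (.leaf 4187) (.leaf 3434643)) (.leaf 1206))) (.node (.node (.node (.leaf 2896) (.leaf 84225287)) (.leaf 22393797)) (.node (.node (.leaf 56528886) (.leaf 102930902)) (.leaf 68523868))))) (.node (.node (.node (.node (.node (.leaf 775) (.leaf 3875)) (.leaf 105037334)) (.node (.node (.leaf 3884) (.leaf 92536070)) (.leaf 753))) (.node (.node (.node (.leaf 2498) (.leaf 103985810)) (.leaf 106810508)) (.node (.node (.leaf 7652938) (.leaf 112483209)) (.leaf 87729945)))) (.node (.node (.node (.node (.leaf 1669) (.leaf 4452)) (.leaf 67034332)) (.node (.node (.leaf 28173526) (.leaf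 2377851)) (.leaf 1651))) (.node (.node (.node (.leaf 3258) (.leaf 128437345)) (.leaf 37131589)) (.node (.node (.leaf 16031642) (.leaf 76899325)) (.leaf 3241))))))) (.node (.node (.node (.node (.node (.node (.node (.leaf 171) (.leaf 3492)) (.leaf 5477)) (.node (.node (.leaf 122217986) (.leaf 5472)) (.leaf 149))) (.node (.node (.node (.leaf 1983) (.leaf 4628)) (.leaf 53218429)) (.node (.node (.leaf 115139495) (.leaf 5987)) (.leaf 1966)))) (.node (.node (.node (.node (.leaf 1118) (.leaf 145572037)) (.leaf 56400088)) (.node (.node (.leaf 31550444) (.leaf 37347007)) (.leaf 1099))) (.node (.node (.node (.leaf 2798) (.leaf 139563667)) (.leaf 90529139)) (.node (.node (.leaf 366) (.leaf 108967279)) (.leaf 1351))))) (.node (.node (.node (.node (.node (.leaf 660) (.leaf 3799)) (.leaf 8206747)) (.node (.node (.leaf 3814) (.leaf 30831371)) (.leaf 639))) (.node (.node (.node (.leaf 2405) (.leaf 114086788)) (.leaf 44409271)) (.node (.node (.leaf 4863) (.leaf 106005077)) (.leaf 2387)))) (.node (.node (.node (.node (.leaf 1567) (.leaf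 110537253)) (.leaf 5909)) (.node (.node (.leaf 110168876) (.leaf 42839294)) (.leaf 1544))) (.node (.node (.node (.leaf 3171) (.leaf 23695892)) (.leaf 96848025)) (.node (.node (.leaf 5297) (.leaf 112511372)) (.leaf 3155)))))) (.node (.node (.node (.node (.node (.node (.leaf 420) (.leaf 3646)) (.leaf 63417606)) (.node (.node (.leaf 3661) (.leaf 19672317)) (.leaf 397))) (.node (.node (.node (.leaf 2199) (.leaf 120109835)) (.leaf 1251218)) (.node (.node (.leaf 109178414) (.leaf 75766928)) (.leaf 2179)))) (.node (.node (.node (.node (.leaf 1343) (.leaf 41473341)) (.leaf 5857)) (.node (.node (.leaf 135325364) (.leaf 39828624)) (.leaf 1321))) (.node (.node (.node (.leaf 2993) (.leaf 21678739)) (.leaf 124234112)) (.node (.node (.leaf 88064147) (.leaf 76131022)) (.leaf 2976))))) (.node (.node (.node (.node (.node (.leaf 888) (.leaf 30971123)) (.leaf 145453245)) (.node (.node (.leaf 91160102) (.leaf 61904028)) (.leaf 869))) (.node (.node (.node (.leaf 2595) (.leaf 95142102)) (.leaf 129799046)) (.node (.node (.leaf 65257345)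 (.leaf 44944743)) (.leaf 2578)))) (.node (.node (.node (.node (.leaf 1777) (.leaf 84658851)) (.leaf 147035278)) (.node (.node (.leaf 4519) (.leaf 5941)) (.leaf 1756))) (.node (.node (.node (.leaf 65822055) (.leaf 115213917)) (.leaf 120593778)) (.node (.node (.leaf 62462117) (.leaf 41152711)) (.leaf 82596894)))))))) (.node (.node (.node (.node (.node (.node (.node (.node (.leaf 110) (.leaf 67682189)) (.leaf 82685879)) (.node (.node (.leaf 3461) (.leaf 5449)) (.leaf 89))) (.node (.node (.node (.leaf 1937) (.leaf 4600)) (.leaf 75219762)) (.node (.node (.leaf 43672558) (.leaf 71415075)) (.leaf 1921)))) (.node (.node (.node (.node (.leaf 55337322) (.leaf 4063)) (.leaf 5766)) (.node (.node (.leaf 119011788) (.leaf 95919143)) (.leaf 1042))) (.node (.node (.node (.leaf 2749) (.leaf 5050)) (.leaf 100164094)) (.node (.node (.leaf 57498129) (.leaf 26916045)) (.leaf 82995911))))) (.node (.node (.node (.node (.node (.leaf 602) (.leaf 82401115)) (.leaf 105361789)) (.node (.node (.leaf 3775) (.leaf 5608)) (.leaf 581))) (.node (.node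 (.node (.leaf 33244352) (.leaf 42547026)) (.leaf 27031938)) (.node (.node (.leaf 4838) (.leaf 6052)) (.leaf 2337)))) (.node (.node (.node (.node (.leaf 1512) (.leaf 97751508)) (.leaf 14983286)) (.node (.node (.leaf 253) (.leaf 141745690)) (.leaf 1494))) (.node (.node (.node (.leaf 146) (.leaf 5264)) (.leaf 28569834)) (.node (.node (.leaf 23708963) (.leaf 143837390)) (.leaf 3107)))))) (.node (.node (.node (.node (.node (.node (.leaf 357) (.leaf 80018489)) (.leaf 25581451)) (.node (.node (.leaf 3619) (.leaf 52153694)) (.leaf 335))) (.node (.node (.node (.leaf 2148) (.leaf 90758878)) (.leaf 6026)) (.node (.node (.leaf 77313946) (.leaf 74419474)) (.leaf 2127)))) (.node (.node (.node (.node (.leaf 1283) (.leaf 4216)) (.leaf 5843)) (.node (.node (.leaf 237) (.leaf 5835)) (.leaf 1263))) (.node (.node (.node (.leaf 70377033) (.leaf 102876605)) (.leaf 6142)) (.node (.node (.leaf 99053886) (.leaf 144515799)) (.leaf 128686585))))) (.node (.node (.node (.node (.node (.leaf 831) (.leaf 3908)) (.leaf 5695)) (.node (.node (.leaf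 3923) (.leaf 37132170)) (.leaf 810))) (.node (.node (.node (.leaf 2548) (.leaf 4943)) (.leaf 133375367)) (.node (.node (.leaf 115370833) (.leaf 132245604)) (.leaf 2532)))) (.node (.node (.node (.node (.leaf 1720) (.leaf 56700780)) (.leaf 83591080)) (.node (.node (.leaf 17652400) (.leaf 69013377)) (.leaf 1701))) (.node (.node (.node (.leaf 3302) (.leaf 143642024)) (.leaf 82459588)) (.node (.node (.leaf 426) (.leaf 76637971)) (.leaf 3287))))))) (.node (.node (.node (.node (.node (.node (.node (.leaf 232) (.leaf 5572595)) (.leaf 143021324)) (.node (.node (.leaf 134958280) (.leaf 5493)) (.leaf 211))) (.node (.node (.node (.leaf 2041) (.leaf 4663)) (.leaf 119977597)) (.node (.node (.leaf 4675) (.leaf 5998)) (.leaf 6637221)))) (.node (.node (.node (.node (.leaf 133210394) (.leaf 4137)) (.leaf 114293093)) (.node (.node (.leaf 4151) (.leaf 71074086)) (.leaf 1155))) (.node (.node (.node (.leaf 2847) (.leaf 5105)) (.leaf 15807943)) (.node (.node (.leaf 5116) (.leaf 24561676)) (.leaf 2832))))) (.node (.node (.node (.node (.node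 (.leaf 715) (.leaf 45298497)) (.leaf 35090629)) (.node (.node (.leaf 3854) (.leaf 118146360)) (.leaf 694))) (.node (.node (.node (.leaf 91651393) (.leaf 4887)) (.leaf 36439502)) (.node (.node (.leaf 4899) (.leaf 27106262)) (.leaf 2431)))) (.node (.node (.node (.node (.leaf 86018957) (.leaf 4416)) (.leaf 123184570)) (.node (.node (.leaf 137490762) (.leaf 45879373)) (.leaf 1600))) (.node (.node (.node (.leaf 41419528) (.leaf 5308)) (.leaf 11210033)) (.node (.node (.leaf 5319) (.leaf 84286980)) (.leaf 55232126)))))) (.node (.node (.node (.node (.node (.node (.leaf 480) (.leaf 3688)) (.leaf 128406746)) (.node (.node (.leaf 34464914) (.leaf 5573)) (.leaf 459))) (.node (.node (.node (.leaf 2250) (.leaf 4774)) (.leaf 805)) (.node (.node (.leaf 122660989) (.leaf 21895064)) (.leaf 129042676)))) (.node (.node (.node (.node (.leaf 1399) (.leaf 39978365)) (.leaf 91902301)) (.node (.node (.leaf 4305) (.leaf 5867)) (.leaf 1380))) (.node (.node (.node (.leaf 3033) (.leaf 6679662)) (.leaf 89339796)) (.node (.node (.leaf 144152358)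 (.leaf 60396337)) (.leaf 75319963))))) (.node (.node (.node (.node (.node (.leaf 949) (.leaf 7550949)) (.leaf 64334721)) (.node (.node (.leaf 12770117) (.leaf 5723)) (.leaf 927))) (.node (.node (.node (.leaf 2651) (.leaf 4992)) (.leaf 111576927)) (.node (.node (.leaf 28370029) (.leaf 131642649)) (.leaf 2634)))) (.node (.node (.node (.node (.leaf 1830) (.leaf 4545)) (.leaf 704)) (.node (.node (.leaf 117859076) (.leaf 50837539)) (.leaf 1811))) (.node (.node (.node (.leaf 3382) (.leaf 5400)) (.leaf 140190535)) (.node (.node (.leaf 5406) (.leaf 35956838)) (.leaf 3367))))))))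

/-- Part of `topFac`. -/
def topFac_p00100 : Tr := .node (.node (.node (.node (.node (.node (.node (.node (.node (.leaf 9) (.leaf 18961986)) (.node (.leaf 97497985) (.leaf 73881882))) (.node (.node (.leaf 117752457) (.leaf 5407)) (.leaf 143486552))) (.node (.node (.node (.leaf 1854) (.leaf 117908999)) (.leaf 73556584)) (.node (.node (.leaf 115176105) (.leaf 5959)) (.leaf 1831)))) (.node (.node (.node (.node (.leaf 968) (.leaf 16075120)) (.leaf 549)) (.node (.node (.leaf 4015) (.leaf 86692784)) (.leaf 950))) (.node (.node (.node (.leaf 22298990) (.leaf 10588603)) (.leaf 17814923)) (.node (.node (.leaf 139460643) (.leaf 100889625)) (.leaf 2652))))) (.node (.node (.node (.node (.node (.leaf 504) (.leaf 58687054)) (.leaf 487)) (.node (.node (.leaf 3711) (.leaf 66491042)) (.leaf 481))) (.node (.node (.node (.leaf 2270) (.leaf 4785)) (.leaf 72675232)) (.node (.node (.leaf 4799) (.leaf 85897133)) (.leaf 2251)))) (.node (.node (.node (.node (.leaf 1419) (.leaf 4306)) (.leaf 75293325)) (.node (.node (.leaf 82677451) (.leaf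 5873)) (.leaf 1400))) (.node (.node (.node (.leaf 3055) (.leaf 5221)) (.leaf 130476162)) (.node (.node (.leaf 393) (.leaf 132390924)) (.leaf 3034)))))) (.node (.node (.node (.node (.node (.node (.leaf 256) (.leaf 3544)) (.leaf 77429183)) (.node (.node (.leaf 51780341) (.leaf 25320100)) (.leaf 233))) (.node (.node (.node (.leaf 2061) (.leaf 4676)) (.leaf 81810528)) (.node (.node (.leaf 4687) (.leaf 57465481)) (.leaf 2042)))) (.node (.node (.node (.node (.leaf 1193) (.leaf 1288458)) (.leaf 90242822)) (.node (.node (.leaf 30831242) (.leaf 17200462)) (.leaf 1174))) (.node (.node (.node (.leaf 2867) (.leaf 5117)) (.leaf 113624744)) (.node (.node (.leaf 63829148) (.leaf 144885630)) (.leaf 2848))))) (.node (.node (.node (.node (.node (.leaf 738) (.leaf 16450325)) (.leaf 5663)) (.node (.node (.leaf 144156924) (.leaf 113819518)) (.leaf 716))) (.node (.node (.node (.leaf 2467) (.leaf 19023378)) (.leaf 31789312)) (.node (.node (.leaf 96245713) (.leaf 54476918)) (.leaf 42614146)))) (.node (.node (.node (.node (.leaf 1639) (.leaf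 4431)) (.leaf 143052319)) (.node (.node (.leaf 4443) (.leaf 39147680)) (.leaf 1618))) (.node (.node (.node (.leaf 3231) (.leaf 5320)) (.leaf 3666769)) (.node (.node (.leaf 5332) (.leaf 43785933)) (.leaf 99630834))))))) (.node (.node (.node (.node (.node (.node (.node (.leaf 133) (.leaf 3462)) (.leaf 5465)) (.node (.node (.leaf 172) (.leaf 131637774)) (.leaf 111))) (.node (.node (.node (.leaf 1953) (.leaf 99497334)) (.leaf 61663916)) (.node (.node (.leaf 65101794) (.leaf 132445437)) (.leaf 1938)))) (.node (.node (.node (.node (.leaf 1084) (.leaf 4077)) (.leaf 83114094)) (.node (.node (.leaf 4096) (.leaf 5767)) (.leaf 1063))) (.node (.node (.node (.leaf 2765) (.leaf 111456292)) (.leaf 114640107)) (.node (.node (.leaf 131365769) (.leaf 125453059)) (.leaf 2750))))) (.node (.node (.node (.node (.node (.leaf 623) (.leaf 141330304)) (.leaf 5621)) (.node (.node (.leaf 104013229) (.leaf 116685377)) (.leaf 603))) (.node (.node (.node (.leaf 2372) (.leaf 4839)) (.leaf 841)) (.node (.node (.leaf 4847) (.leaf 1727083)) (.leaf 2353))))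 (.node (.node (.node (.node (.leaf 1532) (.leaf 4369)) (.leaf 141011082)) (.node (.node (.leaf 4381) (.leaf 114414104)) (.leaf 1513))) (.node (.node (.node (.leaf 3141) (.leaf 39764237)) (.leaf 13837898)) (.node (.node (.leaf 5280) (.leaf 36919097)) (.leaf 3124)))))) (.node (.node (.node (.node (.node (.node (.leaf 380) (.leaf 89965409)) (.leaf 55296974)) (.node (.node (.leaf 3635) (.leaf 92512818)) (.leaf 358))) (.node (.node (.node (.leaf 2167) (.leaf 27464125)) (.leaf 21493870)) (.node (.node (.leaf 24264766) (.leaf 20214474)) (.leaf 2149)))) (.node (.node (.node (.node (.leaf 1307) (.leaf 4228)) (.leaf 67480811)) (.node (.node (.leaf 4245) (.leaf 113694168)) (.leaf 1284))) (.node (.node (.node (.leaf 147443293) (.leaf 59457062)) (.leaf 84065072)) (.node (.node (.leaf 54311246) (.leaf 123954879)) (.leaf 2946))))) (.node (.node (.node (.node (.node (.leaf 854) (.leaf 52179574)) (.leaf 57176179)) (.node (.node (.leaf 43943290) (.leaf 90236513)) (.leaf 832))) (.node (.node (.node (.leaf 2564) (.leaf 4109)) (.leaf 87524601))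 (.node (.node (.leaf 52339459) (.leaf 5250865)) (.leaf 110496524)))) (.node (.node (.node (.node (.leaf 1740) (.leaf 124273116)) (.leaf 42026311)) (.node (.node (.leaf 4498) (.leaf 73952786)) (.leaf 1721))) (.node (.node (.node (.leaf 3316) (.leaf 57651369)) (.leaf 92825348)) (.node (.node (.leaf 5375) (.leaf 48010308)) (.leaf 3303)))))))) (.node (.node (.node (.node (.node (.node (.node (.node (.leaf 72) (.leaf 3422)) (.leaf 46029747)) (.node (.node (.leaf 3437) (.leaf 5433)) (.leaf 49))) (.node (.node (.node (.leaf 1906) (.leaf 82770346)) (.leaf 58037891)) (.node (.node (.leaf 63563458) (.leaf 140471108)) (.leaf 3)))) (.node (.node (.node (.node (.leaf 1025) (.leaf 76151216)) (.leaf 55784386)) (.node (.node (.leaf 4053) (.leaf 126062025)) (.leaf 1006))) (.node (.node (.node (.leaf 2720) (.leaf 78304491)) (.leaf 36461056)) (.node (.node (.leaf 22639559) (.leaf 76733159)) (.leaf 2699))))) (.node (.node (.node (.node (.node (.leaf 566) (.leaf 84678787)) (.leaf 142853235)) (.node (.node (.leaf 86043126) (.leaf 3936648))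 (.leaf 544))) (.node (.node (.node (.leaf 2324) (.leaf 135220665)) (.leaf 74375016)) (.node (.node (.leaf 89395853) (.leaf 6043)) (.leaf 1563)))) (.node (.node (.node (.node (.leaf 1479) (.leaf 79813667)) (.leaf 42025635)) (.node (.node (.leaf 4348) (.leaf 124364573)) (.leaf 1459))) (.node (.node (.node (.leaf 3095) (.leaf 31554092)) (.leaf 6150)) (.node (.node (.leaf 15214145) (.leaf 10790561)) (.leaf 3078)))))) (.node (.node (.node (.node (.node (.node (.leaf 318) (.leaf 53212655)) (.leaf 5526)) (.node (.node (.leaf 81946009) (.leaf 44527123)) (.leaf 296))) (.node (.node (.node (.leaf 2114) (.leaf 69698746)) (.leaf 102703602)) (.node (.node (.leaf 121234490) (.leaf 137699123)) (.leaf 2094)))) (.node (.node (.node (.node (.leaf 1247) (.leaf 4188)) (.leaf 81188169)) (.node (.node (.leaf 3642200) (.leaf 146210637)) (.leaf 1))) (.node (.node (.node (.leaf 432) (.leaf 56445603)) (.leaf 18412528)) (.node (.node (.leaf 70897646) (.leaf 99965693)) (.leaf 2897))))) (.node (.node (.node (.node (.node (.leaf 794) (.leaf 138611777))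 (.leaf 132583611)) (.node (.node (.leaf 3896) (.leaf 5675)) (.leaf 776))) (.node (.node (.node (.leaf 2517) (.leaf 135789284)) (.leaf 6084)) (.node (.node (.leaf 4935) (.leaf 121701109)) (.leaf 2499)))) (.node (.node (.node (.node (.leaf 147615525) (.leaf 145291763)) (.leaf 57655516)) (.node (.node (.leaf 4470) (.leaf 31955008)) (.leaf 1670))) (.node (.node (.node (.leaf 3275) (.leaf 5347)) (.leaf 18658008)) (.node (.node (.leaf 146363566) (.leaf 122798959)) (.leaf 3259))))))) (.node (.node (.node (.node (.node (.node (.node (.leaf 195) (.leaf 140155275)) (.leaf 5485)) (.node (.node (.leaf 11606528) (.leaf 5478)) (.leaf 172))) (.node (.node (.node (.leaf 2005) (.leaf 4641)) (.leaf 105839041)) (.node (.node (.leaf 4654) (.leaf 46778493)) (.leaf 1984)))) (.node (.node (.node (.node (.leaf 118238373) (.leaf 50161158)) (.leaf 5793)) (.node (.node (.leaf 4127) (.leaf 19377991)) (.leaf 1119))) (.node (.node (.node (.leaf 2816) (.leaf 5095)) (.leaf 12941731)) (.node (.node (.leaf 138258554) (.leaf 117246668)) (.leaf 2799)))))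 (.node (.node (.node (.node (.node (.leaf 91220282) (.leaf 3815)) (.leaf 53787142)) (.node (.node (.leaf 3833) (.leaf 5632)) (.leaf 661))) (.node (.node (.node (.leaf 39719335) (.leaf 54059321)) (.leaf 74287342)) (.node (.node (.leaf 4876) (.leaf 145595278)) (.leaf 2406)))) (.node (.node (.node (.node (.leaf 1588) (.leaf 4398)) (.leaf 14856813)) (.node (.node (.leaf 92072569) (.leaf 26634650)) (.leaf 1568))) (.node (.node (.node (.leaf 3191) (.leaf 35316088)) (.leaf 58057119)) (.node (.node (.leaf 47379409) (.leaf 61207696)) (.leaf 17305243)))))) (.node (.node (.node (.node (.node (.node (.leaf 443) (.leaf 3662)) (.leaf 5566)) (.node (.node (.leaf 3678) (.leaf 103842913)) (.leaf 421))) (.node (.node (.node (.leaf 2219) (.leaf 4754)) (.leaf 133198572)) (.node (.node (.leaf 4767) (.leaf 134286478)) (.leaf 2200)))) (.node (.node (.node (.node (.leaf 1365) (.leaf 4268)) (.leaf 5863)) (.node (.node (.leaf 4282) (.leaf 64348141)) (.leaf 1344))) (.node (.node (.node (.leaf 39868301) (.leaf 91464741)) (.leaf 25081114)) (.node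 (.node (.leaf 5204) (.leaf 39321330)) (.leaf 26201177))))) (.node (.node (.node (.node (.node (.leaf 33) (.leaf 3957)) (.leaf 55341217)) (.node (.node (.leaf 3976) (.leaf 98707855)) (.leaf 889))) (.node (.node (.node (.leaf 2618) (.leaf 122384666)) (.leaf 6101)) (.node (.node (.leaf 66138177) (.leaf 131981688)) (.leaf 2596)))) (.node (.node (.node (.node (.leaf 1797) (.leaf 18265983)) (.leaf 5953)) (.node (.node (.leaf 94003979) (.leaf 5946)) (.leaf 1778))) (.node (.node (.node (.leaf 27520619) (.leaf 74004174)) (.leaf 47117229)) (.node (.node (.leaf 140316735) (.leaf 149796671)) (.leaf 3341))))))))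

/-- Part of `topFac`. -/
def topFac_p00101 : Tr := .node (.node (.node (.node (.node (.node (.node (.node (.node (.leaf 40) (.leaf 3405)) (.node (.leaf 30953295) (.leaf 132430199))) (.node (.node (.leaf 3415) (.leaf 5422)) (.leaf 18))) (.node (.node (.node (.leaf 1882) (.leaf 60817123)) (.leaf 5971)) (.node (.node (.leaf 3408382) (.leaf 29825250)) (.leaf 1862)))) (.node (.node (.node (.node (.leaf 998) (.leaf 4019)) (.leaf 20978933)) (.node (.node (.leaf 4033) (.leaf 26978838)) (.leaf 976))) (.node (.node (.node (.leaf 2690) (.leaf 5018)) (.leaf 36781585)) (.node (.node (.leaf 28100827) (.leaf 148834000)) (.leaf 2670))))) (.node (.node (.node (.node (.node (.leaf 535) (.leaf 3715)) (.leaf 95919306)) (.node (.node (.leaf 149204299) (.leaf 5590)) (.leaf 513))) (.node (.node (.node (.leaf 2297) (.leaf 10024989)) (.leaf 113201646)) (.node (.node (.leaf 314) (.leaf 105597286)) (.leaf 2277)))) (.node (.node (.node (.node (.leaf 1450) (.leaf 42366564)) (.leaf 98196366)) (.node (.node (.leaf 147523348) (.leaf 49567528)) (.leaf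 1427))) (.node (.node (.node (.leaf 100123242) (.leaf 5232)) (.leaf 140404944)) (.node (.node (.leaf 5243) (.leaf 6148)) (.leaf 3059)))))) (.node (.node (.node (.node (.node (.node (.leaf 287) (.leaf 3564)) (.leaf 19978082)) (.node (.node (.leaf 3575) (.leaf 29444739)) (.leaf 264))) (.node (.node (.node (.leaf 2088) (.leaf 4692)) (.leaf 85126509)) (.node (.node (.leaf 4702) (.leaf 6006)) (.leaf 2069)))) (.node (.node (.node (.node (.leaf 1219) (.leaf 130243531)) (.leaf 62948676)) (.node (.node (.leaf 147585290) (.leaf 5816)) (.leaf 1200))) (.node (.node (.node (.leaf 2891) (.leaf 5130)) (.leaf 1057)) (.node (.node (.leaf 25943219) (.leaf 70605429)) (.leaf 72261367))))) (.node (.node (.node (.node (.node (.leaf 768) (.leaf 19065259)) (.leaf 68189525)) (.node (.node (.leaf 144946811) (.leaf 5666)) (.leaf 745))) (.node (.node (.node (.leaf 2492) (.leaf 111970060)) (.leaf 43871040)) (.node (.node (.leaf 66938829) (.leaf 71082570)) (.leaf 2473)))) (.node (.node (.node (.node (.leaf 1664) (.leaf 123684609)) (.leaf 78980027))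 (.node (.node (.leaf 42724595) (.leaf 138847741)) (.leaf 1646))) (.node (.node (.node (.leaf 3254) (.leaf 11514214)) (.leaf 111957362)) (.node (.node (.leaf 419) (.leaf 66853817)) (.leaf 103347549))))))) (.node (.node (.node (.node (.node (.node (.node (.leaf 163) (.leaf 3489)) (.leaf 5475)) (.node (.node (.leaf 3502) (.leaf 22363073)) (.leaf 142))) (.node (.node (.node (.leaf 138510341) (.leaf 4624)) (.leaf 149258001)) (.node (.node (.leaf 286) (.leaf 135277855)) (.leaf 1960)))) (.node (.node (.node (.node (.leaf 41) (.leaf 4101)) (.leaf 38265213)) (.node (.node (.leaf 4112) (.leaf 4881157)) (.leaf 1092))) (.node (.node (.node (.leaf 2791) (.leaf 5076)) (.leaf 28937926)) (.node (.node (.leaf 5090) (.leaf 115963422)) (.leaf 2773))))) (.node (.node (.node (.node (.node (.leaf 652) (.leaf 135324368)) (.leaf 149630685)) (.node (.node (.leaf 59055486) (.leaf 92091336)) (.leaf 632))) (.node (.node (.node (.leaf 2398) (.leaf 140809676)) (.leaf 8215520)) (.node (.node (.leaf 4860) (.leaf 6065)) (.leaf 2379)))) (.node (.node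 (.node (.node (.leaf 1559) (.leaf 103822965)) (.leaf 5908)) (.node (.node (.leaf 4393) (.leaf 82458584)) (.leaf 1540))) (.node (.node (.node (.leaf 148) (.leaf 94012487)) (.leaf 125820686)) (.node (.node (.leaf 5294) (.leaf 40107932)) (.leaf 3148)))))) (.node (.node (.node (.node (.node (.node (.leaf 412) (.leaf 3640)) (.leaf 90779176)) (.node (.node (.leaf 3656) (.leaf 134667484)) (.leaf 389))) (.node (.node (.node (.leaf 2192) (.leaf 70606786)) (.leaf 109910031)) (.node (.node (.leaf 4752) (.leaf 14945964)) (.leaf 2173)))) (.node (.node (.node (.node (.leaf 1336) (.leaf 20016593)) (.leaf 5855)) (.node (.node (.leaf 114961372) (.leaf 50456704)) (.leaf 1313))) (.node (.node (.node (.leaf 2985) (.leaf 63098011)) (.leaf 6144)) (.node (.node (.leaf 56269719) (.leaf 142819186)) (.leaf 2969))))) (.node (.node (.node (.node (.node (.leaf 882) (.leaf 110429492)) (.leaf 5710)) (.node (.node (.leaf 3952) (.leaf 123811308)) (.leaf 861))) (.node (.node (.node (.leaf 132842350) (.leaf 4962)) (.leaf 53907761)) (.node (.node (.leaf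 4974) (.leaf 58843912)) (.leaf 136491772)))) (.node (.node (.node (.node (.leaf 1770) (.leaf 4502)) (.leaf 69621988)) (.node (.node (.leaf 4513) (.leaf 29466764)) (.leaf 1748))) (.node (.node (.node (.leaf 3336) (.leaf 5378)) (.leaf 76302952)) (.node (.node (.leaf 41244425) (.leaf 25056269)) (.leaf 3322)))))))) (.node (.node (.node (.node (.node (.node (.node (.node (.leaf 103) (.leaf 124973093)) (.leaf 21934518)) (.node (.node (.leaf 100041798) (.leaf 6584271)) (.leaf 81))) (.node (.node (.node (.leaf 115143085) (.leaf 123818976)) (.leaf 89615209)) (.node (.node (.leaf 149709885) (.leaf 14730863)) (.leaf 1913)))) (.node (.node (.node (.node (.leaf 67981177) (.leaf 4057)) (.leaf 62874262)) (.node (.node (.leaf 110753349) (.leaf 76547741)) (.leaf 1034))) (.node (.node (.node (.leaf 2744) (.leaf 134407126)) (.leaf 52602387)) (.node (.node (.leaf 5056) (.leaf 6121)) (.leaf 2727))))) (.node (.node (.node (.node (.node (.leaf 594) (.leaf 3757)) (.leaf 5612)) (.node (.node (.leaf 3771) (.leaf 113257117)) (.leaf 574))) (.node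 (.node (.node (.leaf 77388428) (.leaf 107832199)) (.leaf 6056)) (.node (.node (.leaf 106096595) (.leaf 6049)) (.leaf 113419230)))) (.node (.node (.node (.node (.leaf 1506) (.leaf 26344293)) (.leaf 20289135)) (.node (.node (.leaf 4364) (.leaf 90363254)) (.leaf 1486))) (.node (.node (.node (.leaf 3120) (.leaf 127782719)) (.leaf 100084163)) (.node (.node (.leaf 5270) (.leaf 54060901)) (.leaf 3102)))))) (.node (.node (.node (.node (.node (.node (.leaf 349) (.leaf 3600)) (.leaf 5536)) (.node (.node (.leaf 3613) (.leaf 127781254)) (.leaf 327))) (.node (.node (.node (.leaf 2141) (.leaf 4719)) (.leaf 102314911)) (.node (.node (.leaf 10683781) (.leaf 140773250)) (.leaf 2121)))) (.node (.node (.node (.node (.leaf 1276) (.leaf 30947961)) (.leaf 96596894)) (.node (.node (.leaf 4226) (.leaf 128981181)) (.leaf 1255))) (.node (.node (.node (.leaf 2938) (.leaf 55383846)) (.leaf 140435910)) (.node (.node (.leaf 66044232) (.leaf 92949399)) (.leaf 2920))))) (.node (.node (.node (.node (.node (.leaf 824) (.leaf 3904)) (.leaf 29183699))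 (.node (.node (.leaf 3919) (.leaf 118887038)) (.leaf 803))) (.node (.node (.node (.leaf 2541) (.leaf 4941)) (.leaf 107877315)) (.node (.node (.leaf 17499776) (.leaf 128092592)) (.leaf 2526)))) (.node (.node (.node (.node (.leaf 1715) (.leaf 105963784)) (.leaf 5936)) (.node (.node (.leaf 13595614) (.leaf 40940057)) (.leaf 1696))) (.node (.node (.node (.leaf 28283227) (.leaf 2377499)) (.leaf 123879538)) (.node (.node (.leaf 5367) (.leaf 117679944)) (.leaf 3282))))))) (.node (.node (.node (.node (.node (.node (.node (.leaf 79418692) (.leaf 3525)) (.leaf 143105581)) (.node (.node (.leaf 3538) (.leaf 5488)) (.leaf 204))) (.node (.node (.node (.leaf 2034) (.leaf 4658)) (.leaf 83317328)) (.node (.node (.leaf 4670) (.leaf 5995)) (.leaf 2014)))) (.node (.node (.node (.node (.leaf 1168) (.leaf 4133)) (.leaf 142295330)) (.node (.node (.leaf 78387905) (.leaf 118613121)) (.leaf 1147))) (.node (.node (.node (.leaf 2842) (.leaf 5104)) (.leaf 32318483)) (.node (.node (.leaf 62776966) (.leaf 58942756)) (.leaf 2825))))) (.node (.node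 (.node (.node (.node (.leaf 707) (.leaf 3837)) (.leaf 127601063)) (.node (.node (.leaf 3851) (.leaf 41027328)) (.leaf 688))) (.node (.node (.node (.leaf 2443) (.leaf 74624568)) (.leaf 104162685)) (.node (.node (.leaf 4893) (.leaf 6072)) (.leaf 41547009)))) (.node (.node (.node (.node (.leaf 1613) (.leaf 4412)) (.leaf 119881382)) (.node (.node (.leaf 4426) (.leaf 30800679)) (.leaf 1595))) (.node (.node (.node (.leaf 3214) (.leaf 75242807)) (.leaf 12169772)) (.node (.node (.leaf 16219308) (.leaf 134101552)) (.leaf 3198)))))) (.node (.node (.node (.node (.node (.node (.leaf 472) (.leaf 64049070)) (.leaf 6012413)) (.node (.node (.leaf 82499173) (.leaf 5570)) (.leaf 451))) (.node (.node (.node (.leaf 2245) (.leaf 50721251)) (.leaf 6038)) (.node (.node (.leaf 54207158) (.leaf 144284122)) (.leaf 2227)))) (.node (.node (.node (.node (.leaf 53) (.leaf 4288)) (.leaf 95866925)) (.node (.node (.leaf 72768084) (.leaf 5866)) (.leaf 1373))) (.node (.node (.node (.leaf 135082381) (.leaf 90331722)) (.leaf 1159)) (.node (.node (.leaf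 5219) (.leaf 89261718)) (.leaf 3010))))) (.node (.node (.node (.node (.node (.leaf 941) (.leaf 3981)) (.leaf 12772920)) (.node (.node (.leaf 3998) (.leaf 63249626)) (.leaf 136165408))) (.node (.node (.node (.leaf 5694863) (.leaf 14138350)) (.leaf 21577795)) (.node (.node (.leaf 5002) (.leaf 133532965)) (.leaf 2626)))) (.node (.node (.node (.node (.leaf 15957725) (.leaf 4539)) (.leaf 2483595)) (.node (.node (.leaf 104957396) (.leaf 109135796)) (.leaf 1805))) (.node (.node (.node (.leaf 93426224) (.leaf 5397)) (.leaf 137081768)) (.node (.node (.leaf 124001688) (.leaf 148230846)) (.leaf 10117518))))))))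

/-- Part of `topFac`. -/
def topFac_p00110 : Tr := .node (.node (.node (.node (.node (.node (.node (.node (.node (.leaf 25) (.leaf 3393)) (.node (.leaf 5425) (.leaf 15376779))) (.node (.node (.leaf 18544240) (.leaf 5413)) (.leaf 2))) (.node (.node (.node (.leaf 1867) (.leaf 19190731)) (.leaf 132451421)) (.node (.node (.leaf 4574) (.leaf 40574284)) (.leaf 1847)))) (.node (.node (.node (.node (.leaf 983) (.leaf 112553986)) (.leaf 132740491)) (.node (.node (.leaf 4021) (.leaf 52209882)) (.leaf 964))) (.node (.node (.node (.leaf 2677) (.leaf 105281131)) (.leaf 6112)) (.node (.node (.leaf 5024) (.leaf 6107)) (.leaf 2660))))) (.node (.node (.node (.node (.node (.leaf 520) (.leaf 35139153)) (.leaf 79377816)) (.node (.node (.leaf 3720) (.leaf 91813169)) (.leaf 497))) (.node (.node (.node (.leaf 2283) (.leaf 4796)) (.leaf 88313830)) (.node (.node (.leaf 4805) (.leaf 86696711)) (.leaf 2264)))) (.node (.node (.node (.node (.leaf 1434) (.leaf 64352980)) (.leaf 626)) (.node (.node (.leaf 23371889) (.leaf 53974264)) (.leaf 1414)))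 (.node (.node (.node (.leaf 142) (.leaf 10026723)) (.leaf 22604722)) (.node (.node (.leaf 5237) (.leaf 954760)) (.leaf 3049)))))) (.node (.node (.node (.node (.node (.node (.leaf 271) (.leaf 3552)) (.leaf 137614904)) (.node (.node (.leaf 3569) (.leaf 77610509)) (.leaf 249))) (.node (.node (.node (.leaf 2076) (.leaf 4681)) (.leaf 6009)) (.node (.node (.leaf 75584343) (.leaf 6002)) (.leaf 2054)))) (.node (.node (.node (.node (.leaf 45) (.leaf 4164)) (.leaf 5819)) (.node (.node (.leaf 96748025) (.leaf 70596577)) (.leaf 1188))) (.node (.node (.node (.leaf 2879) (.leaf 120142622)) (.leaf 7792179)) (.node (.node (.leaf 135926640) (.leaf 54183357)) (.leaf 2860))))) (.node (.node (.node (.node (.node (.leaf 752) (.leaf 10023558)) (.leaf 5667)) (.node (.node (.leaf 3874) (.leaf 106883561)) (.leaf 732))) (.node (.node (.node (.leaf 2479) (.leaf 4910)) (.leaf 146512254)) (.node (.node (.leaf 97188222) (.leaf 103617580)) (.leaf 2461)))) (.node (.node (.node (.node (.leaf 1650) (.leaf 85255995)) (.leaf 53866302)) (.node (.node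 (.leaf 4451) (.leaf 63658244)) (.leaf 1632))) (.node (.node (.node (.leaf 21030345) (.leaf 5329)) (.leaf 88983844)) (.node (.node (.leaf 51460569) (.leaf 137308598)) (.leaf 3227))))))) (.node (.node (.node (.node (.node (.node (.node (.leaf 4) (.leaf 3476)) (.leaf 5471)) (.node (.node (.leaf 3491) (.leaf 90540075)) (.leaf 126))) (.node (.node (.node (.leaf 1965) (.leaf 77834382)) (.leaf 50843797)) (.node (.node (.leaf 17649771) (.leaf 5984)) (.leaf 29444218)))) (.node (.node (.node (.node (.leaf 1098) (.leaf 4089)) (.leaf 5777)) (.node (.node (.leaf 81742500) (.leaf 59426459)) (.leaf 1078))) (.node (.node (.node (.leaf 2779) (.leaf 26399170)) (.leaf 109939571)) (.node (.node (.leaf 11649567) (.leaf 6125)) (.leaf 34825922))))) (.node (.node (.node (.node (.node (.leaf 22) (.leaf 3784)) (.leaf 114500752)) (.node (.node (.leaf 3798) (.leaf 133680455)) (.leaf 617))) (.node (.node (.node (.leaf 2386) (.leaf 4845)) (.leaf 70067453)) (.node (.node (.leaf 4854) (.leaf 53283459)) (.leaf 2367)))) (.node (.node (.node (.node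 (.leaf 61) (.leaf 146197007)) (.leaf 92184779)) (.node (.node (.leaf 47163008) (.leaf 15216544)) (.leaf 1526))) (.node (.node (.node (.leaf 3154) (.leaf 5278)) (.leaf 47762250)) (.node (.node (.leaf 5285) (.leaf 98335684)) (.leaf 116109349)))))) (.node (.node (.node (.node (.node (.node (.leaf 396) (.leaf 3629)) (.leaf 134707059)) (.node (.node (.leaf 3645) (.leaf 97917838)) (.leaf 374))) (.node (.node (.node (.leaf 92) (.leaf 4737)) (.leaf 6031)) (.node (.node (.leaf 114209479) (.leaf 40037964)) (.leaf 2161)))) (.node (.node (.node (.node (.leaf 1320) (.leaf 4239)) (.leaf 19211315)) (.node (.node (.leaf 136702931) (.leaf 126201360)) (.leaf 1300))) (.node (.node (.node (.leaf 2975) (.leaf 98956289)) (.leaf 15022702)) (.node (.node (.leaf 117614388) (.leaf 144133048)) (.leaf 2957))))) (.node (.node (.node (.node (.node (.leaf 868) (.leaf 3930)) (.leaf 122175260)) (.node (.node (.leaf 3942) (.leaf 31429527)) (.leaf 847))) (.node (.node (.node (.leaf 2577) (.leaf 4956)) (.leaf 57649051)) (.node (.node (.leaf 4966) (.leaf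 66780087)) (.leaf 15748333)))) (.node (.node (.node (.node (.leaf 1755) (.leaf 12587100)) (.leaf 78892868)) (.node (.node (.leaf 4503) (.leaf 143735207)) (.leaf 1735))) (.node (.node (.node (.leaf 3326) (.leaf 75113543)) (.leaf 7380594)) (.node (.node (.leaf 132296453) (.leaf 38211955)) (.leaf 3313)))))))) (.node (.node (.node (.node (.node (.node (.node (.node (.leaf 88) (.leaf 3433)) (.leaf 5448)) (.node (.node (.leaf 108396860) (.leaf 147237908)) (.leaf 65))) (.node (.node (.node (.leaf 1920) (.leaf 4590)) (.leaf 4973644)) (.node (.node (.leaf 4599) (.leaf 140992072)) (.leaf 1900)))) (.node (.node (.node (.node (.leaf 1041) (.leaf 74885054)) (.leaf 557)) (.node (.node (.leaf 42464440) (.leaf 5753)) (.leaf 1020))) (.node (.node (.node (.leaf 140075180) (.leaf 5041)) (.leaf 120279687)) (.node (.node (.leaf 5049) (.leaf 68010336)) (.leaf 89073619))))) (.node (.node (.node (.node (.node (.leaf 580) (.leaf 3748)) (.leaf 5607)) (.node (.node (.leaf 56853082) (.leaf 5603)) (.leaf 559))) (.node (.node (.node (.leaf 105034140)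 (.leaf 45926988)) (.leaf 104887278)) (.node (.node (.leaf 4830) (.leaf 6046)) (.leaf 2319)))) (.node (.node (.node (.node (.leaf 1493) (.leaf 42201929)) (.leaf 83481101)) (.node (.node (.leaf 16190785) (.leaf 93593967)) (.leaf 1473))) (.node (.node (.node (.leaf 3106) (.leaf 5254)) (.leaf 40783491)) (.node (.node (.leaf 82870083) (.leaf 91348827)) (.leaf 3090)))))) (.node (.node (.node (.node (.node (.node (.leaf 334) (.leaf 150215218)) (.leaf 14002665)) (.node (.node (.leaf 104753818) (.leaf 5523)) (.leaf 312))) (.node (.node (.node (.leaf 2126) (.leaf 108380140)) (.leaf 776)) (.node (.node (.leaf 4723) (.leaf 73675705)) (.leaf 2107)))) (.node (.node (.node (.node (.leaf 1262) (.leaf 4199)) (.leaf 32459861)) (.node (.node (.leaf 4215) (.leaf 5832)) (.leaf 1242))) (.node (.node (.node (.leaf 131193301) (.leaf 5149)) (.leaf 76623016)) (.node (.node (.leaf 56933746) (.leaf 51855946)) (.leaf 2908))))) (.node (.node (.node (.node (.node (.leaf 809) (.leaf 3891)) (.leaf 527)) (.node (.node (.leaf 3907) (.leaf 5682)) (.leaf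 788))) (.node (.node (.node (.leaf 2531) (.leaf 104869979)) (.leaf 43907924)) (.node (.node (.leaf 6107584) (.leaf 73965136)) (.leaf 30579245)))) (.node (.node (.node (.node (.leaf 1700) (.leaf 36704603)) (.leaf 89526123)) (.node (.node (.leaf 132856401) (.leaf 62949433)) (.leaf 1684))) (.node (.node (.node (.leaf 81932277) (.leaf 46972818)) (.leaf 42550170)) (.node (.node (.leaf 5362) (.leaf 67290630)) (.leaf 3270))))))) (.node (.node (.node (.node (.node (.node (.node (.leaf 210) (.leaf 3517)) (.leaf 5492)) (.node (.node (.leaf 122259985) (.leaf 123185905)) (.leaf 188))) (.node (.node (.node (.leaf 2021) (.leaf 4649)) (.leaf 56286324)) (.node (.node (.leaf 4662) (.leaf 6011893)) (.leaf 1998)))) (.node (.node (.node (.node (.leaf 1154) (.leaf 38807701)) (.leaf 5800)) (.node (.node (.leaf 4136) (.leaf 80475397)) (.leaf 1133))) (.node (.node (.node (.leaf 34794529) (.leaf 5098)) (.leaf 76190907)) (.node (.node (.leaf 140834983) (.leaf 109485718)) (.leaf 2810))))) (.node (.node (.node (.node (.node (.leaf 693) (.leaf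 3827)) (.leaf 28331154)) (.node (.node (.leaf 62481051) (.leaf 122125680)) (.leaf 676))) (.node (.node (.node (.leaf 75813557) (.leaf 76103879)) (.leaf 103912895)) (.node (.node (.leaf 114315280) (.leaf 121937787)) (.leaf 2417)))) (.node (.node (.node (.node (.leaf 1599) (.leaf 80275521)) (.leaf 32729112)) (.node (.node (.leaf 27489640) (.leaf 133727055)) (.leaf 1583))) (.node (.node (.node (.leaf 99353690) (.leaf 29994921)) (.leaf 12354948)) (.node (.node (.leaf 44054842) (.leaf 20718860)) (.leaf 3185)))))) (.node (.node (.node (.node (.node (.node (.leaf 458) (.leaf 3673)) (.leaf 5572)) (.node (.node (.leaf 3687) (.leaf 5561)) (.leaf 436))) (.node (.node (.node (.leaf 2233) (.leaf 128737522)) (.leaf 119394740)) (.node (.node (.leaf 95738946) (.leaf 9110211)) (.leaf 2213)))) (.node (.node (.node (.node (.leaf 1379) (.leaf 4277)) (.leaf 32049721)) (.node (.node (.leaf 4293) (.leaf 98957277)) (.leaf 1358))) (.node (.node (.node (.leaf 3017) (.leaf 68446608)) (.leaf 103995940)) (.node (.node (.leaf 79715582) (.leaf 26786906))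 (.leaf 82240065))))) (.node (.node (.node (.node (.node (.leaf 926) (.leaf 3970)) (.leaf 5722)) (.node (.node (.leaf 3987) (.leaf 78887950)) (.leaf 905))) (.node (.node (.node (.leaf 2633) (.leaf 74368444)) (.leaf 51890369)) (.node (.node (.leaf 4991) (.leaf 67905548)) (.leaf 2611)))) (.node (.node (.node (.node (.leaf 1810) (.leaf 4529)) (.leaf 199545)) (.node (.node (.leaf 4544) (.leaf 5952)) (.leaf 45739874))) (.node (.node (.node (.leaf 3366) (.leaf 46345068)) (.leaf 100667448)) (.node (.node (.leaf 434) (.leaf 69511137)) (.leaf 3351))))))))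

/-- Part of `topFac`. -/
def topFac_p00111 : Tr := .node (.node (.node (.node (.node (.node (.node (.node (.node (.leaf 56) (.leaf 3410)) (.leaf 117445638)) (.node (.node (.leaf 3428) (.leaf 5429)) (.leaf 33))) (.node (.node (.node (.leaf 1893) (.leaf 96375374)) (.leaf 13687708)) (.node (.node (.leaf 4586) (.leaf 78506351)) (.leaf 1875)))) (.node (.node (.node (.node (.leaf 123304763) (.leaf 104366274)) (.leaf 94527772)) (.node (.node (.leaf 34008884) (.leaf 5747)) (.leaf 992))) (.node (.node (.node (.leaf 2706) (.leaf 77426628)) (.leaf 313769)) (.node (.node (.leaf 5036) (.leaf 136441042)) (.leaf 2685))))) (.node (.node (.node (.node (.node (.leaf 550) (.leaf 3727)) (.leaf 46848938)) (.node (.node (.leaf 3741) (.leaf 33773227)) (.leaf 529))) (.node (.node (.node (.leaf 2310) (.leaf 44504715)) (.leaf 6044)) (.node (.node (.leaf 4820) (.leaf 92364954)) (.leaf 2290)))) (.node (.node (.node (.node (.leaf 1466) (.leaf 133432810)) (.leaf 140379327)) (.node (.node (.leaf 39739777) (.leaf 22814397)) (.leaf 1443))) (.node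 (.node (.node (.leaf 3083) (.leaf 5240)) (.leaf 29431615)) (.node (.node (.leaf 1051444) (.leaf 6131249)) (.leaf 3067)))))) (.node (.node (.node (.node (.node (.node (.leaf 303) (.leaf 82118392)) (.leaf 58446927)) (.node (.node (.leaf 3586) (.leaf 13403322)) (.leaf 280))) (.node (.node (.node (.leaf 62268580) (.leaf 4698)) (.leaf 144308758)) (.node (.node (.leaf 17757303) (.leaf 6013)) (.leaf 2082)))) (.node (.node (.node (.node (.leaf 1234) (.leaf 4182)) (.leaf 15749325)) (.node (.node (.leaf 4192) (.leaf 5823)) (.leaf 1212))) (.node (.node (.node (.leaf 129763136) (.leaf 35299440)) (.leaf 129134259)) (.node (.node (.leaf 51579570) (.leaf 140288703)) (.leaf 67780196))))) (.node (.node (.node (.node (.node (.leaf 782) (.leaf 3881)) (.leaf 5679)) (.node (.node (.leaf 58090772) (.leaf 124785699)) (.leaf 761))) (.node (.node (.node (.leaf 2505) (.leaf 139039531)) (.leaf 140366107)) (.node (.node (.leaf 105959172) (.leaf 5053715)) (.leaf 36463566)))) (.node (.node (.node (.node (.leaf 1676) (.leaf 88638466)) (.leaf 4978217))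 (.node (.node (.leaf 264) (.leaf 84126641)) (.leaf 1658))) (.node (.node (.node (.leaf 3264) (.leaf 20949384)) (.leaf 136854018)) (.node (.node (.leaf 123352912) (.leaf 103907070)) (.leaf 3249))))))) (.node (.node (.node (.node (.node (.node (.node (.leaf 179) (.leaf 3498)) (.leaf 5480)) (.node (.node (.leaf 3511) (.leaf 145765712)) (.leaf 156))) (.node (.node (.node (.leaf 67494916) (.leaf 4634)) (.leaf 47542491)) (.node (.node (.leaf 4644) (.leaf 91753102)) (.leaf 1973)))) (.node (.node (.node (.node (.leaf 108118368) (.leaf 4108)) (.leaf 64948529)) (.node (.node (.leaf 4117) (.leaf 5781)) (.leaf 1106))) (.node (.node (.node (.leaf 2805) (.leaf 5085)) (.leaf 23438323)) (.node (.node (.leaf 5096) (.leaf 77063999)) (.leaf 2785))))) (.node (.node (.node (.node (.node (.leaf 667) (.leaf 6896703)) (.leaf 5637)) (.node (.node (.leaf 3821) (.leaf 92263878)) (.leaf 646))) (.node (.node (.node (.leaf 2410) (.leaf 4857)) (.leaf 122435434)) (.node (.node (.leaf 52619788) (.leaf 149643559)) (.leaf 2392)))) (.node (.node (.node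 (.node (.leaf 1574) (.leaf 143560219)) (.leaf 5911)) (.node (.node (.leaf 112245186) (.leaf 110385408)) (.leaf 1552))) (.node (.node (.node (.leaf 3176) (.leaf 5288)) (.leaf 130098463)) (.node (.node (.leaf 5298) (.leaf 116914713)) (.leaf 111666250)))))) (.node (.node (.node (.node (.node (.node (.leaf 427) (.leaf 3652)) (.leaf 57433690)) (.node (.node (.leaf 3667) (.leaf 61204047)) (.leaf 405))) (.node (.node (.node (.leaf 2206) (.leaf 66000691)) (.leaf 106404669)) (.node (.node (.leaf 4760) (.leaf 33396546)) (.leaf 2187)))) (.node (.node (.node (.node (.leaf 1351) (.leaf 4257)) (.leaf 5858)) (.node (.node (.leaf 4272) (.leaf 89906820)) (.leaf 1329))) (.node (.node (.node (.leaf 2996) (.leaf 46784255)) (.leaf 7336591)) (.node (.node (.leaf 5201) (.leaf 138516315)) (.leaf 2979))))) (.node (.node (.node (.node (.node (.leaf 896) (.leaf 3946)) (.leaf 100569175)) (.node (.node (.leaf 3964) (.leaf 119450326)) (.leaf 2290358))) (.node (.node (.node (.leaf 2602) (.leaf 88592020)) (.leaf 23274908)) (.node (.node (.leaf 79952425)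 (.leaf 148431923)) (.leaf 2584)))) (.node (.node (.node (.node (.leaf 35250542) (.leaf 4509)) (.leaf 5949)) (.node (.node (.leaf 4522) (.leaf 5942)) (.leaf 1764))) (.node (.node (.node (.leaf 94281539) (.leaf 20409987)) (.leaf 10839454)) (.node (.node (.leaf 5390) (.leaf 50302433)) (.leaf 3332)))))))) (.node (.node (.node (.node (.node (.node (.node (.node (.leaf 117) (.leaf 42823913)) (.leaf 70137613)) (.node (.node (.leaf 102093341) (.leaf 5453)) (.leaf 96))) (.node (.node (.node (.leaf 1944) (.leaf 112750108)) (.leaf 150049908)) (.node (.node (.leaf 102048450) (.leaf 75195973)) (.leaf 1928)))) (.node (.node (.node (.node (.leaf 1069) (.leaf 66137844)) (.leaf 84727745)) (.node (.node (.leaf 4083) (.leaf 127112964)) (.leaf 1050))) (.node (.node (.node (.leaf 2755) (.leaf 5052)) (.leaf 57147436)) (.node (.node (.leaf 74964460) (.leaf 86396337)) (.leaf 2738))))) (.node (.node (.node (.node (.node (.leaf 609) (.leaf 3767)) (.leaf 137154360)) (.node (.node (.leaf 138937737) (.leaf 47904246)) (.leaf 588))) (.node (.node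 (.node (.leaf 2358) (.leaf 12333821)) (.leaf 111297141)) (.node (.node (.leaf 136612405) (.leaf 65319176)) (.leaf 133604703)))) (.node (.node (.node (.node (.leaf 1518) (.leaf 4361)) (.leaf 39114609)) (.node (.node (.leaf 4373) (.leaf 110407323)) (.leaf 1501))) (.node (.node (.node (.leaf 3131) (.leaf 84368718)) (.leaf 139299758)) (.node (.node (.leaf 112587631) (.leaf 829806)) (.leaf 3113)))))) (.node (.node (.node (.node (.node (.node (.leaf 365) (.leaf 3607)) (.leaf 94516624)) (.node (.node (.leaf 3622) (.leaf 74857342)) (.leaf 342))) (.node (.node (.node (.leaf 53023431) (.leaf 109573561)) (.leaf 136102730)) (.node (.node (.leaf 4734) (.leaf 6024)) (.leaf 2134)))) (.node (.node (.node (.node (.leaf 1291) (.leaf 4222)) (.leaf 132407627)) (.node (.node (.leaf 16216602) (.leaf 83089421)) (.leaf 1269))) (.node (.node (.node (.leaf 2952) (.leaf 124901454)) (.leaf 73605470)) (.node (.node (.leaf 5172) (.leaf 6141)) (.leaf 2932))))) (.node (.node (.node (.node (.node (.leaf 125521208) (.leaf 3913)) (.leaf 5700)) (.node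 (.node (.leaf 6392891) (.leaf 5687)) (.leaf 817))) (.node (.node (.node (.leaf 2554) (.leaf 40513484)) (.leaf 15966832)) (.node (.node (.leaf 68228119) (.leaf 48226197)) (.leaf 139533076)))) (.node (.node (.node (.node (.leaf 72980592) (.leaf 95744672)) (.leaf 47674596)) (.node (.node (.leaf 78564968) (.leaf 100339524)) (.leaf 1709))) (.node (.node (.node (.leaf 3307) (.leaf 85941004)) (.leaf 146947441)) (.node (.node (.leaf 106434678) (.leaf 132034590)) (.leaf 21935945))))))) (.node (.node (.node (.node (.node (.node (.node (.leaf 240) (.leaf 3532)) (.leaf 138004159)) (.node (.node (.leaf 178) (.leaf 5494)) (.leaf 218))) (.node (.node (.node (.leaf 95265876) (.leaf 4668)) (.leaf 50281797)) (.node (.node (.leaf 70637549) (.leaf 89968089)) (.leaf 2028)))) (.node (.node (.node (.node (.leaf 1180) (.leaf 4142)) (.leaf 5808)) (.node (.node (.leaf 4156) (.leaf 150249045)) (.leaf 1161))) (.node (.node (.node (.leaf 2853) (.leaf 5109)) (.leaf 42371008)) (.node (.node (.leaf 5119) (.leaf 135789914)) (.leaf 2836))))) (.node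 (.node (.node (.node (.node (.leaf 723) (.leaf 3847)) (.leaf 147470300)) (.node (.node (.leaf 4397713) (.leaf 5649)) (.leaf 701))) (.node (.node (.node (.leaf 2454) (.leaf 129155889)) (.leaf 85543636)) (.node (.node (.leaf 4904) (.leaf 29664015)) (.leaf 63827199)))) (.node (.node (.node (.node (.leaf 1625) (.leaf 45942441)) (.leaf 28323490)) (.node (.node (.leaf 97217834) (.leaf 3772295)) (.leaf 1606))) (.node (.node (.node (.leaf 3222) (.leaf 5313)) (.leaf 107045334)) (.node (.node (.leaf 5325) (.leaf 52590356)) (.leaf 3209)))))) (.node (.node (.node (.node (.node (.node (.leaf 488) (.leaf 65846269)) (.leaf 106234595)) (.node (.node (.leaf 3703) (.leaf 97333915)) (.leaf 466))) (.node (.node (.node (.leaf 2258) (.leaf 4779)) (.leaf 48030251)) (.node (.node (.leaf 136700987) (.leaf 128713935)) (.leaf 2240)))) (.node (.node (.node (.node (.leaf 1405) (.leaf 32368879)) (.leaf 5876)) (.node (.node (.leaf 131961782) (.leaf 134579258)) (.leaf 8723446))) (.node (.node (.node (.leaf 3041) (.leaf 5216)) (.leaf 6146)) (.node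 (.node (.leaf 65742558) (.leaf 139137466)) (.leaf 3024))))) (.node (.node (.node (.node (.node (.leaf 957) (.leaf 114269339)) (.leaf 6363102)) (.node (.node (.leaf 4007) (.leaf 5726)) (.leaf 935))) (.node (.node (.node (.leaf 1265) (.leaf 87465910)) (.leaf 51179035)) (.node (.node (.leaf 72426737) (.leaf 68072152)) (.leaf 2640)))) (.node (.node (.node (.node (.leaf 1838) (.leaf 4550)) (.leaf 5960)) (.node (.node (.leaf 73327678) (.leaf 38631795)) (.leaf 1818))) (.node (.node (.node (.leaf 3386) (.leaf 147668359)) (.leaf 107698155)) (.node (.node (.leaf 5409) (.leaf 81129042)) (.leaf 3373))))))))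

/-- Part of `topFac`. -/
def topFac_p01000 : Tr := .node (.node (.node (.node (.node (.node (.node (.node (.node (.leaf 5) (.leaf 3379)) (.node (.leaf 2680954) (.leaf 130468609))) (.node (.node (.leaf 3396) (.leaf 106)) (.leaf 137909462))) (.node (.node (.node (.leaf 1850) (.leaf 52070981)) (.leaf 120574762)) (.node (.node (.leaf 4564) (.leaf 5958)) (.leaf 1827)))) (.node (.node (.node (.node (.leaf 35) (.leaf 4000)) (.leaf 5739)) (.node (.node (.leaf 46542716) (.leaf 28706320)) (.leaf 946))) (.node (.node (.node (.leaf 2662) (.leaf 94129025)) (.leaf 6109)) (.node (.node (.leaf 5043017) (.leaf 36646038)) (.leaf 75793232))))) (.node (.node (.node (.node (.node (.leaf 500) (.leaf 112510050)) (.leaf 5585)) (.node (.node (.leaf 3708) (.leaf 78603819)) (.leaf 477))) (.node (.node (.node (.leaf 2266) (.leaf 41180482)) (.leaf 32434831)) (.node (.node (.leaf 46808250) (.leaf 6039)) (.leaf 83027625)))) (.node (.node (.node (.node (.leaf 1417) (.leaf 4303)) (.leaf 5879)) (.node (.node (.leaf 4314) (.leaf 37347961)) (.leaf 1397)))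 (.node (.node (.node (.leaf 65475434) (.leaf 5220)) (.leaf 71701584)) (.node (.node (.leaf 89180792) (.leaf 78273215)) (.leaf 3031)))))) (.node (.node (.node (.node (.node (.node (.leaf 252) (.leaf 3541)) (.leaf 459)) (.node (.node (.leaf 3553) (.leaf 113959926)) (.leaf 229))) (.node (.node (.node (.leaf 2057) (.leaf 4673)) (.leaf 128868724)) (.node (.node (.leaf 4684) (.leaf 145736158)) (.leaf 144538374)))) (.node (.node (.node (.node (.leaf 1190) (.leaf 4149)) (.leaf 67448776)) (.node (.node (.leaf 67823895) (.leaf 5806)) (.leaf 1172))) (.node (.node (.node (.leaf 2863) (.leaf 5115)) (.leaf 117573346)) (.node (.node (.leaf 5123) (.leaf 6134)) (.leaf 33959312))))) (.node (.node (.node (.node (.node (.leaf 734) (.leaf 69404287)) (.leaf 5661)) (.node (.node (.leaf 48321995) (.leaf 5656)) (.leaf 712))) (.node (.node (.node (.leaf 2463) (.leaf 4896)) (.leaf 36108234)) (.node (.node (.leaf 128449297) (.leaf 87681158)) (.leaf 2447)))) (.node (.node (.node (.node (.leaf 1635) (.leaf 25821715)) (.leaf 102539754)) (.node (.node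 (.leaf 91812811) (.leaf 114904095)) (.leaf 1617))) (.node (.node (.node (.leaf 39122596) (.leaf 44190099)) (.leaf 131488343)) (.node (.node (.leaf 20108026) (.leaf 23339287)) (.leaf 2003644))))))) (.node (.node (.node (.node (.node (.node (.node (.leaf 129) (.leaf 3459)) (.leaf 19968795)) (.node (.node (.leaf 3479) (.leaf 26684312)) (.leaf 107))) (.node (.node (.node (.leaf 1950) (.leaf 4609)) (.leaf 5985)) (.node (.node (.leaf 44141639) (.leaf 16216923)) (.leaf 1934)))) (.node (.node (.node (.node (.leaf 1080) (.leaf 133052854)) (.leaf 124626776)) (.node (.node (.leaf 4092) (.leaf 135318758)) (.leaf 1060))) (.node (.node (.node (.leaf 125473224) (.leaf 54932180)) (.leaf 51290367)) (.node (.node (.leaf 5066) (.leaf 106278213)) (.leaf 2747))))) (.node (.node (.node (.node (.node (.leaf 620) (.leaf 89099253)) (.leaf 61597793)) (.node (.node (.leaf 3785) (.leaf 80923096)) (.leaf 599))) (.node (.node (.node (.leaf 2369) (.leaf 4836)) (.leaf 18781484)) (.node (.node (.leaf 321) (.leaf 6058)) (.leaf 2350)))) (.node (.node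 (.node (.node (.leaf 1529) (.leaf 121230291)) (.leaf 128690780)) (.node (.node (.leaf 27199701) (.leaf 78863044)) (.leaf 92414346))) (.node (.node (.node (.leaf 3139) (.leaf 15747421)) (.leaf 7491080)) (.node (.node (.leaf 14985696) (.leaf 126304928)) (.leaf 139263469)))))) (.node (.node (.node (.node (.node (.node (.leaf 376) (.leaf 3617)) (.leaf 42200175)) (.node (.node (.leaf 3632) (.leaf 129143126)) (.leaf 354))) (.node (.node (.node (.leaf 2164) (.leaf 4728)) (.leaf 146977488)) (.node (.node (.leaf 133699410) (.leaf 79947825)) (.leaf 142611959)))) (.node (.node (.node (.node (.leaf 1303) (.leaf 80847425)) (.leaf 41434944)) (.node (.node (.leaf 116856530) (.leaf 5842)) (.leaf 1280))) (.node (.node (.node (.leaf 2960) (.leaf 7144977)) (.leaf 104085417)) (.node (.node (.leaf 5177) (.leaf 139572676)) (.leaf 2943))))) (.node (.node (.node (.node (.node (.leaf 850) (.leaf 3921)) (.leaf 109772150)) (.node (.node (.leaf 211) (.leaf 5693)) (.leaf 829))) (.node (.node (.node (.leaf 2561) (.leaf 4949)) (.leaf 6091)) (.node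 (.node (.leaf 126058972) (.leaf 145594757)) (.leaf 2545)))) (.node (.node (.node (.node (.leaf 1736) (.leaf 20949939)) (.leaf 132236097)) (.node (.node (.leaf 137775207) (.leaf 16606588)) (.leaf 1718))) (.node (.node (.node (.leaf 3314) (.leaf 135326113)) (.leaf 123771729)) (.node (.node (.leaf 5373) (.leaf 58140761)) (.leaf 3299)))))))) (.node (.node (.node (.node (.node (.node (.node (.node (.leaf 68) (.leaf 3419)) (.leaf 1328610)) (.node (.node (.leaf 55233321) (.leaf 62450304)) (.leaf 45))) (.node (.node (.node (.leaf 140081448) (.leaf 29655910)) (.leaf 61045323)) (.node (.node (.leaf 4592) (.leaf 105037628)) (.leaf 1886)))) (.node (.node (.node (.node (.leaf 1022) (.leaf 132195428)) (.leaf 27613912)) (.node (.node (.leaf 42914073) (.leaf 5750)) (.leaf 1002))) (.node (.node (.node (.leaf 2716) (.leaf 119026944)) (.leaf 4134027)) (.node (.node (.leaf 5044) (.leaf 103728528)) (.leaf 2695))))) (.node (.node (.node (.node (.node (.leaf 562) (.leaf 3733)) (.leaf 51140499)) (.node (.node (.leaf 3749) (.leaf 101811667))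 (.leaf 540))) (.node (.node (.node (.leaf 2322) (.leaf 4816)) (.leaf 90295741)) (.node (.node (.leaf 4824) (.leaf 3850226)) (.leaf 2300)))) (.node (.node (.node (.node (.leaf 133376890) (.leaf 4334)) (.leaf 77161270)) (.node (.node (.leaf 8860017) (.leaf 126061121)) (.leaf 1455))) (.node (.node (.node (.leaf 144) (.leaf 48181489)) (.leaf 129204918)) (.node (.node (.leaf 5255) (.leaf 34660000)) (.leaf 3075)))))) (.node (.node (.node (.node (.node (.node (.leaf 315) (.leaf 3578)) (.leaf 71616309)) (.node (.node (.leaf 89046915) (.leaf 82295682)) (.leaf 292))) (.node (.node (.node (.leaf 2110) (.leaf 4705)) (.leaf 73948843)) (.node (.node (.leaf 103965625) (.leaf 78854946)) (.leaf 136165207)))) (.node (.node (.node (.node (.leaf 123631187) (.leaf 5381804)) (.leaf 106983738)) (.node (.node (.leaf 4202) (.leaf 130395517)) (.leaf 1224))) (.node (.node (.node (.leaf 2910) (.leaf 129962742)) (.leaf 13831056)) (.node (.node (.leaf 5151) (.leaf 148796054)) (.leaf 147327105))))) (.node (.node (.node (.node (.node (.leaf 791)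 (.leaf 36317527)) (.leaf 88749034)) (.node (.node (.leaf 25341650) (.leaf 14680650)) (.leaf 772))) (.node (.node (.node (.leaf 2513) (.leaf 4926)) (.leaf 20991391)) (.node (.node (.leaf 65711242) (.leaf 131990459)) (.leaf 38360456)))) (.node (.node (.node (.node (.leaf 1686) (.leaf 140699736)) (.leaf 5928)) (.node (.node (.leaf 106853487) (.leaf 52813482)) (.leaf 135291240))) (.node (.node (.node (.leaf 19146456) (.leaf 7573454)) (.leaf 53056386)) (.node (.node (.leaf 5351) (.leaf 137861933)) (.leaf 88185731))))))) (.node (.node (.node (.node (.node (.node (.node (.leaf 191) (.leaf 3506)) (.leaf 5482)) (.node (.node (.leaf 3518) (.leaf 133165163)) (.leaf 168))) (.node (.node (.node (.leaf 2001) (.leaf 122840654)) (.leaf 6090543)) (.node (.node (.leaf 136107653) (.leaf 65065950)) (.leaf 1980)))) (.node (.node (.node (.node (.leaf 1136) (.leaf 106071672)) (.leaf 5791)) (.node (.node (.leaf 4123) (.leaf 69926666)) (.leaf 1115))) (.node (.node (.node (.leaf 2812) (.leaf 5092)) (.leaf 65103978)) (.node (.node (.leaf 5099)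 (.leaf 127564283)) (.leaf 2795))))) (.node (.node (.node (.node (.node (.leaf 679) (.leaf 3811)) (.leaf 5642)) (.node (.node (.leaf 3830) (.leaf 5631)) (.leaf 657))) (.node (.node (.node (.leaf 2420) (.leaf 114892073)) (.leaf 55667718)) (.node (.node (.leaf 38679255) (.leaf 117436688)) (.leaf 2403)))) (.node (.node (.node (.node (.leaf 1586) (.leaf 4395)) (.leaf 38621267)) (.node (.node (.leaf 4407) (.leaf 129169592)) (.leaf 1564))) (.node (.node (.node (.leaf 3188) (.leaf 90682328)) (.leaf 139904183)) (.node (.node (.leaf 5302) (.leaf 85364481)) (.leaf 3168)))))) (.node (.node (.node (.node (.node (.node (.leaf 439) (.leaf 3659)) (.leaf 5563)) (.node (.node (.leaf 3676) (.leaf 113173738)) (.leaf 417))) (.node (.node (.node (.leaf 2215) (.leaf 4753)) (.leaf 14821261)) (.node (.node (.leaf 38975957) (.leaf 6034)) (.leaf 2196)))) (.node (.node (.node (.node (.leaf 1361) (.leaf 4265)) (.leaf 39809421)) (.node (.node (.leaf 4279) (.leaf 5856)) (.leaf 1341))) (.node (.node (.node (.leaf 148157417) (.leaf 5196)) (.leaf 58031825))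 (.node (.node (.leaf 30768728) (.leaf 45443079)) (.leaf 2990))))) (.node (.node (.node (.node (.node (.leaf 908) (.leaf 3955)) (.leaf 118764792)) (.node (.node (.leaf 132608122) (.leaf 89033397)) (.leaf 886))) (.node (.node (.node (.leaf 2614) (.leaf 103584218)) (.leaf 107738283)) (.node (.node (.leaf 4982) (.leaf 108720891)) (.leaf 2592)))) (.node (.node (.node (.node (.leaf 1794) (.leaf 48747198)) (.leaf 73088809)) (.node (.node (.leaf 4531) (.leaf 126308113)) (.leaf 21823250))) (.node (.node (.node (.leaf 3353) (.leaf 84334674)) (.leaf 118488748)) (.node (.node (.leaf 22028615) (.leaf 86737605)) (.leaf 3338))))))))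

/-- Part of `topFac`. -/
def topFac_p01001 : Tr := .node (.node (.node (.node (.node (.node (.node (.node (.node (.leaf 36) (.leaf 3402)) (.node (.leaf 5430) (.leaf 37654489))) (.node (.node (.leaf 3412) (.leaf 5418)) (.leaf 14))) (.node (.node (.node (.leaf 1878) (.leaf 29447688)) (.leaf 2492954)) (.node (.node (.leaf 96375369) (.leaf 118040739)) (.leaf 1859)))) (.node (.node (.node (.node (.leaf 55293474) (.leaf 117023202)) (.leaf 20613951)) (.node (.node (.leaf 30949468) (.leaf 5741)) (.leaf 973))) (.node (.node (.node (.leaf 126514319) (.leaf 13634104)) (.leaf 21771455)) (.node (.node (.leaf 40772360) (.leaf 78067952)) (.leaf 2668))))) (.node (.node (.node (.node (.node (.leaf 531) (.leaf 3713)) (.leaf 109055174)) (.node (.node (.leaf 108618674) (.leaf 5589)) (.leaf 509))) (.node (.node (.node (.leaf 2293) (.leaf 4801)) (.leaf 125959936)) (.node (.node (.leaf 24896443) (.leaf 61718847)) (.leaf 2273)))) (.node (.node (.node (.node (.leaf 1446) (.leaf 4318)) (.leaf 52054376)) (.node (.node (.leaf 4328) (.leaf 681797))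 (.leaf 1424))) (.node (.node (.node (.leaf 3070) (.leaf 5231)) (.leaf 144341547)) (.node (.node (.leaf 5241) (.leaf 96007760)) (.leaf 3058)))))) (.node (.node (.node (.node (.node (.node (.leaf 283) (.leaf 3561)) (.leaf 5512)) (.node (.node (.leaf 3573) (.leaf 5505)) (.leaf 260))) (.node (.node (.node (.leaf 2084) (.leaf 4690)) (.leaf 6014)) (.node (.node (.leaf 4700) (.leaf 148775102)) (.leaf 2065)))) (.node (.node (.node (.node (.leaf 1215) (.leaf 4171)) (.leaf 5824)) (.node (.node (.leaf 4184) (.leaf 10082190)) (.leaf 53496597))) (.node (.node (.node (.leaf 2887) (.leaf 5128)) (.leaf 149941357)) (.node (.node (.leaf 108950075) (.leaf 30939567)) (.leaf 2871))))) (.node (.node (.node (.node (.node (.leaf 764) (.leaf 3866)) (.leaf 78773765)) (.node (.node (.leaf 3882) (.leaf 122471883)) (.leaf 742))) (.node (.node (.node (.leaf 2488) (.leaf 65100966)) (.leaf 138905125)) (.node (.node (.leaf 143683269) (.leaf 130313983)) (.leaf 46933452)))) (.node (.node (.node (.node (.leaf 1661) (.leaf 4445)) (.leaf 80559611)) (.node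 (.node (.leaf 95867705) (.leaf 91951322)) (.leaf 98348672))) (.node (.node (.node (.leaf 114768644) (.leaf 5335)) (.leaf 95981997)) (.node (.node (.leaf 7871996) (.leaf 121327228)) (.leaf 3235))))))) (.node (.node (.node (.node (.node (.node (.node (.leaf 159) (.leaf 3486)) (.leaf 120321401)) (.node (.node (.leaf 3500) (.leaf 5468)) (.leaf 138))) (.node (.node (.node (.leaf 1976) (.leaf 4622)) (.leaf 12916896)) (.node (.node (.leaf 2947) (.leaf 20519885)) (.leaf 1957)))) (.node (.node (.node (.node (.leaf 1108) (.leaf 41550300)) (.leaf 102770451)) (.node (.node (.leaf 46419935) (.leaf 127483198)) (.leaf 1089))) (.node (.node (.node (.leaf 36826903) (.leaf 5074)) (.leaf 5410427)) (.node (.node (.leaf 5086) (.leaf 77563957)) (.leaf 2770))))) (.node (.node (.node (.node (.node (.leaf 648) (.leaf 3791)) (.leaf 5629)) (.node (.node (.leaf 129789990) (.leaf 76245653)) (.leaf 628))) (.node (.node (.node (.leaf 2394) (.leaf 115606020)) (.leaf 103151824)) (.node (.node (.leaf 4859) (.leaf 29447815)) (.leaf 2376)))) (.node (.node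 (.node (.node (.leaf 1555) (.leaf 4383)) (.leaf 94071258)) (.node (.node (.leaf 5117868) (.leaf 28930560)) (.leaf 60292577))) (.node (.node (.node (.leaf 78812248) (.leaf 131806887)) (.leaf 70982331)) (.node (.node (.leaf 118444819) (.leaf 9094914)) (.leaf 3144)))))) (.node (.node (.node (.node (.node (.node (.leaf 408) (.leaf 73816668)) (.leaf 128591974)) (.node (.node (.leaf 3030306) (.leaf 27132844)) (.leaf 385))) (.node (.node (.node (.leaf 61211150) (.leaf 4741)) (.leaf 50585400)) (.node (.node (.leaf 4748) (.leaf 103081913)) (.leaf 19964510)))) (.node (.node (.node (.node (.leaf 1332) (.leaf 4247)) (.leaf 103960590)) (.node (.node (.leaf 4258) (.leaf 136451054)) (.leaf 143355692))) (.node (.node (.node (.leaf 2981) (.leaf 5182)) (.leaf 137558860)) (.node (.node (.leaf 135109787) (.leaf 50849005)) (.leaf 2967))))) (.node (.node (.node (.node (.node (.leaf 878) (.leaf 112330850)) (.leaf 41098575)) (.node (.node (.leaf 3948) (.leaf 52164896)) (.leaf 857))) (.node (.node (.node (.leaf 2587) (.leaf 22718842)) (.leaf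 57249486)) (.node (.node (.leaf 4971) (.leaf 148150222)) (.leaf 2569)))) (.node (.node (.node (.node (.leaf 1767) (.leaf 94603153)) (.leaf 120396350)) (.node (.node (.leaf 4510) (.leaf 68883602)) (.leaf 1744))) (.node (.node (.node (.leaf 89911186) (.leaf 31844142)) (.leaf 93980258)) (.node (.node (.leaf 90066966) (.leaf 118769223)) (.leaf 3318)))))))) (.node (.node (.node (.node (.node (.node (.node (.node (.leaf 99) (.leaf 3441)) (.leaf 73026202)) (.node (.node (.leaf 3454) (.leaf 49763929)) (.leaf 77))) (.node (.node (.node (.leaf 69699349) (.leaf 63133498)) (.leaf 5979)) (.node (.node (.leaf 104594340) (.leaf 102550590)) (.leaf 138474776)))) (.node (.node (.node (.node (.leaf 1053) (.leaf 47493911)) (.leaf 16703250)) (.node (.node (.leaf 4072) (.leaf 5755)) (.leaf 1030))) (.node (.node (.node (.leaf 2740) (.leaf 122014271)) (.leaf 52056904)) (.node (.node (.leaf 88760084) (.leaf 93127555)) (.leaf 2724))))) (.node (.node (.node (.node (.node (.leaf 591) (.leaf 3754)) (.leaf 128050272)) (.node (.node (.leaf 21622544)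 (.leaf 1381163)) (.leaf 570))) (.node (.node (.node (.leaf 2345) (.leaf 4829)) (.leaf 5902)) (.node (.node (.leaf 123952778) (.leaf 112978934)) (.leaf 2328)))) (.node (.node (.node (.node (.leaf 59) (.leaf 20130946)) (.leaf 54459620)) (.node (.node (.leaf 4363) (.leaf 5893)) (.leaf 1483))) (.node (.node (.node (.leaf 3116) (.leaf 75129809)) (.leaf 134253054)) (.node (.node (.leaf 5267) (.leaf 124044063)) (.leaf 3098)))))) (.node (.node (.node (.node (.node (.node (.leaf 345) (.leaf 3597)) (.leaf 5535)) (.node (.node (.leaf 3610) (.leaf 5530)) (.leaf 323))) (.node (.node (.node (.leaf 2137) (.leaf 4716)) (.leaf 140274927)) (.node (.node (.leaf 39794902) (.leaf 7192238)) (.leaf 2118)))) (.node (.node (.node (.node (.leaf 1272) (.leaf 136703883)) (.leaf 8485443)) (.node (.node (.leaf 111567830) (.leaf 40)) (.leaf 1251))) (.node (.node (.node (.leaf 2934) (.leaf 5157)) (.leaf 67800651)) (.node (.node (.leaf 67480095) (.leaf 17030509)) (.leaf 2916))))) (.node (.node (.node (.node (.node (.leaf 820) (.leaf 3900)) (.leaf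 48981077)) (.node (.node (.leaf 3916) (.leaf 37671420)) (.leaf 799))) (.node (.node (.node (.leaf 2538) (.leaf 96012292)) (.leaf 899)) (.node (.node (.leaf 67025126) (.leaf 54097052)) (.leaf 2522)))) (.node (.node (.node (.node (.leaf 1712) (.leaf 4474)) (.leaf 94612640)) (.node (.node (.leaf 4483) (.leaf 35734055)) (.leaf 1692))) (.node (.node (.node (.leaf 3292) (.leaf 136101714)) (.leaf 54302054)) (.node (.node (.leaf 28353086) (.leaf 1047713)) (.leaf 28928729))))))) (.node (.node (.node (.node (.node (.node (.node (.leaf 221) (.leaf 21627264)) (.leaf 5496)) (.node (.node (.leaf 3535) (.leaf 98786997)) (.leaf 200))) (.node (.node (.node (.leaf 2030) (.leaf 4656)) (.leaf 3665757)) (.node (.node (.leaf 19192164) (.leaf 36918311)) (.leaf 2010)))) (.node (.node (.node (.node (.leaf 1164) (.leaf 4131)) (.leaf 103375527)) (.node (.node (.leaf 148946823) (.leaf 102208994)) (.leaf 1143))) (.node (.node (.node (.leaf 2839) (.leaf 86616921)) (.leaf 108577999)) (.node (.node (.leaf 5111) (.leaf 8247647)) (.leaf 2821))))) (.node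 (.node (.node (.node (.node (.leaf 47986714) (.leaf 29444881)) (.leaf 118934648)) (.node (.node (.leaf 110206318) (.leaf 114584736)) (.leaf 685))) (.node (.node (.node (.leaf 2440) (.leaf 115420636)) (.leaf 6073)) (.node (.node (.leaf 132929123) (.leaf 6071)) (.leaf 2425)))) (.node (.node (.node (.node (.leaf 1609) (.leaf 39303955)) (.leaf 53989963)) (.node (.node (.leaf 4423) (.leaf 106999305)) (.leaf 1593))) (.node (.node (.node (.leaf 3212) (.leaf 21025012)) (.leaf 52753498)) (.node (.node (.leaf 55645147) (.leaf 20456025)) (.leaf 114338104)))))) (.node (.node (.node (.node (.node (.node (.leaf 16) (.leaf 3681)) (.leaf 5578)) (.node (.node (.leaf 104683762) (.leaf 124450233)) (.leaf 36462109))) (.node (.node (.node (.leaf 2242) (.leaf 21893074)) (.leaf 141387123)) (.node (.node (.leaf 4782) (.leaf 30896791)) (.leaf 2223)))) (.node (.node (.node (.node (.leaf 1390) (.leaf 1295504)) (.leaf 5870)) (.node (.node (.leaf 25470899) (.leaf 68224123)) (.leaf 1370))) (.node (.node (.node (.leaf 58792428) (.leaf 5206)) (.leaf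 109416592)) (.node (.node (.leaf 389) (.leaf 6400846)) (.leaf 3006))))) (.node (.node (.node (.node (.node (.leaf 938) (.leaf 3979)) (.leaf 25751838)) (.node (.node (.leaf 3995) (.leaf 5718)) (.leaf 916))) (.node (.node (.node (.leaf 2643) (.leaf 4986)) (.leaf 60198463)) (.node (.node (.leaf 4999) (.leaf 140893205)) (.leaf 2622)))) (.node (.node (.node (.node (.leaf 1820) (.leaf 4536)) (.leaf 19164972)) (.node (.node (.leaf 118098789) (.leaf 52405326)) (.leaf 1801))) (.node (.node (.node (.leaf 164) (.leaf 110628627)) (.leaf 108917841)) (.node (.node (.leaf 5402) (.leaf 92084483)) (.leaf 3358))))))))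

/-- Part of `topFac`. -/
def topFac_p01010 : Tr := .node (.node (.node (.node (.node (.node (.node (.node (.node (.leaf 21) (.leaf 62288984)) (.node (.leaf 5424) (.leaf 36609546))) (.node (.node (.leaf 36538002) (.leaf 49947820)) (.leaf 139592189))) (.node (.node (.node (.leaf 4544090) (.leaf 69910748)) (.leaf 52033536)) (.node (.node (.leaf 4572) (.leaf 52288325)) (.leaf 1843)))) (.node (.node (.node (.node (.leaf 979) (.leaf 146768839)) (.leaf 5743)) (.node (.node (.leaf 141246259) (.leaf 5736)) (.leaf 960))) (.node (.node (.node (.leaf 2673) (.leaf 16037468)) (.leaf 6111)) (.node (.node (.leaf 5021) (.leaf 118353976)) (.leaf 2658))))) (.node (.node (.node (.node (.node (.leaf 516) (.leaf 3706)) (.leaf 126688149)) (.node (.node (.leaf 3718) (.leaf 4243913)) (.leaf 493))) (.node (.node (.node (.leaf 10781386) (.leaf 4793)) (.leaf 45849738)) (.node (.node (.leaf 4803) (.leaf 18538393)) (.leaf 65364855)))) (.node (.node (.node (.node (.leaf 1430) (.leaf 17887094)) (.leaf 139548918)) (.node (.node (.leaf 89811702) (.leaf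 104938255)) (.leaf 1410))) (.node (.node (.node (.leaf 44600848) (.leaf 5226)) (.leaf 139321005)) (.node (.node (.leaf 5234) (.leaf 61434631)) (.leaf 3046)))))) (.node (.node (.node (.node (.node (.node (.leaf 267) (.leaf 61752784)) (.leaf 117029017)) (.node (.node (.leaf 123559626) (.leaf 61047074)) (.leaf 245))) (.node (.node (.node (.leaf 2072) (.leaf 4680)) (.leaf 133830860)) (.node (.node (.leaf 61081653) (.leaf 105197243)) (.leaf 2050)))) (.node (.node (.node (.node (.leaf 1203) (.leaf 4160)) (.leaf 144336797)) (.node (.node (.leaf 4175) (.leaf 99531931)) (.leaf 1185))) (.node (.node (.node (.leaf 2875) (.leaf 58273842)) (.leaf 51106016)) (.node (.node (.leaf 125900475) (.leaf 126688129)) (.leaf 2857))))) (.node (.node (.node (.node (.node (.leaf 748) (.leaf 3859)) (.leaf 77569437)) (.node (.node (.leaf 3870) (.leaf 39371619)) (.leaf 728))) (.node (.node (.node (.leaf 2476) (.leaf 37560946)) (.leaf 118470172)) (.node (.node (.leaf 96893652) (.leaf 106389003)) (.leaf 49365490)))) (.node (.node (.node (.node (.leaf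 69698681) (.leaf 4438)) (.leaf 12125101)) (.node (.node (.leaf 14076021) (.leaf 8816148)) (.leaf 1630))) (.node (.node (.node (.leaf 3238) (.leaf 5328)) (.leaf 91431223)) (.node (.node (.leaf 28161110) (.leaf 118834356)) (.leaf 11980320))))))) (.node (.node (.node (.node (.node (.node (.node (.leaf 145) (.leaf 111541031)) (.leaf 28275046)) (.node (.node (.leaf 143953122) (.leaf 35724313)) (.leaf 122))) (.node (.node (.node (.leaf 1962) (.leaf 115667165)) (.leaf 37425362)) (.node (.node (.leaf 1048864) (.leaf 21613234)) (.leaf 12386545)))) (.node (.node (.node (.node (.leaf 1095) (.leaf 90520264)) (.leaf 48891831)) (.node (.node (.leaf 22797792) (.leaf 5769)) (.leaf 1074))) (.node (.node (.node (.leaf 2775) (.leaf 74969834)) (.leaf 26892248)) (.node (.node (.leaf 114964549) (.leaf 7313214)) (.leaf 2758))))) (.node (.node (.node (.node (.node (.leaf 635) (.leaf 30189484)) (.leaf 67477328)) (.node (.node (.leaf 35953941) (.leaf 63618596)) (.leaf 614))) (.node (.node (.node (.leaf 2382) (.leaf 115219736)) (.leaf 113958055))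 (.node (.node (.leaf 4851) (.leaf 122271833)) (.leaf 2363)))) (.node (.node (.node (.node (.leaf 79585960) (.leaf 26708832)) (.leaf 6867125)) (.node (.node (.leaf 4384) (.leaf 5902)) (.leaf 1523))) (.node (.node (.node (.leaf 3150) (.leaf 5276)) (.leaf 77483204)) (.node (.node (.leaf 136264986) (.leaf 30192017)) (.leaf 3136)))))) (.node (.node (.node (.node (.node (.node (.leaf 392) (.leaf 3626)) (.leaf 10190772)) (.node (.node (.leaf 88107350) (.leaf 90846824)) (.leaf 370))) (.node (.node (.node (.leaf 2176) (.leaf 4735)) (.leaf 26996808)) (.node (.node (.leaf 49763639) (.leaf 109051500)) (.leaf 2159)))) (.node (.node (.node (.node (.leaf 1316) (.leaf 76405693)) (.leaf 5850)) (.node (.node (.leaf 4249) (.leaf 144464725)) (.leaf 1296))) (.node (.node (.node (.leaf 2972) (.leaf 5175)) (.leaf 9609408)) (.node (.node (.leaf 93300966) (.leaf 92632574)) (.leaf 33097604))))) (.node (.node (.node (.node (.node (.leaf 864) (.leaf 3927)) (.leaf 27467351)) (.node (.node (.leaf 28804968) (.leaf 143098969)) (.leaf 843))) (.node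 (.node (.node (.leaf 2574) (.leaf 17826324)) (.leaf 72765433)) (.node (.node (.leaf 134451977) (.leaf 11803240)) (.leaf 121885078)))) (.node (.node (.node (.node (.leaf 1751) (.leaf 54691412)) (.leaf 106396936)) (.node (.node (.leaf 6804849) (.leaf 126782529)) (.leaf 1731))) (.node (.node (.node (.leaf 3324) (.leaf 64907607)) (.leaf 33048127)) (.node (.node (.leaf 71309927) (.leaf 30624803)) (.leaf 2266791)))))))) (.node (.node (.node (.node (.node (.node (.node (.node (.leaf 84) (.leaf 32904117)) (.leaf 118483660)) (.node (.node (.leaf 3445) (.leaf 5437)) (.leaf 61))) (.node (.node (.node (.leaf 1916) (.leaf 91822946)) (.leaf 5976)) (.node (.node (.leaf 86001027) (.leaf 133372863)) (.leaf 1897)))) (.node (.node (.node (.node (.leaf 1037) (.leaf 4046)) (.leaf 87639406)) (.node (.node (.leaf 4060) (.leaf 85947796)) (.leaf 1016))) (.node (.node (.node (.leaf 2730) (.leaf 124028492)) (.leaf 36566560)) (.node (.node (.leaf 29182075) (.leaf 106239728)) (.leaf 2710))))) (.node (.node (.node (.node (.node (.leaf 577) (.leaf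 3745)) (.leaf 55740838)) (.node (.node (.leaf 3760) (.leaf 5601)) (.leaf 555))) (.node (.node (.node (.leaf 2333) (.leaf 25929261)) (.leaf 6050)) (.node (.node (.leaf 134580770) (.leaf 138924405)) (.leaf 2315)))) (.node (.node (.node (.node (.leaf 1489) (.leaf 4343)) (.leaf 44201767)) (.node (.node (.leaf 251) (.leaf 26764476)) (.leaf 1470))) (.node (.node (.node (.leaf 59203272) (.leaf 95962581)) (.leaf 95933866)) (.node (.node (.leaf 146581275) (.leaf 56466995)) (.leaf 3086)))))) (.node (.node (.node (.node (.node (.node (.leaf 330) (.leaf 77168718)) (.leaf 5532)) (.node (.node (.leaf 70914173) (.leaf 92014649)) (.leaf 308))) (.node (.node (.node (.leaf 2123) (.leaf 63297914)) (.leaf 6023)) (.node (.node (.leaf 81601956) (.leaf 83450492)) (.leaf 2104)))) (.node (.node (.node (.node (.leaf 1258) (.leaf 4196)) (.leaf 34902982)) (.node (.node (.leaf 4211) (.leaf 140436324)) (.leaf 1238))) (.node (.node (.node (.leaf 2923) (.leaf 5147)) (.leaf 13311842)) (.node (.node (.leaf 5160) (.leaf 37127909)) (.leaf 44108183)))))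 (.node (.node (.node (.node (.node (.leaf 806) (.leaf 11883314)) (.leaf 4421)) (.node (.node (.leaf 3905) (.leaf 48416424)) (.leaf 784))) (.node (.node (.node (.leaf 2529) (.leaf 4931)) (.leaf 117712749)) (.node (.node (.leaf 56186598) (.leaf 2378845)) (.leaf 2508)))) (.node (.node (.node (.node (.leaf 112132330) (.leaf 3182)) (.leaf 59058676)) (.node (.node (.leaf 54691466) (.leaf 111380143)) (.leaf 1680))) (.node (.node (.node (.leaf 3285) (.leaf 109692207)) (.leaf 58001742)) (.node (.node (.leaf 5358) (.leaf 6155)) (.leaf 18321565))))))) (.node (.node (.node (.node (.node (.node (.node (.leaf 6) (.leaf 76587153)) (.leaf 5490)) (.node (.node (.leaf 35101708) (.leaf 90781495)) (.leaf 184))) (.node (.node (.node (.leaf 2017) (.leaf 58836092)) (.leaf 65739266)) (.node (.node (.leaf 4660) (.leaf 5990)) (.leaf 1994)))) (.node (.node (.node (.node (.leaf 1150) (.leaf 54179438)) (.leaf 574)) (.node (.node (.leaf 4134) (.leaf 127956092)) (.leaf 1130))) (.node (.node (.node (.leaf 2828) (.leaf 34788519)) (.leaf 111229957))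 (.node (.node (.leaf 83703971) (.leaf 52212657)) (.leaf 120190529))))) (.node (.node (.node (.node (.node (.leaf 691) (.leaf 3824)) (.leaf 5645)) (.node (.node (.leaf 3840) (.leaf 100418258)) (.leaf 672))) (.node (.node (.node (.leaf 2428) (.leaf 4873)) (.leaf 37281958)) (.node (.node (.leaf 4884) (.leaf 10707301)) (.leaf 2413)))) (.node (.node (.node (.node (.leaf 1598) (.leaf 73388278)) (.leaf 15641077)) (.node (.node (.leaf 25654463) (.leaf 149978249)) (.leaf 1579))) (.node (.node (.node (.leaf 3200) (.leaf 5300)) (.leaf 29898576)) (.node (.node (.leaf 5307) (.leaf 6152)) (.leaf 3181)))))) (.node (.node (.node (.node (.node (.node (.leaf 454) (.leaf 3670)) (.leaf 21669696)) (.node (.node (.leaf 3684) (.leaf 34238667)) (.leaf 432))) (.node (.node (.node (.leaf 15749251) (.leaf 4761)) (.leaf 60020506)) (.node (.node (.leaf 57392765) (.leaf 145998671)) (.leaf 2210)))) (.node (.node (.node (.node (.leaf 1375) (.leaf 4273)) (.leaf 49705427)) (.node (.node (.leaf 4289) (.leaf 5859)) (.leaf 1354))) (.node (.node (.node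 (.leaf 3013) (.leaf 50879471)) (.leaf 23608115)) (.node (.node (.leaf 5210) (.leaf 120688249)) (.leaf 146157272))))) (.node (.node (.node (.node (.node (.leaf 922) (.leaf 3967)) (.leaf 16844489)) (.node (.node (.leaf 3984) (.leaf 5714)) (.leaf 901))) (.node (.node (.node (.leaf 2629) (.leaf 97895235)) (.leaf 12753933)) (.node (.node (.leaf 4989) (.leaf 118077153)) (.leaf 2607)))) (.node (.node (.node (.node (.leaf 52413192) (.leaf 4527)) (.leaf 86909238)) (.node (.node (.leaf 4542) (.leaf 91497448)) (.leaf 140376940))) (.node (.node (.node (.leaf 3362) (.leaf 108122402)) (.leaf 109648550)) (.node (.node (.leaf 100019394) (.leaf 144904277)) (.leaf 3347))))))))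

/-- Part of `topFac`. -/
def topFac_p01011 : Tr := .node (.node (.node (.node (.node (.node (.node (.node (.node (.leaf 52) (.leaf 50467929)) (.leaf 96730886)) (.node (.node (.leaf 3425) (.leaf 22604095)) (.leaf 30))) (.node (.node (.node (.leaf 148447607) (.leaf 108828838)) (.leaf 115233567)) (.node (.node (.leaf 4583) (.leaf 23926400)) (.leaf 1872)))) (.node (.node (.node (.node (.leaf 1009) (.leaf 4025)) (.leaf 98745344)) (.node (.node (.leaf 17862439) (.leaf 104459685)) (.leaf 988))) (.node (.node (.node (.leaf 2702) (.leaf 5026)) (.leaf 6118)) (.node (.node (.leaf 5035) (.leaf 6113)) (.leaf 2682))))) (.node (.node (.node (.node (.node (.leaf 132742052) (.leaf 54680107)) (.leaf 491)) (.node (.node (.leaf 3737) (.leaf 5594)) (.leaf 525))) (.node (.node (.node (.leaf 2306) (.leaf 44849235)) (.leaf 78506959)) (.node (.node (.leaf 51394993) (.leaf 15902843)) (.leaf 107988867)))) (.node (.node (.node (.node (.leaf 1462) (.leaf 128434226)) (.leaf 104058624)) (.node (.node (.leaf 4337) (.leaf 18935307)) (.leaf 1439)))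 (.node (.node (.node (.leaf 77455744) (.leaf 118440285)) (.leaf 27478285)) (.node (.node (.leaf 5249) (.leaf 110167926)) (.leaf 86929438)))))) (.node (.node (.node (.node (.node (.node (.leaf 299) (.leaf 139736687)) (.leaf 123659459)) (.node (.node (.leaf 3584) (.leaf 111674170)) (.leaf 276))) (.node (.node (.node (.leaf 2097) (.leaf 118746852)) (.leaf 139766721)) (.node (.node (.leaf 4707) (.leaf 81196648)) (.leaf 83925427)))) (.node (.node (.node (.node (.leaf 1230) (.leaf 111641825)) (.leaf 141363532)) (.node (.node (.leaf 4191) (.leaf 5821)) (.leaf 21823653))) (.node (.node (.node (.leaf 2899) (.leaf 5136)) (.leaf 66946241)) (.node (.node (.leaf 101516344) (.leaf 135305405)) (.leaf 2883))))) (.node (.node (.node (.node (.node (.leaf 779) (.leaf 3878)) (.leaf 63967613)) (.node (.node (.leaf 52099667) (.leaf 75599954)) (.leaf 757))) (.node (.node (.node (.leaf 2502) (.leaf 99355109)) (.leaf 47665804)) (.node (.node (.leaf 4928) (.leaf 16036200)) (.leaf 2483)))) (.node (.node (.node (.node (.leaf 1672) (.leaf 4454))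 (.leaf 5927)) (.node (.node (.leaf 16304159) (.leaf 90011889)) (.leaf 1654))) (.node (.node (.node (.leaf 3261) (.leaf 5340)) (.leaf 78499921)) (.node (.node (.leaf 15443133) (.leaf 97555169)) (.leaf 3245))))))) (.node (.node (.node (.node (.node (.node (.node (.leaf 175) (.leaf 6396412)) (.leaf 17469693)) (.node (.node (.leaf 140057035) (.leaf 74494626)) (.leaf 152))) (.node (.node (.node (.leaf 8503200) (.leaf 64449634)) (.leaf 128687288)) (.node (.node (.leaf 4642) (.leaf 101050101)) (.leaf 1970)))) (.node (.node (.node (.node (.leaf 1122) (.leaf 4107)) (.leaf 121079810)) (.node (.node (.leaf 227) (.leaf 148548414)) (.leaf 1102))) (.node (.node (.node (.leaf 2801) (.leaf 5081)) (.leaf 35211868)) (.node (.node (.leaf 148928893) (.leaf 19902270)) (.leaf 87570719))))) (.node (.node (.node (.node (.node (.leaf 663) (.leaf 3802)) (.leaf 104269115)) (.node (.node (.leaf 3817) (.leaf 19965248)) (.leaf 642))) (.node (.node (.node (.leaf 2408) (.leaf 121934897)) (.leaf 44623164)) (.node (.node (.leaf 4866) (.leaf 19423747))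 (.leaf 2389)))) (.node (.node (.node (.node (.leaf 133056698) (.leaf 74269431)) (.leaf 653)) (.node (.node (.leaf 4400) (.leaf 42234820)) (.leaf 1548))) (.node (.node (.node (.leaf 99477318) (.leaf 31127541)) (.leaf 4186059)) (.node (.node (.leaf 104385075) (.leaf 113399281)) (.leaf 59604468)))))) (.node (.node (.node (.node (.node (.node (.leaf 424) (.leaf 3650)) (.leaf 5554)) (.node (.node (.leaf 56286834) (.leaf 5548)) (.leaf 401))) (.node (.node (.node (.leaf 2202) (.leaf 108429539)) (.leaf 144379842)) (.node (.node (.leaf 4756) (.leaf 113651509)) (.leaf 2183)))) (.node (.node (.node (.node (.leaf 1347) (.leaf 4254)) (.leaf 37130246)) (.node (.node (.leaf 4270) (.leaf 5852)) (.leaf 1325))) (.node (.node (.node (.leaf 101010552) (.leaf 55098030)) (.leaf 25251752)) (.node (.node (.leaf 5198) (.leaf 111440487)) (.leaf 2978))))) (.node (.node (.node (.node (.node (.leaf 892) (.leaf 2711)) (.leaf 5713)) (.node (.node (.leaf 3960) (.leaf 25636849)) (.leaf 873))) (.node (.node (.node (.leaf 2598) (.leaf 41748187)) (.leaf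 130734441)) (.node (.node (.leaf 19826514) (.leaf 123959461)) (.leaf 2581)))) (.node (.node (.node (.node (.leaf 1781) (.leaf 4505)) (.leaf 133500880)) (.node (.node (.leaf 78453110) (.leaf 139235537)) (.leaf 1760))) (.node (.node (.node (.leaf 64629022) (.leaf 5382)) (.leaf 84421514)) (.node (.node (.leaf 5388) (.leaf 104634960)) (.leaf 3328)))))))) (.node (.node (.node (.node (.node (.node (.node (.node (.leaf 113) (.leaf 3450)) (.leaf 5457)) (.node (.node (.leaf 3465) (.leaf 22650969)) (.leaf 92))) (.node (.node (.node (.leaf 1941) (.leaf 116300924)) (.leaf 102945709)) (.node (.node (.leaf 63484070) (.leaf 5978)) (.leaf 69699356)))) (.node (.node (.node (.node (.leaf 1065) (.leaf 4066)) (.leaf 53673203)) (.node (.node (.leaf 101871002) (.leaf 5759)) (.leaf 1046))) (.node (.node (.node (.leaf 2753) (.leaf 84198978)) (.leaf 3631153)) (.node (.node (.leaf 5059) (.leaf 17067774)) (.leaf 2734))))) (.node (.node (.node (.node (.node (.leaf 606) (.leaf 39931155)) (.leaf 32527580)) (.node (.node (.leaf 7481527) (.leaf 78831506))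 (.leaf 584))) (.node (.node (.node (.leaf 2355) (.leaf 21823078)) (.leaf 46664279)) (.node (.node (.leaf 12639294) (.leaf 6054)) (.leaf 2339)))) (.node (.node (.node (.node (.leaf 1515) (.leaf 4358)) (.leaf 149737978)) (.node (.node (.leaf 4370) (.leaf 48931360)) (.leaf 1497))) (.node (.node (.node (.leaf 3127) (.leaf 50225363)) (.leaf 43183754)) (.node (.node (.leaf 99804839) (.leaf 47840415)) (.leaf 3109)))))) (.node (.node (.node (.node (.node (.node (.leaf 361) (.leaf 3605)) (.leaf 24817551)) (.node (.node (.leaf 142631981) (.leaf 57029859)) (.leaf 339))) (.node (.node (.node (.leaf 2151) (.leaf 55833127)) (.leaf 62850677)) (.node (.node (.leaf 300) (.leaf 62831117)) (.leaf 2131)))) (.node (.node (.node (.node (.leaf 1287) (.leaf 4220)) (.leaf 5845)) (.node (.node (.leaf 4231) (.leaf 5837)) (.leaf 1267))) (.node (.node (.node (.leaf 2948) (.leaf 5162)) (.leaf 6143)) (.node (.node (.leaf 381) (.leaf 42208918)) (.leaf 2928))))) (.node (.node (.node (.node (.node (.leaf 835) (.leaf 3910)) (.leaf 529)) (.node (.node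 (.leaf 33219109) (.leaf 42898992)) (.leaf 814))) (.node (.node (.node (.leaf 2551) (.leaf 4683368)) (.leaf 44777606)) (.node (.node (.leaf 4951) (.leaf 6088)) (.leaf 2535)))) (.node (.node (.node (.node (.leaf 1723) (.leaf 4479)) (.leaf 20883928)) (.node (.node (.leaf 81372886) (.leaf 8451138)) (.leaf 1705))) (.node (.node (.node (.leaf 40348337) (.leaf 5364)) (.leaf 140836801)) (.node (.node (.leaf 147545883) (.leaf 130787704)) (.leaf 44484785))))))) (.node (.node (.node (.node (.node (.node (.node (.leaf 236) (.leaf 3530)) (.leaf 52416924)) (.node (.node (.leaf 93168418) (.leaf 117516807)) (.leaf 214))) (.node (.node (.node (.leaf 116286925) (.leaf 4666)) (.leaf 90830935)) (.node (.node (.leaf 4677) (.leaf 5999)) (.leaf 2024)))) (.node (.node (.node (.node (.leaf 1176) (.leaf 4138)) (.leaf 14862064)) (.node (.node (.leaf 141551629) (.leaf 10037518)) (.leaf 1159))) (.node (.node (.node (.leaf 2850) (.leaf 120960696)) (.leaf 67626099)) (.node (.node (.leaf 91617702) (.leaf 123901405)) (.leaf 2835))))) (.node (.node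 (.node (.node (.node (.leaf 719) (.leaf 60169437)) (.leaf 5658)) (.node (.node (.leaf 3856) (.leaf 5647)) (.leaf 698))) (.node (.node (.node (.leaf 2450) (.leaf 4889)) (.leaf 6075)) (.node (.node (.leaf 4901) (.leaf 146395438)) (.leaf 2435)))) (.node (.node (.node (.node (.leaf 1621) (.leaf 39518407)) (.leaf 5918)) (.node (.node (.leaf 260) (.leaf 951381)) (.leaf 1603))) (.node (.node (.node (.leaf 144137979) (.leaf 125168682)) (.leaf 28587084)) (.node (.node (.leaf 145962131) (.leaf 98824816)) (.leaf 3207)))))) (.node (.node (.node (.node (.node (.node (.leaf 484) (.leaf 3691)) (.leaf 62512986)) (.node (.node (.leaf 38636559) (.leaf 48114135)) (.leaf 463))) (.node (.node (.node (.leaf 2254) (.leaf 4776)) (.leaf 11554170)) (.node (.node (.leaf 4787) (.leaf 109521132)) (.leaf 2237)))) (.node (.node (.node (.node (.leaf 1403) (.leaf 130932163)) (.leaf 80671225)) (.node (.node (.leaf 124822431) (.leaf 5868)) (.leaf 1384))) (.node (.node (.node (.leaf 3037) (.leaf 119022895)) (.leaf 38080574)) (.node (.node (.leaf 5222)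 (.leaf 81117142)) (.leaf 10940670))))) (.node (.node (.node (.node (.node (.leaf 953) (.leaf 3991)) (.leaf 5733)) (.node (.node (.leaf 53573374) (.leaf 13241016)) (.leaf 931))) (.node (.node (.node (.leaf 2655) (.leaf 84763383)) (.leaf 119228795)) (.node (.node (.leaf 29264205) (.leaf 32433065)) (.leaf 2637)))) (.node (.node (.node (.node (.leaf 1834) (.leaf 17)) (.leaf 135927693)) (.node (.node (.leaf 276) (.leaf 99313159)) (.leaf 1815))) (.node (.node (.node (.leaf 3383) (.leaf 5401)) (.leaf 96691889)) (.node (.node (.leaf 436) (.leaf 7329712)) (.leaf 3371))))))))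

/-- Part of `topFac`. -/
def topFac_p01100 : Tr := .node (.node (.node (.node (.node (.node (.node (.node (.node (.leaf 13) (.leaf 3384)) (.node (.leaf 10838655) (.leaf 37130073))) (.node (.node (.leaf 136585056) (.leaf 123093499)) (.leaf 2189))) (.node (.node (.node (.leaf 1858) (.leaf 88581392)) (.leaf 127554575)) (.node (.node (.leaf 4568) (.leaf 8542708)) (.leaf 1835)))) (.node (.node (.node (.node (.leaf 972) (.leaf 4005)) (.leaf 88186547)) (.node (.node (.leaf 4017) (.leaf 45787317)) (.leaf 954))) (.node (.node (.node (.leaf 84910407) (.leaf 3724)) (.leaf 60288817)) (.node (.node (.leaf 55162234) (.leaf 6106)) (.leaf 118984096))))) (.node (.node (.node (.node (.node (.leaf 508) (.leaf 30189264)) (.leaf 89085967)) (.node (.node (.leaf 3712) (.leaf 29424867)) (.leaf 485))) (.node (.node (.node (.leaf 89313237) (.leaf 4788)) (.leaf 93415582)) (.node (.node (.leaf 110576518) (.leaf 13892116)) (.leaf 2255)))) (.node (.node (.node (.node (.leaf 1423) (.leaf 4309)) (.leaf 109599421)) (.node (.node (.leaf 247) (.leaf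 61817393)) (.leaf 136447818))) (.node (.node (.node (.leaf 3057) (.leaf 107570958)) (.leaf 94801085)) (.node (.node (.leaf 5230) (.leaf 126893010)) (.leaf 3038)))))) (.node (.node (.node (.node (.node (.node (.leaf 259) (.leaf 120190240)) (.leaf 5504)) (.node (.node (.leaf 3560) (.leaf 5499)) (.leaf 237))) (.node (.node (.node (.leaf 35176569) (.leaf 4678)) (.leaf 58851145)) (.node (.node (.leaf 145704456) (.leaf 51482460)) (.leaf 2045)))) (.node (.node (.node (.node (.leaf 1197) (.leaf 4154)) (.leaf 5814)) (.node (.node (.leaf 4170) (.leaf 28354071)) (.leaf 1177))) (.node (.node (.node (.leaf 2870) (.leaf 5118)) (.leaf 50810617)) (.node (.node (.leaf 38888084) (.leaf 111300447)) (.leaf 16191254))))) (.node (.node (.node (.node (.node (.leaf 26) (.leaf 80998206)) (.leaf 79714690)) (.node (.node (.leaf 3865) (.leaf 5659)) (.leaf 720))) (.node (.node (.node (.leaf 98847781) (.leaf 42821786)) (.leaf 16768493)) (.node (.node (.leaf 37260189) (.leaf 119290343)) (.leaf 2451)))) (.node (.node (.node (.node (.leaf 1642) (.leaf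 116820505)) (.leaf 91751365)) (.node (.node (.leaf 4444) (.leaf 85099916)) (.leaf 1622))) (.node (.node (.node (.leaf 3234) (.leaf 90003021)) (.leaf 56258578)) (.node (.node (.leaf 417) (.leaf 10737697)) (.leaf 3221))))))) (.node (.node (.node (.node (.node (.node (.node (.leaf 137) (.leaf 3466)) (.leaf 5467)) (.node (.node (.leaf 3485) (.leaf 37128829)) (.leaf 114))) (.node (.node (.node (.leaf 1956) (.leaf 4611)) (.leaf 140220865)) (.node (.node (.leaf 4621) (.leaf 5980)) (.leaf 1942)))) (.node (.node (.node (.node (.leaf 1088) (.leaf 4080)) (.leaf 96421044)) (.node (.node (.leaf 4098) (.leaf 71860541)) (.leaf 1066))) (.node (.node (.node (.leaf 2769) (.leaf 5060)) (.leaf 64545488)) (.node (.node (.leaf 5073) (.leaf 6124)) (.leaf 135760964))))) (.node (.node (.node (.node (.node (.leaf 627) (.leaf 3777)) (.leaf 124257183)) (.node (.node (.leaf 3790) (.leaf 148315236)) (.leaf 120590450))) (.node (.node (.node (.leaf 2375) (.leaf 9431195)) (.leaf 6462521)) (.node (.node (.leaf 60954024) (.leaf 6060)) (.leaf 2356))))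 (.node (.node (.node (.node (.leaf 1536) (.leaf 4371)) (.leaf 111309575)) (.node (.node (.leaf 1100039) (.leaf 36521814)) (.leaf 1516))) (.node (.node (.node (.leaf 3143) (.leaf 10367114)) (.leaf 99782341)) (.node (.node (.leaf 5282) (.leaf 142375922)) (.leaf 3128)))))) (.node (.node (.node (.node (.node (.node (.leaf 384) (.leaf 135164333)) (.leaf 52862954)) (.node (.node (.leaf 13737) (.leaf 5541)) (.leaf 362))) (.node (.node (.node (.leaf 2171) (.leaf 4731)) (.leaf 118776409)) (.node (.node (.leaf 86529341) (.leaf 113323658)) (.leaf 2152)))) (.node (.node (.node (.node (.leaf 1310) (.leaf 16190518)) (.leaf 120169930)) (.node (.node (.leaf 4246) (.leaf 131894821)) (.leaf 1288))) (.node (.node (.node (.leaf 2966) (.leaf 5171)) (.leaf 30664533)) (.node (.node (.leaf 127677057) (.leaf 148599235)) (.leaf 2949))))) (.node (.node (.node (.node (.node (.leaf 31) (.leaf 3924)) (.leaf 8541810)) (.node (.node (.leaf 123739083) (.leaf 5697)) (.leaf 836))) (.node (.node (.node (.leaf 2568) (.leaf 73515115)) (.leaf 3354437))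 (.node (.node (.leaf 342) (.leaf 25101581)) (.leaf 81156238)))) (.node (.node (.node (.node (.leaf 1743) (.leaf 4488)) (.leaf 7093366)) (.node (.node (.leaf 102819093) (.leaf 52030727)) (.leaf 1724))) (.node (.node (.node (.leaf 121378189) (.leaf 46790270)) (.leaf 13995570)) (.node (.node (.leaf 5377) (.leaf 37132368)) (.leaf 3304)))))))) (.node (.node (.node (.node (.node (.node (.node (.node (.leaf 76) (.leaf 22521953)) (.leaf 5444)) (.node (.node (.leaf 3440) (.leaf 5434)) (.leaf 53))) (.node (.node (.node (.leaf 1909) (.leaf 26311674)) (.leaf 132155731)) (.node (.node (.leaf 24380867) (.leaf 5972)) (.leaf 1890)))) (.node (.node (.node (.node (.leaf 1029) (.leaf 89466058)) (.leaf 19087534)) (.node (.node (.leaf 222) (.leaf 115239206)) (.leaf 1010))) (.node (.node (.node (.leaf 2723) (.leaf 29325178)) (.leaf 27978546)) (.node (.node (.leaf 358) (.leaf 122367821)) (.leaf 2703))))) (.node (.node (.node (.node (.node (.leaf 569) (.leaf 3738)) (.leaf 75065294)) (.node (.node (.leaf 3753) (.leaf 142232704)) (.leaf 547)))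 (.node (.node (.node (.leaf 2327) (.leaf 32452469)) (.leaf 118723953)) (.node (.node (.leaf 125733234) (.leaf 107637137)) (.leaf 2307)))) (.node (.node (.node (.node (.leaf 1482) (.leaf 127695951)) (.leaf 17217181)) (.node (.node (.leaf 4351) (.leaf 96659632)) (.leaf 1463))) (.node (.node (.node (.leaf 136800747) (.leaf 115330318)) (.leaf 101926982)) (.node (.node (.leaf 5260) (.leaf 122885710)) (.leaf 3081)))))) (.node (.node (.node (.node (.node (.node (.leaf 322) (.leaf 3585)) (.leaf 5529)) (.node (.node (.leaf 2863818) (.leaf 35794311)) (.leaf 300))) (.node (.node (.node (.leaf 2117) (.leaf 4708)) (.leaf 6021)) (.node (.node (.leaf 4715) (.leaf 6016)) (.leaf 2098)))) (.node (.node (.node (.node (.leaf 1250) (.leaf 146571540)) (.leaf 37649615)) (.node (.node (.leaf 134173806) (.leaf 5828)) (.leaf 1231))) (.node (.node (.node (.leaf 2915) (.leaf 19965346)) (.leaf 16357933)) (.node (.node (.leaf 5156) (.leaf 78876192)) (.leaf 2900))))) (.node (.node (.node (.node (.node (.leaf 798) (.leaf 97495411)) (.leaf 97103657))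 (.node (.node (.leaf 3899) (.leaf 137108690)) (.leaf 105446180))) (.node (.node (.node (.leaf 2521) (.leaf 39507405)) (.leaf 61719960)) (.node (.node (.leaf 4938) (.leaf 18771937)) (.leaf 94767650)))) (.node (.node (.node (.node (.leaf 19964847) (.leaf 14725819)) (.leaf 5929)) (.node (.node (.leaf 4473) (.leaf 23970076)) (.leaf 1673))) (.node (.node (.node (.leaf 3278) (.leaf 11242330)) (.leaf 19982326)) (.node (.node (.leaf 138237427) (.leaf 30581496)) (.leaf 3262))))))) (.node (.node (.node (.node (.node (.node (.node (.leaf 199) (.leaf 21155307)) (.leaf 45716263)) (.node (.node (.leaf 3522) (.leaf 89897522)) (.leaf 176))) (.node (.node (.node (.leaf 2009) (.leaf 4643)) (.leaf 118142842)) (.node (.node (.leaf 42404934) (.leaf 21876514)) (.leaf 1987)))) (.node (.node (.node (.node (.leaf 1142) (.leaf 4115)) (.leaf 58859480)) (.node (.node (.leaf 4130) (.leaf 126732951)) (.leaf 1123))) (.node (.node (.node (.leaf 2820) (.leaf 58892531)) (.leaf 1023)) (.node (.node (.leaf 5103) (.leaf 98052346)) (.leaf 2802))))) (.node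 (.node (.node (.node (.node (.leaf 684) (.leaf 3818)) (.leaf 8838722)) (.node (.node (.leaf 3835) (.leaf 5635)) (.leaf 664))) (.node (.node (.node (.leaf 2424) (.leaf 4867)) (.leaf 142128644)) (.node (.node (.leaf 4880) (.leaf 47653117)) (.leaf 99198198)))) (.node (.node (.node (.node (.leaf 1592) (.leaf 10146745)) (.leaf 121024842)) (.node (.node (.leaf 108906632) (.leaf 19112032)) (.leaf 1571))) (.node (.node (.node (.leaf 3194) (.leaf 89039272)) (.leaf 130096995)) (.node (.node (.leaf 91307711) (.leaf 68189441)) (.leaf 3174)))))) (.node (.node (.node (.node (.node (.node (.leaf 447) (.leaf 3664)) (.leaf 41707777)) (.node (.node (.leaf 1178857) (.leaf 5555)) (.leaf 425))) (.node (.node (.node (.leaf 2222) (.leaf 4757)) (.leaf 150032955)) (.node (.node (.leaf 100365016) (.leaf 96349864)) (.leaf 2203)))) (.node (.node (.node (.node (.leaf 1369) (.leaf 122433981)) (.leaf 70552292)) (.node (.node (.leaf 4285) (.leaf 30035665)) (.leaf 1348))) (.node (.node (.node (.leaf 145906230) (.leaf 5199)) (.leaf 18047917)) (.node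 (.node (.leaf 5205) (.leaf 19435849)) (.leaf 102893941))))) (.node (.node (.node (.node (.node (.leaf 915) (.leaf 3961)) (.leaf 118982446)) (.node (.node (.leaf 139744244) (.leaf 45427774)) (.leaf 893))) (.node (.node (.node (.leaf 2621) (.leaf 39868114)) (.leaf 20983348)) (.node (.node (.leaf 4985) (.leaf 6096)) (.leaf 2599)))) (.node (.node (.node (.node (.leaf 1800) (.leaf 69548627)) (.leaf 6824087)) (.node (.node (.leaf 4535) (.leaf 5947)) (.leaf 1782))) (.node (.node (.node (.leaf 3357) (.leaf 16672489)) (.leaf 31465524)) (.node (.node (.leaf 5394) (.leaf 42445465)) (.leaf 20637578))))))))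

/-- Part of `topFac`. -/
def topFac_p01101 : Tr := .node (.node (.node (.node (.node (.node (.node (.node (.node (.leaf 44) (.leaf 3406)) (.node (.leaf 95710640) (.leaf 141969142))) (.node (.node (.leaf 3418) (.leaf 24350570)) (.leaf 22))) (.node (.node (.node (.leaf 1885) (.leaf 124060276)) (.leaf 18319424)) (.node (.node (.leaf 4580) (.leaf 75300725)) (.leaf 1864)))) (.node (.node (.node (.node (.leaf 1001) (.leaf 30270932)) (.leaf 5749)) (.node (.node (.leaf 4037) (.leaf 35857939)) (.leaf 980))) (.node (.node (.node (.leaf 2694) (.leaf 5022)) (.leaf 119394803)) (.node (.node (.leaf 5032) (.leaf 29374548)) (.leaf 2674))))) (.node (.node (.node (.node (.node (.leaf 539) (.leaf 3719)) (.leaf 71758597)) (.node (.node (.leaf 3732) (.leaf 5591)) (.leaf 517))) (.node (.node (.node (.leaf 2299) (.leaf 38126414)) (.leaf 90923561)) (.node (.node (.leaf 4815) (.leaf 139740526)) (.leaf 2280)))) (.node (.node (.node (.node (.leaf 1454) (.leaf 4321)) (.leaf 2392307)) (.node (.node (.leaf 4333) (.leaf 135549986)) (.leaf 1431)))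 (.node (.node (.node (.leaf 93018743) (.leaf 5235)) (.leaf 9048821)) (.node (.node (.leaf 69148920) (.leaf 94432335)) (.leaf 3061)))))) (.node (.node (.node (.node (.node (.node (.leaf 291) (.leaf 109720196)) (.leaf 9878585)) (.node (.node (.leaf 99631790) (.leaf 5507)) (.leaf 268))) (.node (.node (.node (.leaf 2091) (.leaf 4694)) (.leaf 767)) (.node (.node (.leaf 4704) (.leaf 82637701)) (.leaf 2073)))) (.node (.node (.node (.node (.leaf 1223) (.leaf 4176)) (.leaf 59532251)) (.node (.node (.leaf 53534549) (.leaf 52503450)) (.leaf 118479427))) (.node (.node (.node (.leaf 62306890) (.leaf 5133)) (.leaf 93734085)) (.node (.node (.leaf 5143) (.leaf 139968875)) (.leaf 2876))))) (.node (.node (.node (.node (.node (.leaf 771) (.leaf 3871)) (.leaf 5674)) (.node (.node (.leaf 93377260) (.leaf 71299219)) (.leaf 749))) (.node (.node (.node (.leaf 2495) (.leaf 4918)) (.leaf 5666)) (.node (.node (.leaf 4925) (.leaf 36357932)) (.leaf 85736080)))) (.node (.node (.node (.node (.leaf 1667) (.leaf 46324095)) (.leaf 45895687)) (.node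 (.node (.leaf 4461) (.leaf 100699394)) (.leaf 141645051))) (.node (.node (.node (.leaf 3257) (.leaf 5336)) (.leaf 113330426)) (.node (.node (.leaf 5344) (.leaf 99862627)) (.leaf 3239))))))) (.node (.node (.node (.node (.node (.node (.node (.leaf 167) (.leaf 25480174)) (.leaf 39762636)) (.node (.node (.leaf 3505) (.leaf 47612844)) (.leaf 146))) (.node (.node (.node (.leaf 71472116) (.leaf 4625)) (.leaf 56665112)) (.node (.node (.leaf 90864947) (.leaf 12240219)) (.leaf 1963)))) (.node (.node (.node (.node (.leaf 1114) (.leaf 30191319)) (.leaf 113743369)) (.node (.node (.leaf 4113) (.leaf 78569735)) (.leaf 1096))) (.node (.node (.node (.leaf 2794) (.leaf 5077)) (.leaf 35811618)) (.node (.node (.leaf 106487522) (.leaf 25410396)) (.leaf 2776))))) (.node (.node (.node (.node (.node (.leaf 656) (.leaf 3795)) (.leaf 68586999)) (.node (.node (.leaf 3810) (.leaf 5622)) (.leaf 636))) (.node (.node (.node (.leaf 2402) (.leaf 4852)) (.leaf 133737735)) (.node (.node (.leaf 4861) (.leaf 61203886)) (.leaf 2383)))) (.node (.node (.node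 (.node (.leaf 1563) (.leaf 30737519)) (.leaf 651)) (.node (.node (.leaf 4394) (.leaf 43580094)) (.leaf 60951185))) (.node (.node (.node (.leaf 85876504) (.leaf 5284)) (.leaf 108022594)) (.node (.node (.leaf 5296) (.leaf 79146106)) (.leaf 3151)))))) (.node (.node (.node (.node (.node (.node (.leaf 416) (.leaf 3642)) (.leaf 5552)) (.node (.node (.leaf 3658) (.leaf 5545)) (.leaf 393))) (.node (.node (.node (.leaf 15341124) (.leaf 61361517)) (.leaf 58073674)) (.node (.node (.leaf 32076141) (.leaf 84210315)) (.leaf 19964721)))) (.node (.node (.node (.node (.leaf 1340) (.leaf 4250)) (.leaf 53923084)) (.node (.node (.leaf 4264) (.leaf 5851)) (.leaf 1317))) (.node (.node (.node (.leaf 2989) (.leaf 93493505)) (.leaf 82688555)) (.node (.node (.leaf 385) (.leaf 61422167)) (.leaf 2973))))) (.node (.node (.node (.node (.node (.leaf 885) (.leaf 3940)) (.leaf 144274279)) (.node (.node (.leaf 135765002) (.leaf 5705)) (.leaf 865))) (.node (.node (.node (.leaf 22599271) (.leaf 4965)) (.leaf 6095)) (.node (.node (.leaf 83465789) (.leaf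 64351992)) (.leaf 2575)))) (.node (.node (.node (.node (.leaf 1774) (.leaf 110544478)) (.leaf 5944)) (.node (.node (.leaf 4517) (.leaf 140196471)) (.leaf 1752))) (.node (.node (.node (.leaf 46215074) (.leaf 12967354)) (.leaf 138548742)) (.node (.node (.leaf 125781565) (.leaf 8499134)) (.leaf 126187343)))))))) (.node (.node (.node (.node (.node (.node (.node (.node (.leaf 106) (.leaf 3446)) (.leaf 15751557)) (.node (.node (.leaf 22519700) (.leaf 5446)) (.leaf 85))) (.node (.node (.node (.leaf 1933) (.leaf 4598)) (.leaf 726)) (.node (.node (.leaf 4608) (.leaf 118204739)) (.leaf 1917)))) (.node (.node (.node (.node (.leaf 1059) (.leaf 4061)) (.leaf 103596285)) (.node (.node (.leaf 4076) (.leaf 44887591)) (.leaf 1038))) (.node (.node (.node (.leaf 111566893) (.leaf 124142596)) (.leaf 105682933)) (.node (.node (.leaf 43651028) (.leaf 52670222)) (.leaf 2731))))) (.node (.node (.node (.node (.node (.leaf 598) (.leaf 3761)) (.leaf 5613)) (.node (.node (.leaf 3773) (.leaf 124640570)) (.leaf 578))) (.node (.node (.node (.leaf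 132965598) (.leaf 68745331)) (.leaf 6057)) (.node (.node (.leaf 104532299) (.leaf 116113526)) (.leaf 2334)))) (.node (.node (.node (.node (.leaf 108444626) (.leaf 4354)) (.leaf 34300069)) (.node (.node (.leaf 4367) (.leaf 59916505)) (.leaf 1490))) (.node (.node (.node (.leaf 3122) (.leaf 29501256)) (.leaf 114409235)) (.node (.node (.leaf 5272) (.leaf 87156192)) (.leaf 3104)))))) (.node (.node (.node (.node (.node (.node (.leaf 353) (.leaf 145844814)) (.leaf 68323370)) (.node (.node (.leaf 99557166) (.leaf 5533)) (.leaf 331))) (.node (.node (.node (.leaf 2145) (.leaf 96695195)) (.leaf 6025)) (.node (.node (.leaf 91795762) (.leaf 30856600)) (.leaf 2124)))) (.node (.node (.node (.node (.leaf 1279) (.leaf 4212)) (.leaf 111566204)) (.node (.node (.leaf 71450342) (.leaf 119399841)) (.leaf 1259))) (.node (.node (.node (.leaf 2942) (.leaf 53984309)) (.leaf 1094)) (.node (.node (.leaf 33921990) (.leaf 111668750)) (.leaf 2924))))) (.node (.node (.node (.node (.node (.leaf 828) (.leaf 115192780)) (.leaf 109427983)) (.node (.node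 (.leaf 148946121) (.leaf 116860146)) (.leaf 807))) (.node (.node (.node (.leaf 2544) (.leaf 4942)) (.leaf 80605947)) (.node (.node (.leaf 36575495) (.leaf 6087)) (.leaf 145589413)))) (.node (.node (.node (.node (.leaf 1717) (.leaf 4476)) (.leaf 124817749)) (.node (.node (.leaf 124261038) (.leaf 52196120)) (.leaf 80731189))) (.node (.node (.node (.leaf 3298) (.leaf 5359)) (.leaf 54184103)) (.node (.node (.leaf 85701976) (.leaf 51187077)) (.leaf 76940905))))))) (.node (.node (.node (.node (.node (.node (.node (.leaf 228) (.leaf 62668769)) (.leaf 108627287)) (.node (.node (.leaf 3540) (.leaf 5491)) (.leaf 207))) (.node (.node (.node (.leaf 2038) (.leaf 4661)) (.leaf 67479884)) (.node (.node (.leaf 19965876) (.leaf 86792476)) (.leaf 2018)))) (.node (.node (.node (.node (.leaf 105908685) (.leaf 38093671)) (.leaf 47369091)) (.node (.node (.leaf 4148) (.leaf 113318437)) (.leaf 1151))) (.node (.node (.node (.leaf 2845) (.leaf 104658375)) (.leaf 104830442)) (.node (.node (.leaf 5114) (.leaf 146674065)) (.leaf 2829))))) (.node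 (.node (.node (.node (.node (.leaf 711) (.leaf 3841)) (.leaf 5655)) (.node (.node (.leaf 28640173) (.leaf 2977033)) (.leaf 692))) (.node (.node (.node (.leaf 31969510) (.leaf 126029749)) (.leaf 84384922)) (.node (.node (.leaf 110127375) (.leaf 1291567)) (.leaf 52154292)))) (.node (.node (.node (.node (.leaf 1616) (.leaf 4415)) (.leaf 63132222)) (.node (.node (.leaf 4429) (.leaf 121815304)) (.leaf 29180348))) (.node (.node (.node (.leaf 3216) (.leaf 132641540)) (.leaf 68040524)) (.node (.node (.leaf 50544258) (.leaf 29448614)) (.leaf 3201)))))) (.node (.node (.node (.node (.node (.node (.leaf 476) (.leaf 43646727)) (.leaf 5579)) (.node (.node (.leaf 3698) (.leaf 5571)) (.leaf 455))) (.node (.node (.node (.leaf 59172707) (.leaf 4771)) (.leaf 123524494)) (.node (.node (.leaf 21051979) (.leaf 132723084)) (.leaf 2230)))) (.node (.node (.node (.node (.leaf 1396) (.leaf 4290)) (.leaf 104930260)) (.node (.node (.leaf 4302) (.leaf 125433474)) (.leaf 1376))) (.node (.node (.node (.leaf 3030) (.leaf 5211)) (.leaf 89007064)) (.node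 (.node (.leaf 122102662) (.leaf 84662240)) (.leaf 3014))))) (.node (.node (.node (.node (.node (.leaf 945) (.leaf 3985)) (.leaf 5729)) (.node (.node (.leaf 19791888) (.leaf 149929645)) (.leaf 923))) (.node (.node (.node (.leaf 2649) (.leaf 4990)) (.leaf 6105)) (.node (.node (.leaf 5004) (.leaf 105574196)) (.leaf 2630)))) (.node (.node (.node (.node (.leaf 1826) (.leaf 4543)) (.leaf 60153735)) (.node (.node (.leaf 96693402) (.leaf 48)) (.leaf 1807))) (.node (.node (.node (.leaf 65046333) (.leaf 43469490)) (.leaf 13855657)) (.node (.node (.leaf 17178765) (.leaf 73358677)) (.leaf 3363))))))))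

/-- Part of `topFac`. -/
def topFac_p01110 : Tr := .node (.node (.node (.node (.node (.node (.node (.node (.node (.leaf 29) (.leaf 3397)) (.node (.leaf 5427) (.leaf 127990207))) (.node (.node (.leaf 47102137) (.leaf 5414)) (.leaf 6))) (.node (.node (.node (.leaf 1871) (.leaf 128254654)) (.leaf 55649874)) (.node (.node (.leaf 60099399) (.leaf 27350889)) (.leaf 1851)))) (.node (.node (.node (.node (.leaf 987) (.leaf 4013)) (.leaf 5746)) (.node (.node (.leaf 4024) (.leaf 19370782)) (.leaf 966))) (.node (.node (.node (.leaf 2681) (.leaf 27084433)) (.leaf 52602328)) (.node (.node (.leaf 5025) (.leaf 50469559)) (.leaf 55761702))))) (.node (.node (.node (.node (.node (.leaf 524) (.leaf 3709)) (.leaf 5593)) (.node (.node (.leaf 3724) (.leaf 18072265)) (.leaf 501))) (.node (.node (.node (.leaf 140080808) (.leaf 4797)) (.leaf 816)) (.node (.node (.leaf 110171046) (.leaf 29454462)) (.leaf 2267)))) (.node (.node (.node (.node (.leaf 1438) (.leaf 4315)) (.leaf 120524616)) (.node (.node (.leaf 4325) (.leaf 18979812)) (.leaf 1418)))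 (.node (.node (.node (.leaf 3065) (.leaf 45437569)) (.leaf 1521)) (.node (.node (.leaf 49025271) (.leaf 130156298)) (.leaf 3052)))))) (.node (.node (.node (.node (.node (.node (.leaf 275) (.leaf 3554)) (.leaf 143636115)) (.node (.node (.leaf 127573063) (.leaf 52988889)) (.leaf 253))) (.node (.node (.node (.leaf 2078) (.leaf 4685)) (.leaf 71109444)) (.node (.node (.leaf 8017882) (.leaf 6003)) (.leaf 2058)))) (.node (.node (.node (.node (.leaf 136109468) (.leaf 4167)) (.leaf 5370616)) (.node (.node (.leaf 4180) (.leaf 88967434)) (.leaf 1191))) (.node (.node (.node (.leaf 2882) (.leaf 5124)) (.leaf 116733200)) (.node (.node (.leaf 5135) (.leaf 60225337)) (.leaf 2864))))) (.node (.node (.node (.node (.node (.leaf 756) (.leaf 3863)) (.leaf 139619434)) (.node (.node (.leaf 43587914) (.leaf 12651670)) (.leaf 735))) (.node (.node (.node (.leaf 2482) (.leaf 119587035)) (.leaf 6078)) (.node (.node (.leaf 139085537) (.leaf 119616918)) (.leaf 2464)))) (.node (.node (.node (.node (.leaf 1653) (.leaf 4442)) (.leaf 50210493)) (.node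 (.node (.leaf 116775769) (.leaf 5922)) (.leaf 1636))) (.node (.node (.node (.leaf 3244) (.leaf 2734651)) (.leaf 15783744)) (.node (.node (.leaf 137905767) (.leaf 38351873)) (.leaf 3229))))))) (.node (.node (.node (.node (.node (.node (.node (.leaf 143077846) (.leaf 3480)) (.leaf 111225630)) (.node (.node (.leaf 3494) (.leaf 100469598)) (.leaf 130))) (.node (.node (.node (.leaf 1969) (.leaf 48420242)) (.leaf 59995898)) (.node (.node (.leaf 4631) (.leaf 144406118)) (.leaf 1951)))) (.node (.node (.node (.node (.leaf 1101) (.leaf 4093)) (.leaf 5779)) (.node (.node (.leaf 140678106) (.leaf 88366639)) (.leaf 1081))) (.node (.node (.node (.leaf 2781) (.leaf 5067)) (.leaf 107095690)) (.node (.node (.leaf 5080) (.leaf 10022143)) (.leaf 2762))))) (.node (.node (.node (.node (.node (.leaf 641) (.leaf 3786)) (.leaf 30831367)) (.node (.node (.leaf 91788395) (.leaf 133128898)) (.leaf 88012840))) (.node (.node (.node (.leaf 2388) (.leaf 129886161)) (.leaf 103629278)) (.node (.node (.leaf 76251194) (.leaf 6064)) (.leaf 78508191))))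 (.node (.node (.node (.node (.leaf 1547) (.leaf 116806146)) (.leaf 56053457)) (.node (.node (.leaf 4386) (.leaf 44123736)) (.leaf 57350794))) (.node (.node (.node (.leaf 3157) (.leaf 95801227)) (.leaf 28283149)) (.node (.node (.leaf 5286) (.leaf 53501130)) (.leaf 3140)))))) (.node (.node (.node (.node (.node (.node (.leaf 400) (.leaf 3633)) (.leaf 5547)) (.node (.node (.leaf 3649) (.leaf 5543)) (.leaf 377))) (.node (.node (.node (.leaf 2182) (.leaf 4740)) (.leaf 114411863)) (.node (.node (.leaf 4744) (.leaf 3994338)) (.leaf 2165)))) (.node (.node (.node (.node (.leaf 1324) (.leaf 4242)) (.leaf 146066883)) (.node (.node (.leaf 4253) (.leaf 73754332)) (.leaf 1304))) (.node (.node (.node (.leaf 2977) (.leaf 5178)) (.leaf 53757520)) (.node (.node (.leaf 22314249) (.leaf 93010988)) (.leaf 2961))))) (.node (.node (.node (.node (.node (.leaf 872) (.leaf 3933)) (.leaf 5707)) (.node (.node (.leaf 5728544) (.leaf 5701)) (.leaf 851))) (.node (.node (.node (.leaf 23492379) (.leaf 4957)) (.leaf 116445740)) (.node (.node (.leaf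 6399628) (.leaf 82340234)) (.leaf 117087884)))) (.node (.node (.node (.node (.leaf 1759) (.leaf 142077906)) (.leaf 47171092)) (.node (.node (.leaf 4504) (.leaf 144652487)) (.leaf 1737))) (.node (.node (.node (.leaf 3327) (.leaf 5374)) (.leaf 38146936)) (.node (.node (.leaf 133075380) (.leaf 61620889)) (.leaf 38980799)))))))) (.node (.node (.node (.node (.node (.node (.node (.node (.leaf 2) (.leaf 5586247)) (.leaf 5451)) (.node (.node (.leaf 82399132) (.leaf 5440)) (.leaf 69))) (.node (.node (.node (.leaf 1924) (.leaf 3912597)) (.leaf 5977)) (.node (.node (.leaf 4601) (.leaf 99710401)) (.leaf 1903)))) (.node (.node (.node (.node (.leaf 1045) (.leaf 4050)) (.leaf 146936664)) (.node (.node (.leaf 4065) (.leaf 131946892)) (.leaf 1023))) (.node (.node (.node (.leaf 122) (.leaf 38683117)) (.leaf 148693809)) (.node (.node (.leaf 50483609) (.leaf 6119)) (.leaf 2717))))) (.node (.node (.node (.node (.node (.leaf 583) (.leaf 107462092)) (.leaf 126767188)) (.node (.node (.leaf 3763) (.leaf 109691513)) (.leaf 563))) (.node (.node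 (.node (.leaf 100) (.leaf 4825)) (.leaf 6053)) (.node (.node (.leaf 146206304) (.leaf 62791909)) (.leaf 2323)))) (.node (.node (.node (.node (.leaf 1496) (.leaf 4346)) (.leaf 128382583)) (.node (.node (.leaf 97748706) (.leaf 5891)) (.leaf 1476))) (.node (.node (.node (.leaf 91707180) (.leaf 5256)) (.leaf 7823198)) (.node (.node (.leaf 5265) (.leaf 146332036)) (.leaf 3092)))))) (.node (.node (.node (.node (.node (.node (.leaf 338) (.leaf 54729682)) (.leaf 87620044)) (.node (.node (.leaf 3604) (.leaf 114882004)) (.leaf 316))) (.node (.node (.node (.leaf 2130) (.leaf 126565700)) (.leaf 80845607)) (.node (.node (.leaf 298) (.leaf 6019)) (.leaf 2111)))) (.node (.node (.node (.node (.leaf 1266) (.leaf 114805312)) (.leaf 19088531)) (.node (.node (.leaf 4219) (.leaf 74664238)) (.leaf 1244))) (.node (.node (.node (.leaf 134) (.leaf 5152)) (.leaf 92159177)) (.node (.node (.leaf 379) (.leaf 30576575)) (.leaf 85206510))))) (.node (.node (.node (.node (.node (.leaf 813) (.leaf 3894)) (.leaf 43663551)) (.node (.node (.leaf 12171493)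 (.leaf 68579176)) (.leaf 792))) (.node (.node (.node (.leaf 128371325) (.leaf 44111282)) (.leaf 70128383)) (.node (.node (.leaf 114202884) (.leaf 104879587)) (.leaf 2514)))) (.node (.node (.node (.node (.leaf 1704) (.leaf 4468)) (.leaf 52759899)) (.node (.node (.leaf 74959483) (.leaf 148432828)) (.leaf 1687))) (.node (.node (.node (.leaf 74661624) (.leaf 134043196)) (.leaf 145209671)) (.node (.node (.leaf 5363) (.leaf 19239072)) (.leaf 3272))))))) (.node (.node (.node (.node (.node (.node (.node (.leaf 213) (.leaf 34092156)) (.leaf 6666203)) (.node (.node (.leaf 99002219) (.leaf 5483)) (.leaf 192))) (.node (.node (.node (.leaf 2023) (.leaf 4651)) (.leaf 103718823)) (.node (.node (.leaf 4665) (.leaf 5993)) (.leaf 2002)))) (.node (.node (.node (.node (.leaf 1158) (.leaf 4124)) (.leaf 5801)) (.node (.node (.leaf 34216594) (.leaf 126850705)) (.leaf 48504204))) (.node (.node (.node (.leaf 2834) (.leaf 13793041)) (.leaf 139837764)) (.node (.node (.leaf 109604696) (.leaf 4400609)) (.leaf 2813))))) (.node (.node (.node (.node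 (.node (.leaf 697) (.leaf 3831)) (.leaf 5646)) (.node (.node (.leaf 3844) (.leaf 115454180)) (.leaf 680))) (.node (.node (.node (.leaf 2434) (.leaf 99355835)) (.leaf 12237527)) (.node (.node (.leaf 4888) (.leaf 78568142)) (.leaf 2421)))) (.node (.node (.node (.node (.leaf 1602) (.leaf 25481358)) (.leaf 5706312)) (.node (.node (.leaf 4419) (.leaf 147878157)) (.leaf 2862721))) (.node (.node (.node (.leaf 3206) (.leaf 88156935)) (.leaf 49998691)) (.node (.node (.leaf 129510509) (.leaf 110945138)) (.leaf 3189)))))) (.node (.node (.node (.node (.node (.node (.leaf 462) (.leaf 3677)) (.leaf 65307180)) (.node (.node (.leaf 3690) (.leaf 5564)) (.leaf 440))) (.node (.node (.node (.leaf 2236) (.leaf 4765)) (.leaf 63406133)) (.node (.node (.leaf 17019234) (.leaf 59054871)) (.leaf 2216)))) (.node (.node (.node (.node (.leaf 1383) (.leaf 75831382)) (.leaf 39851068)) (.node (.node (.leaf 4295) (.leaf 123192001)) (.leaf 1362))) (.node (.node (.node (.leaf 3020) (.leaf 8141985)) (.leaf 86836222)) (.node (.node (.leaf 5214) (.leaf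 138458999)) (.leaf 3002))))) (.node (.node (.node (.node (.node (.leaf 930) (.leaf 3973)) (.leaf 72793508)) (.node (.node (.leaf 3990) (.leaf 5717)) (.leaf 909))) (.node (.node (.node (.leaf 2636) (.leaf 55097141)) (.leaf 85438025)) (.node (.node (.leaf 4994) (.leaf 24365195)) (.leaf 2615)))) (.node (.node (.node (.node (.leaf 1814) (.leaf 4532)) (.leaf 32379340)) (.node (.node (.leaf 4546) (.leaf 96202542)) (.leaf 1795))) (.node (.node (.node (.leaf 3370) (.leaf 65640466)) (.leaf 46390990)) (.node (.node (.leaf 49484602) (.leaf 56689155)) (.leaf 3354))))))))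

/-- Part of `topFac`. -/
def topFac_p01111 : Tr := .node (.node (.node (.node (.node (.node (.node (.node (.node (.leaf 60) (.leaf 3413)) (.leaf 85862539)) (.node (.node (.leaf 168) (.leaf 5431)) (.leaf 37))) (.node (.node (.node (.leaf 1896) (.leaf 4577)) (.leaf 71299898)) (.node (.node (.leaf 4588) (.leaf 5969)) (.leaf 1879)))) (.node (.node (.node (.node (.leaf 134293606) (.leaf 4030)) (.leaf 59057005)) (.node (.node (.leaf 46899819) (.leaf 128536499)) (.leaf 995))) (.node (.node (.node (.leaf 2709) (.leaf 5029)) (.leaf 28888745)) (.node (.node (.leaf 5039) (.leaf 6114)) (.leaf 2688))))) (.node (.node (.node (.node (.node (.leaf 554) (.leaf 3728)) (.leaf 112493717)) (.node (.node (.leaf 3744) (.leaf 106973647)) (.leaf 532))) (.node (.node (.node (.leaf 2314) (.leaf 4810)) (.leaf 3016238)) (.node (.node (.leaf 4823) (.leaf 15517739)) (.leaf 2294)))) (.node (.node (.node (.node (.leaf 1469) (.leaf 4329)) (.leaf 23007917)) (.node (.node (.leaf 4342) (.leaf 5886)) (.leaf 1447))) (.node (.node (.node (.leaf 149789513)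 (.leaf 140447107)) (.leaf 134309307)) (.node (.node (.leaf 19966374) (.leaf 57377363)) (.leaf 4638012)))))) (.node (.node (.node (.node (.node (.node (.leaf 307) (.leaf 3574)) (.leaf 5520)) (.node (.node (.leaf 3589) (.leaf 57144421)) (.leaf 284))) (.node (.node (.node (.leaf 134151820) (.leaf 126565423)) (.leaf 50094325)) (.node (.node (.leaf 147908486) (.leaf 40417904)) (.leaf 2085)))) (.node (.node (.node (.node (.leaf 28367347) (.leaf 147914227)) (.leaf 91975815)) (.node (.node (.leaf 4195) (.leaf 5825)) (.leaf 1216))) (.node (.node (.node (.leaf 2905) (.leaf 82316159)) (.leaf 81994525)) (.node (.node (.leaf 68081275) (.leaf 141398992)) (.leaf 2888))))) (.node (.node (.node (.node (.node (.leaf 28) (.leaf 108549976)) (.leaf 525)) (.node (.node (.leaf 139443244) (.leaf 5672)) (.leaf 765))) (.node (.node (.node (.leaf 2507) (.leaf 119904257)) (.leaf 6082)) (.node (.node (.leaf 4930) (.leaf 67069446)) (.leaf 2489)))) (.node (.node (.node (.node (.leaf 67) (.leaf 78589400)) (.leaf 1821623)) (.node (.node (.leaf 87265163)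 (.leaf 91206719)) (.leaf 1662))) (.node (.node (.node (.leaf 3267) (.leaf 73627500)) (.leaf 11612323)) (.node (.node (.leaf 53973942) (.leaf 145059332)) (.leaf 48503133))))))) (.node (.node (.node (.node (.node (.node (.node (.leaf 183) (.leaf 3501)) (.leaf 10511665)) (.node (.node (.leaf 135641840) (.leaf 65903107)) (.leaf 160))) (.node (.node (.node (.leaf 1993) (.leaf 131192475)) (.leaf 80261400)) (.node (.node (.leaf 4647) (.leaf 52147090)) (.leaf 1977)))) (.node (.node (.node (.node (.leaf 1129) (.leaf 37148380)) (.leaf 31698870)) (.node (.node (.leaf 4120) (.leaf 5783)) (.leaf 31605929))) (.node (.node (.node (.leaf 72089173) (.leaf 5087)) (.leaf 63913642)) (.node (.node (.leaf 33326961) (.leaf 136550807)) (.leaf 2788))))) (.node (.node (.node (.node (.node (.leaf 671) (.leaf 3807)) (.leaf 75984431)) (.node (.node (.leaf 93658165) (.leaf 148309379)) (.leaf 649))) (.node (.node (.node (.leaf 2412) (.leaf 24923731)) (.leaf 55124189)) (.node (.node (.leaf 4872) (.leaf 6069)) (.leaf 2395)))) (.node (.node (.node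 (.node (.leaf 1578) (.leaf 4391)) (.leaf 5912)) (.node (.node (.leaf 4403) (.leaf 107284361)) (.leaf 1556))) (.node (.node (.node (.leaf 3180) (.leaf 5291)) (.leaf 92280500)) (.node (.node (.leaf 75745103) (.leaf 68062677)) (.leaf 3163)))))) (.node (.node (.node (.node (.node (.node (.leaf 431) (.leaf 3654)) (.leaf 36047925)) (.node (.node (.leaf 3669) (.leaf 44599385)) (.leaf 409))) (.node (.node (.node (.leaf 2209) (.leaf 4749)) (.leaf 120232695)) (.node (.node (.leaf 10400355) (.leaf 94211265)) (.leaf 2190)))) (.node (.node (.node (.node (.leaf 60057993) (.leaf 4259)) (.leaf 21828392)) (.node (.node (.leaf 243) (.leaf 5854)) (.leaf 1333))) (.node (.node (.node (.leaf 15883490) (.leaf 93974618)) (.leaf 65523559)) (.node (.node (.leaf 131334897) (.leaf 91814936)) (.leaf 2982))))) (.node (.node (.node (.node (.node (.leaf 900) (.leaf 3949)) (.leaf 81096630)) (.node (.node (.leaf 3966) (.leaf 99000078)) (.leaf 879))) (.node (.node (.node (.leaf 2606) (.leaf 4972)) (.leaf 6099)) (.node (.node (.leaf 4980) (.leaf 132542060))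 (.leaf 2588)))) (.node (.node (.node (.node (.leaf 1788) (.leaf 56243464)) (.leaf 30485261)) (.node (.node (.leaf 4526) (.leaf 5135)) (.leaf 1768))) (.node (.node (.node (.leaf 55231887) (.leaf 113509585)) (.leaf 61002359)) (.node (.node (.leaf 120667114) (.leaf 41019481)) (.leaf 77455904)))))))) (.node (.node (.node (.node (.node (.node (.node (.node (.leaf 121) (.leaf 3455)) (.leaf 5460)) (.node (.node (.leaf 3472) (.leaf 137745351)) (.leaf 100))) (.node (.node (.node (.leaf 88069179) (.leaf 9074028)) (.leaf 127057108)) (.node (.node (.leaf 4616) (.leaf 115973861)) (.leaf 72234824)))) (.node (.node (.node (.node (.leaf 1073) (.leaf 4073)) (.leaf 80906337)) (.node (.node (.leaf 4086) (.leaf 5763)) (.leaf 1054))) (.node (.node (.node (.leaf 2757) (.leaf 119710679)) (.leaf 14254776)) (.node (.node (.leaf 17560917) (.leaf 2811438)) (.leaf 2741))))) (.node (.node (.node (.node (.node (.leaf 613) (.leaf 3769)) (.leaf 5618)) (.node (.node (.leaf 4945556) (.leaf 120609095)) (.leaf 592))) (.node (.node (.node (.leaf 2362)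 (.leaf 4834)) (.leaf 6062)) (.node (.node (.leaf 98805641) (.leaf 144357622)) (.leaf 2346)))) (.node (.node (.node (.node (.leaf 1522) (.leaf 128409625)) (.leaf 8000437)) (.node (.node (.leaf 4377) (.leaf 5897)) (.leaf 1503))) (.node (.node (.node (.leaf 3135) (.leaf 5268)) (.leaf 83861018)) (.node (.node (.leaf 32555664) (.leaf 31634180)) (.leaf 3117)))))) (.node (.node (.node (.node (.node (.node (.leaf 369) (.leaf 3611)) (.leaf 5542)) (.node (.node (.leaf 3625) (.leaf 36846147)) (.leaf 346))) (.node (.node (.node (.leaf 2158) (.leaf 4726)) (.leaf 106756807)) (.node (.node (.leaf 142675979) (.leaf 136312002)) (.leaf 2138)))) (.node (.node (.node (.node (.leaf 1295) (.leaf 16175513)) (.leaf 86477759)) (.node (.node (.leaf 4235) (.leaf 98340159)) (.leaf 1273))) (.node (.node (.node (.leaf 39714307) (.leaf 79912766)) (.leaf 38164107)) (.node (.node (.leaf 56950672) (.leaf 147225291)) (.leaf 2935))))) (.node (.node (.node (.node (.node (.leaf 842) (.leaf 3917)) (.leaf 7764202)) (.node (.node (.leaf 3926) (.leaf 5690))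 (.leaf 821))) (.node (.node (.node (.leaf 2557) (.leaf 1986813)) (.leaf 86983986)) (.node (.node (.leaf 4954) (.leaf 26289987)) (.leaf 2539)))) (.node (.node (.node (.node (.leaf 1730) (.leaf 119938749)) (.leaf 9890167)) (.node (.node (.leaf 4493) (.leaf 5935)) (.leaf 112519932))) (.node (.node (.node (.leaf 132687062) (.leaf 29830800)) (.leaf 60598119)) (.node (.node (.leaf 11497965) (.leaf 113327068)) (.leaf 26784855))))))) (.node (.node (.node (.node (.node (.node (.node (.leaf 244) (.leaf 3536)) (.leaf 9528128)) (.node (.node (.leaf 135324125) (.leaf 34965101)) (.leaf 222))) (.node (.node (.node (.leaf 2049) (.leaf 4669)) (.leaf 82403889)) (.node (.node (.leaf 147955824) (.leaf 62679760)) (.leaf 2031)))) (.node (.node (.node (.node (.leaf 1184) (.leaf 42485770)) (.leaf 5810)) (.node (.node (.leaf 4159) (.leaf 5802)) (.leaf 1165))) (.node (.node (.node (.leaf 2856) (.leaf 94052009)) (.leaf 42277367)) (.node (.node (.leaf 113326806) (.leaf 6133)) (.leaf 2840))))) (.node (.node (.node (.node (.node (.leaf 727) (.leaf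 3848)) (.leaf 120193047)) (.node (.node (.leaf 138297408) (.leaf 26471858)) (.leaf 704))) (.node (.node (.node (.leaf 2457) (.leaf 4892)) (.leaf 101244710)) (.node (.node (.leaf 69228530) (.leaf 105160730)) (.leaf 2441)))) (.node (.node (.node (.node (.leaf 1629) (.leaf 4424)) (.leaf 132159550)) (.node (.node (.leaf 71912117) (.leaf 5917)) (.leaf 1610))) (.node (.node (.node (.leaf 152) (.leaf 26251410)) (.leaf 1410)) (.node (.node (.leaf 5327) (.leaf 112500682)) (.leaf 3213)))))) (.node (.node (.node (.node (.node (.node (.leaf 492) (.leaf 3695)) (.leaf 50702713)) (.node (.node (.leaf 3705) (.leaf 87688969)) (.leaf 469))) (.node (.node (.node (.leaf 2262) (.leaf 5091094)) (.leaf 1031074)) (.node (.node (.leaf 4792) (.leaf 118096571)) (.leaf 2243)))) (.node (.node (.node (.node (.leaf 1409) (.leaf 45267107)) (.leaf 66381286)) (.node (.node (.leaf 87871215) (.leaf 129155308)) (.leaf 1391))) (.node (.node (.node (.leaf 3045) (.leaf 77874166)) (.leaf 137143344)) (.node (.node (.leaf 5225) (.leaf 7233007)) (.leaf 114965718)))))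 (.node (.node (.node (.node (.node (.leaf 44748791) (.leaf 3996)) (.leaf 64893380)) (.node (.node (.leaf 4010) (.leaf 31234935)) (.leaf 939))) (.node (.node (.node (.leaf 118) (.leaf 5000)) (.leaf 21723722)) (.node (.node (.leaf 5011) (.leaf 88187440)) (.leaf 2644)))) (.node (.node (.node (.node (.leaf 1842) (.leaf 4552)) (.leaf 87312628)) (.node (.node (.leaf 4560) (.leaf 79304615)) (.leaf 1821))) (.node (.node (.node (.leaf 3389) (.leaf 61071372)) (.leaf 131176147)) (.node (.node (.leaf 77022054) (.leaf 102674852)) (.leaf 3376))))))))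

/-- Part of `topFac`. -/
def topFac_p10000 : Tr := .node (.node (.node (.node (.node (.node (.node (.node (.node (.leaf 3) (.leaf 3378)) (.node (.leaf 13867714) (.leaf 61084776))) (.node (.node (.leaf 3394) (.leaf 114057511)) (.leaf 149058510))) (.node (.node (.node (.leaf 1848) (.leaf 4555)) (.leaf 5963)) (.node (.node (.leaf 4562) (.leaf 5957)) (.leaf 1825)))) (.node (.node (.node (.node (.leaf 84935291) (.leaf 53969684)) (.leaf 51535428)) (.node (.node (.leaf 100380231) (.leaf 70745908)) (.leaf 944))) (.node (.node (.node (.leaf 114534481) (.leaf 130731471)) (.leaf 6108)) (.node (.node (.leaf 5012) (.leaf 17409074)) (.leaf 2648))))) (.node (.node (.node (.node (.node (.leaf 498) (.leaf 3697)) (.leaf 8215393)) (.node (.node (.leaf 26880349) (.leaf 18854891)) (.leaf 475))) (.node (.node (.node (.leaf 2265) (.leaf 140218133)) (.leaf 88593189)) (.node (.node (.leaf 73679044) (.leaf 89827523)) (.leaf 2247)))) (.node (.node (.node (.node (.leaf 1415) (.leaf 4301)) (.leaf 56738208)) (.node (.node (.leaf 4313) (.leaf 76785042))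 (.leaf 1395))) (.node (.node (.node (.leaf 3050) (.leaf 130998655)) (.leaf 52618417)) (.node (.node (.leaf 60842780) (.leaf 59102632)) (.leaf 3029)))))) (.node (.node (.node (.node (.node (.node (.leaf 250) (.leaf 7277652)) (.leaf 92700584)) (.node (.node (.leaf 50468765) (.leaf 5498)) (.leaf 227))) (.node (.node (.node (.leaf 2055) (.leaf 136715812)) (.leaf 42548360)) (.node (.node (.leaf 4682) (.leaf 58180061)) (.leaf 2037)))) (.node (.node (.node (.node (.leaf 1189) (.leaf 82480790)) (.leaf 107589527)) (.node (.node (.leaf 4165) (.leaf 5805)) (.leaf 1171))) (.node (.node (.node (.leaf 2861) (.leaf 5113)) (.leaf 29449356)) (.node (.node (.leaf 94156499) (.leaf 54923770)) (.leaf 25746470))))) (.node (.node (.node (.node (.node (.leaf 733) (.leaf 99199250)) (.leaf 123340569)) (.node (.node (.leaf 3861) (.leaf 65820608)) (.leaf 710))) (.node (.node (.node (.leaf 2462) (.leaf 4895)) (.leaf 54215571)) (.node (.node (.leaf 62524727) (.leaf 115124311)) (.leaf 2446)))) (.node (.node (.node (.node (.leaf 1633) (.leaf 4428))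 (.leaf 51732667)) (.node (.node (.leaf 4441) (.leaf 91848718)) (.leaf 79689630))) (.node (.node (.node (.leaf 3228) (.leaf 89966771)) (.leaf 124211855)) (.node (.node (.leaf 146765920) (.leaf 82465064)) (.leaf 93696823))))))) (.node (.node (.node (.node (.node (.node (.node (.leaf 127) (.leaf 3458)) (.leaf 5462)) (.node (.node (.leaf 3477) (.leaf 5455)) (.leaf 89963848))) (.node (.node (.node (.leaf 1949) (.leaf 24362664)) (.leaf 730)) (.node (.node (.leaf 50148955) (.leaf 13487432)) (.leaf 1932)))) (.node (.node (.node (.node (.leaf 1079) (.leaf 4075)) (.leaf 116036952)) (.node (.node (.leaf 4090) (.leaf 105128663)) (.leaf 147357034))) (.node (.node (.node (.leaf 2347676) (.leaf 107269054)) (.leaf 56853083)) (.node (.node (.leaf 362) (.leaf 101899491)) (.leaf 2746))))) (.node (.node (.node (.node (.node (.leaf 618) (.leaf 3772)) (.leaf 106989614)) (.node (.node (.leaf 34462143) (.leaf 138572931)) (.leaf 597))) (.node (.node (.node (.leaf 2218527) (.leaf 134498134)) (.leaf 100471005)) (.node (.node (.leaf 4846) (.leaf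 30163715)) (.leaf 2349)))) (.node (.node (.node (.node (.leaf 1527) (.leaf 4366)) (.leaf 32774056)) (.node (.node (.leaf 65957171) (.leaf 67176253)) (.leaf 1509))) (.node (.node (.node (.leaf 3138) (.leaf 28282574)) (.leaf 227119)) (.node (.node (.leaf 405) (.leaf 93264015)) (.leaf 24539113)))))) (.node (.node (.node (.node (.node (.node (.leaf 12) (.leaf 3616)) (.leaf 91830422)) (.node (.node (.leaf 3630) (.leaf 5539)) (.leaf 352))) (.node (.node (.node (.leaf 2162) (.leaf 102702586)) (.leaf 84875874)) (.node (.node (.leaf 4738) (.leaf 47099367)) (.leaf 2144)))) (.node (.node (.node (.node (.leaf 1301) (.leaf 66800055)) (.leaf 5846)) (.node (.node (.leaf 4240) (.leaf 97245153)) (.leaf 1278))) (.node (.node (.node (.leaf 2958) (.leaf 101438723)) (.leaf 53937790)) (.node (.node (.leaf 124653790) (.leaf 7977207)) (.leaf 2941))))) (.node (.node (.node (.node (.node (.leaf 848) (.leaf 42705910)) (.leaf 109620808)) (.node (.node (.leaf 3931) (.leaf 111447226)) (.leaf 827))) (.node (.node (.node (.leaf 2559) (.leaf 25480569))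 (.leaf 100736309)) (.node (.node (.leaf 144281541) (.leaf 148270493)) (.leaf 2543)))) (.node (.node (.node (.node (.leaf 28299228) (.leaf 123749851)) (.leaf 22450213)) (.node (.node (.leaf 4496) (.leaf 128635468)) (.leaf 77929349))) (.node (.node (.node (.leaf 125429872) (.leaf 5369)) (.leaf 136188767)) (.node (.node (.leaf 89609519) (.leaf 49284566)) (.leaf 3297)))))))) (.node (.node (.node (.node (.node (.node (.node (.node (.leaf 66) (.leaf 7789129)) (.leaf 9263222)) (.node (.node (.leaf 111904767) (.leaf 80479546)) (.leaf 43))) (.node (.node (.node (.leaf 1901) (.leaf 7574454)) (.leaf 47867576)) (.node (.node (.leaf 4591) (.leaf 47948724)) (.leaf 1884)))) (.node (.node (.node (.node (.leaf 37) (.leaf 4036)) (.leaf 91057520)) (.node (.node (.leaf 12758175) (.leaf 144416398)) (.leaf 40371668))) (.node (.node (.node (.leaf 2714) (.leaf 5031)) (.leaf 29446295)) (.node (.node (.leaf 5042) (.leaf 61046494)) (.leaf 2693))))) (.node (.node (.node (.node (.node (.leaf 560) (.leaf 3731)) (.leaf 5436635)) (.node (.node (.leaf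 96504834) (.leaf 38669042)) (.leaf 538))) (.node (.node (.node (.leaf 2320) (.leaf 5393279)) (.leaf 60801910)) (.node (.node (.leaf 63946687) (.leaf 63609268)) (.leaf 29445046)))) (.node (.node (.node (.node (.leaf 1474) (.leaf 51890283)) (.leaf 148550077)) (.node (.node (.leaf 4345) (.leaf 131405620)) (.leaf 1453))) (.node (.node (.node (.leaf 3091) (.leaf 60840975)) (.leaf 47548856)) (.node (.node (.leaf 26497360) (.leaf 59060211)) (.leaf 3074)))))) (.node (.node (.node (.node (.node (.node (.leaf 313) (.leaf 31448112)) (.leaf 118454985)) (.node (.node (.leaf 3591) (.leaf 52631117)) (.leaf 290))) (.node (.node (.node (.leaf 2108) (.leaf 4703)) (.leaf 772)) (.node (.node (.leaf 296) (.leaf 6015)) (.leaf 2090)))) (.node (.node (.node (.node (.leaf 47) (.leaf 74143352)) (.leaf 13680602)) (.node (.node (.leaf 4200) (.leaf 116639320)) (.leaf 1222))) (.node (.node (.node (.leaf 97400745) (.leaf 5142)) (.leaf 23866608)) (.node (.node (.leaf 106693067) (.leaf 139754295)) (.leaf 2894))))) (.node (.node (.node (.node (.node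 (.leaf 789) (.leaf 3883)) (.leaf 104351625)) (.node (.node (.leaf 3892) (.leaf 5673)) (.leaf 21853979))) (.node (.node (.node (.leaf 17909734) (.leaf 4924)) (.leaf 35007575)) (.node (.node (.leaf 34760116) (.leaf 83805767)) (.leaf 105830074)))) (.node (.node (.node (.node (.leaf 1685) (.leaf 56803290)) (.leaf 678)) (.node (.node (.leaf 82634239) (.leaf 122011109)) (.leaf 1666))) (.node (.node (.node (.leaf 21589966) (.leaf 32179812)) (.leaf 122051300)) (.node (.node (.leaf 421) (.leaf 38257217)) (.leaf 3256))))))) (.node (.node (.node (.node (.node (.node (.node (.leaf 189) (.leaf 3504)) (.leaf 137671344)) (.node (.node (.leaf 52156776) (.leaf 63133225)) (.leaf 166))) (.node (.node (.node (.leaf 1999) (.leaf 4638)) (.leaf 20117642)) (.node (.node (.leaf 150235234) (.leaf 123516782)) (.leaf 71959408)))) (.node (.node (.node (.node (.leaf 1134) (.leaf 131783513)) (.leaf 21935016)) (.node (.node (.leaf 4122) (.leaf 93949603)) (.leaf 1113))) (.node (.node (.node (.leaf 131303795) (.leaf 5091)) (.leaf 45227808)) (.node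 (.node (.leaf 1586409) (.leaf 21513980)) (.leaf 2793))))) (.node (.node (.node (.node (.node (.leaf 677) (.leaf 3809)) (.leaf 69028121)) (.node (.node (.leaf 3828) (.leaf 89592792)) (.leaf 655))) (.node (.node (.node (.leaf 2418) (.leaf 41142620)) (.leaf 116206443)) (.node (.node (.leaf 109033717) (.leaf 76655064)) (.leaf 2401)))) (.node (.node (.node (.node (.leaf 1584) (.leaf 25776527)) (.leaf 83079844)) (.node (.node (.leaf 4405) (.leaf 89467993)) (.leaf 1562))) (.node (.node (.node (.leaf 3186) (.leaf 30236361)) (.leaf 49179584)) (.node (.node (.leaf 60900452) (.leaf 82641073)) (.leaf 3167)))))) (.node (.node (.node (.node (.node (.node (.leaf 437) (.leaf 149419760)) (.leaf 15751553)) (.node (.node (.leaf 3674) (.leaf 3623811)) (.leaf 415))) (.node (.node (.node (.leaf 2214) (.leaf 72108602)) (.leaf 47362176)) (.node (.node (.leaf 4763) (.leaf 50764762)) (.leaf 2195)))) (.node (.node (.node (.node (.leaf 1359) (.leaf 4263)) (.leaf 16017355)) (.node (.node (.leaf 67092071) (.leaf 16512548)) (.leaf 1339))) (.node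 (.node (.node (.leaf 48368752) (.leaf 5195)) (.leaf 39430672)) (.node (.node (.leaf 29324692) (.leaf 134366433)) (.leaf 2988))))) (.node (.node (.node (.node (.node (.leaf 906) (.leaf 3954)) (.leaf 71348650)) (.node (.node (.leaf 3971) (.leaf 130540470)) (.leaf 884))) (.node (.node (.node (.leaf 2612) (.leaf 4976)) (.leaf 35605865)) (.node (.node (.leaf 101384137) (.leaf 101755625)) (.leaf 67932037)))) (.node (.node (.node (.node (.leaf 1792) (.leaf 4516)) (.leaf 141583514)) (.node (.node (.leaf 4530) (.leaf 117778952)) (.leaf 1773))) (.node (.node (.node (.leaf 3352) (.leaf 5387)) (.leaf 75758373)) (.node (.node (.leaf 125282400) (.leaf 134989224)) (.leaf 18593045))))))))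

/-- Part of `topFac`. -/
def topFac_p10001 : Tr := .node (.node (.node (.node (.node (.node (.node (.node (.node (.leaf 34) (.leaf 3401)) (.node (.leaf 30192892) (.leaf 39306058))) (.node (.node (.leaf 31605227) (.leaf 109649889)) (.leaf 12))) (.node (.node (.node (.leaf 1876) (.leaf 93689432)) (.leaf 5968)) (.node (.node (.leaf 8338568) (.leaf 5965)) (.leaf 1857)))) (.node (.node (.node (.node (.leaf 993) (.leaf 11310166)) (.leaf 126980431)) (.node (.node (.leaf 104495916) (.leaf 106690641)) (.leaf 971))) (.node (.node (.node (.leaf 2686) (.leaf 5015)) (.leaf 104984154)) (.node (.node (.leaf 5027) (.leaf 120357944)) (.leaf 2667))))) (.node (.node (.node (.node (.node (.leaf 18) (.leaf 112698985)) (.leaf 59101854)) (.node (.node (.leaf 23775064) (.leaf 50853467)) (.leaf 507))) (.node (.node (.node (.leaf 2291) (.leaf 4800)) (.leaf 37621614)) (.node (.node (.leaf 4809) (.leaf 18078058)) (.leaf 62895879)))) (.node (.node (.node (.node (.leaf 1444) (.leaf 4317)) (.leaf 132277506)) (.node (.node (.leaf 120008491) (.leaf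 5882)) (.leaf 1422))) (.node (.node (.node (.leaf 3068) (.leaf 143028857)) (.leaf 150384649)) (.node (.node (.leaf 135929488) (.leaf 6147)) (.leaf 3056)))))) (.node (.node (.node (.node (.node (.node (.leaf 281) (.leaf 3559)) (.leaf 29917235)) (.node (.node (.leaf 49165348) (.leaf 5503)) (.leaf 258))) (.node (.node (.node (.leaf 107126838) (.leaf 14389008)) (.leaf 139733030)) (.node (.node (.leaf 4699) (.leaf 80766152)) (.leaf 2064)))) (.node (.node (.node (.node (.leaf 1213) (.leaf 106486799)) (.leaf 57717328)) (.node (.node (.leaf 4183) (.leaf 90460233)) (.leaf 1196))) (.node (.node (.node (.leaf 27401884) (.leaf 5127)) (.leaf 1056)) (.node (.node (.leaf 36884425) (.leaf 117129080)) (.leaf 66898195))))) (.node (.node (.node (.node (.node (.leaf 762) (.leaf 7864326)) (.leaf 112688903)) (.node (.node (.leaf 24860995) (.leaf 33573667)) (.leaf 741))) (.node (.node (.node (.leaf 2487) (.leaf 148631366)) (.leaf 76431693)) (.node (.node (.leaf 135236214) (.leaf 106708838)) (.leaf 2469)))) (.node (.node (.node (.node (.leaf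 1659) (.leaf 148750408)) (.leaf 108400608)) (.node (.node (.leaf 94079694) (.leaf 29540208)) (.leaf 1641))) (.node (.node (.node (.leaf 3250) (.leaf 112173529)) (.leaf 131023708)) (.node (.node (.leaf 4595973) (.leaf 109600718)) (.leaf 17107986))))))) (.node (.node (.node (.node (.node (.node (.node (.leaf 157) (.leaf 70605256)) (.leaf 5474)) (.node (.node (.leaf 3499) (.leaf 147586056)) (.leaf 136))) (.node (.node (.node (.leaf 1974) (.leaf 4620)) (.leaf 94140521)) (.node (.node (.leaf 4635) (.leaf 21096119)) (.leaf 1955)))) (.node (.node (.node (.node (.leaf 144764741) (.leaf 107191426)) (.leaf 5782)) (.node (.node (.leaf 4109) (.leaf 12770851)) (.leaf 1087))) (.node (.node (.node (.leaf 2786) (.leaf 5072)) (.leaf 131813429)) (.node (.node (.leaf 35299846) (.leaf 6127)) (.leaf 2768))))) (.node (.node (.node (.node (.node (.leaf 7996988) (.leaf 139251414)) (.leaf 138821161)) (.node (.node (.leaf 3805) (.leaf 22602224)) (.leaf 626))) (.node (.node (.node (.leaf 2393) (.leaf 27023531)) (.leaf 63134649)) (.node (.node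 (.leaf 92836303) (.leaf 58425701)) (.leaf 2374)))) (.node (.node (.node (.node (.leaf 1553) (.leaf 56851916)) (.leaf 66976472)) (.node (.node (.leaf 4389) (.leaf 18270358)) (.leaf 1535))) (.node (.node (.node (.leaf 3161) (.leaf 134716804)) (.leaf 69073053)) (.node (.node (.leaf 5289) (.leaf 123187997)) (.leaf 3142)))))) (.node (.node (.node (.node (.node (.node (.leaf 406) (.leaf 3638)) (.leaf 13996247)) (.node (.node (.leaf 112502872) (.leaf 34215546)) (.leaf 383))) (.node (.node (.node (.leaf 2188) (.leaf 15344712)) (.leaf 148217776)) (.node (.node (.leaf 4747) (.leaf 6658586)) (.leaf 2170)))) (.node (.node (.node (.node (.leaf 1330) (.leaf 59112238)) (.leaf 5853)) (.node (.node (.leaf 35225379) (.leaf 69705443)) (.leaf 132028592))) (.node (.node (.node (.leaf 2980) (.leaf 5181)) (.leaf 111568375)) (.node (.node (.leaf 5189) (.leaf 95804147)) (.leaf 2965))))) (.node (.node (.node (.node (.node (.leaf 876) (.leaf 3937)) (.leaf 100458876)) (.node (.node (.leaf 29605216) (.leaf 66431640)) (.leaf 0))) (.node (.node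 (.node (.leaf 2585) (.leaf 4959)) (.leaf 6093)) (.node (.node (.leaf 4970) (.leaf 141658173)) (.leaf 2567)))) (.node (.node (.node (.node (.leaf 1765) (.leaf 13725136)) (.leaf 5943)) (.node (.node (.leaf 69699298) (.leaf 5939)) (.leaf 1742))) (.node (.node (.node (.leaf 3333) (.leaf 114186791)) (.leaf 40081597)) (.node (.node (.leaf 37146310) (.leaf 69257614)) (.leaf 3317)))))))) (.node (.node (.node (.node (.node (.node (.node (.node (.leaf 97) (.leaf 117328346)) (.leaf 81374646)) (.node (.node (.leaf 170) (.leaf 5443)) (.leaf 75))) (.node (.node (.node (.leaf 1929) (.leaf 26965275)) (.leaf 84412545)) (.node (.node (.leaf 54495390) (.leaf 144837836)) (.leaf 1908)))) (.node (.node (.node (.node (.leaf 1051) (.leaf 4054)) (.leaf 5762)) (.node (.node (.leaf 4070) (.leaf 113820600)) (.leaf 1028))) (.node (.node (.node (.leaf 94354161) (.leaf 5046)) (.leaf 131881634)) (.node (.node (.leaf 5053) (.leaf 19144572)) (.leaf 43868800))))) (.node (.node (.node (.node (.node (.leaf 589) (.leaf 3752)) (.leaf 93974118)) (.node (.node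 (.leaf 3768) (.leaf 38080211)) (.leaf 568))) (.node (.node (.node (.leaf 2343) (.leaf 4828)) (.leaf 6055)) (.node (.node (.leaf 43689746) (.leaf 95146940)) (.leaf 12103941)))) (.node (.node (.node (.node (.leaf 1502) (.leaf 4350)) (.leaf 5896)) (.node (.node (.leaf 4362) (.leaf 100785304)) (.leaf 136319339))) (.node (.node (.node (.leaf 3114) (.leaf 5259)) (.leaf 32723897)) (.node (.node (.leaf 5266) (.leaf 102703685)) (.leaf 3097)))))) (.node (.node (.node (.node (.node (.node (.leaf 343) (.leaf 98689977)) (.leaf 121554265)) (.node (.node (.leaf 3608) (.leaf 50850820)) (.leaf 321))) (.node (.node (.node (.leaf 2135) (.leaf 79976854)) (.leaf 135692875)) (.node (.node (.leaf 61247967) (.leaf 90998880)) (.leaf 55496527)))) (.node (.node (.node (.node (.leaf 1270) (.leaf 35443895)) (.leaf 5839)) (.node (.node (.leaf 4223) (.leaf 147905138)) (.leaf 1249))) (.node (.node (.node (.leaf 46616084) (.leaf 117445657)) (.leaf 98180943)) (.node (.node (.leaf 5164) (.leaf 72229464)) (.leaf 2914))))) (.node (.node (.node (.node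 (.node (.leaf 818) (.leaf 3898)) (.leaf 5688)) (.node (.node (.leaf 3914) (.leaf 27027643)) (.leaf 797))) (.node (.node (.node (.leaf 33502403) (.leaf 4937)) (.leaf 16220125)) (.node (.node (.leaf 49245367) (.leaf 102738632)) (.leaf 2520)))) (.node (.node (.node (.node (.leaf 1710) (.leaf 4472)) (.leaf 15749869)) (.node (.node (.leaf 77843900) (.leaf 142088251)) (.leaf 1691))) (.node (.node (.node (.leaf 3291) (.leaf 30512136)) (.leaf 87734967)) (.node (.node (.leaf 5365) (.leaf 35050175)) (.leaf 3277))))))) (.node (.node (.node (.node (.node (.node (.node (.leaf 219) (.leaf 3521)) (.leaf 5495)) (.node (.node (.leaf 3533) (.leaf 109978516)) (.leaf 198))) (.node (.node (.node (.leaf 123841983) (.leaf 73148459)) (.leaf 6001)) (.node (.node (.leaf 25511660) (.leaf 58721053)) (.leaf 2008)))) (.node (.node (.node (.node (.leaf 1162) (.leaf 96756475)) (.leaf 106653361)) (.node (.node (.leaf 4143) (.leaf 90663559)) (.leaf 1141))) (.node (.node (.node (.leaf 2837) (.leaf 5102)) (.leaf 103503900)) (.node (.node (.leaf 5110)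 (.leaf 130611435)) (.leaf 2819))))) (.node (.node (.node (.node (.node (.leaf 702) (.leaf 3834)) (.leaf 5650)) (.node (.node (.leaf 133531301) (.leaf 10023175)) (.leaf 683))) (.node (.node (.node (.leaf 2438) (.leaf 4879)) (.leaf 37762376)) (.node (.node (.leaf 4891) (.leaf 114165497)) (.leaf 16217234)))) (.node (.node (.node (.node (.leaf 1607) (.leaf 4409)) (.leaf 102747429)) (.node (.node (.leaf 4422) (.leaf 74574811)) (.leaf 1591))) (.node (.node (.node (.leaf 3210) (.leaf 148454502)) (.leaf 127391907)) (.node (.node (.leaf 415) (.leaf 79939787)) (.leaf 3193)))))) (.node (.node (.node (.node (.node (.node (.leaf 467) (.leaf 3680)) (.leaf 5577)) (.node (.node (.leaf 3694) (.leaf 125051245)) (.leaf 446))) (.node (.node (.node (.leaf 35836212) (.leaf 73603281)) (.leaf 29258961)) (.node (.node (.leaf 4780) (.leaf 57447210)) (.leaf 2221)))) (.node (.node (.node (.node (.leaf 1388) (.leaf 4284)) (.leaf 10436699)) (.node (.node (.leaf 4299) (.leaf 33743317)) (.leaf 1368))) (.node (.node (.node (.leaf 29496170) (.leaf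 133698092)) (.leaf 95734708)) (.node (.node (.leaf 126919170) (.leaf 94549318)) (.leaf 129554354))))) (.node (.node (.node (.node (.node (.leaf 936) (.leaf 3978)) (.leaf 116506905)) (.node (.node (.leaf 3994) (.leaf 28847737)) (.leaf 914))) (.node (.node (.node (.leaf 2641) (.leaf 107296505)) (.leaf 26064153)) (.node (.node (.leaf 4997) (.leaf 65203310)) (.leaf 124512245)))) (.node (.node (.node (.node (.leaf 26299990) (.leaf 109271940)) (.leaf 5955)) (.node (.node (.leaf 4551) (.leaf 5954)) (.leaf 1799))) (.node (.node (.node (.leaf 3374) (.leaf 111116869)) (.leaf 86959641)) (.node (.node (.leaf 53504628) (.leaf 100927549)) (.leaf 31281973))))))))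

/-- Part of `topFac`. -/
def topFac_p10010 : Tr := .node (.node (.node (.node (.node (.node (.node (.node (.node (.leaf 19) (.leaf 3388)) (.node (.leaf 5423) (.leaf 143548040))) (.node (.node (.leaf 166) (.leaf 72005603)) (.leaf 110117994))) (.node (.node (.node (.leaf 75) (.leaf 4559)) (.leaf 126021688)) (.node (.node (.leaf 4571) (.leaf 5961)) (.leaf 1841)))) (.node (.node (.node (.node (.leaf 977) (.leaf 4009)) (.leaf 55296672)) (.node (.node (.leaf 11310159) (.leaf 121454328)) (.leaf 959))) (.node (.node (.node (.leaf 2671) (.leaf 5010)) (.leaf 93417195)) (.node (.node (.leaf 5019) (.leaf 52362017)) (.leaf 54475974))))) (.node (.node (.node (.node (.node (.leaf 514) (.leaf 150527493)) (.leaf 47766241)) (.node (.node (.leaf 3716) (.leaf 5583)) (.leaf 491))) (.node (.node (.node (.leaf 2278) (.leaf 4791)) (.leaf 814)) (.node (.node (.leaf 130134283) (.leaf 83996789)) (.leaf 2261)))) (.node (.node (.node (.node (.leaf 1428) (.leaf 61224063)) (.leaf 63668649)) (.node (.node (.leaf 1048) (.leaf 5877)) (.leaf 1408)))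 (.node (.node (.node (.leaf 3060) (.leaf 5224)) (.leaf 11628208)) (.node (.node (.leaf 88256901) (.leaf 33505798)) (.leaf 3044)))))) (.node (.node (.node (.node (.node (.node (.leaf 265) (.leaf 3549)) (.leaf 461)) (.node (.node (.leaf 3565) (.leaf 37672817)) (.leaf 243))) (.node (.node (.node (.leaf 2070) (.leaf 70168431)) (.leaf 116840155)) (.node (.node (.leaf 77623138) (.leaf 43835927)) (.leaf 70696266)))) (.node (.node (.node (.node (.leaf 1201) (.leaf 123388299)) (.leaf 5817)) (.node (.node (.leaf 4174) (.leaf 5809)) (.leaf 1183))) (.node (.node (.node (.leaf 2873) (.leaf 5121)) (.leaf 6136)) (.node (.node (.leaf 5131) (.leaf 115137310)) (.leaf 68763157))))) (.node (.node (.node (.node (.node (.leaf 746) (.leaf 3858)) (.leaf 61804212)) (.node (.node (.leaf 3869) (.leaf 114030577)) (.leaf 726))) (.node (.node (.node (.leaf 2474) (.leaf 4906)) (.leaf 49634862)) (.node (.node (.leaf 4916) (.leaf 53013975)) (.leaf 2456)))) (.node (.node (.node (.node (.leaf 1647) (.leaf 4437)) (.leaf 5924)) (.node (.node (.leaf 4448)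 (.leaf 5920)) (.leaf 1628))) (.node (.node (.node (.leaf 3237) (.leaf 11312812)) (.leaf 10717588)) (.node (.node (.leaf 145141360) (.leaf 27082785)) (.leaf 146996167))))))) (.node (.node (.node (.node (.node (.node (.node (.leaf 143) (.leaf 3471)) (.leaf 13011585)) (.node (.node (.leaf 27462746) (.leaf 63990242)) (.leaf 120))) (.node (.node (.node (.leaf 16185166) (.leaf 4615)) (.leaf 5986)) (.node (.node (.leaf 142773114) (.leaf 148601481)) (.leaf 1947)))) (.node (.node (.node (.node (.leaf 1093) (.leaf 4085)) (.leaf 74887148)) (.node (.node (.leaf 4102) (.leaf 69758625)) (.leaf 1072))) (.node (.node (.node (.leaf 105034390) (.leaf 5062)) (.leaf 26218346)) (.node (.node (.leaf 147372416) (.leaf 107329067)) (.leaf 2756))))) (.node (.node (.node (.node (.node (.leaf 633) (.leaf 3780)) (.leaf 147170652)) (.node (.node (.leaf 105035040) (.leaf 97364591)) (.leaf 612))) (.node (.node (.node (.leaf 2380) (.leaf 4842)) (.leaf 87333603)) (.node (.node (.leaf 4850) (.leaf 38219069)) (.leaf 2361)))) (.node (.node (.node (.node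 (.leaf 1541) (.leaf 4376)) (.leaf 138214184)) (.node (.node (.leaf 31828703) (.leaf 85727706)) (.leaf 1521))) (.node (.node (.node (.leaf 3149) (.leaf 5275)) (.leaf 96480439)) (.node (.node (.leaf 5283) (.leaf 149479390)) (.leaf 3134)))))) (.node (.node (.node (.node (.node (.node (.leaf 390) (.leaf 3624)) (.leaf 41709567)) (.node (.node (.leaf 3641) (.leaf 134210450)) (.leaf 368))) (.node (.node (.node (.leaf 2174) (.leaf 75606096)) (.leaf 139427081)) (.node (.node (.leaf 83490097) (.leaf 47972443)) (.leaf 2157)))) (.node (.node (.node (.node (.leaf 1314) (.leaf 4234)) (.leaf 99207986)) (.node (.node (.leaf 22207011) (.leaf 115574381)) (.leaf 1294))) (.node (.node (.node (.leaf 2970) (.leaf 4799715)) (.leaf 1111)) (.node (.node (.leaf 5185) (.leaf 49426267)) (.leaf 2955))))) (.node (.node (.node (.node (.node (.leaf 862) (.leaf 95715522)) (.leaf 5703)) (.node (.node (.leaf 2192900) (.leaf 73427238)) (.leaf 841))) (.node (.node (.node (.leaf 2572) (.leaf 4953)) (.leaf 909)) (.node (.node (.leaf 4963) (.leaf 75991323))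 (.leaf 2556)))) (.node (.node (.node (.node (.leaf 1749) (.leaf 4492)) (.leaf 68378017)) (.node (.node (.leaf 47399011) (.leaf 140901689)) (.leaf 1729))) (.node (.node (.node (.leaf 160) (.leaf 51969253)) (.leaf 102589688)) (.node (.node (.leaf 5379) (.leaf 97307553)) (.leaf 3310)))))))) (.node (.node (.node (.node (.node (.node (.node (.node (.leaf 82) (.leaf 3429)) (.leaf 87958138)) (.node (.node (.leaf 9222863) (.leaf 5436)) (.leaf 59))) (.node (.node (.node (.leaf 1914) (.leaf 4587)) (.leaf 5975)) (.node (.node (.leaf 4597) (.leaf 137830553)) (.leaf 55146710)))) (.node (.node (.node (.node (.leaf 1035) (.leaf 4045)) (.leaf 73165861)) (.node (.node (.leaf 4058) (.leaf 5752)) (.leaf 1015))) (.node (.node (.node (.leaf 2728) (.leaf 5038)) (.leaf 112227321)) (.node (.node (.leaf 5048) (.leaf 59821987)) (.leaf 116731789))))) (.node (.node (.node (.node (.node (.leaf 575) (.leaf 3743)) (.leaf 33886279)) (.node (.node (.leaf 3758) (.leaf 5600)) (.leaf 553))) (.node (.node (.node (.leaf 2331) (.leaf 4822)) (.leaf 74292028))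 (.node (.node (.leaf 7921222) (.leaf 30859356)) (.leaf 2313)))) (.node (.node (.node (.node (.leaf 1487) (.leaf 4341)) (.leaf 131136383)) (.node (.node (.leaf 4353) (.leaf 51989091)) (.leaf 142980669))) (.node (.node (.node (.leaf 3103) (.leaf 139249056)) (.leaf 94820757)) (.node (.node (.leaf 59764785) (.leaf 66652305)) (.leaf 3085)))))) (.node (.node (.node (.node (.node (.node (.leaf 328) (.leaf 78522666)) (.leaf 125733550)) (.node (.node (.leaf 3601) (.leaf 5519)) (.leaf 306))) (.node (.node (.node (.leaf 883) (.leaf 95028047)) (.leaf 2614386)) (.node (.node (.leaf 4720) (.leaf 124697713)) (.leaf 2103)))) (.node (.node (.node (.node (.leaf 1256) (.leaf 4194)) (.leaf 5834)) (.node (.node (.leaf 4209) (.leaf 144127292)) (.leaf 1237))) (.node (.node (.node (.leaf 2921) (.leaf 119108900)) (.leaf 102968889)) (.node (.node (.leaf 82301719) (.leaf 134089534)) (.leaf 2904))))) (.node (.node (.node (.node (.node (.leaf 804) (.leaf 3888)) (.leaf 5685)) (.node (.node (.leaf 11607036) (.leaf 5680)) (.leaf 62317610))) (.node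 (.node (.node (.leaf 2527) (.leaf 124823467)) (.leaf 6086)) (.node (.node (.leaf 9435478) (.leaf 94776914)) (.leaf 32622121)))) (.node (.node (.node (.node (.leaf 1697) (.leaf 30460416)) (.leaf 5932)) (.node (.node (.leaf 149256457) (.leaf 28373951)) (.leaf 1679))) (.node (.node (.node (.leaf 3283) (.leaf 5348)) (.leaf 72405455)) (.node (.node (.leaf 5357) (.leaf 121320585)) (.leaf 3266))))))) (.node (.node (.node (.node (.node (.node (.node (.leaf 205) (.leaf 3514)) (.leaf 42822729)) (.node (.node (.leaf 3526) (.leaf 5481)) (.leaf 182))) (.node (.node (.node (.leaf 2015) (.leaf 4646)) (.leaf 35664091)) (.node (.node (.leaf 4659) (.leaf 12936611)) (.leaf 1992)))) (.node (.node (.node (.node (.leaf 1148) (.leaf 4119)) (.leaf 5796)) (.node (.node (.leaf 34715993) (.leaf 25748163)) (.leaf 1128))) (.node (.node (.node (.leaf 2826) (.leaf 9977602)) (.leaf 125038924)) (.node (.node (.leaf 77753391) (.leaf 128684333)) (.leaf 147523401))))) (.node (.node (.node (.node (.node (.leaf 689) (.leaf 3823)) (.leaf 509)) (.node (.node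 (.leaf 3838) (.leaf 5639)) (.leaf 670))) (.node (.node (.node (.leaf 16297057) (.leaf 102705250)) (.leaf 10506654)) (.node (.node (.leaf 129513826) (.leaf 19658534)) (.leaf 2411)))) (.node (.node (.node (.node (.leaf 1596) (.leaf 4402)) (.leaf 21584620)) (.node (.node (.leaf 4413) (.leaf 8488644)) (.leaf 1577))) (.node (.node (.node (.leaf 3199) (.leaf 142950690)) (.leaf 40758797)) (.node (.node (.leaf 5306) (.leaf 2092244)) (.leaf 3179)))))) (.node (.node (.node (.node (.node (.node (.leaf 452) (.leaf 87336799)) (.leaf 101009239)) (.node (.node (.leaf 104658600) (.leaf 5559)) (.leaf 430))) (.node (.node (.node (.leaf 2228) (.leaf 87621155)) (.leaf 40239581)) (.node (.node (.leaf 11611710) (.leaf 135323763)) (.leaf 2208)))) (.node (.node (.node (.node (.leaf 132114575) (.leaf 49605759)) (.leaf 135326856)) (.node (.node (.leaf 89738581) (.leaf 108345821)) (.leaf 10021993))) (.node (.node (.node (.leaf 3011) (.leaf 5202)) (.leaf 89596587)) (.node (.node (.leaf 70869395) (.leaf 86786956)) (.leaf 2999))))) (.node (.node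 (.node (.node (.node (.leaf 920) (.leaf 34446773)) (.leaf 35025176)) (.node (.node (.leaf 3982) (.leaf 56857883)) (.leaf 899))) (.node (.node (.node (.leaf 2627) (.leaf 4979)) (.leaf 63113096)) (.node (.node (.leaf 13588200) (.leaf 98125338)) (.leaf 2605)))) (.node (.node (.node (.node (.leaf 93386740) (.leaf 4525)) (.leaf 86749531)) (.node (.node (.leaf 4540) (.leaf 69801476)) (.leaf 1787))) (.node (.node (.node (.leaf 3360) (.leaf 71835465)) (.leaf 38196010)) (.node (.node (.leaf 5398) (.leaf 25642710)) (.leaf 3346))))))))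

/-- Part of `topFac`. -/
def topFac_p10011 : Tr := .node (.node (.node (.node (.node (.node (.node (.node (.node (.leaf 50) (.leaf 47102440)) (.leaf 442)) (.node (.node (.leaf 3423) (.leaf 64179063)) (.leaf 28))) (.node (.node (.node (.leaf 130532911) (.leaf 4576)) (.leaf 716)) (.node (.node (.leaf 77721981) (.leaf 31993238)) (.leaf 1870)))) (.node (.node (.node (.node (.leaf 1007) (.leaf 4023)) (.leaf 129554595)) (.node (.node (.leaf 4040) (.leaf 5745)) (.leaf 986))) (.node (.node (.node (.leaf 2700) (.leaf 112147834)) (.leaf 25970263)) (.node (.node (.leaf 140431260) (.leaf 77489770)) (.leaf 2680))))) (.node (.node (.node (.node (.node (.leaf 545) (.leaf 3723)) (.leaf 127753474)) (.node (.node (.leaf 3735) (.leaf 114795394)) (.leaf 523))) (.node (.node (.node (.leaf 2304) (.leaf 4806)) (.leaf 54406585)) (.node (.node (.leaf 4818) (.leaf 54418648)) (.leaf 2286)))) (.node (.node (.node (.node (.leaf 1460) (.leaf 10000327)) (.leaf 123955039)) (.node (.node (.leaf 4336) (.leaf 55427741)) (.leaf 1437))) (.node (.node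 (.node (.leaf 3079) (.leaf 129077248)) (.leaf 29652993)) (.node (.node (.leaf 5247) (.leaf 18293242)) (.leaf 56550361)))))) (.node (.node (.node (.node (.node (.node (.leaf 297) (.leaf 96658287)) (.leaf 65499194)) (.node (.node (.leaf 3582) (.leaf 64514148)) (.leaf 274))) (.node (.node (.node (.leaf 2095) (.leaf 4696)) (.leaf 769)) (.node (.node (.leaf 149078369) (.leaf 6011)) (.leaf 13212711)))) (.node (.node (.node (.node (.leaf 1228) (.leaf 4179)) (.leaf 72149944)) (.node (.node (.leaf 4189) (.leaf 63289191)) (.leaf 1208))) (.node (.node (.node (.leaf 2898) (.leaf 55100290)) (.leaf 109223784)) (.node (.node (.leaf 5145) (.leaf 103385040)) (.leaf 2881))))) (.node (.node (.node (.node (.node (.leaf 777) (.leaf 3877)) (.leaf 5676)) (.node (.node (.leaf 72174593) (.leaf 5668)) (.leaf 755))) (.node (.node (.node (.leaf 2500) (.leaf 25338273)) (.leaf 5650488)) (.node (.node (.leaf 66938978) (.leaf 6077)) (.leaf 2481)))) (.node (.node (.node (.node (.leaf 1671) (.leaf 4453)) (.leaf 5926)) (.node (.node (.leaf 4464) (.leaf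 55672582)) (.leaf 132754626))) (.node (.node (.node (.leaf 3260) (.leaf 5339)) (.leaf 111402389)) (.node (.node (.leaf 65560590) (.leaf 101514922)) (.leaf 3243))))))) (.node (.node (.node (.node (.node (.node (.node (.leaf 173) (.leaf 3493)) (.leaf 116655427)) (.node (.node (.leaf 3508) (.leaf 78203901)) (.leaf 151))) (.node (.node (.node (.leaf 1985) (.leaf 4630)) (.leaf 12549685)) (.node (.node (.leaf 52598408) (.leaf 137205866)) (.leaf 1968)))) (.node (.node (.node (.node (.leaf 1120) (.leaf 4106)) (.leaf 5786)) (.node (.node (.leaf 104243245) (.leaf 5778)) (.leaf 1100))) (.node (.node (.node (.leaf 65808233) (.leaf 5079)) (.leaf 6654115)) (.node (.node (.leaf 14162222) (.leaf 49551931)) (.leaf 2780))))) (.node (.node (.node (.node (.node (.leaf 662) (.leaf 3801)) (.leaf 5633)) (.node (.node (.leaf 200) (.leaf 5625)) (.leaf 640))) (.node (.node (.node (.leaf 2407) (.leaf 4855)) (.leaf 8297732)) (.node (.node (.leaf 4864) (.leaf 31850023)) (.leaf 56957422)))) (.node (.node (.node (.node (.leaf 1569) (.leaf 148947755))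 (.leaf 5910)) (.node (.node (.leaf 28418472) (.leaf 78777547)) (.leaf 1546))) (.node (.node (.node (.leaf 3172) (.leaf 146064699)) (.leaf 32426881)) (.node (.node (.leaf 52728805) (.leaf 119831531)) (.leaf 42405184)))))) (.node (.node (.node (.node (.node (.node (.leaf 422) (.leaf 3648)) (.leaf 47239250)) (.node (.node (.leaf 188) (.leaf 5546)) (.leaf 399))) (.node (.node (.node (.leaf 2201) (.leaf 4743)) (.leaf 6035)) (.node (.node (.leaf 4755) (.leaf 6032)) (.leaf 2181)))) (.node (.node (.node (.node (.leaf 1345) (.leaf 4252)) (.leaf 28683888)) (.node (.node (.leaf 644) (.leaf 132049845)) (.leaf 1323))) (.node (.node (.node (.leaf 2994) (.leaf 130103577)) (.leaf 5316601)) (.node (.node (.leaf 5197) (.leaf 63285361)) (.leaf 88248638))))) (.node (.node (.node (.node (.node (.leaf 890) (.leaf 3943)) (.leaf 24214996)) (.node (.node (.leaf 3958) (.leaf 50546372)) (.leaf 871))) (.node (.node (.node (.leaf 10257871) (.leaf 4967)) (.leaf 8903799)) (.node (.node (.leaf 4977) (.leaf 42401128)) (.leaf 2580)))) (.node (.node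 (.node (.node (.leaf 1779) (.leaf 63934182)) (.leaf 44538423)) (.node (.node (.leaf 4520) (.leaf 130365374)) (.leaf 1758))) (.node (.node (.node (.leaf 114029509) (.leaf 27171036)) (.leaf 129188980)) (.node (.node (.leaf 148571978) (.leaf 113788356)) (.leaf 37626417)))))))) (.node (.node (.node (.node (.node (.node (.node (.node (.leaf 21736938) (.leaf 111247222)) (.leaf 5345283)) (.node (.node (.leaf 3463) (.leaf 21591849)) (.leaf 91))) (.node (.node (.node (.leaf 1939) (.leaf 70330639)) (.leaf 87051127)) (.node (.node (.leaf 123165251) (.leaf 74250584)) (.leaf 1923)))) (.node (.node (.node (.node (.leaf 125189466) (.leaf 109647910)) (.leaf 559)) (.node (.node (.leaf 4078) (.leaf 45750516)) (.leaf 1044))) (.node (.node (.node (.leaf 2751) (.leaf 141660157)) (.leaf 130054903)) (.node (.node (.leaf 72035435) (.leaf 120755272)) (.leaf 131775605))))) (.node (.node (.node (.node (.node (.leaf 604) (.leaf 3762)) (.leaf 5616)) (.node (.node (.leaf 3776) (.leaf 91981034)) (.leaf 582))) (.node (.node (.node (.leaf 103274798)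 (.leaf 4831)) (.leaf 127784786)) (.node (.node (.leaf 88865136) (.leaf 112878080)) (.leaf 39823469)))) (.node (.node (.node (.node (.leaf 135555987) (.leaf 4357)) (.leaf 639)) (.node (.node (.leaf 134511524) (.leaf 26008507)) (.leaf 1495))) (.node (.node (.node (.leaf 3125) (.leaf 35629911)) (.leaf 27418559)) (.node (.node (.leaf 106704831) (.leaf 67246808)) (.leaf 40624503)))))) (.node (.node (.node (.node (.node (.node (.leaf 359) (.leaf 107288590)) (.leaf 96222226)) (.node (.node (.leaf 3620) (.leaf 140994093)) (.leaf 337))) (.node (.node (.node (.leaf 2150) (.leaf 3929435)) (.leaf 30824960)) (.node (.node (.leaf 4729) (.leaf 43406692)) (.leaf 2129)))) (.node (.node (.node (.node (.leaf 1285) (.leaf 4218)) (.leaf 59705325)) (.node (.node (.leaf 4229) (.leaf 124820271)) (.leaf 1265))) (.node (.node (.node (.leaf 52277030) (.leaf 133386374)) (.leaf 1096)) (.node (.node (.leaf 5170) (.leaf 136384160)) (.leaf 2927))))) (.node (.node (.node (.node (.node (.leaf 833) (.leaf 141578217)) (.leaf 5696)) (.node (.node (.leaf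 66080300) (.leaf 53220940)) (.leaf 812))) (.node (.node (.node (.leaf 2549) (.leaf 131323404)) (.leaf 95964386)) (.node (.node (.leaf 4950) (.leaf 43552707)) (.leaf 2534)))) (.node (.node (.node (.node (.leaf 69) (.leaf 4478)) (.leaf 5938)) (.node (.node (.leaf 4487) (.leaf 10273866)) (.leaf 1703))) (.node (.node (.node (.leaf 86528998) (.leaf 90589405)) (.leaf 1573)) (.node (.node (.leaf 87049651) (.leaf 133327849)) (.leaf 3289))))))) (.node (.node (.node (.node (.node (.node (.node (.leaf 234) (.leaf 3529)) (.leaf 126584920)) (.node (.node (.leaf 121658117) (.leaf 125779683)) (.leaf 212))) (.node (.node (.node (.leaf 2043) (.leaf 4664)) (.leaf 41328604)) (.node (.node (.leaf 69930170) (.leaf 59677183)) (.leaf 2022)))) (.node (.node (.node (.node (.leaf 137858317) (.leaf 17804938)) (.leaf 104591699)) (.node (.node (.leaf 4152) (.leaf 22238005)) (.leaf 1157))) (.node (.node (.node (.leaf 2849) (.leaf 100020894)) (.leaf 138864977)) (.node (.node (.leaf 122034821) (.leaf 120664562)) (.leaf 2833))))) (.node (.node (.node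 (.node (.node (.leaf 717) (.leaf 9643258)) (.leaf 32021969)) (.node (.node (.leaf 77671985) (.leaf 61157906)) (.leaf 696))) (.node (.node (.node (.leaf 2449) (.leaf 71670408)) (.leaf 131412041)) (.node (.node (.leaf 94491255) (.leaf 114055597)) (.leaf 2433)))) (.node (.node (.node (.node (.leaf 1619) (.leaf 4418)) (.leaf 19179673)) (.node (.node (.leaf 4432) (.leaf 25423693)) (.leaf 134552586))) (.node (.node (.node (.leaf 3219) (.leaf 147613571)) (.leaf 83173533)) (.node (.node (.leaf 5321) (.leaf 87646132)) (.leaf 3205)))))) (.node (.node (.node (.node (.node (.node (.leaf 482) (.leaf 122056862)) (.leaf 5581)) (.node (.node (.leaf 138259461) (.leaf 130615448)) (.leaf 461))) (.node (.node (.node (.leaf 2252) (.leaf 64290550)) (.leaf 6040)) (.node (.node (.leaf 4786) (.leaf 132463404)) (.leaf 2235)))) (.node (.node (.node (.node (.leaf 1401) (.leaf 4294)) (.leaf 5874)) (.node (.node (.leaf 4307) (.leaf 126784987)) (.leaf 1382))) (.node (.node (.node (.leaf 3035) (.leaf 113321762)) (.leaf 64988766)) (.node (.node (.leaf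 113322943) (.leaf 136692406)) (.leaf 3019))))) (.node (.node (.node (.node (.node (.leaf 951) (.leaf 3989)) (.leaf 5731)) (.node (.node (.leaf 4003) (.leaf 5724)) (.leaf 929))) (.node (.node (.node (.leaf 2653) (.leaf 4993)) (.leaf 93401007)) (.node (.node (.leaf 350) (.leaf 6103)) (.leaf 2635)))) (.node (.node (.node (.node (.leaf 1832) (.leaf 16216271)) (.leaf 4552362)) (.node (.node (.leaf 148690274) (.leaf 11268799)) (.leaf 1813))) (.node (.node (.node (.leaf 74508199) (.leaf 125943058)) (.leaf 67885011)) (.node (.node (.leaf 61347115) (.leaf 98384879)) (.leaf 3369))))))))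

/-- Part of `topFac`. -/
def topFac_p10100 : Tr := .node (.node (.node (.node (.node (.node (.node (.node (.node (.leaf 11) (.leaf 95407973)) (.node (.leaf 5417) (.leaf 117406394))) (.node (.node (.leaf 3400) (.leaf 40567120)) (.leaf 19065023))) (.node (.node (.node (.leaf 1856) (.leaf 4557)) (.leaf 30563217)) (.node (.node (.leaf 4567) (.leaf 26647288)) (.leaf 1833)))) (.node (.node (.node (.node (.leaf 970) (.leaf 4004)) (.leaf 54356869)) (.node (.node (.leaf 4016) (.leaf 5732)) (.leaf 952))) (.node (.node (.node (.leaf 2666) (.leaf 5006)) (.leaf 954)) (.node (.node (.leaf 5014) (.leaf 46448649)) (.leaf 2654))))) (.node (.node (.node (.node (.node (.leaf 506) (.leaf 49429162)) (.leaf 5588)) (.node (.node (.leaf 40778775) (.leaf 83597621)) (.leaf 483))) (.node (.node (.node (.leaf 2272) (.leaf 52187460)) (.leaf 6041)) (.node (.node (.leaf 312) (.leaf 64635165)) (.leaf 2253)))) (.node (.node (.node (.node (.leaf 1421) (.leaf 4308)) (.leaf 114352310)) (.node (.node (.leaf 73307559) (.leaf 5875)) (.leaf 1402))) (.node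 (.node (.node (.leaf 70174939) (.leaf 70595497)) (.leaf 132678580)) (.node (.node (.leaf 54091182) (.leaf 118465975)) (.leaf 3036)))))) (.node (.node (.node (.node (.node (.node (.leaf 8) (.leaf 3545)) (.leaf 28714596)) (.node (.node (.leaf 3558) (.leaf 89580502)) (.leaf 235))) (.node (.node (.node (.leaf 2063) (.leaf 101538022)) (.leaf 73599179)) (.node (.node (.leaf 4689) (.leaf 126458734)) (.leaf 2044)))) (.node (.node (.node (.node (.leaf 1195) (.leaf 4153)) (.leaf 5813)) (.node (.node (.leaf 68771993) (.leaf 131963451)) (.leaf 1175))) (.node (.node (.node (.leaf 2869) (.leaf 51780684)) (.leaf 93034285)) (.node (.node (.leaf 6947929) (.leaf 118848636)) (.leaf 73061691))))) (.node (.node (.node (.node (.node (.leaf 740) (.leaf 3855)) (.leaf 54417134)) (.node (.node (.leaf 3864) (.leaf 95548817)) (.leaf 718))) (.node (.node (.node (.leaf 107) (.leaf 4900)) (.leaf 90105194)) (.node (.node (.leaf 4913) (.leaf 46650026)) (.leaf 101008526)))) (.node (.node (.node (.node (.leaf 1640) (.leaf 4433)) (.leaf 76701861)) (.node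 (.node (.leaf 137071769) (.leaf 61306956)) (.leaf 1620))) (.node (.node (.node (.leaf 3233) (.leaf 5322)) (.leaf 50663561)) (.node (.node (.leaf 5334) (.leaf 82410073)) (.leaf 3220))))))) (.node (.node (.node (.node (.node (.node (.node (.leaf 135) (.leaf 3464)) (.leaf 5466)) (.node (.node (.leaf 3484) (.leaf 5456)) (.leaf 112))) (.node (.node (.node (.leaf 106069264) (.leaf 97311600)) (.leaf 140951242)) (.node (.node (.leaf 4619) (.leaf 74769939)) (.leaf 1940)))) (.node (.node (.node (.node (.leaf 1086) (.leaf 4079)) (.leaf 5774)) (.node (.node (.leaf 44391737) (.leaf 109156470)) (.leaf 1064))) (.node (.node (.node (.leaf 2767) (.leaf 341540)) (.leaf 93939853)) (.node (.node (.leaf 5071) (.leaf 136084759)) (.leaf 2752))))) (.node (.node (.node (.node (.node (.leaf 625) (.leaf 58988624)) (.leaf 19968456)) (.node (.node (.leaf 198) (.leaf 107979109)) (.leaf 605))) (.node (.node (.node (.leaf 2373) (.leaf 93261721)) (.leaf 107024100)) (.node (.node (.leaf 4848) (.leaf 23331875)) (.leaf 2354)))) (.node (.node (.node (.node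 (.leaf 1534) (.leaf 57646364)) (.leaf 47268398)) (.node (.node (.leaf 67854362) (.leaf 5901)) (.leaf 1514))) (.node (.node (.node (.leaf 20636132) (.leaf 5922452)) (.leaf 31810856)) (.node (.node (.leaf 5281) (.leaf 45960488)) (.leaf 3126)))))) (.node (.node (.node (.node (.node (.node (.leaf 382) (.leaf 9562722)) (.leaf 149796721)) (.node (.node (.leaf 3637) (.leaf 5540)) (.leaf 360))) (.node (.node (.node (.leaf 2169) (.leaf 4730)) (.leaf 6028)) (.node (.node (.leaf 75646130) (.leaf 6027)) (.leaf 132637834)))) (.node (.node (.node (.node (.leaf 1309) (.leaf 4230)) (.leaf 5848)) (.node (.node (.leaf 10595568) (.leaf 5844)) (.leaf 1286))) (.node (.node (.node (.leaf 2964) (.leaf 29497913)) (.leaf 19965300)) (.node (.node (.leaf 27462299) (.leaf 114665869)) (.leaf 2947))))) (.node (.node (.node (.node (.node (.leaf 856) (.leaf 17002918)) (.leaf 5702)) (.node (.node (.leaf 3936) (.leaf 52596916)) (.leaf 834))) (.node (.node (.node (.leaf 2566) (.leaf 59617833)) (.leaf 41605156)) (.node (.node (.leaf 137313323) (.leaf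 134657734)) (.leaf 2550)))) (.node (.node (.node (.node (.leaf 1741) (.leaf 116940648)) (.leaf 102985504)) (.node (.node (.leaf 33973022) (.leaf 62455083)) (.leaf 1722))) (.node (.node (.node (.leaf 58650433) (.leaf 55650496)) (.leaf 30866165)) (.node (.node (.leaf 428) (.leaf 100465226)) (.leaf 93972951)))))))) (.node (.node (.node (.node (.node (.node (.node (.node (.leaf 74) (.leaf 3424)) (.leaf 5442)) (.node (.node (.leaf 3439) (.leaf 133816206)) (.leaf 51))) (.node (.node (.node (.leaf 1907) (.leaf 42503218)) (.leaf 7090762)) (.node (.node (.leaf 21357903) (.leaf 80025194)) (.leaf 49537677)))) (.node (.node (.node (.node (.leaf 1027) (.leaf 4041)) (.leaf 51407063)) (.node (.node (.leaf 31621091) (.leaf 106034132)) (.leaf 1008))) (.node (.node (.node (.leaf 2722) (.leaf 5034)) (.leaf 6120)) (.node (.node (.leaf 18839292) (.leaf 47982044)) (.leaf 2701))))) (.node (.node (.node (.node (.node (.leaf 567) (.leaf 3736)) (.leaf 5605)) (.node (.node (.leaf 3751) (.leaf 16035314)) (.leaf 546))) (.node (.node (.node (.leaf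 2326) (.leaf 4819)) (.leaf 24764723)) (.node (.node (.leaf 117910453) (.leaf 53784226)) (.leaf 2305)))) (.node (.node (.node (.node (.leaf 1481) (.leaf 93947584)) (.leaf 124003438)) (.node (.node (.leaf 4349) (.leaf 114903186)) (.leaf 1461))) (.node (.node (.node (.leaf 3096) (.leaf 5248)) (.leaf 95944492)) (.node (.node (.leaf 133893925) (.leaf 16047009)) (.leaf 3080)))))) (.node (.node (.node (.node (.node (.node (.leaf 320) (.leaf 3583)) (.leaf 5528)) (.node (.node (.leaf 3596) (.leaf 101008038)) (.leaf 298))) (.node (.node (.node (.leaf 2116) (.leaf 4706)) (.leaf 148278362)) (.node (.node (.leaf 4714) (.leaf 93483658)) (.leaf 2096)))) (.node (.node (.node (.node (.leaf 105034046) (.leaf 4190)) (.leaf 85762124)) (.node (.node (.leaf 4205) (.leaf 61225532)) (.leaf 1229))) (.node (.node (.node (.leaf 2913) (.leaf 134931880)) (.leaf 12368578)) (.node (.node (.leaf 5155) (.leaf 43682921)) (.leaf 62304952))))) (.node (.node (.node (.node (.node (.leaf 796) (.leaf 3885)) (.leaf 5683)) (.node (.node (.leaf 3897) (.leaf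 145593362)) (.leaf 778))) (.node (.node (.node (.leaf 2519) (.leaf 67560153)) (.leaf 15398802)) (.node (.node (.leaf 128854472) (.leaf 115544792)) (.leaf 2501)))) (.node (.node (.node (.node (.leaf 1690) (.leaf 117409114)) (.leaf 26859857)) (.node (.node (.leaf 4471) (.leaf 125401169)) (.leaf 81284183))) (.node (.node (.node (.leaf 108835139) (.leaf 62819263)) (.leaf 38135826)) (.node (.node (.leaf 5355) (.leaf 42826106)) (.leaf 94545810))))))) (.node (.node (.node (.node (.node (.node (.node (.leaf 197) (.leaf 3509)) (.leaf 5486)) (.node (.node (.leaf 3520) (.leaf 5479)) (.leaf 174))) (.node (.node (.node (.leaf 2007) (.leaf 65250905)) (.leaf 119111911)) (.node (.node (.leaf 4655) (.leaf 26055764)) (.leaf 1986)))) (.node (.node (.node (.node (.leaf 1140) (.leaf 140431657)) (.leaf 5794)) (.node (.node (.leaf 4129) (.leaf 5787)) (.leaf 1121))) (.node (.node (.node (.leaf 2818) (.leaf 15748208)) (.leaf 52753077)) (.node (.node (.leaf 76166725) (.leaf 97330674)) (.leaf 2800))))) (.node (.node (.node (.node (.node (.leaf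 682) (.leaf 3816)) (.leaf 5643)) (.node (.node (.leaf 105034404) (.leaf 5634)) (.leaf 9259272))) (.node (.node (.node (.leaf 74606985) (.leaf 4865)) (.leaf 38639131)) (.node (.node (.leaf 4878) (.leaf 145763272)) (.leaf 60840296)))) (.node (.node (.node (.node (.leaf 1590) (.leaf 4399)) (.leaf 10605415)) (.node (.node (.leaf 118912626) (.leaf 44)) (.leaf 1570))) (.node (.node (.node (.leaf 310159) (.leaf 112431543)) (.leaf 98569797)) (.node (.node (.leaf 36105930) (.leaf 81685128)) (.leaf 3173)))))) (.node (.node (.node (.node (.node (.node (.leaf 445) (.leaf 3663)) (.leaf 5567)) (.node (.node (.leaf 3679) (.leaf 127770730)) (.leaf 423))) (.node (.node (.node (.leaf 51243709) (.leaf 34861707)) (.leaf 86269608)) (.node (.node (.leaf 85436818) (.leaf 81010784)) (.leaf 135877161)))) (.node (.node (.node (.node (.leaf 1367) (.leaf 4269)) (.leaf 5865)) (.node (.node (.leaf 4283) (.leaf 31126422)) (.leaf 1346))) (.node (.node (.node (.leaf 3005) (.leaf 30327723)) (.leaf 110079294)) (.node (.node (.leaf 95465025) (.leaf 133612226))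 (.leaf 5364130))))) (.node (.node (.node (.node (.node (.leaf 913) (.leaf 3959)) (.leaf 16842280)) (.node (.node (.leaf 3977) (.leaf 5712)) (.leaf 891))) (.node (.node (.node (.leaf 2620) (.leaf 17306768)) (.leaf 30460864)) (.node (.node (.leaf 4984) (.leaf 120238646)) (.leaf 2597)))) (.node (.node (.node (.node (.leaf 1798) (.leaf 4521)) (.leaf 118365424)) (.node (.node (.leaf 4534) (.leaf 145114994)) (.leaf 1780))) (.node (.node (.node (.leaf 19653011) (.leaf 139782018)) (.leaf 62190981)) (.node (.node (.leaf 5393) (.leaf 86060839)) (.leaf 10787603))))))))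

/-- Part of `topFac`. -/
def topFac_p10101 : Tr := .node (.node (.node (.node (.node (.node (.node (.node (.node (.leaf 42) (.leaf 44324975)) (.node (.leaf 144897410) (.leaf 113527975))) (.node (.node (.leaf 3417) (.leaf 57444858)) (.leaf 20))) (.node (.node (.node (.leaf 134553322) (.leaf 8874351)) (.leaf 98836761)) (.node (.node (.leaf 96571304) (.leaf 29481189)) (.leaf 1863)))) (.node (.node (.node (.node (.leaf 1000) (.leaf 41759805)) (.leaf 553)) (.node (.node (.leaf 4035) (.leaf 25351817)) (.leaf 978))) (.node (.node (.node (.leaf 2692) (.leaf 5020)) (.leaf 41521569)) (.node (.node (.leaf 27813514) (.leaf 21590847)) (.leaf 2672))))) (.node (.node (.node (.node (.node (.leaf 537) (.leaf 3717)) (.leaf 3605480)) (.node (.node (.leaf 34346048) (.leaf 46295995)) (.leaf 515))) (.node (.node (.node (.leaf 98) (.leaf 144085664)) (.leaf 30021588)) (.node (.node (.leaf 4814) (.leaf 135757042)) (.leaf 2279)))) (.node (.node (.node (.node (.leaf 1452) (.leaf 145759564)) (.leaf 39907173)) (.node (.node (.leaf 107746160)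 (.leaf 123054453)) (.leaf 1429))) (.node (.node (.node (.leaf 3073) (.leaf 5233)) (.leaf 1205)) (.node (.node (.leaf 44399159) (.leaf 58155688)) (.leaf 611668)))))) (.node (.node (.node (.node (.node (.node (.leaf 289) (.leaf 3566)) (.leaf 5515)) (.node (.node (.leaf 3577) (.leaf 36884118)) (.leaf 266))) (.node (.node (.node (.leaf 87) (.leaf 4693)) (.leaf 39569838)) (.node (.node (.leaf 35166465) (.leaf 119918560)) (.leaf 2071)))) (.node (.node (.node (.node (.leaf 1221) (.leaf 149820106)) (.leaf 122934912)) (.node (.node (.leaf 52099980) (.leaf 17795502)) (.leaf 1202))) (.node (.node (.node (.leaf 2893) (.leaf 5132)) (.leaf 111203344)) (.node (.node (.leaf 5141) (.leaf 149061036)) (.leaf 2874))))) (.node (.node (.node (.node (.node (.leaf 770) (.leaf 118382919)) (.leaf 132616399)) (.node (.node (.leaf 50464095) (.leaf 57607337)) (.leaf 747))) (.node (.node (.node (.leaf 2494) (.leaf 4917)) (.leaf 118444079)) (.node (.node (.leaf 4923) (.leaf 87194157)) (.leaf 2475)))) (.node (.node (.node (.node (.leaf 1665) (.leaf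 74552936)) (.leaf 128307292)) (.node (.node (.leaf 4460) (.leaf 97034028)) (.leaf 1648))) (.node (.node (.node (.leaf 154) (.leaf 83952543)) (.leaf 139746459)) (.node (.node (.leaf 65780067) (.leaf 105895227)) (.leaf 90619071))))))) (.node (.node (.node (.node (.node (.node (.node (.leaf 165) (.leaf 108915035)) (.leaf 145204336)) (.node (.node (.leaf 3503) (.leaf 33375196)) (.leaf 144))) (.node (.node (.node (.leaf 1979) (.leaf 65473557)) (.leaf 64918175)) (.node (.node (.leaf 4637) (.leaf 107573497)) (.leaf 1961)))) (.node (.node (.node (.node (.leaf 1112) (.leaf 4103)) (.leaf 94438168)) (.node (.node (.leaf 69601098) (.leaf 78809651)) (.leaf 1094))) (.node (.node (.node (.leaf 2792) (.leaf 62453496)) (.leaf 64533156)) (.node (.node (.leaf 101393431) (.leaf 33531151)) (.leaf 2774))))) (.node (.node (.node (.node (.node (.leaf 654) (.leaf 60596573)) (.leaf 5630)) (.node (.node (.leaf 3808) (.leaf 29633551)) (.leaf 634))) (.node (.node (.node (.leaf 2400) (.leaf 17346190)) (.leaf 849)) (.node (.node (.leaf 131249088)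 (.leaf 6066)) (.leaf 2381)))) (.node (.node (.node (.node (.leaf 1561) (.leaf 25453087)) (.leaf 53690476)) (.node (.node (.leaf 78089582) (.leaf 5907)) (.leaf 1542))) (.node (.node (.node (.leaf 21295364) (.leaf 127782651)) (.leaf 6151)) (.node (.node (.leaf 5295) (.leaf 94445325)) (.leaf 59635621)))))) (.node (.node (.node (.node (.node (.node (.leaf 414) (.leaf 33199973)) (.leaf 106693956)) (.node (.node (.leaf 3657) (.leaf 81092137)) (.leaf 391))) (.node (.node (.node (.leaf 2194) (.leaf 72891266)) (.leaf 6033)) (.node (.node (.leaf 101897721) (.leaf 98094127)) (.leaf 2175)))) (.node (.node (.node (.node (.leaf 1338) (.leaf 4248)) (.leaf 75816701)) (.node (.node (.leaf 63087579) (.leaf 5960051)) (.leaf 1315))) (.node (.node (.node (.leaf 2987) (.leaf 5186)) (.leaf 136170697)) (.node (.node (.leaf 5194) (.leaf 28397118)) (.leaf 2971))))) (.node (.node (.node (.node (.node (.leaf 14078849) (.leaf 3939)) (.leaf 24719389)) (.node (.node (.leaf 3953) (.leaf 5704)) (.leaf 863))) (.node (.node (.node (.leaf 2591) (.leaf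 4964)) (.leaf 128086838)) (.node (.node (.leaf 75655732) (.leaf 57148151)) (.leaf 2573)))) (.node (.node (.node (.node (.leaf 1772) (.leaf 1927903)) (.leaf 76658951)) (.node (.node (.leaf 4515) (.leaf 141128032)) (.leaf 1750))) (.node (.node (.node (.leaf 3337) (.leaf 5380)) (.leaf 129805279)) (.node (.node (.leaf 30588270) (.leaf 148211479)) (.leaf 3323)))))))) (.node (.node (.node (.node (.node (.node (.node (.node (.leaf 105) (.leaf 3444)) (.leaf 45313500)) (.node (.node (.leaf 74828466) (.leaf 5445)) (.leaf 83))) (.node (.node (.node (.leaf 1931) (.leaf 29119627)) (.leaf 56625267)) (.node (.node (.leaf 4607) (.leaf 14852042)) (.leaf 1915)))) (.node (.node (.node (.node (.leaf 1058) (.leaf 4059)) (.leaf 3150504)) (.node (.node (.leaf 135323846) (.leaf 145552599)) (.leaf 1036))) (.node (.node (.node (.leaf 2745) (.leaf 127737289)) (.leaf 149441752)) (.node (.node (.leaf 360) (.leaf 109273636)) (.leaf 2729))))) (.node (.node (.node (.node (.node (.leaf 596) (.leaf 3759)) (.leaf 133229576)) (.node (.node (.leaf 101897024)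 (.leaf 123115688)) (.leaf 576))) (.node (.node (.node (.leaf 131924294) (.leaf 63093489)) (.leaf 50405036)) (.node (.node (.leaf 132633977) (.leaf 76102479)) (.leaf 2332)))) (.node (.node (.node (.node (.leaf 1508) (.leaf 63961409)) (.leaf 5899)) (.node (.node (.leaf 117754020) (.leaf 35835249)) (.leaf 1488))) (.node (.node (.node (.leaf 11532954) (.leaf 104075232)) (.leaf 97113526)) (.node (.node (.leaf 5271) (.leaf 82771930)) (.leaf 113222024)))))) (.node (.node (.node (.node (.node (.node (.leaf 351) (.leaf 3602)) (.leaf 5538)) (.node (.node (.leaf 3615) (.leaf 77125202)) (.leaf 329))) (.node (.node (.node (.leaf 2143) (.leaf 4721)) (.leaf 76758763)) (.node (.node (.leaf 29956648) (.leaf 6022)) (.leaf 2122)))) (.node (.node (.node (.node (.leaf 1277) (.leaf 4210)) (.leaf 56144489)) (.node (.node (.leaf 78638605) (.leaf 54522635)) (.leaf 1257))) (.node (.node (.node (.leaf 2940) (.leaf 49580872)) (.leaf 130512433)) (.node (.node (.leaf 5167) (.leaf 78511917)) (.leaf 2922))))) (.node (.node (.node (.node (.node (.leaf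 826) (.leaf 25643557)) (.leaf 5692)) (.node (.node (.leaf 3920) (.leaf 66309941)) (.leaf 805))) (.node (.node (.node (.leaf 87146825) (.leaf 80023539)) (.leaf 675471)) (.node (.node (.leaf 120141304) (.leaf 27632249)) (.leaf 2528)))) (.node (.node (.node (.node (.leaf 1716) (.leaf 50931072)) (.leaf 5937)) (.node (.node (.leaf 105678126) (.leaf 93408849)) (.leaf 1698))) (.node (.node (.node (.leaf 3296) (.leaf 20390417)) (.leaf 59785938)) (.node (.node (.leaf 5368) (.leaf 37889497)) (.leaf 3284))))))) (.node (.node (.node (.node (.node (.node (.node (.leaf 226) (.leaf 3527)) (.leaf 5497)) (.node (.node (.leaf 3539) (.leaf 5489)) (.leaf 206))) (.node (.node (.node (.leaf 2036) (.leaf 84729234)) (.leaf 123741513)) (.node (.node (.leaf 4672) (.leaf 5996)) (.leaf 2016)))) (.node (.node (.node (.node (.leaf 1170) (.leaf 81933962)) (.leaf 5804)) (.node (.node (.leaf 4147) (.leaf 5797)) (.leaf 1149))) (.node (.node (.node (.leaf 2844) (.leaf 148613881)) (.leaf 5200591)) (.node (.node (.leaf 84426958) (.leaf 137812316)) (.leaf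 2827))))) (.node (.node (.node (.node (.node (.leaf 709) (.leaf 3839)) (.leaf 5654)) (.node (.node (.leaf 65312670) (.leaf 90667068)) (.leaf 690))) (.node (.node (.node (.leaf 2445) (.leaf 4883)) (.leaf 97866482)) (.node (.node (.leaf 117158428) (.leaf 15118711)) (.leaf 2427)))) (.node (.node (.node (.node (.leaf 1615) (.leaf 4414)) (.leaf 94069453)) (.node (.node (.leaf 135321538) (.leaf 82056692)) (.leaf 1597))) (.node (.node (.node (.leaf 150633811) (.leaf 31875836)) (.leaf 99166897)) (.node (.node (.leaf 5317) (.leaf 93464276)) (.leaf 39874995)))))) (.node (.node (.node (.node (.node (.node (.leaf 474) (.leaf 3683)) (.leaf 48114089)) (.node (.node (.leaf 42970356) (.leaf 77244126)) (.leaf 453))) (.node (.node (.node (.leaf 86899082) (.leaf 4770)) (.leaf 803)) (.node (.node (.leaf 4784) (.leaf 82276937)) (.leaf 2229)))) (.node (.node (.node (.node (.leaf 1394) (.leaf 112324738)) (.leaf 5872)) (.node (.node (.leaf 90223799) (.leaf 88275566)) (.leaf 1374))) (.node (.node (.node (.leaf 3028) (.leaf 5209)) (.leaf 1852666))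 (.node (.node (.leaf 27053392) (.leaf 145798349)) (.leaf 3012))))) (.node (.node (.node (.node (.node (.leaf 943) (.leaf 3983)) (.leaf 5728)) (.node (.node (.leaf 3999) (.leaf 54066016)) (.leaf 921))) (.node (.node (.node (.leaf 88629002) (.leaf 4988)) (.leaf 125353665)) (.node (.node (.leaf 5003) (.leaf 102047897)) (.leaf 2628)))) (.node (.node (.node (.node (.leaf 134631926) (.leaf 4541)) (.leaf 142999336)) (.node (.node (.leaf 146822142) (.leaf 43831513)) (.leaf 1806))) (.node (.node (.node (.leaf 3377) (.leaf 5399)) (.leaf 66936186)) (.node (.node (.leaf 5404) (.leaf 85838033)) (.leaf 3361))))))))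

/-- Part of `topFac`. -/
def topFac_p10110 : Tr := .node (.node (.node (.node (.node (.node (.node (.node (.node (.leaf 27) (.leaf 3395)) (.node (.leaf 5426) (.leaf 34750427))) (.node (.node (.leaf 91886521) (.leaf 132587095)) (.leaf 4))) (.node (.node (.node (.leaf 1869) (.leaf 4563)) (.leaf 121698875)) (.node (.node (.leaf 4575) (.leaf 123643555)) (.leaf 1849)))) (.node (.node (.node (.node (.leaf 985) (.leaf 391663)) (.leaf 68630736)) (.node (.node (.leaf 4022) (.leaf 142799429)) (.leaf 965))) (.node (.node (.node (.leaf 2679) (.leaf 27354383)) (.leaf 89260610)) (.node (.node (.leaf 35223184) (.leaf 137470365)) (.leaf 2661))))) (.node (.node (.node (.node (.node (.leaf 522) (.leaf 26977491)) (.leaf 67479776)) (.node (.node (.leaf 3722) (.leaf 127050379)) (.leaf 499))) (.node (.node (.node (.leaf 2285) (.leaf 108761672)) (.leaf 115950327)) (.node (.node (.leaf 29483899) (.leaf 65721019)) (.leaf 69292542)))) (.node (.node (.node (.node (.leaf 1436) (.leaf 73307564)) (.leaf 48013827)) (.node (.node (.leaf 36133776)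 (.leaf 5093675)) (.leaf 1416))) (.node (.node (.node (.leaf 3064) (.leaf 143238560)) (.leaf 131165683)) (.node (.node (.leaf 5239) (.leaf 112485656)) (.leaf 3051)))))) (.node (.node (.node (.node (.node (.node (.leaf 273) (.leaf 106573266)) (.leaf 141928765)) (.node (.node (.leaf 3571) (.leaf 62937356)) (.leaf 251))) (.node (.node (.node (.leaf 19688131) (.leaf 4683)) (.leaf 106891801)) (.node (.node (.leaf 31606715) (.leaf 33740750)) (.leaf 2056)))) (.node (.node (.node (.node (.leaf 1207) (.leaf 4166)) (.leaf 5820)) (.node (.node (.leaf 4178) (.leaf 28495214)) (.leaf 116373153))) (.node (.node (.node (.leaf 2880) (.leaf 5122)) (.leaf 51516796)) (.node (.node (.leaf 5134) (.leaf 4693883)) (.leaf 2862))))) (.node (.node (.node (.node (.node (.leaf 754) (.leaf 3862)) (.leaf 97397704)) (.node (.node (.leaf 3876) (.leaf 58679291)) (.leaf 90862946))) (.node (.node (.node (.leaf 2480) (.leaf 4911)) (.leaf 19220469)) (.node (.node (.leaf 135434332) (.leaf 82363906)) (.leaf 97655018)))) (.node (.node (.node (.node (.leaf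 1652) (.leaf 65479217)) (.leaf 119538385)) (.node (.node (.leaf 23334686) (.leaf 78391824)) (.leaf 1634))) (.node (.node (.node (.leaf 3242) (.leaf 5330)) (.leaf 6153)) (.node (.node (.leaf 102859693) (.leaf 29282703)) (.leaf 42952421))))))) (.node (.node (.node (.node (.node (.node (.node (.leaf 150) (.leaf 3478)) (.leaf 451)) (.node (.node (.leaf 115192763) (.leaf 5463)) (.leaf 128))) (.node (.node (.node (.leaf 1967) (.leaf 32748062)) (.leaf 5988)) (.node (.node (.leaf 4629) (.leaf 37794419)) (.leaf 61044418)))) (.node (.node (.node (.node (.leaf 17495964) (.leaf 4091)) (.leaf 101676200)) (.node (.node (.leaf 63133867) (.leaf 5772)) (.leaf 6606242))) (.node (.node (.node (.leaf 8454457) (.leaf 13128797)) (.leaf 1004)) (.node (.node (.leaf 8000907) (.leaf 73682917)) (.leaf 2761))))) (.node (.node (.node (.node (.node (.leaf 82453513) (.leaf 74759694)) (.leaf 5624)) (.node (.node (.leaf 3800) (.leaf 109957194)) (.leaf 619))) (.node (.node (.node (.leaf 111566069) (.leaf 142191330)) (.leaf 62827749)) (.node (.node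 (.leaf 67156311) (.leaf 66661970)) (.leaf 2368)))) (.node (.node (.node (.node (.leaf 1545) (.leaf 4379)) (.leaf 149478843)) (.node (.node (.leaf 4385) (.leaf 5904)) (.leaf 1528))) (.node (.node (.node (.leaf 3156) (.leaf 5279)) (.leaf 107292672)) (.node (.node (.leaf 90014263) (.leaf 52156193)) (.leaf 9728952)))))) (.node (.node (.node (.node (.node (.node (.leaf 398) (.leaf 3631)) (.leaf 148884144)) (.node (.node (.leaf 3647) (.leaf 101436386)) (.leaf 375))) (.node (.node (.node (.leaf 2180) (.leaf 4739)) (.leaf 56333188)) (.node (.node (.leaf 145104068) (.leaf 19048520)) (.leaf 2163)))) (.node (.node (.node (.node (.leaf 1322) (.leaf 4241)) (.leaf 6535202)) (.node (.node (.leaf 86796645) (.leaf 5847)) (.leaf 1302))) (.node (.node (.node (.leaf 89552765) (.leaf 84210603)) (.leaf 107714015)) (.node (.node (.leaf 50425432) (.leaf 46347183)) (.leaf 2959))))) (.node (.node (.node (.node (.node (.leaf 870) (.leaf 3932)) (.leaf 126262907)) (.node (.node (.leaf 53453313) (.leaf 70608847)) (.leaf 849))) (.node (.node (.node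 (.leaf 2579) (.leaf 67479788)) (.leaf 912)) (.node (.node (.leaf 136091875) (.leaf 48240421)) (.leaf 2560)))) (.node (.node (.node (.node (.leaf 1757) (.leaf 133376845)) (.leaf 132979859)) (.node (.node (.leaf 270) (.leaf 20589267)) (.leaf 90192358))) (.node (.node (.node (.leaf 103016633) (.leaf 5372)) (.leaf 90357568)) (.node (.node (.leaf 49632680) (.leaf 18874290)) (.leaf 146171197)))))))) (.node (.node (.node (.node (.node (.node (.node (.node (.leaf 90) (.leaf 3434)) (.leaf 5450)) (.node (.node (.leaf 3449) (.leaf 5439)) (.leaf 67))) (.node (.node (.node (.leaf 1922) (.leaf 149802926)) (.leaf 65622725)) (.node (.node (.leaf 93132195) (.leaf 5974)) (.leaf 1902)))) (.node (.node (.node (.node (.leaf 1043) (.leaf 4049)) (.leaf 5758)) (.node (.node (.leaf 4064) (.leaf 43376267)) (.leaf 1021))) (.node (.node (.node (.leaf 55714521) (.leaf 5043)) (.leaf 96082083)) (.node (.node (.leaf 139758144) (.leaf 137516301)) (.leaf 2715))))) (.node (.node (.node (.node (.node (.leaf 20) (.leaf 2118863)) (.leaf 28320423)) (.node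 (.node (.leaf 37127175) (.leaf 5604)) (.leaf 561))) (.node (.node (.node (.leaf 2338) (.leaf 149192675)) (.leaf 99477100)) (.node (.node (.leaf 51891089) (.leaf 23437095)) (.leaf 2321)))) (.node (.node (.node (.node (.leaf 143201508) (.leaf 58341602)) (.leaf 55360519)) (.node (.node (.leaf 4356) (.leaf 5890)) (.leaf 1475))) (.node (.node (.node (.leaf 3108) (.leaf 45185401)) (.leaf 1257)) (.node (.node (.leaf 25329743) (.leaf 5664260)) (.leaf 117907556)))))) (.node (.node (.node (.node (.node (.node (.leaf 336) (.leaf 3592)) (.leaf 76355722)) (.node (.node (.leaf 3603) (.leaf 69930808)) (.leaf 314))) (.node (.node (.node (.leaf 2128) (.leaf 4712)) (.leaf 72547485)) (.node (.node (.leaf 91679873) (.leaf 45250274)) (.leaf 2109)))) (.node (.node (.node (.node (.leaf 1264) (.leaf 4201)) (.leaf 5836)) (.node (.node (.leaf 4217) (.leaf 42826963)) (.leaf 1243))) (.node (.node (.node (.leaf 2926) (.leaf 5150)) (.leaf 60881832)) (.node (.node (.leaf 109747512) (.leaf 65943542)) (.leaf 2909))))) (.node (.node (.node (.node (.node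 (.leaf 811) (.leaf 3893)) (.leaf 127784904)) (.node (.node (.leaf 3909) (.leaf 97639657)) (.leaf 790))) (.node (.node (.node (.leaf 2533) (.leaf 4933)) (.leaf 98956726)) (.node (.node (.leaf 4944) (.leaf 34805434)) (.leaf 2512)))) (.node (.node (.node (.node (.leaf 1702) (.leaf 4467)) (.leaf 5933)) (.node (.node (.leaf 4477) (.leaf 93443956)) (.leaf 1223))) (.node (.node (.node (.leaf 3288) (.leaf 58739482)) (.leaf 148721848)) (.node (.node (.leaf 1185552) (.leaf 107836621)) (.leaf 3271))))))) (.node (.node (.node (.node (.node (.node (.node (.leaf 110204842) (.leaf 132357231)) (.leaf 14932460)) (.node (.node (.leaf 3528) (.leaf 108818700)) (.leaf 190))) (.node (.node (.node (.leaf 95006358) (.leaf 4650)) (.leaf 47831040)) (.node (.node (.leaf 112245091) (.leaf 143686969)) (.leaf 2000)))) (.node (.node (.node (.node (.leaf 1156) (.leaf 121701483)) (.leaf 119862552)) (.node (.node (.leaf 65823532) (.leaf 5790)) (.leaf 1135))) (.node (.node (.node (.leaf 128) (.leaf 90797674)) (.leaf 96697192)) (.node (.node (.leaf 5106)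 (.leaf 147909726)) (.leaf 2811))))) (.node (.node (.node (.node (.node (.leaf 695) (.leaf 3829)) (.leaf 74118928)) (.node (.node (.leaf 93454524) (.leaf 5641)) (.leaf 678))) (.node (.node (.node (.leaf 2432) (.leaf 54822279)) (.leaf 53296823)) (.node (.node (.leaf 327) (.leaf 149421345)) (.leaf 2419)))) (.node (.node (.node (.node (.leaf 1601) (.leaf 4406)) (.leaf 35635831)) (.node (.node (.leaf 4417) (.leaf 102581803)) (.leaf 1585))) (.node (.node (.node (.leaf 3204) (.leaf 46419965)) (.leaf 114912361)) (.node (.node (.leaf 5309) (.leaf 127250428)) (.leaf 3187)))))) (.node (.node (.node (.node (.node (.node (.leaf 460) (.leaf 3675)) (.leaf 5574)) (.node (.node (.leaf 3689) (.leaf 5562)) (.leaf 438))) (.node (.node (.node (.leaf 2234) (.leaf 4764)) (.leaf 37945084)) (.node (.node (.leaf 4775) (.leaf 5415220)) (.leaf 2783664)))) (.node (.node (.node (.node (.leaf 1381) (.leaf 4278)) (.leaf 68471966)) (.node (.node (.leaf 48165027) (.leaf 59612134)) (.leaf 1360))) (.node (.node (.node (.leaf 3018) (.leaf 105918269))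 (.leaf 81947211)) (.node (.node (.leaf 10780255) (.leaf 3656008)) (.leaf 29446972))))) (.node (.node (.node (.node (.node (.leaf 928) (.leaf 3972)) (.leaf 117627854)) (.node (.node (.leaf 3988) (.leaf 21726400)) (.leaf 907))) (.node (.node (.node (.leaf 122297092) (.leaf 38968727)) (.leaf 6102)) (.node (.node (.leaf 50080808) (.leaf 51218404)) (.leaf 2613)))) (.node (.node (.node (.node (.leaf 1812) (.leaf 28093003)) (.leaf 39867562)) (.node (.node (.leaf 134297379) (.leaf 105454989)) (.leaf 1793))) (.node (.node (.node (.leaf 3368) (.leaf 70577187)) (.leaf 139390273)) (.node (.node (.leaf 47806633) (.leaf 107602536)) (.leaf 53990699))))))))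

/-- Part of `topFac`. -/
def topFac_p10111 : Tr := .node (.node (.node (.node (.node (.node (.node (.node (.node (.leaf 58) (.leaf 3411)) (.leaf 77457635)) (.node (.node (.leaf 36911701) (.leaf 112378355)) (.leaf 35))) (.node (.node (.node (.leaf 1895) (.leaf 7997976)) (.leaf 20508382)) (.node (.node (.leaf 280) (.leaf 46097236)) (.leaf 1877)))) (.node (.node (.node (.node (.leaf 1014) (.leaf 4029)) (.leaf 54848131)) (.node (.node (.leaf 4044) (.leaf 37128476)) (.leaf 994))) (.node (.node (.node (.leaf 2708) (.leaf 5028)) (.leaf 129373226)) (.node (.node (.leaf 5037) (.leaf 79276907)) (.leaf 2687))))) (.node (.node (.node (.node (.node (.leaf 552) (.leaf 11)) (.leaf 140379914)) (.node (.node (.leaf 33184146) (.leaf 42846343)) (.leaf 530))) (.node (.node (.node (.leaf 2312) (.leaf 131827161)) (.leaf 99530060)) (.node (.node (.leaf 4821) (.leaf 37451623)) (.leaf 2292)))) (.node (.node (.node (.node (.leaf 1468) (.leaf 4327)) (.leaf 43174469)) (.node (.node (.leaf 4340) (.leaf 98915062)) (.leaf 1445))) (.node (.node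 (.node (.leaf 126705873) (.leaf 47386258)) (.leaf 60819921)) (.node (.node (.leaf 5252) (.leaf 103315247)) (.leaf 3069)))))) (.node (.node (.node (.node (.node (.node (.leaf 305) (.leaf 52335545)) (.leaf 81068998)) (.node (.node (.leaf 3588) (.leaf 132894344)) (.leaf 282))) (.node (.node (.node (.leaf 2102) (.leaf 81069808)) (.leaf 109508927)) (.node (.node (.leaf 131594833) (.leaf 138403095)) (.leaf 2083)))) (.node (.node (.node (.node (.leaf 1236) (.leaf 23973566)) (.leaf 20166301)) (.node (.node (.leaf 4193) (.leaf 98460695)) (.leaf 1214))) (.node (.node (.node (.leaf 2903) (.leaf 50086861)) (.leaf 6139)) (.node (.node (.leaf 5146) (.leaf 107816066)) (.leaf 49977008))))) (.node (.node (.node (.node (.node (.leaf 783) (.leaf 76268551)) (.leaf 53213311)) (.node (.node (.leaf 79144092) (.leaf 5671)) (.leaf 763))) (.node (.node (.node (.leaf 143418234) (.leaf 4922)) (.leaf 2235783)) (.node (.node (.leaf 4929) (.leaf 128998751)) (.leaf 105306900)))) (.node (.node (.node (.node (.leaf 1678) (.leaf 145721630)) (.leaf 141490987))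 (.node (.node (.leaf 4466) (.leaf 44500736)) (.leaf 1660))) (.node (.node (.node (.leaf 3265) (.leaf 5342)) (.leaf 63909190)) (.node (.node (.leaf 87700886) (.leaf 82404182)) (.leaf 3251))))))) (.node (.node (.node (.node (.node (.node (.node (.leaf 181) (.leaf 98804582)) (.leaf 147292596)) (.node (.node (.leaf 3513) (.leaf 14174647)) (.leaf 158))) (.node (.node (.node (.leaf 1991) (.leaf 138002712)) (.leaf 48659983)) (.node (.node (.leaf 4645) (.leaf 108444359)) (.leaf 1975)))) (.node (.node (.node (.node (.leaf 1127) (.leaf 4110)) (.leaf 120243533)) (.node (.node (.leaf 4118) (.leaf 126976210)) (.leaf 1107))) (.node (.node (.node (.leaf 2807) (.leaf 79176103)) (.leaf 123396446)) (.node (.node (.leaf 5097) (.leaf 133729879)) (.leaf 2787))))) (.node (.node (.node (.node (.node (.leaf 669) (.leaf 3806)) (.leaf 5638)) (.node (.node (.leaf 53524073) (.leaf 5628)) (.leaf 647))) (.node (.node (.node (.leaf 69058792) (.leaf 4858)) (.leaf 6070)) (.node (.node (.leaf 4871) (.leaf 6068)) (.leaf 145055207)))) (.node (.node (.node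 (.node (.leaf 1576) (.leaf 4390)) (.leaf 130951683)) (.node (.node (.leaf 37142073) (.leaf 49474509)) (.leaf 1554))) (.node (.node (.node (.leaf 3178) (.leaf 5290)) (.leaf 104017903)) (.node (.node (.leaf 5299) (.leaf 114184302)) (.leaf 3162)))))) (.node (.node (.node (.node (.node (.node (.leaf 429) (.leaf 3653)) (.leaf 5558)) (.node (.node (.leaf 47841142) (.leaf 5549)) (.leaf 407))) (.node (.node (.node (.leaf 9986533) (.leaf 17541770)) (.leaf 107353318)) (.node (.node (.leaf 306) (.leaf 17143712)) (.leaf 2189)))) (.node (.node (.node (.node (.leaf 1353) (.leaf 148439767)) (.leaf 131250705)) (.node (.node (.leaf 24218294) (.leaf 38729960)) (.leaf 1331))) (.node (.node (.node (.leaf 2998) (.leaf 5190)) (.leaf 1130)) (.node (.node (.leaf 31103499) (.leaf 41345872)) (.leaf 135274032))))) (.node (.node (.node (.node (.node (.leaf 898) (.leaf 3947)) (.leaf 117544422)) (.node (.node (.leaf 214) (.leaf 147367263)) (.leaf 877))) (.node (.node (.node (.leaf 2604) (.leaf 93738701)) (.leaf 131600757)) (.node (.node (.leaf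 39505909) (.leaf 16538497)) (.leaf 2586)))) (.node (.node (.node (.node (.leaf 1786) (.leaf 109548738)) (.leaf 5950)) (.node (.node (.leaf 4524) (.leaf 140542843)) (.leaf 1766))) (.node (.node (.node (.leaf 3345) (.leaf 5384)) (.leaf 111865598)) (.node (.node (.leaf 69962173) (.leaf 116380858)) (.leaf 3334)))))))) (.node (.node (.node (.node (.node (.node (.node (.node (.leaf 119) (.leaf 15767820)) (.leaf 140078686)) (.node (.node (.leaf 3470) (.leaf 143204351)) (.leaf 98))) (.node (.node (.node (.leaf 1946) (.leaf 4604)) (.leaf 24929476)) (.node (.node (.leaf 4614) (.leaf 95312594)) (.leaf 36739445)))) (.node (.node (.node (.node (.leaf 1071) (.leaf 4071)) (.leaf 5768)) (.node (.node (.leaf 4084) (.leaf 26603140)) (.leaf 1052))) (.node (.node (.node (.leaf 89964100) (.leaf 146595271)) (.leaf 93742012)) (.node (.node (.leaf 5061) (.leaf 35683576)) (.leaf 2739))))) (.node (.node (.node (.node (.node (.leaf 611) (.leaf 112373105)) (.leaf 80065805)) (.node (.node (.leaf 115416271) (.leaf 5610)) (.leaf 590))) (.node (.node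 (.node (.leaf 2360) (.leaf 4833)) (.leaf 1209490)) (.node (.node (.leaf 133624288) (.leaf 69013823)) (.leaf 2344)))) (.node (.node (.node (.node (.leaf 1520) (.leaf 125203598)) (.leaf 14729103)) (.node (.node (.leaf 4375) (.leaf 117911164)) (.leaf 82405433))) (.node (.node (.node (.leaf 3133) (.leaf 97605289)) (.leaf 118160661)) (.node (.node (.leaf 5274) (.leaf 27264708)) (.leaf 3115)))))) (.node (.node (.node (.node (.node (.node (.leaf 367) (.leaf 3609)) (.leaf 102476882)) (.node (.node (.leaf 74149642) (.leaf 88574905)) (.leaf 344))) (.node (.node (.node (.leaf 2156) (.leaf 4725)) (.leaf 16015669)) (.node (.node (.leaf 33609279) (.leaf 126210142)) (.leaf 2136)))) (.node (.node (.node (.node (.leaf 1293) (.leaf 4224)) (.leaf 107507057)) (.node (.node (.leaf 4233) (.leaf 37130382)) (.leaf 1271))) (.node (.node (.node (.leaf 2954) (.leaf 109138680)) (.leaf 20890790)) (.node (.node (.leaf 5174) (.leaf 53014471)) (.leaf 2933))))) (.node (.node (.node (.node (.node (.leaf 840) (.leaf 3915)) (.leaf 8269486)) (.node (.node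 (.leaf 124447417) (.leaf 5689)) (.leaf 819))) (.node (.node (.node (.leaf 112) (.leaf 4946)) (.leaf 24137393)) (.node (.node (.leaf 26788819) (.leaf 22247552)) (.leaf 69285799)))) (.node (.node (.node (.node (.leaf 1728) (.leaf 4482)) (.leaf 17512856)) (.node (.node (.leaf 4491) (.leaf 132055221)) (.leaf 1711))) (.node (.node (.node (.leaf 3309) (.leaf 5366)) (.leaf 754749)) (.node (.node (.leaf 96770269) (.leaf 97423447)) (.leaf 108118978))))))) (.node (.node (.node (.node (.node (.node (.node (.leaf 242) (.leaf 3534)) (.leaf 5501)) (.node (.node (.leaf 3548) (.leaf 75556602)) (.leaf 220))) (.node (.node (.node (.leaf 2048) (.leaf 49047605)) (.leaf 65581951)) (.node (.node (.leaf 141755363) (.leaf 11191386)) (.leaf 2029)))) (.node (.node (.node (.node (.leaf 1182) (.leaf 4144)) (.leaf 143243333)) (.node (.node (.leaf 4158) (.leaf 103761577)) (.leaf 1163))) (.node (.node (.node (.leaf 2855) (.leaf 135120652)) (.leaf 42645225)) (.node (.node (.leaf 5120) (.leaf 16060976)) (.leaf 2838))))) (.node (.node (.node (.node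 (.node (.leaf 725) (.leaf 65312675)) (.leaf 36940329)) (.node (.node (.leaf 204) (.leaf 5651)) (.leaf 703))) (.node (.node (.node (.leaf 2455) (.leaf 87924496)) (.leaf 146494083)) (.node (.node (.leaf 34557481) (.leaf 47331792)) (.leaf 2439)))) (.node (.node (.node (.node (.leaf 1627) (.leaf 12306387)) (.leaf 43004348)) (.node (.node (.leaf 4436) (.leaf 5916)) (.leaf 1608))) (.node (.node (.node (.leaf 3224) (.leaf 5314)) (.leaf 129435300)) (.node (.node (.leaf 90273945) (.leaf 121376230)) (.leaf 3211)))))) (.node (.node (.node (.node (.node (.node (.leaf 490) (.leaf 136494508)) (.leaf 79901935)) (.node (.node (.leaf 74792440) (.leaf 106981290)) (.leaf 468))) (.node (.node (.node (.leaf 2260) (.leaf 4781)) (.leaf 10759306)) (.node (.node (.leaf 19086742) (.leaf 6037)) (.leaf 2241)))) (.node (.node (.node (.node (.leaf 1407) (.leaf 111326473)) (.leaf 22141037)) (.node (.node (.leaf 4312) (.leaf 5869)) (.leaf 1389))) (.node (.node (.node (.leaf 3043) (.leaf 5217)) (.leaf 1167)) (.node (.node (.leaf 68962421) (.leaf 37322288))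 (.leaf 3025))))) (.node (.node (.node (.node (.node (.leaf 958) (.leaf 136234464)) (.leaf 120416477)) (.node (.node (.leaf 103128788) (.leaf 5727)) (.leaf 937))) (.node (.node (.node (.leaf 2657) (.leaf 4998)) (.leaf 84889929)) (.node (.node (.leaf 5009) (.leaf 101493337)) (.leaf 2642)))) (.node (.node (.node (.node (.leaf 1840) (.leaf 35585415)) (.leaf 5093016)) (.node (.node (.leaf 10001353) (.leaf 6760806)) (.leaf 1819))) (.node (.node (.node (.leaf 71982418) (.leaf 134993990)) (.leaf 130918738)) (.node (.node (.leaf 5410) (.leaf 38138517)) (.leaf 3375))))))))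

/-- Part of `topFac`. -/
def topFac_p11000 : Tr := .node (.node (.node (.node (.node (.node (.node (.node (.node (.leaf 7) (.leaf 3381)) (.node (.leaf 1051203) (.leaf 137890638))) (.node (.node (.leaf 55891378) (.leaf 42390377)) (.leaf 93361701))) (.node (.node (.node (.leaf 1852) (.leaf 90072424)) (.leaf 70503816)) (.node (.node (.leaf 4565) (.leaf 15888403)) (.leaf 1829)))) (.node (.node (.node (.node (.leaf 144642195) (.leaf 4002)) (.leaf 5740)) (.node (.node (.leaf 4014) (.leaf 5730)) (.leaf 948))) (.node (.node (.node (.leaf 2663) (.leaf 5005)) (.leaf 39951985)) (.node (.node (.leaf 5013) (.leaf 57138721)) (.leaf 18759323))))) (.node (.node (.node (.node (.node (.leaf 502) (.leaf 3700)) (.leaf 5586)) (.node (.node (.leaf 114785146) (.leaf 5580)) (.leaf 479))) (.node (.node (.node (.leaf 2268) (.leaf 34717717)) (.leaf 75745151)) (.node (.node (.leaf 4798) (.leaf 35599469)) (.leaf 2249)))) (.node (.node (.node (.node (.leaf 6765867) (.leaf 9649058)) (.leaf 5880)) (.node (.node (.leaf 4316) (.leaf 57350046)) (.leaf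 53213146))) (.node (.node (.node (.leaf 3053) (.leaf 20485385)) (.leaf 133997305)) (.node (.node (.leaf 125657593) (.leaf 62014640)) (.leaf 3032)))))) (.node (.node (.node (.node (.node (.node (.leaf 254) (.leaf 3543)) (.leaf 7573766)) (.node (.node (.leaf 3555) (.leaf 83226834)) (.leaf 231))) (.node (.node (.node (.leaf 2059) (.leaf 101091723)) (.leaf 114482670)) (.node (.node (.leaf 48505764) (.leaf 16982962)) (.leaf 2040)))) (.node (.node (.node (.node (.leaf 16690051) (.leaf 105848074)) (.leaf 58749800)) (.node (.node (.leaf 145069426) (.leaf 64633376)) (.leaf 5097373))) (.node (.node (.node (.leaf 2865) (.leaf 27005046)) (.leaf 143686999)) (.node (.node (.leaf 5125) (.leaf 6135)) (.leaf 2846))))) (.node (.node (.node (.node (.node (.leaf 736) (.leaf 3853)) (.leaf 3582244)) (.node (.node (.leaf 17874604) (.leaf 5657)) (.leaf 714))) (.node (.node (.node (.leaf 2465) (.leaf 4898)) (.leaf 22368490)) (.node (.node (.leaf 111049610) (.leaf 6331027)) (.leaf 2448)))) (.node (.node (.node (.node (.leaf 1637) (.leaf 4430))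 (.leaf 5923)) (.node (.node (.leaf 8837803) (.leaf 5804075)) (.leaf 128680427))) (.node (.node (.node (.leaf 107714724) (.leaf 140582867)) (.leaf 98563558)) (.node (.node (.leaf 5331) (.leaf 40579962)) (.leaf 3218))))))) (.node (.node (.node (.node (.node (.node (.node (.leaf 131) (.leaf 3460)) (.leaf 51892817)) (.node (.node (.leaf 3481) (.leaf 81374800)) (.leaf 109))) (.node (.node (.node (.leaf 143552189) (.leaf 4610)) (.leaf 137095758)) (.node (.node (.leaf 4617) (.leaf 136662065)) (.leaf 1936)))) (.node (.node (.node (.node (.leaf 1082) (.leaf 14400386)) (.leaf 76399683)) (.node (.node (.leaf 4094) (.leaf 90269915)) (.leaf 1062))) (.node (.node (.node (.leaf 2763) (.leaf 102976113)) (.leaf 6126)) (.node (.node (.leaf 5068) (.leaf 10828677)) (.leaf 2748))))) (.node (.node (.node (.node (.node (.leaf 621) (.leaf 3774)) (.leaf 38891867)) (.node (.node (.leaf 3787) (.leaf 5615)) (.leaf 601))) (.node (.node (.node (.leaf 2370) (.leaf 4837)) (.leaf 56129630)) (.node (.node (.leaf 35185633) (.leaf 120779381)) (.leaf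 2352)))) (.node (.node (.node (.node (.leaf 1530) (.leaf 4368)) (.leaf 76512287)) (.node (.node (.leaf 131019921) (.leaf 132475407)) (.leaf 1511))) (.node (.node (.node (.leaf 63506627) (.leaf 9023123)) (.leaf 100390545)) (.node (.node (.leaf 47237531) (.leaf 148655600)) (.leaf 144724327)))))) (.node (.node (.node (.node (.node (.node (.leaf 378) (.leaf 3618)) (.leaf 39727371)) (.node (.node (.leaf 86507680) (.leaf 146781589)) (.leaf 356))) (.node (.node (.node (.leaf 42669226) (.leaf 104360159)) (.leaf 12937483)) (.node (.node (.leaf 302) (.leaf 77447077)) (.leaf 2147)))) (.node (.node (.node (.node (.leaf 1305) (.leaf 4227)) (.leaf 125082186)) (.node (.node (.leaf 4243) (.leaf 20135029)) (.leaf 1282))) (.node (.node (.node (.leaf 2962) (.leaf 5169)) (.leaf 81867257)) (.node (.node (.leaf 5179) (.leaf 5475556)) (.leaf 2945))))) (.node (.node (.node (.node (.node (.leaf 852) (.leaf 96738228)) (.leaf 23363481)) (.node (.node (.leaf 52788975) (.leaf 5694)) (.leaf 830))) (.node (.node (.node (.leaf 2562) (.leaf 13606272))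 (.leaf 77500830)) (.node (.node (.leaf 75585586) (.leaf 111544530)) (.leaf 2547)))) (.node (.node (.node (.node (.leaf 1738) (.leaf 85990256)) (.leaf 113016673)) (.node (.node (.leaf 4497) (.leaf 2126329)) (.leaf 1719))) (.node (.node (.node (.leaf 42577163) (.leaf 28999925)) (.leaf 41106152)) (.node (.node (.leaf 73599761) (.leaf 134678730)) (.leaf 3301)))))))) (.node (.node (.node (.node (.node (.node (.node (.node (.leaf 70) (.leaf 3421)) (.leaf 105504338)) (.node (.node (.leaf 3435) (.leaf 68110609)) (.leaf 47))) (.node (.node (.node (.leaf 1904) (.leaf 16843140)) (.leaf 68657587)) (.node (.node (.leaf 78886420) (.leaf 122423870)) (.leaf 1888)))) (.node (.node (.node (.node (.leaf 1024) (.leaf 4038)) (.leaf 145748636)) (.node (.node (.leaf 4051) (.leaf 129047233)) (.leaf 1004))) (.node (.node (.node (.leaf 2718) (.leaf 39404697)) (.leaf 30425148)) (.node (.node (.leaf 98996718) (.leaf 24130757)) (.leaf 2697))))) (.node (.node (.node (.node (.node (.leaf 564) (.leaf 54765212)) (.leaf 135295880)) (.node (.node (.leaf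 3750) (.leaf 5597)) (.leaf 542))) (.node (.node (.node (.leaf 61043865) (.leaf 127155867)) (.leaf 85399728)) (.node (.node (.leaf 4826) (.leaf 26648770)) (.leaf 2302)))) (.node (.node (.node (.node (.leaf 1477) (.leaf 69847041)) (.leaf 5892)) (.node (.node (.leaf 4347) (.leaf 3354552)) (.leaf 1457))) (.node (.node (.node (.leaf 3093) (.leaf 5245)) (.leaf 14655970)) (.node (.node (.leaf 5257) (.leaf 132489033)) (.leaf 3077)))))) (.node (.node (.node (.node (.node (.node (.leaf 10) (.leaf 3580)) (.leaf 5524)) (.node (.node (.leaf 3593) (.leaf 5516)) (.leaf 294))) (.node (.node (.node (.leaf 2112) (.leaf 127824494)) (.leaf 6020)) (.node (.node (.leaf 128705347) (.leaf 116674277)) (.leaf 2093)))) (.node (.node (.node (.node (.leaf 1245) (.leaf 4186)) (.leaf 41604936)) (.node (.node (.leaf 235) (.leaf 5826)) (.leaf 1226))) (.node (.node (.node (.leaf 27389355) (.leaf 114349871)) (.leaf 76863486)) (.node (.node (.leaf 5153) (.leaf 6137)) (.leaf 28220282))))) (.node (.node (.node (.node (.node (.leaf 793) (.leaf 108779736))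 (.leaf 118415628)) (.node (.node (.leaf 118247711) (.leaf 17023720)) (.leaf 774))) (.node (.node (.node (.leaf 2515) (.leaf 4927)) (.leaf 6083)) (.node (.node (.leaf 23722692) (.leaf 6081)) (.leaf 2497)))) (.node (.node (.node (.node (.leaf 1688) (.leaf 4463)) (.leaf 16139833)) (.node (.node (.leaf 4469) (.leaf 14751980)) (.leaf 1668))) (.node (.node (.node (.leaf 3273) (.leaf 5346)) (.leaf 4216261)) (.node (.node (.leaf 5352) (.leaf 35234886)) (.leaf 2174))))))) (.node (.node (.node (.node (.node (.node (.node (.leaf 193) (.leaf 62060275)) (.leaf 5484)) (.node (.node (.leaf 3519) (.leaf 106464636)) (.leaf 170))) (.node (.node (.node (.leaf 2003) (.leaf 4640)) (.leaf 54446053)) (.node (.node (.leaf 4652) (.leaf 5989)) (.leaf 1982)))) (.node (.node (.node (.node (.leaf 1137) (.leaf 4114)) (.leaf 5792)) (.node (.node (.leaf 4125) (.leaf 29562278)) (.leaf 1117))) (.node (.node (.node (.leaf 2814) (.leaf 5094)) (.leaf 17180218)) (.node (.node (.leaf 5100) (.leaf 77101608)) (.leaf 2797))))) (.node (.node (.node (.node (.node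 (.leaf 138571599) (.leaf 3813)) (.leaf 88065621)) (.node (.node (.leaf 79082268) (.leaf 51891174)) (.leaf 659))) (.node (.node (.node (.leaf 104) (.leaf 4862)) (.leaf 148424146)) (.node (.node (.leaf 120328763) (.leaf 50312163)) (.leaf 101445415)))) (.node (.node (.node (.node (.leaf 61227967) (.leaf 4397)) (.leaf 81814614)) (.node (.node (.leaf 258) (.leaf 50256083)) (.leaf 1566))) (.node (.node (.node (.leaf 3190) (.leaf 22106363)) (.leaf 111181457)) (.node (.node (.leaf 5303) (.leaf 131884675)) (.leaf 3170)))))) (.node (.node (.node (.node (.node (.node (.leaf 441) (.leaf 147062804)) (.leaf 5565)) (.node (.node (.leaf 51988482) (.leaf 5553)) (.leaf 419))) (.node (.node (.node (.leaf 2217) (.leaf 124616109)) (.leaf 60911761)) (.node (.node (.leaf 31822973) (.leaf 89161271)) (.leaf 2198)))) (.node (.node (.node (.node (.leaf 1363) (.leaf 4267)) (.leaf 136397440)) (.node (.node (.leaf 4280) (.leaf 80881985)) (.leaf 1342))) (.node (.node (.node (.leaf 47102453) (.leaf 148698980)) (.leaf 106575959)) (.node (.node (.leaf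 56150385) (.leaf 73554191)) (.leaf 2992))))) (.node (.node (.node (.node (.node (.leaf 910) (.leaf 82535286)) (.leaf 78564872)) (.node (.node (.leaf 3974) (.leaf 77832201)) (.leaf 887))) (.node (.node (.node (.leaf 2616) (.leaf 107571672)) (.leaf 6100)) (.node (.node (.leaf 36200515) (.leaf 126059249)) (.leaf 2594)))) (.node (.node (.node (.node (.leaf 88229332) (.leaf 4518)) (.leaf 68439511)) (.node (.node (.leaf 272) (.leaf 5945)) (.leaf 1776))) (.node (.node (.node (.leaf 162) (.leaf 22707942)) (.leaf 97092234)) (.node (.node (.leaf 70608251) (.leaf 16363925)) (.leaf 3340))))))))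

/-- Part of `topFac`. -/
def topFac_p11001 : Tr := .node (.node (.node (.node (.node (.node (.node (.node (.node (.leaf 38) (.leaf 3404)) (.node (.leaf 34466393) (.leaf 16393328))) (.node (.node (.leaf 3414) (.leaf 5420)) (.leaf 16))) (.node (.node (.node (.leaf 1880) (.leaf 4569)) (.leaf 5970)) (.node (.node (.leaf 32750577) (.leaf 5966)) (.leaf 1861)))) (.node (.node (.node (.node (.leaf 996) (.leaf 7221756)) (.leaf 15881688)) (.node (.node (.leaf 4031) (.leaf 150235748)) (.leaf 975))) (.node (.node (.node (.leaf 120) (.leaf 139268324)) (.leaf 6115)) (.node (.node (.leaf 67569244) (.leaf 22567029)) (.leaf 2669))))) (.node (.node (.node (.node (.node (.leaf 533) (.leaf 4805175)) (.leaf 5595)) (.node (.node (.leaf 3729) (.leaf 46860551)) (.leaf 511))) (.node (.node (.node (.leaf 2295) (.leaf 122283688)) (.leaf 59804662)) (.node (.node (.leaf 4811) (.leaf 84957474)) (.leaf 2275)))) (.node (.node (.node (.node (.leaf 1448) (.leaf 4320)) (.leaf 114331516)) (.node (.node (.leaf 4330) (.leaf 51987097)) (.leaf 1425))) (.node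 (.node (.node (.leaf 32771349) (.leaf 11939125)) (.leaf 136451642)) (.node (.node (.leaf 149662822) (.leaf 51999118)) (.leaf 70172357)))))) (.node (.node (.node (.node (.node (.node (.leaf 285) (.leaf 3562)) (.leaf 57151631)) (.node (.node (.leaf 126631722) (.leaf 145320197)) (.leaf 262))) (.node (.node (.node (.leaf 2086) (.leaf 4691)) (.leaf 48521160)) (.node (.node (.leaf 4701) (.leaf 64190181)) (.leaf 2067)))) (.node (.node (.node (.node (.leaf 1217) (.leaf 4172)) (.leaf 6904425)) (.node (.node (.leaf 139483892) (.leaf 5815)) (.leaf 41018243))) (.node (.node (.node (.leaf 2889) (.leaf 5129)) (.leaf 68231907)) (.node (.node (.leaf 75024274) (.leaf 34233288)) (.leaf 49052450))))) (.node (.node (.node (.node (.node (.leaf 766) (.leaf 3868)) (.leaf 131925669)) (.node (.node (.leaf 112503494) (.leaf 132404163)) (.leaf 26427788))) (.node (.node (.node (.leaf 2490) (.leaf 4914)) (.leaf 6079)) (.node (.node (.leaf 108712950) (.leaf 134485589)) (.leaf 2471)))) (.node (.node (.node (.node (.leaf 1663) (.leaf 4447)) (.leaf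 672)) (.node (.node (.leaf 110709913) (.leaf 100544846)) (.leaf 1644))) (.node (.node (.node (.leaf 3252) (.leaf 15749834)) (.leaf 6154)) (.node (.node (.leaf 5343) (.leaf 20610275)) (.leaf 3236))))))) (.node (.node (.node (.node (.node (.node (.node (.leaf 161) (.leaf 22599485)) (.leaf 97331093)) (.node (.node (.leaf 145731307) (.leaf 5385611)) (.leaf 140))) (.node (.node (.node (.leaf 10022811) (.leaf 4623)) (.leaf 87017597)) (.node (.node (.leaf 4636) (.leaf 14330865)) (.leaf 1958)))) (.node (.node (.node (.node (.leaf 1109) (.leaf 4099)) (.leaf 5784)) (.node (.node (.leaf 38779768) (.leaf 36276868)) (.leaf 109546605))) (.node (.node (.node (.leaf 2789) (.leaf 30189436)) (.leaf 6130)) (.node (.node (.leaf 5088) (.leaf 105778121)) (.leaf 2771))))) (.node (.node (.node (.node (.node (.leaf 650) (.leaf 3793)) (.leaf 13546961)) (.node (.node (.leaf 97948684) (.leaf 124301078)) (.leaf 630))) (.node (.node (.node (.leaf 2396) (.leaf 4849)) (.leaf 40350852)) (.node (.node (.leaf 140772065) (.leaf 124837403)) (.leaf 15))))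 (.node (.node (.node (.node (.leaf 1557) (.leaf 106111364)) (.leaf 649)) (.node (.node (.leaf 4392) (.leaf 5906)) (.leaf 1538))) (.node (.node (.node (.leaf 3164) (.leaf 108221275)) (.leaf 77794879)) (.node (.node (.leaf 5292) (.leaf 120704382)) (.leaf 3146)))))) (.node (.node (.node (.node (.node (.node (.leaf 410) (.leaf 36187654)) (.leaf 5550)) (.node (.node (.leaf 70137174) (.leaf 67293272)) (.leaf 387))) (.node (.node (.node (.leaf 6119250) (.leaf 130048279)) (.leaf 788)) (.node (.node (.leaf 4750) (.leaf 105728929)) (.leaf 44483316)))) (.node (.node (.node (.node (.leaf 1334) (.leaf 54203681)) (.leaf 105115615)) (.node (.node (.leaf 4260) (.leaf 50950614)) (.leaf 1311))) (.node (.node (.node (.leaf 2983) (.leaf 25114691)) (.leaf 8447549)) (.node (.node (.leaf 5191) (.leaf 33194426)) (.leaf 139595657))))) (.node (.node (.node (.node (.node (.leaf 880) (.leaf 9827348)) (.leaf 129076997)) (.node (.node (.leaf 3950) (.leaf 142325351)) (.leaf 859))) (.node (.node (.node (.leaf 114) (.leaf 4961)) (.leaf 6094)) (.node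 (.node (.leaf 3391) (.leaf 77908293)) (.leaf 2570)))) (.node (.node (.node (.node (.leaf 71) (.leaf 4500)) (.leaf 121818283)) (.node (.node (.leaf 4511) (.leaf 43732000)) (.leaf 1746))) (.node (.node (.node (.leaf 3335) (.leaf 26374390)) (.leaf 114814492)) (.node (.node (.leaf 5385) (.leaf 44199058)) (.leaf 3320)))))))) (.node (.node (.node (.node (.node (.node (.node (.node (.leaf 101) (.leaf 13871928)) (.leaf 5454)) (.node (.node (.leaf 3456) (.leaf 22601269)) (.leaf 79))) (.node (.node (.node (.leaf 79) (.leaf 4595)) (.leaf 29092302)) (.node (.node (.leaf 70069445) (.leaf 5442282)) (.leaf 1911)))) (.node (.node (.node (.node (.leaf 1055) (.leaf 4055)) (.leaf 5764)) (.node (.node (.leaf 4074) (.leaf 5756)) (.leaf 1032))) (.node (.node (.node (.leaf 2742) (.leaf 5047)) (.leaf 120596003)) (.node (.node (.leaf 5054) (.leaf 17195719)) (.leaf 2725))))) (.node (.node (.node (.node (.node (.leaf 137703766) (.leaf 3756)) (.leaf 126689646)) (.node (.node (.leaf 3770) (.leaf 42204770)) (.leaf 572))) (.node (.node (.node (.leaf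 2347) (.leaf 99279945)) (.leaf 6407376)) (.node (.node (.leaf 77315450) (.leaf 6048)) (.leaf 2329)))) (.node (.node (.node (.node (.leaf 1504) (.leaf 144202209)) (.leaf 77371155)) (.node (.node (.leaf 142354026) (.leaf 136180451)) (.leaf 82399390))) (.node (.node (.node (.leaf 3118) (.leaf 5262)) (.leaf 73326222)) (.node (.node (.leaf 147587832) (.leaf 7773811)) (.leaf 3100)))))) (.node (.node (.node (.node (.node (.node (.leaf 347) (.leaf 40596231)) (.leaf 56968555)) (.node (.node (.leaf 3612) (.leaf 77275410)) (.leaf 325))) (.node (.node (.node (.leaf 2139) (.leaf 4718)) (.leaf 146400476)) (.node (.node (.leaf 4727) (.leaf 133603204)) (.leaf 2119)))) (.node (.node (.node (.node (.leaf 1274) (.leaf 4207)) (.leaf 5840)) (.node (.node (.leaf 2441399) (.leaf 21124109)) (.leaf 1253))) (.node (.node (.node (.leaf 2936) (.leaf 5159)) (.leaf 108539167)) (.node (.node (.leaf 5165) (.leaf 43965291)) (.leaf 2918))))) (.node (.node (.node (.node (.node (.leaf 822) (.leaf 3902)) (.leaf 5691)) (.node (.node (.leaf 3918) (.leaf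 5684)) (.leaf 801))) (.node (.node (.node (.leaf 2612660) (.leaf 49365635)) (.leaf 6090)) (.node (.node (.leaf 4947) (.leaf 125596982)) (.leaf 2524)))) (.node (.node (.node (.node (.leaf 1713) (.leaf 124494529)) (.leaf 126922546)) (.node (.node (.leaf 4484) (.leaf 5930)) (.leaf 1694))) (.node (.node (.node (.leaf 3293) (.leaf 120341167)) (.leaf 122176366)) (.node (.node (.leaf 120292074) (.leaf 95033505)) (.leaf 3280))))))) (.node (.node (.node (.node (.node (.node (.node (.leaf 223) (.leaf 3523)) (.leaf 457)) (.node (.node (.leaf 3537) (.leaf 38530612)) (.leaf 202))) (.node (.node (.node (.leaf 2032) (.leaf 4657)) (.leaf 116006351)) (.node (.node (.leaf 52865853) (.leaf 24646067)) (.leaf 2012)))) (.node (.node (.node (.node (.leaf 1166) (.leaf 76652400)) (.leaf 102701377)) (.node (.node (.leaf 231) (.leaf 11657539)) (.leaf 1145))) (.node (.node (.node (.leaf 44717754) (.leaf 77185530)) (.leaf 133595814)) (.node (.node (.leaf 5112) (.leaf 6132)) (.leaf 2823))))) (.node (.node (.node (.node (.node (.leaf 705) (.leaf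 3836)) (.leaf 5652)) (.node (.node (.leaf 3849) (.leaf 72870486)) (.leaf 686))) (.node (.node (.node (.leaf 43752343) (.leaf 79391314)) (.leaf 23588071)) (.node (.node (.leaf 2313198) (.leaf 144785784)) (.leaf 222784)))) (.node (.node (.node (.node (.leaf 1611) (.leaf 55358812)) (.leaf 699347)) (.node (.node (.leaf 69504448) (.leaf 966170)) (.leaf 37127718))) (.node (.node (.node (.leaf 151) (.leaf 26022637)) (.leaf 2612668)) (.node (.node (.leaf 5315) (.leaf 121369980)) (.leaf 3196)))))) (.node (.node (.node (.node (.node (.node (.leaf 470) (.leaf 124772870)) (.leaf 113826794)) (.node (.node (.leaf 81192873) (.leaf 93033736)) (.leaf 449))) (.node (.node (.node (.leaf 2244) (.leaf 4769)) (.leaf 24139933)) (.node (.node (.leaf 138658479) (.leaf 39296132)) (.leaf 2225)))) (.node (.node (.node (.node (.leaf 30663210) (.leaf 4286)) (.leaf 5871)) (.node (.node (.leaf 23161827) (.leaf 19063548)) (.leaf 1372))) (.node (.node (.node (.leaf 3026) (.leaf 5208)) (.leaf 26687585)) (.node (.node (.leaf 50431343) (.leaf 84900692))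 (.leaf 3008))))) (.node (.node (.node (.node (.node (.leaf 940) (.leaf 132582969)) (.leaf 68496290)) (.node (.node (.leaf 3997) (.leaf 117036857)) (.leaf 918))) (.node (.node (.node (.leaf 2645) (.leaf 124297007)) (.leaf 133211393)) (.node (.node (.leaf 5001) (.leaf 108942662)) (.leaf 2624)))) (.node (.node (.node (.node (.leaf 1822) (.leaf 4537)) (.leaf 22522282)) (.node (.node (.leaf 4553) (.leaf 53216550)) (.leaf 1803))) (.node (.node (.node (.leaf 6403699) (.leaf 5396)) (.leaf 95934849)) (.node (.node (.leaf 129871001) (.leaf 21175444)) (.leaf 3359))))))))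

/-- Part of `topFac`. -/
def topFac_p11010 : Tr := .node (.node (.node (.node (.node (.node (.node (.node (.node (.leaf 23) (.leaf 3391)) (.node (.leaf 114894552) (.leaf 43920024))) (.node (.node (.leaf 3407) (.leaf 5411)) (.leaf 87501174))) (.node (.node (.node (.leaf 1865) (.leaf 4561)) (.leaf 128375570)) (.node (.node (.leaf 4573) (.leaf 5962)) (.leaf 1845)))) (.node (.node (.node (.node (.leaf 981) (.leaf 4012)) (.leaf 551)) (.node (.node (.leaf 4020) (.leaf 5738)) (.leaf 962))) (.node (.node (.node (.leaf 2675) (.leaf 106652795)) (.leaf 28814134)) (.node (.node (.leaf 14382716) (.leaf 128207078)) (.leaf 114718500))))) (.node (.node (.node (.node (.node (.leaf 518) (.leaf 133292618)) (.leaf 84233432)) (.node (.node (.leaf 106548733) (.leaf 5584)) (.leaf 495))) (.node (.node (.node (.leaf 2281) (.leaf 4795)) (.leaf 107838112)) (.node (.node (.leaf 4804) (.leaf 3218451)) (.leaf 2263)))) (.node (.node (.node (.node (.leaf 1432) (.leaf 21524790)) (.leaf 5883)) (.node (.node (.leaf 4322) (.leaf 72237971)) (.leaf 1412)))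 (.node (.node (.node (.leaf 3062) (.leaf 5228)) (.leaf 126111537)) (.node (.node (.leaf 5236) (.leaf 147909621)) (.leaf 3047)))))) (.node (.node (.node (.node (.node (.node (.leaf 269) (.leaf 3551)) (.leaf 5508)) (.node (.node (.leaf 3567) (.leaf 94213565)) (.leaf 247))) (.node (.node (.node (.leaf 2074) (.leaf 32428046)) (.leaf 6007)) (.node (.node (.leaf 84968200) (.leaf 13351744)) (.leaf 2052)))) (.node (.node (.node (.node (.leaf 1204) (.leaf 4162)) (.leaf 143084972)) (.node (.node (.leaf 30192802) (.leaf 71127119)) (.leaf 1187))) (.node (.node (.node (.leaf 2877) (.leaf 40440480)) (.leaf 51662723)) (.node (.node (.leaf 63976401) (.leaf 68559462)) (.leaf 8847326))))) (.node (.node (.node (.node (.node (.leaf 750) (.leaf 3860)) (.leaf 521)) (.node (.node (.leaf 3872) (.leaf 12797043)) (.leaf 730))) (.node (.node (.node (.leaf 2477) (.leaf 4908)) (.leaf 67858996)) (.node (.node (.leaf 4919) (.leaf 6076)) (.leaf 2459)))) (.node (.node (.node (.node (.leaf 132995016) (.leaf 4439)) (.leaf 84383804)) (.node (.node (.leaf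 4449) (.leaf 5921)) (.leaf 13992593))) (.node (.node (.node (.leaf 95981031) (.leaf 20108032)) (.leaf 56967021)) (.node (.node (.leaf 5337) (.leaf 58414168)) (.leaf 11798091))))))) (.node (.node (.node (.node (.node (.node (.node (.leaf 147) (.leaf 3474)) (.leaf 5470)) (.node (.node (.leaf 133575907) (.leaf 102578704)) (.leaf 124))) (.node (.node (.node (.leaf 134792515) (.leaf 131655740)) (.leaf 53296835)) (.node (.node (.leaf 4626) (.leaf 129475871)) (.leaf 6606179)))) (.node (.node (.node (.node (.leaf 1097) (.leaf 4087)) (.leaf 52060895)) (.node (.node (.leaf 4104) (.leaf 5771)) (.leaf 1076))) (.node (.node (.node (.leaf 2777) (.leaf 5064)) (.leaf 34770454)) (.node (.node (.leaf 89964679) (.leaf 17198801)) (.leaf 2759))))) (.node (.node (.node (.node (.node (.leaf 637) (.leaf 3782)) (.leaf 104028667)) (.node (.node (.leaf 3796) (.leaf 32274766)) (.leaf 616))) (.node (.node (.node (.leaf 2384) (.leaf 4843)) (.leaf 98523083)) (.node (.node (.leaf 4853) (.leaf 76641545)) (.leaf 2365)))) (.node (.node (.node (.node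 (.leaf 1543) (.leaf 115826447)) (.leaf 30722823)) (.node (.node (.leaf 56922601) (.leaf 81743407)) (.leaf 1525))) (.node (.node (.node (.leaf 3152) (.leaf 106688626)) (.leaf 62187881)) (.node (.node (.leaf 14556014) (.leaf 18075962)) (.leaf 49020577)))))) (.node (.node (.node (.node (.node (.node (.leaf 394) (.leaf 3628)) (.leaf 59470180)) (.node (.node (.leaf 3643) (.leaf 46648531)) (.leaf 372))) (.node (.node (.node (.leaf 2177) (.leaf 126060304)) (.leaf 139540346)) (.node (.node (.leaf 4742) (.leaf 138816655)) (.leaf 2160)))) (.node (.node (.node (.node (.leaf 1318) (.leaf 4237)) (.leaf 106330735)) (.node (.node (.leaf 141368179) (.leaf 81123985)) (.leaf 1298))) (.node (.node (.node (.leaf 140378179) (.leaf 5176)) (.leaf 95349641)) (.node (.node (.leaf 5187) (.leaf 141975745)) (.leaf 105558309))))) (.node (.node (.node (.node (.node (.leaf 866) (.leaf 3928)) (.leaf 102575352)) (.node (.node (.leaf 212) (.leaf 82299904)) (.leaf 845))) (.node (.node (.node (.leaf 2576) (.leaf 51207687)) (.leaf 20653285)) (.node (.node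 (.leaf 102411570) (.leaf 18055237)) (.leaf 96214073)))) (.node (.node (.node (.node (.leaf 1753) (.leaf 4494)) (.leaf 99756830)) (.node (.node (.leaf 24022231) (.leaf 122130353)) (.leaf 1733))) (.node (.node (.node (.leaf 66720541) (.leaf 5370)) (.leaf 90265352)) (.node (.node (.leaf 86544729) (.leaf 54005061)) (.leaf 3311)))))))) (.node (.node (.node (.node (.node (.node (.node (.node (.leaf 86) (.leaf 3431)) (.leaf 5447)) (.node (.node (.leaf 3447) (.leaf 139000846)) (.leaf 63))) (.node (.node (.node (.leaf 1918) (.leaf 129064921)) (.leaf 78271705)) (.node (.node (.leaf 43015815) (.leaf 5973)) (.leaf 1898)))) (.node (.node (.node (.node (.leaf 1039) (.leaf 74460531)) (.leaf 5757)) (.node (.node (.leaf 4062) (.leaf 124068528)) (.leaf 1018))) (.node (.node (.node (.leaf 2732) (.leaf 5040)) (.leaf 6122)) (.node (.node (.leaf 52032827) (.leaf 8229931)) (.leaf 2712))))) (.node (.node (.node (.node (.node (.leaf 579) (.leaf 3746)) (.leaf 63381373)) (.node (.node (.leaf 147801938) (.leaf 6787477)) (.leaf 557))) (.node (.node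 (.node (.leaf 2335) (.leaf 49699550)) (.leaf 2529441)) (.node (.node (.leaf 134990731) (.leaf 6045)) (.leaf 2317)))) (.node (.node (.node (.node (.leaf 1491) (.leaf 29183581)) (.leaf 5895)) (.node (.node (.leaf 90934594) (.leaf 5889)) (.leaf 1472))) (.node (.node (.node (.leaf 63180956) (.leaf 136973625)) (.leaf 1255)) (.node (.node (.leaf 114248006) (.leaf 53987913)) (.leaf 3088)))))) (.node (.node (.node (.node (.node (.node (.leaf 332) (.leaf 97936791)) (.leaf 5534)) (.node (.node (.leaf 55512183) (.leaf 35008482)) (.leaf 310))) (.node (.node (.node (.leaf 89) (.leaf 4710)) (.leaf 141187572)) (.node (.node (.leaf 22476419) (.leaf 36054235)) (.leaf 2106)))) (.node (.node (.node (.node (.leaf 1260) (.leaf 150546504)) (.leaf 108595531)) (.node (.node (.leaf 4213) (.leaf 79120475)) (.leaf 1240))) (.node (.node (.node (.leaf 115827187) (.leaf 5148)) (.leaf 48041295)) (.node (.node (.leaf 5161) (.leaf 7194272)) (.leaf 116730803))))) (.node (.node (.node (.node (.node (.leaf 73644836) (.leaf 91737712)) (.leaf 99910253))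 (.node (.node (.leaf 3906) (.leaf 5681)) (.leaf 786))) (.node (.node (.node (.leaf 137557557) (.leaf 4932)) (.leaf 100596515)) (.node (.node (.leaf 74808313) (.leaf 14224018)) (.leaf 2510)))) (.node (.node (.node (.node (.leaf 82398192) (.leaf 83180292)) (.leaf 681)) (.node (.node (.leaf 70377456) (.leaf 83791371)) (.leaf 1682))) (.node (.node (.node (.leaf 84461767) (.leaf 5349)) (.leaf 107714129)) (.node (.node (.leaf 5360) (.leaf 79589064)) (.leaf 3269))))))) (.node (.node (.node (.node (.node (.node (.node (.leaf 208) (.leaf 75611369)) (.leaf 114462425)) (.node (.node (.leaf 14473476) (.leaf 31532830)) (.leaf 186))) (.node (.node (.node (.leaf 2019) (.leaf 4648)) (.leaf 5997)) (.node (.node (.leaf 146810112) (.leaf 134194398)) (.leaf 1996)))) (.node (.node (.node (.node (.leaf 1152) (.leaf 6983057)) (.leaf 5798)) (.node (.node (.leaf 4135) (.leaf 69605037)) (.leaf 1132))) (.node (.node (.node (.leaf 2830) (.leaf 148172654)) (.leaf 145298066)) (.node (.node (.leaf 95582964) (.leaf 143512445)) (.leaf 2809))))) (.node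 (.node (.node (.node (.node (.leaf 49876423) (.leaf 3825)) (.leaf 66240316)) (.node (.node (.leaf 3842) (.leaf 20321793)) (.leaf 674))) (.node (.node (.node (.leaf 2429) (.leaf 34484282)) (.leaf 33323301)) (.node (.node (.leaf 4885) (.leaf 81129054)) (.leaf 2415)))) (.node (.node (.node (.node (.leaf 86128952) (.leaf 4404)) (.leaf 88236070)) (.node (.node (.leaf 134340127) (.leaf 21779561)) (.leaf 1581))) (.node (.node (.node (.leaf 3202) (.leaf 26742062)) (.leaf 33627943)) (.node (.node (.leaf 72955439) (.leaf 27739490)) (.leaf 3183)))))) (.node (.node (.node (.node (.node (.node (.leaf 456) (.leaf 2088355)) (.leaf 103547751)) (.node (.node (.leaf 3685) (.leaf 5560)) (.leaf 434))) (.node (.node (.node (.leaf 2231) (.leaf 68080386)) (.leaf 110182028)) (.node (.node (.leaf 4772) (.leaf 6036)) (.leaf 2212)))) (.node (.node (.node (.node (.leaf 1377) (.leaf 4275)) (.leaf 46102964)) (.node (.node (.leaf 4291) (.leaf 5860)) (.leaf 1356))) (.node (.node (.node (.leaf 3015) (.leaf 5203)) (.leaf 78529082)) (.node (.node (.leaf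 5212) (.leaf 138180093)) (.leaf 3001))))) (.node (.node (.node (.node (.node (.leaf 924) (.leaf 3968)) (.leaf 5721)) (.node (.node (.leaf 115173378) (.leaf 80062150)) (.leaf 903))) (.node (.node (.node (.leaf 2631) (.leaf 149256312)) (.leaf 135256954)) (.node (.node (.leaf 115330707) (.leaf 135973210)) (.leaf 2609)))) (.node (.node (.node (.node (.leaf 1808) (.leaf 130934372)) (.leaf 128062158)) (.node (.node (.leaf 72931210) (.leaf 5951)) (.leaf 1790))) (.node (.node (.node (.leaf 3364) (.leaf 17653672)) (.leaf 124158905)) (.node (.node (.leaf 37620880) (.leaf 40328523)) (.leaf 3349))))))))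

/-- Part of `topFac`. -/
def topFac_p11011 : Tr := .node (.node (.node (.node (.node (.node (.node (.node (.node (.leaf 54) (.leaf 63015500)) (.leaf 131314584)) (.node (.node (.leaf 3426) (.leaf 23382419)) (.leaf 31))) (.node (.node (.node (.leaf 1891) (.leaf 112084387)) (.leaf 14108430)) (.node (.node (.leaf 4584) (.leaf 118954153)) (.leaf 1874)))) (.node (.node (.node (.node (.leaf 1011) (.leaf 4027)) (.leaf 98555081)) (.node (.node (.leaf 4042) (.leaf 127188383)) (.leaf 990))) (.node (.node (.node (.leaf 2704) (.leaf 23777770)) (.leaf 60291780)) (.node (.node (.leaf 51575636) (.leaf 108265230)) (.leaf 2683))))) (.node (.node (.node (.node (.node (.leaf 548) (.leaf 119577204)) (.leaf 28284479)) (.node (.node (.leaf 3739) (.leaf 63770189)) (.leaf 527))) (.node (.node (.node (.leaf 2308) (.leaf 4807)) (.leaf 141249209)) (.node (.node (.leaf 143425388) (.leaf 111221939)) (.leaf 2288)))) (.node (.node (.node (.node (.leaf 1464) (.leaf 29189862)) (.leaf 104368195)) (.node (.node (.leaf 86055562) (.leaf 5884)) (.leaf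 1441))) (.node (.node (.node (.leaf 3082) (.leaf 30975952)) (.leaf 120642638)) (.node (.node (.leaf 5250) (.leaf 41823580)) (.leaf 142100999)))))) (.node (.node (.node (.node (.node (.node (.leaf 301) (.leaf 97372172)) (.leaf 5518)) (.node (.node (.leaf 53212648) (.leaf 60346208)) (.leaf 278))) (.node (.node (.node (.leaf 2099) (.leaf 4697)) (.leaf 112266130)) (.node (.node (.leaf 4709) (.leaf 6012)) (.leaf 2080)))) (.node (.node (.node (.node (.leaf 1232) (.leaf 91812931)) (.leaf 89999006)) (.node (.node (.leaf 19265774) (.leaf 59776443)) (.leaf 1210))) (.node (.node (.node (.leaf 94539436) (.leaf 5138)) (.leaf 63032844)) (.node (.node (.leaf 7574995) (.leaf 128967061)) (.leaf 2885))))) (.node (.node (.node (.node (.node (.leaf 780) (.leaf 3879)) (.leaf 5677)) (.node (.node (.leaf 3886) (.leaf 5669)) (.leaf 759))) (.node (.node (.node (.leaf 2503) (.leaf 21)) (.leaf 136264044)) (.node (.node (.leaf 145226607) (.leaf 690124)) (.leaf 2485)))) (.node (.node (.node (.node (.leaf 1674) (.leaf 4456)) (.leaf 676)) (.node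 (.node (.leaf 85847040) (.leaf 5925)) (.leaf 1656))) (.node (.node (.node (.leaf 31846687) (.leaf 5341)) (.leaf 147186771)) (.node (.node (.leaf 54482228) (.leaf 94365260)) (.leaf 3247))))))) (.node (.node (.node (.node (.node (.node (.node (.leaf 177) (.leaf 3496)) (.leaf 107855619)) (.node (.node (.leaf 52155981) (.leaf 122631906)) (.leaf 154))) (.node (.node (.node (.leaf 1988) (.leaf 4632)) (.leaf 43448524)) (.node (.node (.leaf 108737363) (.leaf 83787680)) (.leaf 1972)))) (.node (.node (.node (.node (.leaf 1124) (.leaf 46419938)) (.leaf 52712713)) (.node (.node (.leaf 4116) (.leaf 121887036)) (.leaf 1104))) (.node (.node (.node (.leaf 2803) (.leaf 5083)) (.leaf 94862787)) (.node (.node (.leaf 137548251) (.leaf 98051968)) (.leaf 2783))))) (.node (.node (.node (.node (.node (.leaf 665) (.leaf 3804)) (.leaf 5636)) (.node (.node (.leaf 3819) (.leaf 5627)) (.leaf 644))) (.node (.node (.node (.leaf 95757405) (.leaf 141899529)) (.leaf 50238783)) (.node (.node (.leaf 4868) (.leaf 35724759)) (.leaf 5411542)))) (.node (.node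 (.node (.node (.leaf 1572) (.leaf 4388)) (.leaf 10026456)) (.node (.node (.leaf 4401) (.leaf 87912741)) (.leaf 1550))) (.node (.node (.node (.leaf 3175) (.leaf 5287)) (.leaf 50704809)) (.node (.node (.leaf 25416531) (.leaf 140432498)) (.leaf 3159)))))) (.node (.node (.node (.node (.node (.node (.leaf 14) (.leaf 3651)) (.leaf 128342590)) (.node (.node (.leaf 3665) (.leaf 47294674)) (.leaf 403))) (.node (.node (.node (.leaf 2204) (.leaf 149999989)) (.leaf 113386246)) (.node (.node (.leaf 4758) (.leaf 56430800)) (.leaf 2185)))) (.node (.node (.node (.node (.leaf 1349) (.leaf 4255)) (.leaf 111859548)) (.node (.node (.leaf 50217484) (.leaf 146202362)) (.leaf 1327))) (.node (.node (.node (.leaf 138) (.leaf 29182071)) (.leaf 61790013)) (.node (.node (.leaf 78103581) (.leaf 121621643)) (.leaf 88057748))))) (.node (.node (.node (.node (.node (.leaf 894) (.leaf 3945)) (.leaf 39671169)) (.node (.node (.leaf 3962) (.leaf 68909738)) (.leaf 874))) (.node (.node (.node (.leaf 2600) (.leaf 4968)) (.leaf 26986145)) (.node (.node (.leaf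 77131691) (.leaf 55132764)) (.leaf 61215835)))) (.node (.node (.node (.node (.leaf 1783) (.leaf 4507)) (.leaf 5948)) (.node (.node (.leaf 89961430) (.leaf 140109140)) (.leaf 1762))) (.node (.node (.node (.leaf 3342) (.leaf 5383)) (.leaf 39003216)) (.node (.node (.leaf 82980254) (.leaf 46847079)) (.leaf 3330)))))))) (.node (.node (.node (.node (.node (.node (.node (.node (.leaf 115) (.leaf 3452)) (.leaf 5458)) (.node (.node (.leaf 3467) (.leaf 21594108)) (.leaf 94))) (.node (.node (.node (.leaf 48529541) (.leaf 4602)) (.leaf 46439190)) (.node (.node (.leaf 4612) (.leaf 47485028)) (.leaf 1926)))) (.node (.node (.node (.node (.leaf 1067) (.leaf 4068)) (.leaf 104185124)) (.node (.node (.leaf 4081) (.leaf 5760)) (.leaf 1048))) (.node (.node (.node (.leaf 106882353) (.leaf 23)) (.leaf 99796272)) (.node (.node (.leaf 84184637) (.leaf 74098974)) (.leaf 2736))))) (.node (.node (.node (.node (.node (.leaf 607) (.leaf 3765)) (.leaf 5617)) (.node (.node (.leaf 73220156) (.leaf 108952068)) (.leaf 586))) (.node (.node (.node (.leaf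 14190513) (.leaf 119313659)) (.leaf 108499150)) (.node (.node (.leaf 82605798) (.leaf 65719760)) (.leaf 2341)))) (.node (.node (.node (.node (.leaf 118693952) (.leaf 4360)) (.leaf 58616302)) (.node (.node (.leaf 15811559) (.leaf 118284457)) (.leaf 1499))) (.node (.node (.node (.leaf 3129) (.leaf 52478726)) (.leaf 37914240)) (.node (.node (.leaf 5273) (.leaf 26070535)) (.leaf 3111)))))) (.node (.node (.node (.node (.node (.node (.leaf 363) (.leaf 111099509)) (.leaf 119132326)) (.node (.node (.leaf 3621) (.leaf 107198926)) (.leaf 341))) (.node (.node (.node (.leaf 2153) (.leaf 111501448)) (.leaf 10378701)) (.node (.node (.leaf 4732) (.leaf 35427603)) (.leaf 2132)))) (.node (.node (.node (.node (.leaf 1289) (.leaf 107905231)) (.leaf 49442865)) (.node (.node (.leaf 4232) (.leaf 46009406)) (.leaf 60963346))) (.node (.node (.node (.leaf 2950) (.leaf 56921157)) (.leaf 85925243)) (.node (.node (.leaf 76997631) (.leaf 52289682)) (.leaf 2930))))) (.node (.node (.node (.node (.node (.leaf 837) (.leaf 3912)) (.leaf 5698)) (.node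 (.node (.leaf 3925) (.leaf 106553486)) (.leaf 816))) (.node (.node (.node (.leaf 2552) (.leaf 4705876)) (.leaf 99668766)) (.node (.node (.leaf 4952) (.leaf 77433905)) (.leaf 2537)))) (.node (.node (.node (.node (.leaf 1725) (.leaf 103760550)) (.leaf 686)) (.node (.node (.leaf 4489) (.leaf 137948437)) (.leaf 1707))) (.node (.node (.node (.leaf 3305) (.leaf 26067643)) (.leaf 103648106)) (.node (.node (.leaf 52882778) (.leaf 111786766)) (.leaf 3290))))))) (.node (.node (.node (.node (.node (.node (.node (.leaf 238) (.leaf 3531)) (.leaf 5500)) (.node (.node (.leaf 3546) (.leaf 31830225)) (.leaf 216))) (.node (.node (.node (.leaf 2046) (.leaf 4667)) (.leaf 35228781)) (.node (.node (.leaf 290) (.leaf 25964143)) (.leaf 2026)))) (.node (.node (.node (.node (.leaf 1178) (.leaf 4140)) (.leaf 103823296)) (.node (.node (.leaf 4155) (.leaf 2105828)) (.leaf 60840240))) (.node (.node (.node (.leaf 2851) (.leaf 5107)) (.leaf 135048460)) (.node (.node (.leaf 95641649) (.leaf 132039873)) (.leaf 87520100))))) (.node (.node (.node (.node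 (.node (.leaf 721) (.leaf 3846)) (.leaf 16717061)) (.node (.node (.leaf 7228819) (.leaf 28289132)) (.leaf 699))) (.node (.node (.node (.leaf 2452) (.leaf 52988442)) (.leaf 73994951)) (.node (.node (.leaf 4902) (.leaf 56282578)) (.leaf 4428065)))) (.node (.node (.node (.node (.leaf 1623) (.leaf 4421)) (.leaf 666)) (.node (.node (.leaf 4434) (.leaf 60987801)) (.leaf 30189121))) (.node (.node (.node (.leaf 98264101) (.leaf 5311)) (.leaf 55101117)) (.node (.node (.leaf 5323) (.leaf 75921928)) (.leaf 3208)))))) (.node (.node (.node (.node (.node (.node (.leaf 486) (.leaf 3692)) (.leaf 485)) (.node (.node (.leaf 3701) (.leaf 5576)) (.leaf 120749947))) (.node (.node (.node (.leaf 2256) (.leaf 4777)) (.leaf 49167685)) (.node (.node (.leaf 4789) (.leaf 9350196)) (.leaf 79449703)))) (.node (.node (.node (.node (.leaf 1404) (.leaf 4297)) (.leaf 77543429)) (.node (.node (.leaf 127094511) (.leaf 150329101)) (.leaf 1386))) (.node (.node (.node (.leaf 3039) (.leaf 126919176)) (.leaf 22770437)) (.node (.node (.leaf 5223) (.leaf 63744992))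 (.leaf 3022))))) (.node (.node (.node (.node (.node (.leaf 955) (.leaf 3993)) (.leaf 5734)) (.node (.node (.leaf 4006) (.leaf 131817192)) (.leaf 933))) (.node (.node (.node (.leaf 2656) (.leaf 4996)) (.leaf 142800359)) (.node (.node (.leaf 1129952) (.leaf 6104)) (.leaf 2639)))) (.node (.node (.node (.node (.leaf 1836) (.leaf 4548)) (.leaf 46077443)) (.node (.node (.leaf 123933055) (.leaf 77343722)) (.leaf 1816))) (.node (.node (.node (.leaf 3385) (.leaf 93375159)) (.leaf 54250257)) (.node (.node (.leaf 5408) (.leaf 82551659)) (.leaf 133131889))))))))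

/-- Part of `topFac`. -/
def topFac_p11100 : Tr := .node (.node (.node (.node (.node (.node (.node (.node (.node (.leaf 15) (.leaf 105398950)) (.node (.leaf 5419) (.leaf 90152768))) (.node (.node (.leaf 3403) (.leaf 15657208)) (.leaf 115785926))) (.node (.node (.node (.leaf 1860) (.leaf 4558)) (.leaf 1425302)) (.node (.node (.leaf 121375406) (.leaf 50721202)) (.leaf 1837)))) (.node (.node (.node (.node (.leaf 974) (.leaf 113364285)) (.leaf 108148139)) (.node (.node (.leaf 148491577) (.leaf 5735)) (.leaf 956))) (.node (.node (.node (.leaf 34444895) (.leaf 5007)) (.leaf 9854645)) (.node (.node (.leaf 5016) (.leaf 39668538)) (.leaf 6396602))))) (.node (.node (.node (.node (.node (.leaf 510) (.leaf 3702)) (.leaf 77893379)) (.node (.node (.leaf 3714) (.leaf 80450025)) (.leaf 487))) (.node (.node (.node (.leaf 2274) (.leaf 43834530)) (.leaf 24964470)) (.node (.node (.leaf 4802) (.leaf 74925813)) (.leaf 2257)))) (.node (.node (.node (.node (.leaf 55) (.leaf 4310)) (.leaf 106325755)) (.node (.node (.leaf 4319) (.leaf 31662918))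 (.leaf 144876064))) (.node (.node (.node (.leaf 147807389) (.leaf 149743700)) (.leaf 102200529)) (.node (.node (.leaf 43601033) (.leaf 53690375)) (.leaf 3040)))))) (.node (.node (.node (.node (.node (.node (.leaf 261) (.leaf 3547)) (.leaf 116451560)) (.node (.node (.leaf 45043945) (.leaf 10023356)) (.leaf 239))) (.node (.node (.node (.leaf 2066) (.leaf 61876551)) (.leaf 6005)) (.node (.node (.leaf 141333798) (.leaf 5366714)) (.leaf 2047)))) (.node (.node (.node (.node (.leaf 1198) (.leaf 48377991)) (.leaf 56679377)) (.node (.node (.leaf 46508854) (.leaf 47218579)) (.leaf 1179))) (.node (.node (.node (.leaf 139823477) (.leaf 129145215)) (.leaf 105422679)) (.node (.node (.leaf 91615082) (.leaf 95299867)) (.leaf 2852))))) (.node (.node (.node (.node (.node (.leaf 743) (.leaf 3857)) (.leaf 106883869)) (.node (.node (.leaf 3867) (.leaf 5660)) (.leaf 722))) (.node (.node (.node (.leaf 2470) (.leaf 4903)) (.leaf 871)) (.node (.node (.leaf 59807701) (.leaf 42646261)) (.leaf 2453)))) (.node (.node (.node (.node (.leaf 1643)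 (.leaf 4435)) (.leaf 77429824)) (.node (.node (.leaf 4446) (.leaf 978951)) (.leaf 1624))) (.node (.node (.node (.leaf 77875988) (.leaf 5324)) (.leaf 95780557)) (.node (.node (.leaf 112933285) (.leaf 10594150)) (.leaf 62898257))))))) (.node (.node (.node (.node (.node (.node (.node (.leaf 139) (.leaf 3468)) (.leaf 113807777)) (.node (.node (.leaf 3487) (.leaf 147907533)) (.leaf 116))) (.node (.node (.node (.leaf 61043797) (.leaf 35757704)) (.leaf 38183777)) (.node (.node (.leaf 94744706) (.leaf 84199583)) (.leaf 1943)))) (.node (.node (.node (.node (.leaf 1090) (.leaf 4082)) (.leaf 5775)) (.node (.node (.leaf 225) (.leaf 100733436)) (.leaf 1068))) (.node (.node (.node (.leaf 80065323) (.leaf 144988664)) (.leaf 105982828)) (.node (.node (.leaf 5075) (.leaf 143710253)) (.leaf 2754))))) (.node (.node (.node (.node (.node (.leaf 629) (.leaf 3778)) (.leaf 51801964)) (.node (.node (.leaf 3792) (.leaf 53990997)) (.leaf 608))) (.node (.node (.node (.leaf 2377) (.leaf 4840)) (.leaf 845)) (.node (.node (.leaf 47211490) (.leaf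 143796634)) (.leaf 2357)))) (.node (.node (.node (.node (.leaf 1537) (.leaf 4372)) (.leaf 103826383)) (.node (.node (.leaf 73481437) (.leaf 68230338)) (.leaf 1517))) (.node (.node (.node (.leaf 3145) (.leaf 73119684)) (.leaf 123399233)) (.node (.node (.leaf 134531169) (.leaf 50768496)) (.leaf 3130)))))) (.node (.node (.node (.node (.node (.node (.leaf 386) (.leaf 11323219)) (.leaf 16970767)) (.node (.node (.leaf 3639) (.leaf 92126237)) (.leaf 364))) (.node (.node (.node (.leaf 2172) (.leaf 4733)) (.leaf 46280676)) (.node (.node (.leaf 136481021) (.leaf 110873063)) (.leaf 2154)))) (.node (.node (.node (.node (.leaf 105033854) (.leaf 10592472)) (.leaf 5849)) (.node (.node (.leaf 16032440) (.leaf 97770721)) (.leaf 1290))) (.node (.node (.node (.leaf 7910867) (.leaf 80062040)) (.leaf 144744712)) (.node (.node (.leaf 5183) (.leaf 76432845)) (.leaf 2951))))) (.node (.node (.node (.node (.node (.leaf 858) (.leaf 113514055)) (.leaf 39058631)) (.node (.node (.leaf 87505225) (.leaf 5699)) (.leaf 838))) (.node (.node (.node (.leaf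 90382976) (.leaf 47968629)) (.leaf 6092)) (.node (.node (.leaf 4960) (.leaf 20012685)) (.leaf 2553)))) (.node (.node (.node (.node (.leaf 1745) (.leaf 4490)) (.leaf 5940)) (.node (.node (.leaf 31590812) (.leaf 78132667)) (.leaf 1726))) (.node (.node (.node (.leaf 3319) (.leaf 37130128)) (.leaf 34565881)) (.node (.node (.leaf 128108321) (.leaf 72332894)) (.leaf 3306)))))))) (.node (.node (.node (.node (.node (.node (.node (.node (.leaf 78) (.leaf 3427)) (.leaf 66662164)) (.node (.node (.leaf 3442) (.leaf 5435)) (.leaf 55))) (.node (.node (.node (.leaf 1910) (.leaf 4585)) (.leaf 29095087)) (.node (.node (.leaf 82349513) (.leaf 90271037)) (.leaf 1892)))) (.node (.node (.node (.node (.leaf 1031) (.leaf 4043)) (.leaf 125826943)) (.node (.node (.leaf 34609635) (.leaf 74827060)) (.leaf 1012))) (.node (.node (.node (.leaf 109768672) (.leaf 102310781)) (.leaf 22570952)) (.node (.node (.leaf 94375925) (.leaf 33624016)) (.leaf 2705))))) (.node (.node (.node (.node (.node (.leaf 571) (.leaf 3740)) (.leaf 5606)) (.node (.node (.leaf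 3755) (.leaf 5598)) (.leaf 549))) (.node (.node (.node (.leaf 143178250) (.leaf 30975383)) (.leaf 319816)) (.node (.node (.leaf 6581909) (.leaf 45385954)) (.leaf 2309)))) (.node (.node (.node (.node (.leaf 1484) (.leaf 4338)) (.leaf 5894)) (.node (.node (.leaf 144795731) (.leaf 5888)) (.leaf 1465))) (.node (.node (.node (.leaf 3099) (.leaf 5251)) (.leaf 65899246)) (.node (.node (.leaf 5261) (.leaf 78728954)) (.leaf 81421372)))))) (.node (.node (.node (.node (.node (.node (.leaf 324) (.leaf 87145762)) (.leaf 75088550)) (.node (.node (.leaf 3598) (.leaf 147921631)) (.leaf 302))) (.node (.node (.node (.leaf 10182596) (.leaf 62899024)) (.leaf 1043874)) (.node (.node (.leaf 4717) (.leaf 6017)) (.leaf 2100)))) (.node (.node (.node (.node (.leaf 1252) (.leaf 117607073)) (.leaf 5833)) (.node (.node (.leaf 4206) (.leaf 91741272)) (.leaf 1233))) (.node (.node (.node (.leaf 2917) (.leaf 51575772)) (.leaf 109987837)) (.node (.node (.leaf 5158) (.leaf 6138)) (.leaf 2901))))) (.node (.node (.node (.node (.node (.leaf 800) (.leaf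 14863719)) (.leaf 134134519)) (.node (.node (.leaf 3901) (.leaf 5678)) (.leaf 781))) (.node (.node (.node (.leaf 2523) (.leaf 54179215)) (.leaf 148832125)) (.node (.node (.leaf 4939) (.leaf 9873612)) (.leaf 2504)))) (.node (.node (.node (.node (.leaf 1693) (.leaf 4465)) (.leaf 117374543)) (.node (.node (.leaf 266) (.leaf 77956394)) (.leaf 1675))) (.node (.node (.node (.leaf 3279) (.leaf 132414713)) (.leaf 130352514)) (.node (.node (.leaf 127782440) (.leaf 84170915)) (.leaf 3263))))))) (.node (.node (.node (.node (.node (.node (.node (.leaf 201) (.leaf 3510)) (.leaf 5487)) (.node (.node (.leaf 1917) (.leaf 107833320)) (.leaf 178))) (.node (.node (.node (.leaf 2011) (.leaf 107029177)) (.leaf 104017114)) (.node (.node (.leaf 140465807) (.leaf 54852226)) (.leaf 1989)))) (.node (.node (.node (.node (.leaf 1144) (.leaf 82866523)) (.leaf 5795)) (.node (.node (.leaf 229) (.leaf 5788)) (.leaf 1125))) (.node (.node (.node (.leaf 2822) (.leaf 79237503)) (.leaf 17950490)) (.node (.node (.leaf 4268776) (.leaf 126688408)) (.leaf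 2804))))) (.node (.node (.node (.node (.node (.leaf 24) (.leaf 3820)) (.leaf 5644)) (.node (.node (.leaf 45914026) (.leaf 149894051)) (.leaf 666))) (.node (.node (.node (.leaf 2426) (.leaf 4869)) (.leaf 97500410)) (.node (.node (.leaf 4881) (.leaf 94722056)) (.leaf 2409)))) (.node (.node (.node (.node (.leaf 1594) (.leaf 83490784)) (.leaf 143829781)) (.node (.node (.leaf 4410) (.leaf 72096986)) (.leaf 1573))) (.node (.node (.node (.leaf 3195) (.leaf 59247942)) (.leaf 102613119)) (.node (.node (.leaf 5305) (.leaf 133641957)) (.leaf 19965289)))))) (.node (.node (.node (.node (.node (.node (.leaf 448) (.leaf 3666)) (.leaf 5568)) (.node (.node (.leaf 3682) (.leaf 5556)) (.leaf 426))) (.node (.node (.node (.leaf 2224) (.leaf 4759)) (.leaf 109163793)) (.node (.node (.leaf 4768) (.leaf 107353322)) (.leaf 2205)))) (.node (.node (.node (.node (.leaf 1371) (.leaf 4271)) (.leaf 57520555)) (.node (.node (.leaf 33030850) (.leaf 3114386)) (.leaf 1350))) (.node (.node (.node (.leaf 3007) (.leaf 5200)) (.leaf 70257658)) (.node (.node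 (.leaf 5207) (.leaf 78554733)) (.leaf 2995))))) (.node (.node (.node (.node (.node (.leaf 917) (.leaf 3963)) (.leaf 5719)) (.node (.node (.leaf 69171169) (.leaf 42905222)) (.leaf 895))) (.node (.node (.node (.leaf 2623) (.leaf 4978)) (.leaf 935)) (.node (.node (.leaf 85376127) (.leaf 6097)) (.leaf 2601)))) (.node (.node (.node (.node (.leaf 1802) (.leaf 99633212)) (.leaf 77112958)) (.node (.node (.leaf 47863524) (.leaf 119264930)) (.leaf 1784))) (.node (.node (.node (.leaf 13994185) (.leaf 5389)) (.leaf 91812366)) (.node (.node (.leaf 5395) (.leaf 6258259)) (.leaf 3343))))))))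

/-- Part of `topFac`. -/
def topFac_p11101 : Tr := .node (.node (.node (.node (.node (.node (.node (.node (.node (.leaf 46) (.leaf 3408)) (.node (.leaf 64284724) (.leaf 116877189))) (.node (.node (.leaf 3420) (.leaf 74059837)) (.leaf 24))) (.node (.node (.node (.leaf 1887) (.leaf 33486196)) (.leaf 73586856)) (.node (.node (.leaf 4581) (.leaf 82437400)) (.leaf 1866)))) (.node (.node (.node (.node (.leaf 1003) (.leaf 135321302)) (.leaf 125599930)) (.node (.node (.leaf 144225364) (.leaf 118705164)) (.leaf 982))) (.node (.node (.node (.leaf 2696) (.leaf 5023)) (.leaf 967)) (.node (.node (.leaf 5033) (.leaf 146228418)) (.leaf 2676))))) (.node (.node (.node (.node (.node (.leaf 541) (.leaf 39124176)) (.leaf 132925506)) (.node (.node (.leaf 194) (.leaf 132148128)) (.leaf 519))) (.node (.node (.node (.leaf 2301) (.leaf 39803046)) (.leaf 35227554)) (.node (.node (.leaf 19381859) (.leaf 48763840)) (.leaf 2282)))) (.node (.node (.node (.node (.leaf 1456) (.leaf 4323)) (.leaf 78904454)) (.node (.node (.leaf 249) (.leaf 20158167))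 (.leaf 1433))) (.node (.node (.node (.leaf 3076) (.leaf 30529089)) (.leaf 6149)) (.node (.node (.leaf 5244) (.leaf 110536482)) (.leaf 146125970)))))) (.node (.node (.node (.node (.node (.node (.leaf 293) (.leaf 3568)) (.leaf 2294121)) (.node (.node (.leaf 3579) (.leaf 5509)) (.leaf 270))) (.node (.node (.node (.leaf 2092) (.leaf 26785276)) (.leaf 139419703)) (.node (.node (.leaf 90125216) (.leaf 6008)) (.leaf 2075)))) (.node (.node (.node (.node (.leaf 1225) (.leaf 127598348)) (.leaf 109607156)) (.node (.node (.leaf 1104) (.leaf 5818)) (.leaf 1205))) (.node (.node (.node (.leaf 2895) (.leaf 81544718)) (.leaf 29960429)) (.node (.node (.leaf 5144) (.leaf 33088896)) (.leaf 2878))))) (.node (.node (.node (.node (.node (.leaf 773) (.leaf 3873)) (.leaf 34802158)) (.node (.node (.leaf 207) (.leaf 79328166)) (.leaf 751))) (.node (.node (.node (.leaf 2496) (.leaf 56736722)) (.leaf 90424020)) (.node (.node (.leaf 86532090) (.leaf 28853037)) (.leaf 2478)))) (.node (.node (.node (.node (.leaf 35224741) (.leaf 4450)) (.leaf 133700875))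 (.node (.node (.leaf 4462) (.leaf 29861839)) (.leaf 1649))) (.node (.node (.node (.leaf 94066340) (.leaf 5338)) (.leaf 48496846)) (.node (.node (.leaf 5345) (.leaf 103628808)) (.leaf 3240))))))) (.node (.node (.node (.node (.node (.node (.node (.leaf 169) (.leaf 3490)) (.leaf 5476)) (.node (.node (.leaf 3507) (.leaf 24359524)) (.leaf 148))) (.node (.node (.node (.leaf 1981) (.leaf 4627)) (.leaf 101584378)) (.node (.node (.leaf 4639) (.leaf 29184861)) (.leaf 1964)))) (.node (.node (.node (.node (.leaf 1116) (.leaf 4105)) (.leaf 5785)) (.node (.node (.leaf 75142326) (.leaf 21359293)) (.leaf 106068073))) (.node (.node (.node (.leaf 2796) (.leaf 5078)) (.leaf 16502741)) (.node (.node (.leaf 5093) (.leaf 32702397)) (.leaf 2778))))) (.node (.node (.node (.node (.node (.leaf 658) (.leaf 3797)) (.leaf 102567813)) (.node (.node (.leaf 3812) (.leaf 5623)) (.leaf 638))) (.node (.node (.node (.leaf 2404) (.leaf 72754321)) (.leaf 50472382)) (.node (.node (.leaf 81760883) (.leaf 52109599)) (.leaf 2385)))) (.node (.node (.node (.node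 (.leaf 1565) (.leaf 95802139)) (.leaf 1612460)) (.node (.node (.leaf 4396) (.leaf 78149408)) (.leaf 5565278))) (.node (.node (.node (.leaf 3169) (.leaf 4021)) (.leaf 1329)) (.node (.node (.leaf 38360712) (.leaf 111518146)) (.leaf 3153)))))) (.node (.node (.node (.node (.node (.node (.leaf 418) (.leaf 3644)) (.leaf 27544205)) (.node (.node (.leaf 3660) (.leaf 33036183)) (.leaf 395))) (.node (.node (.node (.leaf 2197) (.leaf 67674710)) (.leaf 42467241)) (.node (.node (.leaf 77124763) (.leaf 6030)) (.leaf 2178)))) (.node (.node (.node (.node (.leaf 51) (.leaf 4251)) (.leaf 57410026)) (.node (.node (.leaf 4266) (.leaf 37070972)) (.leaf 1319))) (.node (.node (.node (.leaf 2991) (.leaf 124930847)) (.leaf 128762926)) (.node (.node (.leaf 128339270) (.leaf 126767324)) (.leaf 2974))))) (.node (.node (.node (.node (.node (.leaf 50867505) (.leaf 3941)) (.leaf 5711)) (.node (.node (.leaf 3956) (.leaf 5706)) (.leaf 867))) (.node (.node (.node (.leaf 2593) (.leaf 96992434)) (.leaf 61687393)) (.node (.node (.leaf 37339626) (.leaf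 83506073)) (.leaf 517545)))) (.node (.node (.node (.node (.leaf 1775) (.leaf 49213121)) (.leaf 105475089)) (.node (.node (.leaf 110830292) (.leaf 20252327)) (.leaf 1754))) (.node (.node (.node (.leaf 3339) (.leaf 5381)) (.leaf 9929144)) (.node (.node (.leaf 95259638) (.leaf 61929824)) (.leaf 3325)))))))) (.node (.node (.node (.node (.node (.node (.node (.node (.leaf 108) (.leaf 3448)) (.leaf 80825665)) (.node (.node (.leaf 108989135) (.leaf 77555834)) (.leaf 87))) (.node (.node (.node (.leaf 1935) (.leaf 78431388)) (.leaf 150378359)) (.node (.node (.leaf 136800676) (.leaf 16215428)) (.leaf 1919)))) (.node (.node (.node (.node (.leaf 1061) (.leaf 69757220)) (.leaf 5765)) (.node (.node (.leaf 98910885) (.leaf 127092460)) (.leaf 1040))) (.node (.node (.node (.leaf 69841570) (.leaf 32735429)) (.leaf 96049071)) (.node (.node (.leaf 5058) (.leaf 55338959)) (.leaf 2733))))) (.node (.node (.node (.node (.node (.leaf 600) (.leaf 29446521)) (.leaf 5614)) (.node (.node (.leaf 21867293) (.leaf 78272573)) (.leaf 126105805))) (.node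 (.node (.node (.leaf 2351) (.leaf 7536915)) (.leaf 6059)) (.node (.node (.leaf 29527787) (.leaf 6051)) (.leaf 2336)))) (.node (.node (.node (.node (.leaf 1510) (.leaf 4355)) (.leaf 5900)) (.node (.node (.leaf 88341347) (.leaf 97604494)) (.leaf 1492))) (.node (.node (.node (.leaf 3123) (.leaf 150523452)) (.leaf 73942073)) (.node (.node (.leaf 40063749) (.leaf 148931927)) (.leaf 3105)))))) (.node (.node (.node (.node (.node (.node (.leaf 355) (.leaf 32885495)) (.leaf 122878052)) (.node (.node (.leaf 112589026) (.leaf 32999773)) (.leaf 333))) (.node (.node (.node (.leaf 2146) (.leaf 4722)) (.leaf 84336600)) (.node (.node (.leaf 135933809) (.leaf 119518604)) (.leaf 2125)))) (.node (.node (.node (.node (.leaf 1281) (.leaf 4214)) (.leaf 9491631)) (.node (.node (.leaf 80523770) (.leaf 65104725)) (.leaf 1261))) (.node (.node (.node (.leaf 2944) (.leaf 70630894)) (.leaf 143569680)) (.node (.node (.leaf 5168) (.leaf 149387605)) (.leaf 2925))))) (.node (.node (.node (.node (.node (.leaf 30) (.leaf 53958349)) (.leaf 123782711))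 (.node (.node (.leaf 3922) (.leaf 115773730)) (.leaf 808))) (.node (.node (.node (.leaf 2546) (.leaf 93679164)) (.leaf 116290309)) (.node (.node (.leaf 35880391) (.leaf 53702117)) (.leaf 2530)))) (.node (.node (.node (.node (.leaf 60059536) (.leaf 136165029)) (.leaf 108792191)) (.node (.node (.leaf 140993490) (.leaf 15338485)) (.leaf 1699))) (.node (.node (.node (.leaf 3300) (.leaf 5361)) (.leaf 1325793)) (.node (.node (.leaf 45073174) (.leaf 18614953)) (.leaf 3286))))))) (.node (.node (.node (.node (.node (.node (.node (.leaf 230) (.leaf 52057287)) (.leaf 70128118)) (.node (.node (.leaf 3542) (.leaf 62617630)) (.leaf 209))) (.node (.node (.node (.leaf 2039) (.leaf 59126259)) (.leaf 80388052)) (.node (.node (.leaf 4674) (.leaf 114763978)) (.leaf 2020)))) (.node (.node (.node (.node (.leaf 1173) (.leaf 83645047)) (.leaf 5807)) (.node (.node (.leaf 4150) (.leaf 5799)) (.leaf 1153))) (.node (.node (.node (.leaf 31490720) (.leaf 39604605)) (.leaf 58557549)) (.node (.node (.leaf 87960131) (.leaf 94820270)) (.leaf 2831)))))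 (.node (.node (.node (.node (.node (.leaf 713) (.leaf 3843)) (.leaf 115251873)) (.node (.node (.leaf 3852) (.leaf 4268830)) (.leaf 114360464))) (.node (.node (.node (.leaf 109971797) (.leaf 4886)) (.leaf 2551802)) (.node (.node (.leaf 4897) (.leaf 116025660)) (.leaf 2430)))) (.node (.node (.node (.node (.leaf 103698749) (.leaf 90600365)) (.leaf 84638225)) (.node (.node (.leaf 14757661) (.leaf 5914)) (.leaf 117513334))) (.node (.node (.node (.leaf 3217) (.leaf 49490107)) (.leaf 43806027)) (.node (.node (.leaf 5318) (.leaf 90720221)) (.leaf 3203)))))) (.node (.node (.node (.node (.node (.node (.leaf 478) (.leaf 3686)) (.leaf 41032464)) (.node (.node (.leaf 3699) (.leaf 16699202)) (.leaf 457))) (.node (.node (.node (.leaf 2248) (.leaf 4773)) (.leaf 9318758)) (.node (.node (.leaf 40067664) (.leaf 129373605)) (.leaf 2232)))) (.node (.node (.node (.node (.leaf 1398) (.leaf 4292)) (.leaf 31155086)) (.node (.node (.leaf 4304) (.leaf 4349258)) (.leaf 1378))) (.node (.node (.node (.leaf 140) (.leaf 5213)) (.leaf 1161)) (.node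 (.node (.leaf 84336036) (.leaf 75484771)) (.leaf 3016))))) (.node (.node (.node (.node (.node (.leaf 947) (.leaf 3986)) (.leaf 546)) (.node (.node (.leaf 4001) (.leaf 43724401)) (.leaf 925))) (.node (.node (.node (.leaf 2650) (.leaf 8696708)) (.leaf 83548879)) (.node (.node (.leaf 109292268) (.leaf 131938996)) (.leaf 2632)))) (.node (.node (.node (.node (.leaf 1828) (.leaf 132403500)) (.leaf 140582379)) (.node (.node (.leaf 4556) (.leaf 115559857)) (.leaf 1809))) (.node (.node (.node (.leaf 3380) (.leaf 41182521)) (.leaf 142227358)) (.node (.node (.leaf 5405) (.leaf 8166284)) (.leaf 3365))))))))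

/-- Part of `topFac`. -/
def topFac_p11110 : Tr := .node (.node (.node (.node (.node (.node (.node (.node (.node (.leaf 0) (.leaf 3398)) (.node (.leaf 51665453) (.leaf 78859544))) (.node (.node (.leaf 124268096) (.leaf 5415)) (.leaf 8))) (.node (.node (.node (.leaf 1873) (.leaf 4566)) (.leaf 37671428)) (.node (.node (.leaf 33919854) (.leaf 61522333)) (.leaf 1853)))) (.node (.node (.node (.node (.leaf 989) (.leaf 105447706)) (.leaf 60946345)) (.node (.node (.leaf 4026) (.leaf 32455684)) (.leaf 967))) (.node (.node (.node (.leaf 69698713) (.leaf 45607577)) (.leaf 15771246)) (.node (.node (.leaf 66849961) (.leaf 26069419)) (.leaf 2664))))) (.node (.node (.node (.node (.node (.leaf 526) (.leaf 3710)) (.leaf 37008936)) (.node (.node (.leaf 3725) (.leaf 5587)) (.leaf 503))) (.node (.node (.node (.leaf 2287) (.leaf 73150130)) (.leaf 44347146)) (.node (.node (.leaf 78567427) (.leaf 83224802)) (.leaf 2269)))) (.node (.node (.node (.node (.leaf 1440) (.leaf 80387785)) (.leaf 98901138)) (.node (.node (.leaf 4326) (.leaf 5881))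 (.leaf 129990443))) (.node (.node (.node (.leaf 79086991) (.leaf 131544304)) (.leaf 123390486)) (.node (.node (.leaf 50846427) (.leaf 143207011)) (.leaf 3054)))))) (.node (.node (.node (.node (.node (.node (.leaf 277) (.leaf 3556)) (.leaf 76865419)) (.node (.node (.leaf 3572) (.leaf 18908897)) (.leaf 255))) (.node (.node (.node (.leaf 2079) (.leaf 4686)) (.leaf 112411989)) (.node (.node (.leaf 62313791) (.leaf 136459137)) (.leaf 2060)))) (.node (.node (.node (.node (.leaf 1209) (.leaf 4168)) (.leaf 21192448)) (.node (.node (.leaf 4181) (.leaf 5811)) (.leaf 1192))) (.node (.node (.node (.leaf 2884) (.leaf 139356640)) (.leaf 121359264)) (.node (.node (.leaf 5137) (.leaf 124812814)) (.leaf 2866))))) (.node (.node (.node (.node (.node (.leaf 758) (.leaf 116817396)) (.leaf 66065627)) (.node (.node (.leaf 52192766) (.leaf 5662)) (.leaf 737))) (.node (.node (.node (.leaf 2484) (.leaf 38325031)) (.leaf 35792970)) (.node (.node (.leaf 4920) (.leaf 114058088)) (.leaf 2466)))) (.node (.node (.node (.node (.leaf 1655) (.leaf 144816255))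 (.leaf 7918296)) (.node (.node (.leaf 4455) (.leaf 41929422)) (.leaf 1638))) (.node (.node (.node (.leaf 3246) (.leaf 141141137)) (.leaf 66188414)) (.node (.node (.leaf 73991612) (.leaf 33545931)) (.leaf 3230))))))) (.node (.node (.node (.node (.node (.node (.node (.leaf 153) (.leaf 3482)) (.leaf 5473)) (.node (.node (.leaf 3495) (.leaf 5464)) (.leaf 132))) (.node (.node (.node (.leaf 1971) (.leaf 25384608)) (.leaf 77754077)) (.node (.node (.leaf 67477526) (.leaf 33806728)) (.leaf 1952)))) (.node (.node (.node (.node (.leaf 1103) (.leaf 4095)) (.leaf 5780)) (.node (.node (.leaf 21728286) (.leaf 86003752)) (.leaf 1083))) (.node (.node (.node (.leaf 2782) (.leaf 5069)) (.leaf 6128)) (.node (.node (.leaf 5082) (.leaf 39824585)) (.leaf 2764))))) (.node (.node (.node (.node (.node (.leaf 643) (.leaf 3788)) (.leaf 5626)) (.node (.node (.leaf 3803) (.leaf 5620)) (.leaf 622))) (.node (.node (.node (.leaf 2390) (.leaf 84775679)) (.leaf 145692631)) (.node (.node (.leaf 4856) (.leaf 102385659)) (.leaf 2371)))) (.node (.node (.node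 (.node (.leaf 1549) (.leaf 4380)) (.leaf 138816517)) (.node (.node (.leaf 4387) (.leaf 5905)) (.leaf 1531))) (.node (.node (.node (.leaf 3158) (.leaf 135854710)) (.leaf 122163370)) (.node (.node (.leaf 53953723) (.leaf 100934376)) (.leaf 143615176)))))) (.node (.node (.node (.node (.node (.node (.leaf 402) (.leaf 3634)) (.leaf 117250584)) (.node (.node (.leaf 127475017) (.leaf 93547555)) (.leaf 379))) (.node (.node (.node (.leaf 2184) (.leaf 77200126)) (.leaf 116959126)) (.node (.node (.leaf 4745) (.leaf 60215884)) (.leaf 2166)))) (.node (.node (.node (.node (.leaf 1326) (.leaf 4244)) (.leaf 74554756)) (.node (.node (.leaf 241) (.leaf 121518802)) (.leaf 1306))) (.node (.node (.node (.leaf 88751830) (.leaf 139805745)) (.leaf 85574317)) (.node (.node (.leaf 109466393) (.leaf 522375)) (.leaf 2963))))) (.node (.node (.node (.node (.node (.leaf 90647861) (.leaf 3934)) (.leaf 5708)) (.node (.node (.leaf 3944) (.leaf 131927701)) (.leaf 853))) (.node (.node (.node (.leaf 2582) (.leaf 4958)) (.leaf 52857130)) (.node (.node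 (.leaf 20506381) (.leaf 6998201)) (.leaf 2563)))) (.node (.node (.node (.node (.leaf 1761) (.leaf 5193999)) (.leaf 124152816)) (.node (.node (.leaf 4506) (.leaf 116833014)) (.leaf 1739))) (.node (.node (.node (.leaf 3329) (.leaf 59814158)) (.leaf 126369846)) (.node (.node (.leaf 76865508) (.leaf 105152100)) (.leaf 3315)))))))) (.node (.node (.node (.node (.node (.node (.node (.node (.leaf 93) (.leaf 3436)) (.leaf 123013564)) (.node (.node (.leaf 3451) (.leaf 147467567)) (.leaf 71))) (.node (.node (.node (.leaf 1925) (.leaf 4593)) (.leaf 84527155)) (.node (.node (.leaf 41708200) (.leaf 44487945)) (.leaf 1905)))) (.node (.node (.node (.node (.leaf 1047) (.leaf 4052)) (.leaf 136256332)) (.node (.node (.leaf 4067) (.leaf 5754)) (.leaf 850))) (.node (.node (.node (.leaf 2735) (.leaf 110790445)) (.leaf 53550519)) (.node (.node (.leaf 100541059) (.leaf 135250472)) (.leaf 2719))))) (.node (.node (.node (.node (.node (.leaf 585) (.leaf 146134169)) (.leaf 5609)) (.node (.node (.leaf 3764) (.leaf 39253072)) (.leaf 565))) (.node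 (.node (.node (.leaf 2340) (.leaf 4827)) (.leaf 80070788)) (.node (.node (.leaf 132738018) (.leaf 23185793)) (.leaf 97241397)))) (.node (.node (.node (.node (.leaf 1498) (.leaf 88896248)) (.leaf 105763111)) (.node (.node (.leaf 4359) (.leaf 33030394)) (.leaf 1478))) (.node (.node (.node (.leaf 3110) (.leaf 5258)) (.leaf 19089505)) (.node (.node (.leaf 43014391) (.leaf 14515755)) (.leaf 3094)))))) (.node (.node (.node (.node (.node (.node (.leaf 340) (.leaf 3594)) (.leaf 10667133)) (.node (.node (.leaf 77728475) (.leaf 5525)) (.leaf 317))) (.node (.node (.node (.leaf 10256651) (.leaf 4713)) (.leaf 5774144)) (.node (.node (.leaf 97908419) (.leaf 64144561)) (.leaf 2113)))) (.node (.node (.node (.node (.leaf 1268) (.leaf 4203)) (.leaf 122177565)) (.node (.node (.leaf 9262673) (.leaf 46642193)) (.leaf 1246))) (.node (.node (.node (.leaf 2929) (.leaf 5154)) (.leaf 125548705)) (.node (.node (.leaf 5163) (.leaf 7583758)) (.leaf 2911))))) (.node (.node (.node (.node (.node (.leaf 815) (.leaf 3895)) (.leaf 22491934)) (.node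 (.node (.leaf 3911) (.leaf 117000459)) (.leaf 107662555))) (.node (.node (.node (.leaf 2536) (.leaf 4934)) (.leaf 6089)) (.node (.node (.leaf 4945) (.leaf 102780448)) (.leaf 2516)))) (.node (.node (.node (.node (.leaf 1706) (.leaf 136168745)) (.leaf 41378149)) (.node (.node (.leaf 4480) (.leaf 71101418)) (.leaf 1689))) (.node (.node (.node (.leaf 35466330) (.leaf 5353)) (.leaf 131657050)) (.node (.node (.leaf 89177114) (.leaf 140113178)) (.leaf 3274))))))) (.node (.node (.node (.node (.node (.node (.node (.leaf 215) (.leaf 118635668)) (.leaf 111201092)) (.node (.node (.leaf 52057285) (.leaf 131462128)) (.leaf 194))) (.node (.node (.node (.leaf 2025) (.leaf 4653)) (.leaf 82481104)) (.node (.node (.leaf 12592879) (.leaf 74054373)) (.leaf 2004)))) (.node (.node (.node (.node (.leaf 43) (.leaf 4126)) (.leaf 74069749)) (.node (.node (.leaf 4139) (.leaf 53427105)) (.leaf 1138))) (.node (.node (.node (.leaf 72483069) (.leaf 30269892)) (.leaf 81987592)) (.node (.node (.leaf 37049798) (.leaf 62316965)) (.leaf 2815))))) (.node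 (.node (.node (.node (.node (.leaf 40574529) (.leaf 3832)) (.leaf 43354756)) (.node (.node (.leaf 3845) (.leaf 107460745)) (.leaf 60513722))) (.node (.node (.node (.leaf 2436) (.leaf 37673324)) (.leaf 34436503)) (.node (.node (.leaf 4890) (.leaf 108663047)) (.leaf 2422)))) (.node (.node (.node (.node (.leaf 1604) (.leaf 22719734)) (.leaf 5915)) (.node (.node (.leaf 4420) (.leaf 5661937)) (.leaf 1587))) (.node (.node (.node (.leaf 89886278) (.leaf 5304)) (.leaf 95874960)) (.node (.node (.leaf 5310) (.leaf 138336826)) (.leaf 36107874)))))) (.node (.node (.node (.node (.node (.node (.leaf 464) (.leaf 87891501)) (.leaf 5575)) (.node (.node (.leaf 190) (.leaf 29904792)) (.leaf 442))) (.node (.node (.node (.leaf 2238) (.leaf 4766)) (.leaf 74758274)) (.node (.node (.leaf 55925656) (.leaf 82404501)) (.leaf 2218)))) (.node (.node (.node (.node (.leaf 1385) (.leaf 4281)) (.leaf 19211575)) (.node (.node (.leaf 4296) (.leaf 5862)) (.leaf 1364))) (.node (.node (.node (.leaf 3021) (.leaf 13774522)) (.leaf 5816391)) (.node (.node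 (.leaf 105380179) (.leaf 27322128)) (.leaf 3003))))) (.node (.node (.node (.node (.node (.leaf 932) (.leaf 3975)) (.leaf 5725)) (.node (.node (.leaf 3992) (.leaf 89869743)) (.leaf 911))) (.node (.node (.node (.leaf 2638) (.leaf 128084241)) (.leaf 49225098)) (.node (.node (.leaf 4995) (.leaf 109567075)) (.leaf 2617)))) (.node (.node (.node (.node (.leaf 73) (.leaf 93154188)) (.leaf 20036287)) (.node (.node (.leaf 4547) (.leaf 56430484)) (.leaf 1796))) (.node (.node (.node (.leaf 140629971) (.leaf 138157773)) (.leaf 15203533)) (.node (.node (.leaf 137162757) (.leaf 144184318)) (.leaf 3355))))))))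

/-- Part of `topFac`. -/
def topFac_p11111 : Tr := .node (.node (.node (.node (.node (.node (.node (.node (.node (.leaf 62) (.leaf 22360640)) (.leaf 5438)) (.node (.node (.leaf 3430) (.leaf 5432)) (.leaf 39))) (.node (.node (.node (.leaf 143681480) (.leaf 4578)) (.leaf 62064503)) (.node (.node (.leaf 4589) (.leaf 26865264)) (.leaf 1881)))) (.node (.node (.node (.node (.leaf 1017) (.leaf 4032)) (.leaf 112245666)) (.node (.node (.leaf 4047) (.leaf 5748)) (.leaf 997))) (.node (.node (.node (.leaf 2711) (.leaf 89616553)) (.leaf 145182750)) (.node (.node (.leaf 138533333) (.leaf 6116)) (.leaf 2689))))) (.node (.node (.node (.node (.node (.leaf 556) (.leaf 97766529)) (.leaf 5602)) (.node (.node (.leaf 47004577) (.leaf 5596)) (.leaf 534))) (.node (.node (.node (.leaf 2316) (.leaf 4812)) (.leaf 1794432)) (.node (.node (.leaf 7231822) (.leaf 43364391)) (.leaf 2296)))) (.node (.node (.node (.node (.leaf 1471) (.leaf 4331)) (.leaf 140364081)) (.node (.node (.leaf 4344) (.leaf 5887)) (.leaf 1449))) (.node (.node (.node (.leaf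 3087) (.leaf 5242)) (.leaf 74684550)) (.node (.node (.leaf 5253) (.leaf 42125191)) (.leaf 3071)))))) (.node (.node (.node (.node (.node (.node (.leaf 309) (.leaf 92988738)) (.leaf 5521)) (.node (.node (.leaf 128778572) (.leaf 5513)) (.leaf 286))) (.node (.node (.node (.leaf 2105) (.leaf 13599139)) (.leaf 6018)) (.node (.node (.leaf 30735295) (.leaf 42320827)) (.leaf 2087)))) (.node (.node (.node (.node (.leaf 1239) (.leaf 4185)) (.leaf 5830)) (.node (.node (.leaf 4197) (.leaf 123024411)) (.leaf 1218))) (.node (.node (.node (.leaf 2906) (.leaf 12200147)) (.leaf 120289718)) (.node (.node (.leaf 62474087) (.leaf 16047007)) (.leaf 2890))))) (.node (.node (.node (.node (.node (.leaf 785) (.leaf 39702833)) (.leaf 124084327)) (.node (.node (.leaf 3889) (.leaf 61973827)) (.leaf 767))) (.node (.node (.node (.leaf 2509) (.leaf 123028873)) (.leaf 78725508)) (.node (.node (.leaf 96326847) (.leaf 8156039)) (.leaf 2491)))) (.node (.node (.node (.node (.leaf 1681) (.leaf 4458)) (.leaf 67817988)) (.node (.node (.leaf 99633102) (.leaf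 51505676)) (.leaf 55202504))) (.node (.node (.node (.leaf 3268) (.leaf 32214961)) (.leaf 82668875)) (.node (.node (.leaf 117122622) (.leaf 8532190)) (.leaf 3253))))))) (.node (.node (.node (.node (.node (.node (.node (.leaf 185) (.leaf 131795109)) (.leaf 148561010)) (.node (.node (.leaf 3515) (.leaf 146172665)) (.leaf 162))) (.node (.node (.node (.leaf 1995) (.leaf 100155080)) (.leaf 5991)) (.node (.node (.leaf 72383472) (.leaf 177735)) (.leaf 1978)))) (.node (.node (.node (.node (.leaf 1131) (.leaf 4111)) (.leaf 5789)) (.node (.node (.leaf 4121) (.leaf 85897460)) (.leaf 1110))) (.node (.node (.node (.leaf 2808) (.leaf 5089)) (.leaf 73685094)) (.node (.node (.leaf 58239413) (.leaf 51692822)) (.leaf 2790))))) (.node (.node (.node (.node (.node (.leaf 673) (.leaf 50880939)) (.leaf 5640)) (.node (.node (.leaf 44885485) (.leaf 26395079)) (.leaf 651))) (.node (.node (.node (.leaf 2414) (.leaf 19982876)) (.leaf 89532730)) (.node (.node (.leaf 4874) (.leaf 12075969)) (.leaf 2397)))) (.node (.node (.node (.node (.leaf 1580)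 (.leaf 44530273)) (.leaf 132634330)) (.node (.node (.leaf 52156909) (.leaf 3803149)) (.leaf 1558))) (.node (.node (.node (.leaf 3182) (.leaf 5293)) (.leaf 133922853)) (.node (.node (.leaf 5301) (.leaf 132902715)) (.leaf 3165)))))) (.node (.node (.node (.node (.node (.node (.leaf 433) (.leaf 3655)) (.leaf 35050479)) (.node (.node (.leaf 3671) (.leaf 5551)) (.leaf 411))) (.node (.node (.node (.leaf 2211) (.leaf 4751)) (.leaf 93379747)) (.node (.node (.leaf 84011673) (.leaf 13432227)) (.leaf 2191)))) (.node (.node (.node (.node (.leaf 1355) (.leaf 4261)) (.leaf 58991553)) (.node (.node (.leaf 4274) (.leaf 138201786)) (.leaf 1335))) (.node (.node (.node (.leaf 3000) (.leaf 5192)) (.leaf 108377855)) (.node (.node (.leaf 102082321) (.leaf 101032711)) (.leaf 2984))))) (.node (.node (.node (.node (.node (.leaf 902) (.leaf 3951)) (.leaf 5715)) (.node (.node (.leaf 5185587) (.leaf 104166796)) (.leaf 881))) (.node (.node (.node (.leaf 2608) (.leaf 4973)) (.leaf 96802924)) (.node (.node (.leaf 57177325) (.leaf 97994710)) (.leaf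 2589)))) (.node (.node (.node (.node (.leaf 1789) (.leaf 4512)) (.leaf 61236626)) (.node (.node (.leaf 4528) (.leaf 38046652)) (.leaf 1769))) (.node (.node (.node (.leaf 3348) (.leaf 80230025)) (.leaf 47717629)) (.node (.node (.leaf 5392) (.leaf 49379714)) (.leaf 4109190)))))))) (.node (.node (.node (.node (.node (.node (.node (.node (.leaf 123) (.leaf 3457)) (.leaf 5461)) (.node (.node (.leaf 3473) (.leaf 113353212)) (.leaf 102))) (.node (.node (.node (.leaf 149972621) (.leaf 4605)) (.leaf 5982)) (.node (.node (.leaf 142155887) (.leaf 48373550)) (.leaf 1930)))) (.node (.node (.node (.node (.leaf 1075) (.leaf 56889377)) (.leaf 5770)) (.node (.node (.leaf 36691426) (.leaf 39692537)) (.leaf 1056))) (.node (.node (.node (.leaf 124) (.leaf 5055)) (.leaf 5659)) (.node (.node (.leaf 5063) (.leaf 2220671)) (.leaf 2743))))) (.node (.node (.node (.node (.node (.leaf 615) (.leaf 36919392)) (.leaf 5619)) (.node (.node (.leaf 3781) (.leaf 5611)) (.leaf 593))) (.node (.node (.node (.leaf 2364) (.leaf 135304485)) (.leaf 65947115))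 (.node (.node (.leaf 225806) (.leaf 43159552)) (.leaf 7628333)))) (.node (.node (.node (.node (.leaf 1524) (.leaf 141727767)) (.leaf 50435415)) (.node (.node (.leaf 4378) (.leaf 5898)) (.leaf 1505))) (.node (.node (.node (.leaf 3137) (.leaf 5269)) (.leaf 26544661)) (.node (.node (.leaf 5277) (.leaf 150292045)) (.leaf 3119)))))) (.node (.node (.node (.node (.node (.node (.leaf 371) (.leaf 37668630)) (.leaf 473)) (.node (.node (.leaf 3627) (.leaf 130288734)) (.leaf 348))) (.node (.node (.node (.leaf 91) (.leaf 72303544)) (.leaf 79227276)) (.node (.node (.leaf 20865616) (.leaf 138298796)) (.leaf 2140)))) (.node (.node (.node (.node (.leaf 1297) (.leaf 4225)) (.leaf 65671896)) (.node (.node (.leaf 4236) (.leaf 5841)) (.leaf 1275))) (.node (.node (.node (.leaf 2956) (.leaf 53382488)) (.leaf 14349367)) (.node (.node (.leaf 134156113) (.leaf 72160376)) (.leaf 2937))))) (.node (.node (.node (.node (.node (.leaf 844) (.leaf 99353231)) (.leaf 30972361)) (.node (.node (.leaf 142912506) (.leaf 77853338)) (.leaf 823))) (.node (.node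 (.node (.leaf 48695679) (.leaf 4948)) (.leaf 903)) (.node (.node (.leaf 4955) (.leaf 5948510)) (.leaf 2540)))) (.node (.node (.node (.node (.leaf 1732) (.leaf 4485)) (.leaf 70294611)) (.node (.node (.leaf 136492190) (.leaf 95385092)) (.leaf 1714))) (.node (.node (.node (.leaf 130281879) (.leaf 131957133)) (.leaf 111520073)) (.node (.node (.leaf 120144005) (.leaf 138971205)) (.leaf 3294))))))) (.node (.node (.node (.node (.node (.node (.node (.leaf 246) (.leaf 146559177)) (.leaf 69668852)) (.node (.node (.leaf 3550) (.leaf 72953471)) (.leaf 224))) (.node (.node (.node (.leaf 2051) (.leaf 149102668)) (.leaf 7872564)) (.node (.node (.leaf 23532221) (.leaf 52706396)) (.leaf 2033)))) (.node (.node (.node (.node (.leaf 1186) (.leaf 4145)) (.leaf 26647839)) (.node (.node (.leaf 4161) (.leaf 5803)) (.leaf 1167))) (.node (.node (.node (.leaf 2858) (.leaf 74241795)) (.leaf 39539648)) (.node (.node (.leaf 65938732) (.leaf 74)) (.leaf 2841))))) (.node (.node (.node (.node (.node (.leaf 729) (.leaf 3850)) (.leaf 122253622)) (.node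 (.node (.leaf 81741832) (.leaf 5653)) (.leaf 706))) (.node (.node (.node (.leaf 2458) (.leaf 54342231)) (.leaf 29517462)) (.node (.node (.leaf 4907) (.leaf 6074)) (.leaf 2442)))) (.node (.node (.node (.node (.leaf 1631) (.leaf 4425)) (.leaf 132267200)) (.node (.node (.leaf 143886086) (.leaf 9222822)) (.leaf 1612))) (.node (.node (.node (.leaf 3225) (.leaf 5316)) (.leaf 28306865)) (.node (.node (.leaf 74001799) (.leaf 134526956)) (.leaf 150453910)))))) (.node (.node (.node (.node (.node (.node (.leaf 494) (.leaf 70218255)) (.leaf 115324632)) (.node (.node (.leaf 3707) (.leaf 121848196)) (.leaf 471))) (.node (.node (.node (.leaf 43974339) (.leaf 4783)) (.leaf 62896973)) (.node (.node (.leaf 4794) (.leaf 44710890)) (.leaf 86899089)))) (.node (.node (.node (.node (.leaf 1411) (.leaf 4300)) (.leaf 133187745)) (.node (.node (.leaf 25013327) (.leaf 29973886)) (.leaf 1392))) (.node (.node (.node (.leaf 138074663) (.leaf 5218)) (.leaf 95944453)) (.node (.node (.leaf 5227) (.leaf 6145)) (.leaf 89424770))))) (.node (.node (.node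 (.node (.node (.leaf 961) (.leaf 102049435)) (.leaf 5737)) (.node (.node (.leaf 4011) (.leaf 36)) (.leaf 91305915))) (.node (.node (.node (.leaf 119661622) (.leaf 82241147)) (.leaf 98322606)) (.node (.node (.leaf 70557259) (.leaf 8119348)) (.leaf 2646)))) (.node (.node (.node (.node (.leaf 1844) (.leaf 79476191)) (.leaf 95146081)) (.node (.node (.leaf 75886469) (.leaf 59742355)) (.leaf 1823))) (.node (.node (.node (.leaf 3390) (.leaf 143867202)) (.leaf 53861841)) (.node (.node (.leaf 128602614) (.leaf 38234480)) (.leaf 95654063))))))))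

/-- Factorisations. -/
def topFac : Tr := .node (.node (.node (.node (.node (topFac_p00000) (topFac_p00001)) (.node (topFac_p00010) (topFac_p00011))) (.node (.node (topFac_p00100) (topFac_p00101)) (.node (topFac_p00110) (topFac_p00111)))) (.node (.node (.node (topFac_p01000) (topFac_p01001)) (.node (topFac_p01010) (topFac_p01011))) (.node (.node (topFac_p01100) (topFac_p01101)) (.node (topFac_p01110) (topFac_p01111))))) (.node (.node (.node (.node (topFac_p10000) (topFac_p10001)) (.node (topFac_p10010) (topFac_p10011))) (.node (.node (topFac_p10100) (topFac_p10101)) (.node (topFac_p10110) (topFac_p10111)))) (.node (.node (.node (topFac_p11000) (topFac_p11001)) (.node (topFac_p11010) (topFac_p11011))) (.node (.node (topFac_p11100) (topFac_p11101)) (.node (topFac_p11110) (topFac_p11111)))))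

end CfsgLib.Sporadic.J3
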