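import Cfsg.Agent.Lib.Sporadic.J3DataSub
import Cfsg.Agent.Lib.Sporadic.J3InvolutionData
import Cfsg.Agent.Lib.Sporadic.MatF2

/-! Kernel evaluation of the certificates for the involutions of the triple cover of J3. -/

set_option autoImplicit false

namespace CfsgLib.Sporadic.J3

theorem inv_basic : (invCode == s2T.get invIdx && Nat.blt invIdx 128 &&
    mulF2 18 invCode invCode == one && !(invCode == one) && canonF2 18 invCode &&
    canonF2 18 one) = true := by
  decide +kernel

theorem inv_conj : allFrom 0 128 (fun i =>
    !(mulF2 18 (s2T.get i) (s2T.get i) == one) || s2T.get i == one ||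
    invConj.any (fun p => p.1 == i &&
      mulF2 18 (genWord (mulF2 18) one topGens p.2) invCode ==
        mulF2 18 (s2T.get i) (genWord (mulF2 18) one topGens p.2))) = true := by
  decide +kernel

theorem qWords_ok : qWords.map (genWord (mulF2 18) one topGens) = qGens := by
  decide +kernel

theorem aWords_ok : aWords.map (genWord (mulF2 18) one topGens) = aGens := by
  decide +kernel

theorem q_par : allFrom 0 32 (parentOK (mulF2 18) one qGens 32 qT qPar) = true := by
  decide +kernel

theorem q_fac : allFrom 0 128 (stepOK (mulF2 18) one qGens 32 qT qFac []) = true := by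
  decide +kernel

theorem q_dist : allFrom 0 32 (distinctOK (canonF2 18) 32 qT qSrt qPos qInv) = true := by
  decide +kernel

theorem q_basic : (qT.get 0 == one && qGens.all (fun q => mulF2 18 invCode q == mulF2 18 q invCode) &&
    aGens.all (fun a => mulF2 18 invCode a == mulF2 18 a invCode) &&
    allFrom 0 8 (fun v => Nat.blt (qConj.getD v 32) 32 &&
      mulF2 18 (aGens.getD (v / 4) one) (qGens.getD (v % 4) one) ==
        mulF2 18 (qT.get (qConj.getD v 32)) (aGens.getD (v / 4) one))) = true := by
  decide +kernel

theorem a_rels : (mulF2 18 (aGens.getD 0 one) (mulF2 18 (aGens.getD 0 one) (aGens.getD 0 one)) == one &&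
    mulF2 18 (aGens.getD 1 one) (mulF2 18 (aGens.getD 1 one) (mulF2 18 (aGens.getD 1 one)
      (mulF2 18 (aGens.getD 1 one) (aGens.getD 1 one)))) == one &&
    !(aGens.getD 1 one == one) && canonF2 18 (aGens.getD 1 one) &&
    mulF2 18 (mulF2 18 (aGens.getD 0 one) (aGens.getD 1 one))
      (mulF2 18 (aGens.getD 0 one) (aGens.getD 1 one)) == one) = true := by
  decide +kernel

theorem c_par : allFrom 1 8721 (fun i => Nat.blt (cPar.get i % 8722) i &&
    mulF2 18 (topGens.getD (cPar.get i / 8722) one) (cT.get (cPar.get i % 8722)) ==
      mulF2 18 (cT.get i) (topGens.getD (cPar.get i / 8722) one)) = true := by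
  decide +kernel

theorem c_zero : (cT.get 0 == invCode) = true := by decide +kernel

theorem c_dist : allFrom 0 8722 (distinctOK (canonF2 18) 8722 cT cSrt cPos cInv) = true := by
  decide +kernel

end CfsgLib.Sporadic.J3
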