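import Cfsg.Agent.Lib.Sporadic.J3
import Cfsg.Agent.Lib.Sporadic.J3InvolutionCert
import Cfsg.Agent.Lib.PSL2.Icosahedral
import Cfsg.Agent.Lib.Order7920.Edge
import Cfsg.Agent.Lib.PGroup.Frattini
import Cfsg.Agent.Lib.LargeExtra.Transport

/-! Involutions of J3: one class, with centraliser `2^(1+4) : A5`. -/

set_option autoImplicit false

noncomputable section

namespace CfsgLib.Sporadic.J3

open Cfsg.Spor CfsgLib.PSL2 commutatorElement
open scoped Pointwise

theorem index_eq_of_distinct' {canon : ℕ → Bool} {n : ℕ} {T srt pos inv : Tr}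
    (h : allFrom 0 n (distinctOK canon n T srt pos inv) = true) {i j : ℕ} (hi : i < n) (hj : j < n)
    (he : T.get i = T.get j) : i = j := by
  have hb : ∀ i < n, pos.get i < n ∧ srt.get (pos.get i) = T.get i ∧ inv.get (pos.get i) = i ∧
      (i + 1 < n → srt.get i < srt.get (i + 1)) := by
    intro i hi
    have hb := of_allFrom_zero h hi
    simp only [distinctOK, Bool.and_eq_true, Bool.or_eq_true, beq_iff_eq, Nat.blt_eq,
      Nat.ble_eq] at hb
    exact ⟨hb.1.1.1.2, hb.1.1.2, hb.1.2, fun hlt => hb.2.resolve_left (by omega)⟩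
  have hmono : ∀ i j, i < j → j < n → srt.get i < srt.get j := by
    intro i j hij hjn
    induction j with
    | zero => omega
    | succ j ih =>
      rcases Nat.lt_or_ge i j with hlt | hge
      · exact (ih hlt (by omega)).trans ((hb j (by omega)).2.2.2 hjn)
      · obtain rfl : i = j := by omega
        exact (hb i (by omega)).2.2.2 hjn
  obtain ⟨pi, si, vi, -⟩ := hb i hi
  obtain ⟨pj, sj, vj, -⟩ := hb j hj
  have e' : srt.get (pos.get i) = srt.get (pos.get j) := by rw [si, sj, he]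
  rcases lt_trichotomy (pos.get i) (pos.get j) with hl | hl | hl
  · exact absurd e' (hmono _ _ hl pj).ne
  · rw [← vi, ← vj, hl]
  · exact absurd e' (hmono _ _ hl pi).ne'

/-- Products are canonical codes. -/
theorem mulF2_lt (a b : ℕ) : mulF2 18 a b < 2 ^ (18 * 18) := by
  refine Nat.lt_pow_two_of_testBit _ fun m hm => ?_
  have key : ∀ k ≤ 18, (xorUpto (fun k => ((a >>> k) &&& colMask 18 18) *
      ((b >>> (18 * k)) % 2 ^ 18)) k).testBit m = false := by
    intro k
    induction k with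
    | zero => intro; simp [xorUpto]
    | succ k ih =>
      intro hk
      change (xorUpto (fun k => ((a >>> k) &&& colMask 18 18) * ((b >>> (18 * k)) % 2 ^ 18)) k ^^^
        ((a >>> k) &&& colMask 18 18) * ((b >>> (18 * k)) % 2 ^ 18)).testBit m = false
      rw [Nat.testBit_xor, ih (by omega)]
      rw [show m = (m / 18) * 18 + m % 18 by omega,
        testBit_spread_mul (Nat.mod_lt _ (Nat.two_pow_pos 18)) _ _ _ ?_ (Nat.mod_lt _ (by norm_num))]
      · have hf : (colMask 18 18).testBit (m / 18 * 18) = false := by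
          rw [Bool.eq_false_iff]
          intro hc
          obtain ⟨q, hq, e⟩ := testBit_colMask.1 hc
          omega
        rw [Nat.testBit_and, hf, Bool.and_false]
        rfl
      · intro i hi
        rw [Nat.testBit_and, Bool.and_eq_true] at hi
        obtain ⟨q, -, rfl⟩ := testBit_colMask.1 hi.2
        exact dvd_mul_left 18 q
  exact key 18 le_rfl

variable {F : Type*} [Field F] {ω : F} (h : FieldFour F ω)
include h

/-- The element `g` of the cover has code `c`. -/
def FieldFour.Has (g : threeJ3 F ω) (c : ℕ) : Prop := h.emb g.1 = decF2 18 c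

theorem FieldFour.Has.mul {a b : threeJ3 F ω} {c d : ℕ} (ha : h.Has a c) (hb : h.Has b d) :
    h.Has (a * b) (mulF2 18 c d) := by
  show h.emb (a * b).1 = _
  rw [mulF2_dec, Subgroup.coe_mul, map_mul, ha, hb]

theorem FieldFour.has_one : h.Has 1 one := by
  show h.emb (1 : threeJ3 F ω).1 = _
  rw [dec_one, OneMemClass.coe_one, map_one]

theorem FieldFour.Has.eq {a b : threeJ3 F ω} {c d : ℕ} (ha : h.Has a c) (hb : h.Has b d)
    (e : c = d) : a = b :=
  Subtype.ext (h.emb_injective ((ha.trans (congrArg _ e)).trans hb.symm))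

theorem FieldFour.exists_has_word (w : List ℕ) :
    ∃ g : threeJ3 F ω, h.Has g (genWord (mulF2 18) one topGens w) :=
  let ⟨g, hg, e⟩ := codeMem_genWord (emb := h.emb) (dec := decF2 18) (mul := mulF2 18) (one := one)
    mulF2_dec dec_one h.topGens_mem w
  ⟨⟨g, hg⟩, e⟩

theorem FieldFour.exists_has_table {i : ℕ} (hi : i < 128) :
    ∃ g : threeJ3 F ω, h.Has g (s2T.get i) := by
  have := h.finiteGL
  obtain ⟨g, hg, e⟩ := table_mem (emb := h.emb) (dec := decF2 18) (mul := mulF2 18) (one := one)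
    mulF2_dec dec_one (codeMem_genSet (h.codeMem_of_vals s2Vals_ok)) s2_par i hi
  exact ⟨⟨g, h.threeJ3_eq ▸ genSet_closure_le h.emb_injective (h.codeMem_of_vals s2Vals_ok) hg⟩, e⟩

theorem FieldFour.exists_two_sylow : ∃ S : Subgroup (threeJ3 F ω), Nat.card S = 128 ∧
    ∀ x ∈ S, ∃ i < 128, h.Has x (s2T.get i) := by
  have := h.finiteGL
  set S₀ := Subgroup.closure (genSet h.emb (decF2 18) s2Gens)
  have hle : S₀ ≤ threeJ3 F ω :=
    h.threeJ3_eq ▸ genSet_closure_le h.emb_injective (h.codeMem_of_vals s2Vals_ok)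
  refine ⟨S₀.subgroupOf (threeJ3 F ω), ?_, fun x hx => ?_⟩
  · rw [Nat.card_congr (Subgroup.subgroupOfEquivOfLe hle).toEquiv]
    exact (card_genSet_eq (emb := h.emb) (dec := decF2 18) (mul := mulF2 18) (one := one)
      mulF2_dec dec_one h.emb_injective dec_inj (h.codeMem_of_vals s2Vals_ok) (by norm_num)
      (by decide +kernel) s2_par s2_fac s2_dist).1
  · have hsub := exists_factor (emb := h.emb) (dec := decF2 18) (mul := mulF2 18) (one := one)
      mulF2_dec dec_one (S := genSet h.emb (decF2 18) s2Gens) (K := (⊥ : Subgroup (GL F9 F)))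
      (T := s2T) (fac := s2Fac) (lower := []) (by norm_num : 0 < 128) (by decide +kernel)
      (fun s hs => hs) (by simp) s2_fac
    obtain ⟨a, ⟨i, hi, ha⟩, b, hb, hab⟩ := hsub (show x.1 ∈ S₀ from hx)
    rw [SetLike.mem_coe, Subgroup.mem_bot] at hb
    refine ⟨i, hi, ?_⟩
    show h.emb x.1 = _
    rw [← hab, ← ha]
    simp [hb]

/-- The chosen involution and its conjugators. -/
theorem FieldFour.exists_inv : ∃ T : threeJ3 F ω, h.Has T invCode ∧ T * T = 1 ∧ T ≠ 1 ∧
    ∀ x : threeJ3 F ω, x * x = 1 → x ≠ 1 → IsConj T x := by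
  have := h.finite_threeJ3
  have hb := inv_basic
  simp only [Bool.and_eq_true, beq_iff_eq, Bool.not_eq_true', beq_eq_false_iff_ne, Nat.blt_eq] at hb
  obtain ⟨⟨⟨⟨⟨he, hlt⟩, htt⟩, hne⟩, hc⟩, hco⟩ := hb
  obtain ⟨T, hT⟩ := h.exists_has_table hlt
  rw [← he] at hT
  refine ⟨T, hT, (hT.mul h hT).eq h (h.has_one) htt, fun e => hne (dec_inj _ _ hc hco ?_), ?_⟩
  · subst e
    exact hT.symm.trans h.has_one
  intro x hx hx1
  obtain ⟨S, hS, hSi⟩ := h.exists_two_sylow
  have := Fact.mk Nat.prime_two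
  have hfac : (Nat.card (threeJ3 F ω)).factorization 2 = 7 := by
    rw [h.card_threeJ3, show (3 * 50232960 : ℕ) = 2 ^ 7 * 1177335 by norm_num,
      Nat.factorization_mul (by norm_num) (by norm_num), Finsupp.add_apply,
      Nat.Prime.factorization_pow Nat.prime_two, Finsupp.single_eq_same,
      Nat.factorization_eq_zero_of_not_dvd (by norm_num)]
  let P : Sylow 2 (threeJ3 F ω) := Sylow.ofCard S (by rw [hS, hfac]; norm_num)
  have hord : orderOf x = 2 := orderOf_eq_prime (by rw [pow_two]; exact hx) hx1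
  obtain ⟨Q, hQ⟩ := (IsPGroup.of_card (n := 1)
    (show Nat.card (Subgroup.zpowers x) = 2 ^ 1 by rw [Nat.card_zpowers, hord, pow_one])).exists_le_sylow
  obtain ⟨g, hg⟩ := MulAction.exists_smul_eq (threeJ3 F ω) Q P
  have hgx : g * x * g⁻¹ ∈ S := by
    have hxQ : x ∈ (Q : Subgroup (threeJ3 F ω)) := hQ (Subgroup.mem_zpowers x)
    show g * x * g⁻¹ ∈ (P : Subgroup (threeJ3 F ω))
    rw [← hg, Sylow.coe_subgroup_smul, Subgroup.mem_pointwise_smul_iff_inv_smul_mem]
    simpa [MulAut.smul_def, mul_assoc] using hxQ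
  obtain ⟨i, hi, hy⟩ := hSi _ hgx
  have hchk := of_allFrom_zero inv_conj hi
  simp only [Bool.or_eq_true, Bool.not_eq_true', beq_eq_false_iff_ne, beq_iff_eq,
    List.any_eq_true, Bool.and_eq_true] at hchk
  have hy2 : (g * x * g⁻¹) * (g * x * g⁻¹) = 1 := by
    rw [show g * x * g⁻¹ * (g * x * g⁻¹) = g * (x * x) * g⁻¹ by group, hx]
    group
  rcases hchk with (h1 | h1) | ⟨p, -, hp1, hp2⟩
  · refine absurd (dec_inj _ _ ?_ hco ?_) h1
    · simp only [canonF2, Nat.blt_eq]
      exact mulF2_lt _ _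
    · exact ((hy.mul h hy).symm.trans (congrArg (fun z : threeJ3 F ω => h.emb z.1) hy2)).trans h.has_one
  · exact absurd (conj_eq_one_iff.1 (hy.eq h h.has_one h1)) hx1
  · obtain ⟨u, hu⟩ := h.exists_has_word p.2
    have e : u * T = (g * x * g⁻¹) * u := (hu.mul h hT).eq h (hy.mul h hu) hp2
    refine isConj_iff.2 ⟨g⁻¹ * u, ?_⟩
    rw [show g⁻¹ * u * T * (g⁻¹ * u)⁻¹ = g⁻¹ * (u * T) * u⁻¹ * g by group, e]
    group

/-- A lift of an involution of the quotient. -/
theorem FieldFour.exists_lift {x : J3 F ω} (hx : orderOf x = 2) :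
    ∃ u : threeJ3 F ω, u * u = 1 ∧ u ≠ 1 ∧ QuotientGroup.mk u = x := by
  obtain ⟨u, rfl⟩ := QuotientGroup.mk_surjective x
  have hz : (u * u) ∈ Subgroup.center (threeJ3 F ω) := by
    have hu2 := pow_orderOf_eq_one (QuotientGroup.mk u : J3 F ω)
    rw [hx] at hu2
    rw [← QuotientGroup.eq_one_iff, QuotientGroup.mk_mul, ← pow_two]
    exact hu2
  have := h.finite_threeJ3
  have h3 : (u * u) ^ 3 = 1 := by
    have := pow_card_eq_one' (x := (⟨u * u, hz⟩ : Subgroup.center (threeJ3 F ω)))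
    rw [h.card_center] at this
    exact congrArg Subtype.val this
  refine ⟨u ^ 3, ?_, ?_, ?_⟩
  · rw [← pow_add, show 3 + 3 = 2 * 3 from rfl, pow_mul, pow_two, h3]
  · intro e
    have h1 : ((QuotientGroup.mk u : J3 F ω)) ^ 3 = 1 := by rw [← QuotientGroup.mk_pow, e]; rfl
    have := orderOf_dvd_of_pow_eq_one h1
    rw [hx] at this
    norm_num at this
  · have hu2 := pow_orderOf_eq_one (QuotientGroup.mk u : J3 F ω)
    rw [hx] at hu2
    rw [QuotientGroup.mk_pow, pow_succ, hu2, one_mul]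

theorem FieldFour.eq_of_mk_eq {u v : threeJ3 F ω} {n : ℕ} (hn : n.Coprime 3) (hu : u ^ n = 1)
    (hv : v ^ n = 1) (e : (QuotientGroup.mk u : J3 F ω) = QuotientGroup.mk v) : u = v := by
  have := h.finite_threeJ3
  have hz : u⁻¹ * v ∈ Subgroup.center (threeJ3 F ω) := QuotientGroup.eq.1 e
  have h1 : (u⁻¹ * v) ^ n = 1 := by
    have hc : Commute u (u⁻¹ * v) := Subgroup.mem_center_iff.1 hz u
    have hv' : v = u * (u⁻¹ * v) := (mul_inv_cancel_left u v).symm
    rw [hv', hc.mul_pow, hu, one_mul] at hv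
    exact hv
  have h3 : (u⁻¹ * v) ^ 3 = 1 := by
    have := pow_card_eq_one' (x := (⟨u⁻¹ * v, hz⟩ : Subgroup.center (threeJ3 F ω)))
    rw [h.card_center] at this
    exact congrArg Subtype.val this
  have h13 := pow_gcd_eq_one.2 ⟨h1, h3⟩
  rw [show Nat.gcd n 3 = 1 from hn, pow_one] at h13
  exact inv_mul_eq_one.1 h13

theorem FieldFour.isConj_involutions (x y : J3 F ω) (hx : orderOf x = 2) (hy : orderOf y = 2) :
    IsConj x y := by
  obtain ⟨T, -, -, -, hT⟩ := h.exists_inv
  obtain ⟨u, hu, hu1, rfl⟩ := h.exists_lift hx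
  obtain ⟨v, hv, hv1, rfl⟩ := h.exists_lift hy
  exact (QuotientGroup.mk' _).map_isConj ((hT u hu hu1).symm.trans (hT v hv hv1))

/-- The normal subgroup of order 32 of an involution centraliser, in the cover. -/
theorem FieldFour.exists_parts : ∃ (T : threeJ3 F ω) (Q : Subgroup (threeJ3 F ω))
    (a b : threeJ3 F ω), h.Has T invCode ∧ T * T = 1 ∧ T ≠ 1 ∧ Nat.card Q = 32 ∧
    Cfsg.IsExtraspecial 2 Q ∧
    (∀ E : Subgroup Q, Cfsg.IsElementaryAbelian 2 E → Nat.card E ≤ 4) ∧
    (∀ q ∈ Q, q * T = T * q) ∧ a * T = T * a ∧ b * T = T * b ∧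
    a ^ 3 = 1 ∧ b ^ 5 = 1 ∧ (a * b) ^ 2 = 1 ∧ b ≠ 1 ∧
    (∀ q ∈ Q, a * q * a⁻¹ ∈ Q) ∧ (∀ q ∈ Q, b * q * b⁻¹ ∈ Q) := by
  classical
  have := h.finiteGL
  have := h.finite_threeJ3
  obtain ⟨T, hT, hTT, hT1, -⟩ := h.exists_inv
  have hqb := q_basic
  simp only [Bool.and_eq_true, beq_iff_eq, List.all_eq_true] at hqb
  obtain ⟨⟨⟨hq0, hqT⟩, haT⟩, hqa⟩ := hqb
  have hqmem : ∀ c ∈ qGens, CodeMem h.emb (decF2 18) (threeJ3 F ω) c := by
    rw [← qWords_ok]
    intro c hc
    obtain ⟨w, -, rfl⟩ := List.mem_map.1 hc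
    obtain ⟨g, e⟩ := h.exists_has_word w
    exact ⟨g.1, g.2, e⟩
  have hamem : ∀ c ∈ aGens, ∃ g : threeJ3 F ω, h.Has g c := by
    rw [← aWords_ok]
    intro c hc
    obtain ⟨w, -, rfl⟩ := List.mem_map.1 hc
    exact h.exists_has_word w
  obtain ⟨a, ha⟩ := hamem (aGens.getD 0 one) (by decide +kernel)
  obtain ⟨b, hb⟩ := hamem (aGens.getD 1 one) (by decide +kernel)
  set Q₀ := Subgroup.closure (genSet h.emb (decF2 18) qGens) with hQ₀
  have hle : Q₀ ≤ threeJ3 F ω := genSet_closure_le h.emb_injective hqmem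
  obtain ⟨hcard, htab⟩ := card_genSet_eq (emb := h.emb) (dec := decF2 18) (mul := mulF2 18) (one := one)
    mulF2_dec dec_one h.emb_injective dec_inj hqmem (n := 32) (by norm_num) hq0 q_par q_fac q_dist
  set Q := Q₀.subgroupOf (threeJ3 F ω) with hQ
  have hQ32 : Nat.card Q = 32 := by
    rw [hQ, Nat.card_congr (Subgroup.subgroupOfEquivOfLe hle).toEquiv, hcard]
  have hel : ∀ i : Fin 32, ∃ q : Q, h.Has q.1 (qT.get i) := fun i => by
    obtain ⟨g, hg, e⟩ := htab i i.2
    exact ⟨⟨⟨g, hle hg⟩, hg⟩, e⟩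
  choose el hel using hel
  have hcan : ∀ i < 32, canonF2 18 (qT.get i) = true := fun i hi => by
    have := of_allFrom_zero q_dist hi
    simp only [distinctOK, Bool.and_eq_true] at this
    exact this.1.1.1.1
  have hsurj : Function.Surjective el := by
    intro q
    have hsub := exists_factor (emb := h.emb) (dec := decF2 18) (mul := mulF2 18) (one := one)
      mulF2_dec dec_one (S := genSet h.emb (decF2 18) qGens) (K := (⊥ : Subgroup (GL F9 F)))
      (T := qT) (fac := qFac) (lower := []) (by norm_num : 0 < 32) hq0 (fun s hs => hs) (by simp) q_fac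
    obtain ⟨u, ⟨i, hi, hu⟩, v, hv, huv⟩ := hsub (show q.1.1 ∈ Q₀ from q.2)
    rw [SetLike.mem_coe, Subgroup.mem_bot] at hv
    refine ⟨⟨i, hi⟩, Subtype.ext ((hel ⟨i, hi⟩).eq h (b := q.1) (d := qT.get i) ?_ rfl)⟩
    show h.emb q.1.1 = _
    rw [← huv, ← hu]
    simp [hv]
  have hbij : Function.Bijective el :=
    (Nat.bijective_iff_surjective_and_card el).2 ⟨hsurj, by rw [hQ32, Nat.card_fin]⟩
  have hprod : ∀ i j k l : Fin 32, (el i * el j = el k * el l ↔
      mulF2 18 (qT.get i) (qT.get j) = mulF2 18 (qT.get k) (qT.get l)) := by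
    intro i j k l
    refine ⟨fun e => dec_inj _ _ ?_ ?_ ?_, fun e => Subtype.ext (((hel i).mul h (hel j)).eq h ((hel k).mul h (hel l)) e)⟩
    · simp only [canonF2, Nat.blt_eq]; exact mulF2_lt _ _
    · simp only [canonF2, Nat.blt_eq]; exact mulF2_lt _ _
    · rw [← (hel i).mul h (hel j), ← (hel k).mul h (hel l), ← Subgroup.coe_mul, ← Subgroup.coe_mul, e]
  have hinj : ∀ i j : Fin 32, qT.get i = qT.get j → i = j := fun i j e =>
    hbij.1 (Subtype.ext ((hel i).eq h (hel j) e))
  obtain ⟨o, t, ho, ht, hot⟩ : ∃ o t : Fin 32, qT.get o = one ∧ qT.get t = invCode ∧ o ≠ t := by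
    decide +kernel
  have hcomm : ∀ i j : Fin 32, mulF2 18 (qT.get i) (qT.get j) = mulF2 18 (qT.get j) (qT.get i) ∨
      mulF2 18 (qT.get i) (qT.get j) = mulF2 18 (mulF2 18 (qT.get j) (qT.get i)) invCode := by
    decide +kernel
  have hsq : ∀ i : Fin 32, mulF2 18 (qT.get i) (qT.get i) = one ∨
      mulF2 18 (qT.get i) (qT.get i) = invCode := by decide +kernel
  have hcent0 : ∀ i : Fin 32, (∀ j : Fin 32, mulF2 18 (qT.get i) (qT.get j) =
      mulF2 18 (qT.get j) (qT.get i)) → qT.get i = one ∨ qT.get i = invCode := by decide +kernel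
  obtain ⟨i₀, j₀, hne⟩ : ∃ i j : Fin 32,
      mulF2 18 (qT.get i) (qT.get j) ≠ mulF2 18 (qT.get j) (qT.get i) := by decide +kernel
  have hrank : ∀ i j k : Fin 32, qT.get i ≠ one → qT.get j ≠ one → qT.get k ≠ one →
      i ≠ j → k ≠ i → k ≠ j →
      mulF2 18 (qT.get i) (qT.get i) = one → mulF2 18 (qT.get j) (qT.get j) = one →
      mulF2 18 (qT.get k) (qT.get k) = one →
      mulF2 18 (qT.get i) (qT.get j) = mulF2 18 (qT.get j) (qT.get i) →
      mulF2 18 (qT.get i) (qT.get k) = mulF2 18 (qT.get k) (qT.get i) →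
      mulF2 18 (qT.get j) (qT.get k) = mulF2 18 (qT.get k) (qT.get j) →
      qT.get k = mulF2 18 (qT.get i) (qT.get j) := by
    decide +kernel
  have hcent := fun i hi => (hcent0 i hi).imp (fun e => hinj i o (e.trans ho.symm))
    (fun e => hinj i t (e.trans ht.symm))
  have helo : el o = 1 := Subtype.ext ((hel o).eq h h.has_one ho)
  have helt : (el t).1 = T := (hel t).eq h hT ht
  have hcZ : ∀ q : Q, q * el t = el t * q := by
    intro q
    obtain ⟨i, rfl⟩ := hsurj q
    rw [hprod, ht]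
    have hgen : Q₀ ≤ Subgroup.centralizer ({T.1} : Set (GL F9 F)) := by
      rw [hQ₀, Subgroup.closure_le]
      rintro g ⟨c, hc, e⟩
      obtain ⟨g', hg', e'⟩ := hqmem c hc
      have hh : h.Has ⟨g', hg'⟩ c := e'
      have := ((hh.mul h hT).eq h (hT.mul h hh) (hqT c hc).symm)
      rw [h.emb_injective (e.trans e'.symm)]
      exact Subgroup.mem_centralizer_singleton_iff.2 (congrArg Subtype.val this)
    refine dec_inj _ _ (by simp only [canonF2, Nat.blt_eq]; exact mulF2_lt _ _)
      (by simp only [canonF2, Nat.blt_eq]; exact mulF2_lt _ _) ?_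
    rw [← (hel i).mul h hT, ← hT.mul h (hel i), Subgroup.coe_mul, Subgroup.coe_mul]
    exact congrArg h.emb (Subgroup.mem_centralizer_singleton_iff.1 (hgen (el i).2))
  have hZ : Subgroup.center Q = Subgroup.zpowers (el t) := by
    refine le_antisymm (fun q hq => ?_) (Subgroup.zpowers_le.2 (Subgroup.mem_center_iff.2 hcZ))
    obtain ⟨i, rfl⟩ := hsurj q
    rcases hcent i fun j => (hprod i j j i).1 (Subgroup.mem_center_iff.1 hq (el j)).symm with rfl | rfl
    · rw [helo]; exact one_mem _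
    · exact Subgroup.mem_zpowers _
  have hto : orderOf (el t) = 2 := orderOf_eq_prime (by
      rw [pow_two]; exact Subtype.ext (by rw [Subgroup.coe_mul, helt, hTT]; rfl))
    fun e => hot (hbij.1 (helo.trans e.symm))
  have hpow : ∀ q : Q, q ^ 2 ∈ Subgroup.center Q := by
    intro q
    obtain ⟨i, rfl⟩ := hsurj q
    rw [hZ, pow_two]
    rcases hsq i with e | e
    · have he : el i * el i = el o * el o := Subtype.ext (by
        have h1 := ((hel i).mul h (hel i)).eq h h.has_one e
        rw [helo]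
        simpa using h1)
      rw [he, helo, one_mul]; exact one_mem _
    · have he : el i * el i = el t := Subtype.ext (((hel i).mul h (hel i)).eq h (hel t) (e.trans ht.symm))
      rw [he]; exact Subgroup.mem_zpowers _
  have hle' : commutator Q ≤ Subgroup.center Q := by
    rw [commutator_def, Subgroup.commutator_le, hZ]
    intro x _ y _
    obtain ⟨i, rfl⟩ := hsurj x
    obtain ⟨j, rfl⟩ := hsurj y
    rcases hcomm i j with e | e
    · rw [commutatorElement_eq_one_iff_mul_comm.2 ((hprod i j j i).2 e)]; exact one_mem _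
    · have he : el i * el j = el j * el i * el t :=
        Subtype.ext (((hel i).mul h (hel j)).eq h (((hel j).mul h (hel i)).mul h (hel t)) (by rw [e, ht]))
      rw [commutatorElement_def, he, show el j * el i * el t = el t * (el j * el i) from hcZ _,
        show el t * (el j * el i) * (el i)⁻¹ * (el j)⁻¹ = el t by group]
      exact Subgroup.mem_zpowers _
  have hQp : IsPGroup 2 Q := IsPGroup.of_card (n := 5) (by rw [hQ32]; norm_num)
  have := Fact.mk Nat.prime_two
  have hZ2 : Nat.card (Subgroup.center Q) = 2 := by rw [hZ, Nat.card_zpowers, hto]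
  have hcomm' : commutator Q = Subgroup.center Q := by
    refine Subgroup.eq_of_le_of_card_ge hle' ?_
    rw [hZ2]
    rcases (Nat.dvd_prime Nat.prime_two).1 (hZ2 ▸ Subgroup.card_dvd_of_le hle') with h1 | h1
    · exfalso
      have hm : ⁅el i₀, el j₀⁆ ∈ commutator Q :=
        Subgroup.commutator_mem_commutator (Subgroup.mem_top _) (Subgroup.mem_top _)
      rw [Subgroup.eq_bot_of_card_eq _ h1, Subgroup.mem_bot, commutatorElement_eq_one_iff_mul_comm] at hm
      exact hne ((hprod i₀ j₀ j₀ i₀).1 hm)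
    · omega
  have hex : Cfsg.IsExtraspecial 2 Q := by
    refine ⟨⟨hQp, le_antisymm (PGroup.frattini_le_of (p := 2) _ hle' hpow) ?_, hcomm'⟩, hZ2⟩
    rw [← hcomm']
    exact PGroup.commutator_le_frattini hQp
  have hel8 : ∀ E : Subgroup Q, Cfsg.IsElementaryAbelian 2 E → Nat.card E ≤ 4 := by
    intro E hE
    let _ : Fintype E := Fintype.ofFinite E
    by_contra hgt
    obtain ⟨x, hx⟩ : ∃ x : E, x ≠ 1 := by
      have : Nontrivial E := Finite.one_lt_card_iff_nontrivial.1 (by omega)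
      exact exists_ne 1
    obtain ⟨y, hy⟩ : ∃ y : E, y ∉ ({1, x} : Finset E) := by
      by_contra hall
      push Not at hall
      have := Finset.card_le_card (fun y _ => hall y : (Finset.univ : Finset E) ⊆ {1, x})
      rw [Finset.card_univ, ← Nat.card_eq_fintype_card] at this
      have := this.trans Finset.card_le_two
      omega
    obtain ⟨w, hw⟩ : ∃ w : E, w ∉ ({1, x, y, x * y} : Finset E) := by
      by_contra hall
      push Not at hall
      have := Finset.card_le_card (fun w _ => hall w : (Finset.univ : Finset E) ⊆ {1, x, y, x * y})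
      rw [Finset.card_univ, ← Nat.card_eq_fintype_card] at this
      have := this.trans Finset.card_le_four
      omega
    simp only [Finset.mem_insert, Finset.mem_singleton, not_or] at hy hw
    obtain ⟨i, hi⟩ := hsurj x.1
    obtain ⟨j, hj⟩ := hsurj y.1
    obtain ⟨k, hk⟩ := hsurj w.1
    have hc : ∀ (u v : E) (m n : Fin 32), el m = u.1 → el n = v.1 →
        mulF2 18 (qT.get m) (qT.get n) = mulF2 18 (qT.get n) (qT.get m) := fun u v m n hm hn =>
      (hprod m n n m).1 (by rw [hm, hn]; exact congrArg Subtype.val (hE.1.is_comm.comm u v))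
    have hs : ∀ (u : E) (m : Fin 32), el m = u.1 → mulF2 18 (qT.get m) (qT.get m) = one := fun u m hm => by
      have e : el m * el m = el o * el o := by
        rw [hm, ← pow_two, hE.2 u.1 u.2, helo, one_mul]
      have := (hprod m m o o).1 e
      rw [ho] at this
      rw [this]
      decide +kernel
    have hno : ∀ (u : E) (m : Fin 32), el m = u.1 → u ≠ 1 → qT.get m ≠ one := fun u m hm hu e =>
      hu (Subtype.ext (by rw [← hm, hinj m o (e.trans ho.symm), helo]; rfl))
    have hd : ∀ (u v : E) (m n : Fin 32), el m = u.1 → el n = v.1 → u ≠ v → m ≠ n := fun u v m n hm hn hne e =>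
      hne (Subtype.ext (by rw [← hm, ← hn, e]))
    have hkey := hrank i j k (hno x i hi hx) (hno y j hj hy.1) (hno w k hk hw.1) (hd x y i j hi hj (Ne.symm hy.2))
      (hd w x k i hk hi hw.2.1) (hd w y k j hk hj hw.2.2.1) (hs x i hi) (hs y j hj) (hs w k hk)
      (hc x y i j hi hj) (hc x w i k hi hk) (hc y w j k hj hk)
    refine hw.2.2.2 (Subtype.ext (Subtype.ext ?_))
    rw [← hk, Subgroup.coe_mul, Subgroup.coe_mul, ← hi, ← hj]
    exact (hel k).eq h ((hel i).mul h (hel j)) hkey
  have hQT : ∀ q ∈ Q, q * T = T * q := fun q hq => by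
    have := congrArg Subtype.val (hcZ ⟨q, hq⟩)
    rwa [Subgroup.coe_mul, Subgroup.coe_mul, helt] at this
  have hr := a_rels
  simp only [Bool.and_eq_true, beq_iff_eq, Bool.not_eq_true', beq_eq_false_iff_ne] at hr
  obtain ⟨⟨⟨⟨hr3, hr5⟩, hrb⟩, hrc⟩, hr2⟩ := hr
  have hnorm : ∀ (r : Fin 2) (g : threeJ3 F ω), h.Has g (aGens.getD r.val one) →
      ∀ q ∈ Q, g * q * g⁻¹ ∈ Q := by
    intro r g hg q hq
    have hgen : ∀ c ∈ qGens, ∀ u : threeJ3 F ω, h.Has u c → g * u * g⁻¹ ∈ Q := by
      intro c hc u hu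
      obtain ⟨m, hm, rfl⟩ := List.getElem_of_mem hc
      have hm4 : m < 4 := by
        have : qGens.length = 4 := by decide +kernel
        omega
      have hv := of_allFrom_zero hqa (i := r.val * 4 + m) (by omega)
      simp only [Bool.and_eq_true, beq_iff_eq, Nat.blt_eq] at hv
      rw [show (r.val * 4 + m) / 4 = r.val by omega, show (r.val * 4 + m) % 4 = m by omega,
        List.getD_eq_getElem _ _ hm] at hv
      have e := ((hg.mul h hu)).eq h ((hel ⟨_, hv.1⟩).mul h hg) hv.2
      rw [e, mul_inv_cancel_right]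
      exact (el ⟨_, hv.1⟩).2
    have hle2 : Q ≤ Q.comap (MulAut.conj g).toMonoidHom := by
      intro u hu
      have hmap : u.1 ∈ ((Q.comap (MulAut.conj g).toMonoidHom).map (threeJ3 F ω).subtype) := by
        refine (genSet_closure_le h.emb_injective ?_) (show u.1 ∈ Q₀ from hu)
        intro c hc
        obtain ⟨u', hu', e⟩ := hqmem c hc
        exact ⟨u', ⟨⟨u', hu'⟩, hgen c hc ⟨u', hu'⟩ e, rfl⟩, e⟩
      obtain ⟨v, hv, e⟩ := hmap
      rwa [Subtype.ext e] at hv
    exact hle2 hq
  refine ⟨T, Q, a, b, hT, hTT, hT1, hQ32, hex, hel8, hQT, ?_, ?_, ?_, ?_, ?_, ?_, hnorm 0 a ha, hnorm 1 b hb⟩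
  · exact (ha.mul h hT).eq h (hT.mul h ha) (haT _ (by decide +kernel)).symm
  · exact (hb.mul h hT).eq h (hT.mul h hb) (haT _ (by decide +kernel)).symm
  · rw [pow_succ', pow_succ', pow_one]
    exact (ha.mul h (ha.mul h ha)).eq h h.has_one hr3
  · rw [pow_succ', pow_succ', pow_succ', pow_succ', pow_one]
    exact (hb.mul h (hb.mul h (hb.mul h (hb.mul h hb)))).eq h h.has_one hr5
  · rw [pow_two]
    exact ((ha.mul h hb).mul h (ha.mul h hb)).eq h h.has_one hr2
  · intro e
    subst e
    exact hrb (dec_inj _ _ hrc (by decide +kernel) (hb.symm.trans h.has_one))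

theorem FieldFour.card_centralizer_le {T : threeJ3 F ω} (hT : h.Has T invCode) (hTT : T * T = 1) :
    Nat.card (Subgroup.centralizer ({(QuotientGroup.mk T : J3 F ω)} : Set (J3 F ω))) < 5760 := by
  classical
  have := h.finite_threeJ3
  have hmem : ∀ i < 8722, ∃ u : threeJ3 F ω, h.Has u (cT.get i) ∧ u * u = 1 ∧ IsConj T u := by
    intro i
    induction i using Nat.strong_induction_on with
    | _ i ih =>
      intro hi
      rcases Nat.eq_zero_or_pos i with rfl | hpos
      · exact ⟨T, by rw [beq_iff_eq.1 c_zero]; exact hT, hTT, IsConj.refl T⟩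
      have hb := allFrom_eq_true.1 c_par i hpos (by omega)
      simp only [Bool.and_eq_true, beq_iff_eq, Nat.blt_eq] at hb
      obtain ⟨u, hu, huu, hc⟩ := ih _ hb.1 (by omega)
      obtain ⟨s, hs⟩ : ∃ s : threeJ3 F ω, h.Has s (topGens.getD (cPar.get i / 8722) one) := by
        rcases Nat.lt_or_ge (cPar.get i / 8722) topGens.length with hlt | hge
        · rw [List.getD_eq_getElem _ _ hlt]
          obtain ⟨g, hg, e⟩ := h.topGens_mem _ (List.getElem_mem hlt)
          exact ⟨⟨g, hg⟩, e⟩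
        · rw [List.getD_eq_default _ _ hge]
          exact ⟨1, h.has_one⟩
      refine ⟨s * u * s⁻¹, ?_, ?_, hc.trans (isConj_iff.2 ⟨s, rfl⟩)⟩
      · have e : h.Has (s * u * s⁻¹ * s) (mulF2 18 (topGens.getD (cPar.get i / 8722) one)
            (cT.get (cPar.get i % 8722))) := by
          rw [inv_mul_cancel_right]; exact hs.mul h hu
        rw [hb.2] at e
        have e' : h.emb (s * u * s⁻¹).1 * h.emb s.1 = decF2 18 (cT.get i) * h.emb s.1 := by
          rw [← map_mul, ← Subgroup.coe_mul, show h.emb (s * u * s⁻¹ * s).1 = _ from e, mulF2_dec, hs]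
        have hinv : h.emb s.1 * h.emb (s.1)⁻¹ = 1 := by rw [← map_mul, mul_inv_cancel, map_one]
        have := congrArg (· * h.emb (s.1)⁻¹) e'
        show h.emb (s * u * s⁻¹).1 = _
        simpa only [mul_assoc, hinv, mul_one] using this
      · rw [show s * u * s⁻¹ * (s * u * s⁻¹) = s * (u * u) * s⁻¹ by group, huu]
        group
  let t : J3 F ω := QuotientGroup.mk T
  choose u hu huu hconj using fun i : Fin 8722 => hmem i i.2
  have hcls : 8722 ≤ (Subgroup.centralizer ({t} : Set (J3 F ω))).index := by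
    rw [CfsgLib.Order7920.ncard_isConj t, ← Nat.card_coe_set_eq]
    refine le_of_eq_of_le (Nat.card_fin 8722).symm (Nat.card_le_card_of_injective
      (fun i => (⟨QuotientGroup.mk (u i), (QuotientGroup.mk' _).map_isConj (hconj i)⟩ :
        ↥({x : J3 F ω | IsConj t x}))) fun i j e => ?_)
    have e' : u i = u j := h.eq_of_mk_eq (n := 2) (by norm_num) (by rw [pow_two, huu])
      (by rw [pow_two, huu]) (congrArg Subtype.val e)
    have hcan : ∀ i < 8722, canonF2 18 (cT.get i) = true := fun i hi => by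
      have := of_allFrom_zero c_dist hi
      simp only [distinctOK, Bool.and_eq_true] at this
      exact this.1.1.1.1
    exact Fin.ext (index_eq_of_distinct' c_dist i.2 j.2
      (dec_inj _ _ (hcan _ i.2) (hcan _ j.2) (by rw [← hu i, ← hu j, e'])))
  have hm := (Subgroup.centralizer ({t} : Set (J3 F ω))).card_mul_index
  rw [h.card_J3] at hm
  by_contra hge
  push Not at hge
  have := Nat.mul_le_mul hge hcls
  rw [hm] at this
  norm_num at this

theorem FieldFour.exists_centralizer_structure :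
    ∃ t : J3 F ω, orderOf t = 2 ∧
      ∃ (Q : Subgroup ↥(Subgroup.centralizer ({t} : Set (J3 F ω)))) (_ : Q.Normal),
        Cfsg.IsExtraspecial 2 Q ∧ Nat.card Q = 32 ∧
        (∀ E : Subgroup Q, Cfsg.IsElementaryAbelian 2 E → Nat.card E ≤ 2 ^ 2) ∧
        (∃ H : Subgroup ↥(Subgroup.centralizer ({t} : Set (J3 F ω))), Q.IsComplement' H) ∧
        Nonempty (↥(Subgroup.centralizer ({t} : Set (J3 F ω))) ⧸ Q ≃* ↥(alternatingGroup (Fin 5))) := by
  classical
  have := h.finite_threeJ3
  have : IsSimpleGroup (alternatingGroup (Fin 5)) := alternatingGroup.isSimpleGroup (by simp)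
  obtain ⟨T, Q₀, a, b, hT, hTT, hT1, hQ32, hex, hel, hQT, haT, hbT, ha3, hb5, hab, hb1, hna, hnb⟩ :=
    h.exists_parts
  let π : threeJ3 F ω →* J3 F ω := QuotientGroup.mk' _
  have hcard : Nat.card (J3 F ω) = 50232960 := h.card_J3
  have hinj : ∀ u ∈ Q₀, ∀ v ∈ Q₀, π u = π v → u = v := by
    intro u hu v hv e
    have hp : ∀ w ∈ Q₀, w ^ 32 = 1 := fun w hw => by
      have h32 := pow_card_eq_one' (x := (⟨w, hw⟩ : Q₀))
      rw [hQ32] at h32
      exact congrArg Subtype.val h32
    exact h.eq_of_mk_eq (n := 32) (by norm_num) (hp u hu) (hp v hv) e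
  refine ⟨π T, orderOf_eq_prime (by rw [← map_pow, pow_two, hTT, map_one]) (fun e => hT1
    (h.eq_of_mk_eq (n := 2) (by norm_num) (by rw [pow_two, hTT]) (one_pow 2)
      (e.trans (map_one π).symm))), ?_⟩
  set C := Subgroup.centralizer ({π T} : Set (J3 F ω)) with hC
  obtain ⟨f, hf, hfx, hfy⟩ := exists_hom_alt_five ha3 hb5 hab hb1
  have hgen : ∀ K : Subgroup (threeJ3 F ω), a ∈ K → b ∈ K → ∀ x, f x ∈ K := by
    intro K haK hbK x
    have hle : Subgroup.closure ({icoX, icoY} : Set (alternatingGroup (Fin 5))) ≤ K.comap f := by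
      rw [Subgroup.closure_le]
      rintro z (rfl | rfl)
      · show f icoX ∈ K
        rw [hfx]; exact haK
      · show f icoY ∈ K
        rw [hfy]; exact hbK
    rw [ico_generates] at hle
    exact hle (Subgroup.mem_top x)
  let ψ : alternatingGroup (Fin 5) →* J3 F ω := π.comp f
  have hψ : Function.Injective ψ := by
    rw [← MonoidHom.ker_eq_bot_iff]
    refine (MonoidHom.normal_ker ψ).eq_bot_or_eq_top.resolve_right fun e => hb1 ?_
    have he : π b = π 1 := by
      rw [map_one, ← hfy]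
      exact MonoidHom.mem_ker.1 (show icoY ∈ ψ.ker by rw [e]; exact Subgroup.mem_top _)
    exact h.eq_of_mk_eq (n := 5) (by norm_num) hb5 (one_pow 5) he
  set H := ψ.range with hH
  set Q₁ := Q₀.map π with hQ₁
  let φ : Q₀ →* Q₁ := π.subgroupMap Q₀
  have hφ : Function.Bijective φ :=
    ⟨fun u v e => Subtype.ext (hinj u.1 u.2 v.1 v.2 (congrArg Subtype.val e)),
      π.subgroupMap_surjective Q₀⟩
  let eQ : Q₀ ≃* Q₁ := MulEquiv.ofBijective φ hφ
  have hQ1 : Nat.card Q₁ = 32 := by rw [← Nat.card_congr eQ.toEquiv, hQ32]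
  have hH60 : Nat.card H = 60 := by
    rw [hH, ← Nat.card_congr (MonoidHom.ofInjective hψ).toEquiv, nat_card_alternatingGroup,
      Nat.card_fin]
    rfl
  have hQC : Q₁ ≤ C := by
    rintro x ⟨q, hq, rfl⟩
    rw [hC, Subgroup.mem_centralizer_singleton_iff, ← map_mul, ← map_mul, hQT q hq]
  have hHC : H ≤ C := by
    rintro x ⟨z, rfl⟩
    have hz := hgen (Subgroup.centralizer ({T} : Set (threeJ3 F ω)))
      (Subgroup.mem_centralizer_singleton_iff.2 haT) (Subgroup.mem_centralizer_singleton_iff.2 hbT) z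
    rw [hC, Subgroup.mem_centralizer_singleton_iff]
    show π (f z) * π T = π T * π (f z)
    rw [← map_mul, ← map_mul, Subgroup.mem_centralizer_singleton_iff.1 hz]
  have hnorm : ∀ z, f z ∈ Subgroup.normalizer (Q₀ : Set (threeJ3 F ω)) := by
    have hN : ∀ g, (∀ q ∈ Q₀, g * q * g⁻¹ ∈ Q₀) →
        g ∈ Subgroup.normalizer (Q₀ : Set (threeJ3 F ω)) := by
      intro g hg
      rw [Subgroup.mem_normalizer_iff]
      intro q
      refine ⟨hg q, fun hq => ?_⟩
      have he : Q₀.map (MulAut.conj g).toMonoidHom = Q₀ := by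
        refine Subgroup.eq_of_le_of_card_ge ?_
          (Subgroup.card_map_of_injective (MulAut.conj g).injective).ge
        rintro y ⟨w, hw, rfl⟩
        exact hg w hw
      rw [← he] at hq
      obtain ⟨w, hw, e⟩ := hq
      have hwq : g * w * g⁻¹ = g * q * g⁻¹ := e
      rwa [mul_left_cancel (mul_right_cancel hwq)] at hw
    exact hgen _ (hN a hna) (hN b hnb)
  have hnorm1 : H ≤ Subgroup.normalizer (Q₁ : Set (J3 F ω)) := by
    rintro x ⟨z, rfl⟩
    rw [Subgroup.mem_normalizer_iff]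
    intro y
    constructor
    · rintro ⟨q, hq, rfl⟩
      exact ⟨f z * q * (f z)⁻¹, (Subgroup.mem_normalizer_iff.1 (hnorm z) q).1 hq, by simp [ψ]⟩
    · rintro ⟨q, hq, e⟩
      refine ⟨(f z)⁻¹ * q * f z, ?_, ?_⟩
      · exact (Subgroup.mem_normalizer_iff''.1 (hnorm z) q).1 hq
      · rw [map_mul, map_mul, map_inv, e, show π (f z) = ψ z from rfl]
        group
  have hdis : Disjoint Q₁ H := by
    rw [Subgroup.disjoint_def]
    intro x hxQ hxH
    obtain ⟨z, rfl⟩ := hxH
    have hnK : (Q₁.comap ψ).Normal := ⟨fun k hk g => by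
      show ψ (g * k * g⁻¹) ∈ Q₁
      rw [map_mul, map_mul, map_inv]
      exact (Subgroup.mem_normalizer_iff.1 (hnorm1 ⟨g, rfl⟩) _).1 hk⟩
    rcases hnK.eq_bot_or_eq_top with e | e
    · have hz : z ∈ Q₁.comap ψ := hxQ
      rw [e, Subgroup.mem_bot] at hz
      rw [hz, map_one]
    · exfalso
      have hle : H ≤ Q₁ := by
        rintro y ⟨w, rfl⟩
        exact (show w ∈ Q₁.comap ψ by rw [e]; exact Subgroup.mem_top w)
      have := Subgroup.card_dvd_of_le hle
      rw [hH60, hQ1] at this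
      norm_num at this
  set K := Q₁ ⊔ H with hK
  have hK1920 : Nat.card K = 1920 := by
    have hset : (K : Set (J3 F ω)) = (Q₁ : Set (J3 F ω)) * (H : Set (J3 F ω)) :=
      Subgroup.coe_mul_of_right_le_normalizer_left Q₁ H hnorm1
    have hb : Function.Bijective (fun p : Q₁ × H => (⟨p.1.1 * p.2.1,
        mul_mem (le_sup_left (b := H) p.1.2) (le_sup_right (a := Q₁) p.2.2)⟩ : K)) := by
      refine ⟨fun p q e => Subgroup.mul_injective_of_disjoint hdis (congrArg Subtype.val e), fun g => ?_⟩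
      have hg : g.1 ∈ (K : Set (J3 F ω)) := g.2
      rw [hset] at hg
      obtain ⟨q, hq, w, hw, e⟩ := hg
      exact ⟨(⟨q, hq⟩, ⟨w, hw⟩), Subtype.ext e⟩
    rw [← Nat.card_congr (Equiv.ofBijective _ hb), Nat.card_prod, hQ1, hH60]
  have hKC : K = C := by
    have hle : K ≤ C := sup_le hQC hHC
    refine Subgroup.eq_of_le_of_card_ge hle ?_
    rw [hK1920]
    obtain ⟨m, hm⟩ := hK1920 ▸ Subgroup.card_dvd_of_le hle
    have hlt : Nat.card C < 5760 := h.card_centralizer_le hT hTT
    have hdvd : Nat.card C ∣ 50232960 := hcard ▸ Subgroup.card_subgroup_dvd_card C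
    rw [hm] at hlt hdvd ⊢
    have : m = 1 ∨ m = 2 := by
      have : 0 < m := Nat.pos_of_ne_zero fun e => by simp [e] at hdvd
      omega
    rcases this with rfl | rfl
    · norm_num
    · norm_num at hdvd
  set Q := Q₁.subgroupOf C with hQ
  have hnQ : Q.Normal := Subgroup.normal_subgroupOf_of_le_normalizer
    (hKC ▸ sup_le Subgroup.le_normalizer hnorm1)
  let eC : Q₀ ≃* Q := eQ.trans (Subgroup.subgroupOfEquivOfLe hQC).symm
  have hQcard : Nat.card Q = 32 := by rw [← Nat.card_congr eC.toEquiv, hQ32]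
  have hcompl : Q.IsComplement' (H.subgroupOf C) := by
    refine Subgroup.isComplement'_of_card_mul_and_disjoint ?_ ?_
    · rw [hQcard, Nat.card_congr (Subgroup.subgroupOfEquivOfLe hHC).toEquiv, hH60, ← hKC, hK1920]
    · rw [Subgroup.disjoint_def]
      intro x hx hy
      exact Subtype.ext (Subgroup.disjoint_def.1 hdis hx hy)
  have := Fact.mk Nat.prime_two
  refine ⟨Q, hnQ, CfsgLib.LargeExtra.isExtraspecial_of_equiv eC hex, hQcard, fun E hE => ?_,
    ⟨_, hcompl⟩, ⟨hcompl.symm.QuotientMulEquiv.trans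
      ((Subgroup.subgroupOfEquivOfLe hHC).trans (MonoidHom.ofInjective hψ).symm)⟩⟩
  have hE' : Cfsg.IsElementaryAbelian 2 (E.map eC.symm.toMonoidHom) := by
    refine ⟨⟨⟨?_⟩⟩, ?_⟩
    · rintro ⟨_, u, hu, rfl⟩ ⟨_, v, hv, rfl⟩
      refine Subtype.ext ?_
      show eC.symm u * eC.symm v = eC.symm v * eC.symm u
      rw [← map_mul, ← map_mul]
      exact congrArg eC.symm (congrArg Subtype.val (hE.1.is_comm.comm ⟨u, hu⟩ ⟨v, hv⟩))
    · rintro _ ⟨u, hu, rfl⟩
      rw [← map_pow, hE.2 u hu, map_one]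
  have h4 := hel _ hE'
  rwa [Subgroup.card_map_of_injective eC.symm.injective] at h4

end CfsgLib.Sporadic.J3
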