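import Cfsg.Agent.Lib.Sporadic.SharpTrans
import Cfsg.Agent.Lib.Steiner.SmallAut

/-!
A sharply 4-transitive group of even permutations of 11 points preserves a Steiner system
S(4,5,11): each 4-set determines a fifth point.
-/

set_option autoImplicit false

namespace CfsgLib.Sporadic.SharpSteiner

open CfsgLib.Sporadic.SharpTrans Cfsg
open scoped Pointwise

universe u

variable {α : Type u} [Fintype α] [DecidableEq α] {G : Subgroup (Equiv.Perm α)}

/-- The fixed points of a permutation of order dividing `p` on an invariant finite set. -/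
theorem card_fixed_modEq {p : ℕ} [Fact p.Prime] {σ : Equiv.Perm α} (hσ : σ ^ p = 1) {F : Finset α}
    (hF : ∀ x ∈ F, σ x ∈ F) : (F.filter fun x => σ x = x).card ≡ F.card [MOD p] := by
  classical
  have hiff : ∀ x, σ x ∈ F ↔ x ∈ F := by
    intro x
    refine ⟨fun h => ?_, hF x⟩
    have hmaps : ∀ n : ℕ, ∀ y ∈ F, (σ ^ n) y ∈ F := by
      intro n
      induction n with
      | zero => intro y hy; exact hy
      | succ n ih => intro y hy; rw [pow_succ, Equiv.Perm.mul_apply]; exact ih _ (hF y hy)
    have h' := hmaps (p - 1) _ h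
    rwa [← Equiv.Perm.mul_apply, ← pow_succ, Nat.sub_add_cancel (Fact.out : p.Prime).one_le, hσ] at h'
  set τ : Equiv.Perm {x // x ∈ F} := σ.subtypePerm hiff
  have hτ : τ ^ p ^ 1 = 1 := by
    rw [pow_one, Equiv.Perm.subtypePerm_pow]
    refine Equiv.ext fun x => Subtype.ext ?_
    show (σ ^ p) x.1 = x.1
    rw [hσ]
    rfl
  have h := Equiv.Perm.card_compl_support_modEq hτ
  rw [Fintype.card_coe] at h
  have hc : τ.supportᶜ.card = (F.filter fun x => σ x = x).card := by
    refine Finset.card_bij' (fun x _ => x.1)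
      (fun x hx => (⟨x, (Finset.mem_filter.1 hx).1⟩ : {x // x ∈ F}))
      (fun x hx => ?_) (fun x hx => ?_) (fun _ _ => rfl) (fun _ _ => rfl)
    · rw [Finset.mem_compl, Equiv.Perm.mem_support, not_not] at hx
      exact Finset.mem_filter.2 ⟨x.2, congrArg Subtype.val hx⟩
    · rw [Finset.mem_compl, Equiv.Perm.mem_support, not_not]
      exact Subtype.ext (Finset.mem_filter.1 hx).2
  rwa [hc] at h

variable (h : Sharp G 4) (hA : G ≤ alternatingGroup α) (hα : Fintype.card α = 11)

/-- The fixed points. -/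
def fixSet (g : G) : Finset α := Finset.univ.filter fun x => (g : Equiv.Perm α) x = x

theorem mem_fixSet {g : G} {x : α} : x ∈ fixSet g ↔ (g : Equiv.Perm α) x = x := by
  simp [fixSet]

include h in
theorem card_fixSet_le {g : G} (hg : g ≠ 1) : (fixSet g).card ≤ 3 := by
  by_contra hlt
  obtain ⟨T, hT, hTc⟩ := Finset.exists_subset_card_eq (show 4 ≤ (fixSet g).card by omega)
  obtain ⟨a, b, c, d, e1, e2, e3, e4, e5, e6, rfl⟩ := Finset.card_eq_four.mp hTc
  simp only [Finset.insert_subset_iff, Finset.singleton_subset_iff, mem_fixSet] at hT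
  exact hg (h.eq_one4 e1 e2 e3 e4 e5 e6 hT.1 hT.2.1 hT.2.2.1 hT.2.2.2)

include h hα in
theorem card_fixSet_three_order {g : G} (hg : g ≠ 1) (hg3 : g ^ 3 = 1) : (fixSet g).card = 2 := by
  have : Fact (Nat.Prime 3) := ⟨Nat.prime_three⟩
  have hmod := card_fixed_modEq (p := 3) (σ := (g : Equiv.Perm α))
    (by rw [← Subgroup.coe_pow, hg3, Subgroup.coe_one]) (F := Finset.univ) (fun x _ => Finset.mem_univ _)
  rw [Finset.card_univ, hα] at hmod
  change (fixSet g).card % 3 = 11 % 3 at hmod
  have := card_fixSet_le h hg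
  omega

include h hA hα in
theorem card_fixSet_involution {g : G} (hg : g ≠ 1) (hg2 : g * g = 1) : (fixSet g).card = 3 := by
  have : Fact (Nat.Prime 2) := ⟨Nat.prime_two⟩
  set σ : Equiv.Perm α := (g : Equiv.Perm α) with hσ
  have hσ2 : σ ^ 2 = 1 := by rw [pow_two, hσ, ← Subgroup.coe_mul, hg2, Subgroup.coe_one]
  have hsign := Equiv.Perm.mem_alternatingGroup.1 (hA g.2)
  rw [← hσ, Equiv.Perm.sign_of_cycleType, Equiv.Perm.sum_cycleType] at hsign
  have hrep := Equiv.Perm.cycleType_of_pow_prime_eq_one (p := 2) hσ2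
  have hsum : σ.support.card = 2 * Multiset.card σ.cycleType := by
    conv_lhs => rw [← Equiv.Perm.sum_cycleType, hrep, Multiset.sum_replicate, smul_eq_mul, mul_comm]
  have heven : Even (σ.support.card + Multiset.card σ.cycleType) :=
    neg_one_pow_eq_one_iff_even (by decide) |>.1 hsign
  have hfix : fixSet g = σ.supportᶜ := by
    ext x
    simp [mem_fixSet, Equiv.Perm.mem_support, hσ]
  rw [hfix, Finset.card_compl, hα]
  have hle : σ.support.card ≤ 11 := hα ▸ Finset.card_le_univ _
  have h3 := card_fixSet_le h hg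
  rw [hfix, Finset.card_compl, hα] at h3
  obtain ⟨m, hm⟩ := heven
  omega

/-- An element preserving a four-set and acting on it without fixed points as an involution. -/
def IsDouble (Q : Finset α) (g : G) : Prop :=
  ∀ q ∈ Q, (g : Equiv.Perm α) q ∈ Q ∧ (g : Equiv.Perm α) q ≠ q ∧
    (g : Equiv.Perm α) ((g : Equiv.Perm α) q) = q

/-- The fifth point of a four-set. -/
def IsExtra (G : Subgroup (Equiv.Perm α)) (Q : Finset α) (e : α) : Prop :=
  Q.card = 4 ∧ e ∉ Q ∧ ∀ g : G, (∀ q ∈ Q, (g : Equiv.Perm α) q ∈ Q) → (g : Equiv.Perm α) e = e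

include h hA hα in
theorem exists_extra {Q : Finset α} (hQ : Q.card = 4) : ∃! e, IsExtra G Q e := by
  classical
  obtain ⟨a, b, c, d, hab, hac, had, hbc, hbd, hcd, rfl⟩ := Finset.card_eq_four.mp hQ
  obtain ⟨s, sa, sb, sc, sd⟩ := h.map4 hab hac had hbc hbd hcd hab.symm hbd hbc had hac hcd.symm
  obtain ⟨r, ra, rb, rc, rd⟩ := h.map4 hab hac had hbc hbd hcd hcd hac.symm hbc.symm had.symm hbd.symm hab
  have hs1 : s ≠ 1 := fun e => hab (by simpa [e] using sa)
  have hr1 : r ≠ 1 := fun e => hac (by simpa [e] using ra)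
  have hss : s * s = 1 :=
    h.eq_one4 hab hac had hbc hbd hcd (by simp [sa, sb]) (by simp [sa, sb]) (by simp [sc, sd]) (by simp [sc, sd])
  have hrr : r * r = 1 :=
    h.eq_one4 hab hac had hbc hbd hcd (by simp [ra, rc]) (by simp [rb, rd]) (by simp [ra, rc]) (by simp [rb, rd])
  have hsr : s * r = r * s := h.eq_of_eq_on (emb4 hab hac had hbc hbd hcd) fun i => by
    fin_cases i <;> simp [emb4, sa, sb, sc, sd, ra, rb, rc, rd]
  have hmemQ : ∀ x, x ∈ ({a, b, c, d} : Finset α) ↔ x = a ∨ x = b ∨ x = c ∨ x = d := fun x => by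
    simp
  have hsD : IsDouble {a, b, c, d} s := by
    intro q hq
    rcases (hmemQ q).1 hq with rfl | rfl | rfl | rfl <;>
      simp [sa, sb, sc, sd, hab, hab.symm, hcd, hcd.symm]
  have hrD : IsDouble {a, b, c, d} r := by
    intro q hq
    rcases (hmemQ q).1 hq with rfl | rfl | rfl | rfl <;>
      simp [ra, rb, rc, rd, hac, hac.symm, hbd, hbd.symm]
  -- every double transposition is one of three
  have hcases : ∀ g : G, IsDouble {a, b, c, d} g → g = s ∨ g = r ∨ g = s * r := by
    intro g hg
    obtain ⟨ha1, ha2, ha3⟩ := hg a (by simp)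
    obtain ⟨hb1, hb2, hb3⟩ := hg b (by simp)
    obtain ⟨hc1, hc2, hc3⟩ := hg c (by simp)
    obtain ⟨hd1, hd2, hd3⟩ := hg d (by simp)
    rcases (hmemQ _).1 ha1 with e | e | e | e
    · exact absurd e ha2
    · left
      have eb : (g : Equiv.Perm α) b = a := by rw [← e]; exact ha3
      have ec : (g : Equiv.Perm α) c = d := by
        rcases (hmemQ _).1 hc1 with e' | e' | e' | e'
        · exact absurd ((g : Equiv.Perm α).injective (e'.trans eb.symm)) hbc.symm
        · exact absurd ((g : Equiv.Perm α).injective (e'.trans e.symm)) hac.symm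
        · exact absurd e' hc2
        · exact e'
      have ed : (g : Equiv.Perm α) d = c := by rw [← ec]; exact hc3
      exact h.eq_of_eq_on (emb4 hab hac had hbc hbd hcd) fun i => by
        fin_cases i <;> simp [emb4, sa, sb, sc, sd, e, eb, ec, ed]
    · right; left
      have ec : (g : Equiv.Perm α) c = a := by rw [← e]; exact ha3
      have eb : (g : Equiv.Perm α) b = d := by
        rcases (hmemQ _).1 hb1 with e' | e' | e' | e'
        · exact absurd ((g : Equiv.Perm α).injective (e'.trans ec.symm)) hbc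
        · exact absurd e' hb2
        · exact absurd ((g : Equiv.Perm α).injective (e'.trans e.symm)) hab.symm
        · exact e'
      have ed : (g : Equiv.Perm α) d = b := by rw [← eb]; exact hb3
      exact h.eq_of_eq_on (emb4 hab hac had hbc hbd hcd) fun i => by
        fin_cases i <;> simp [emb4, ra, rb, rc, rd, e, eb, ec, ed]
    · right; right
      have ed : (g : Equiv.Perm α) d = a := by rw [← e]; exact ha3
      have eb : (g : Equiv.Perm α) b = c := by
        rcases (hmemQ _).1 hb1 with e' | e' | e' | e'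
        · exact absurd ((g : Equiv.Perm α).injective (e'.trans ed.symm)) hbd
        · exact absurd e' hb2
        · exact e'
        · exact absurd ((g : Equiv.Perm α).injective (e'.trans e.symm)) hab.symm
      have ec : (g : Equiv.Perm α) c = b := by rw [← eb]; exact hb3
      exact h.eq_of_eq_on (emb4 hab hac had hbc hbd hcd) fun i => by
        fin_cases i <;> simp [emb4, sa, sb, sc, sd, ra, rb, rc, rd, e, eb, ec, ed]
  set W := (fixSet s).filter fun x => (r : Equiv.Perm α) x = x with hW
  have hmemW : ∀ x, x ∈ W ↔ (s : Equiv.Perm α) x = x ∧ (r : Equiv.Perm α) x = x := fun x => by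
    simp [hW, mem_fixSet]
  have hWQ : ∀ x ∈ W, x ∉ ({a, b, c, d} : Finset α) := fun x hx hxQ =>
    (hsD x hxQ).2.1 ((hmemW x).1 hx).1
  have hWV : ∀ x ∈ W, ∀ g : G, IsDouble {a, b, c, d} g → (g : Equiv.Perm α) x = x := by
    intro x hx g hg
    obtain ⟨h1, h2⟩ := (hmemW x).1 hx
    rcases hcases g hg with rfl | rfl | rfl
    exacts [h1, h2, by rw [Subgroup.coe_mul, Equiv.Perm.mul_apply, h2, h1]]
  -- invariance of `W` under the stabiliser of the four-set
  have hWinv : ∀ g : G, (∀ q ∈ ({a, b, c, d} : Finset α), (g : Equiv.Perm α) q ∈ ({a, b, c, d} : Finset α)) →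
      ∀ x ∈ W, (g : Equiv.Perm α) x ∈ W := by
    intro g hg x hx
    have hbij : ∀ q ∈ ({a, b, c, d} : Finset α),
        (g⁻¹ : G) • q ∈ ({a, b, c, d} : Finset α) := by
      intro q hq
      have himg : (({a, b, c, d} : Finset α).image fun q => (g : Equiv.Perm α) q) = {a, b, c, d} :=
        Finset.eq_of_subset_of_card_le (Finset.image_subset_iff.2 hg)
          (by rw [Finset.card_image_of_injective _ (g : Equiv.Perm α).injective])
      obtain ⟨q', hq', rfl⟩ := Finset.mem_image.1 (himg.symm ▸ hq)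
      show (g⁻¹ : G) • (g • q') ∈ _
      rwa [inv_smul_smul]
    have hconj : ∀ u : G, IsDouble {a, b, c, d} u → IsDouble {a, b, c, d} (g⁻¹ * u * g) := by
      intro u hu q hq
      obtain ⟨h1, h2, h3⟩ := hu _ (hg q hq)
      refine ⟨?_, ?_, ?_⟩
      · show (g⁻¹ * u * g : G) • q ∈ _
        rw [mul_smul, mul_smul]
        exact hbij _ h1
      · show (g⁻¹ * u * g : G) • q ≠ q
        rw [mul_smul, mul_smul, Ne, inv_smul_eq_iff]
        exact h2
      · show (g⁻¹ * u * g : G) • ((g⁻¹ * u * g : G) • q) = q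
        rw [mul_smul, mul_smul, mul_smul, mul_smul, smul_inv_smul, inv_smul_eq_iff]
        exact h3
    refine (hmemW _).2 ⟨?_, ?_⟩
    · have := hWV x hx _ (hconj s hsD)
      change (g⁻¹ * s * g : G) • x = x at this
      rw [mul_smul, mul_smul, inv_smul_eq_iff] at this
      exact this
    · have := hWV x hx _ (hconj r hrD)
      change (g⁻¹ * r * g : G) • x = x at this
      rw [mul_smul, mul_smul, inv_smul_eq_iff] at this
      exact this
  have h2 : Fact (Nat.Prime 2) := ⟨Nat.prime_two⟩
  have hs3 := card_fixSet_involution h hA hα hs1 hss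
  have hWodd : W.card % 2 = 1 := by
    have hmod := card_fixed_modEq (p := 2) (σ := (r : Equiv.Perm α))
      (by rw [← Subgroup.coe_pow, pow_two, hrr, Subgroup.coe_one]) (F := fixSet s) (fun x hx => by
        rw [mem_fixSet] at hx ⊢
        show (s : G) • ((r : G) • x) = r • x
        rw [smul_smul, hsr, mul_smul]
        exact congrArg _ hx)
    rw [hs3] at hmod
    exact hmod
  have hWle : W.card ≤ 3 := hs3 ▸ Finset.card_filter_le _ _
  have hW1 : W.card = 1 := by
    by_contra hne
    have hW3 : W.card = 3 := by omega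
    obtain ⟨g, ga, gb, gc, gd⟩ := h.map4 hab hac had hbc hbd hcd hac had hab hcd hbc.symm hbd.symm
    obtain ⟨t, ta, tb, tc, td⟩ := h.map4 hab hac had hbc hbd hcd hab had hac hbd hbc hcd.symm
    have ht1 : t ≠ 1 := fun e => hcd (by simpa [e] using tc)
    have hg1 : g ≠ 1 := fun e => hbc (by simpa [e] using gb)
    have hg3 : g ^ 3 = 1 := h.eq_one4 hab hac had hbc hbd hcd
      (by simp [pow_succ, ga]) (by simp [pow_succ, gb, gc, gd]) (by simp [pow_succ, gb, gc, gd])
      (by simp [pow_succ, gb, gc, gd])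
    have htg : g * t * g = t := h.eq_of_eq_on (emb4 hab hac had hbc hbd hcd) fun i => by
      fin_cases i <;> simp [emb4, ga, gb, gc, gd, ta, tb, tc, td]
    have htt : t * t = 1 :=
      h.eq_one4 hab hac had hbc hbd hcd (by simp [ta]) (by simp [tb]) (by simp [tc, td]) (by simp [tc, td])
    have hgQ : ∀ q ∈ ({a, b, c, d} : Finset α), (g : Equiv.Perm α) q ∈ ({a, b, c, d} : Finset α) := by
      intro q hq
      rcases (hmemQ q).1 hq with rfl | rfl | rfl | rfl <;> simp [ga, gb, gc, gd]
    have htQ : ∀ q ∈ ({a, b, c, d} : Finset α), (t : Equiv.Perm α) q ∈ ({a, b, c, d} : Finset α) := by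
      intro q hq
      rcases (hmemQ q).1 hq with rfl | rfl | rfl | rfl <;> simp [ta, tb, tc, td]
    set O := (({a, b, c, d} : Finset α) ∪ W)ᶜ with hO
    have hdisj : Disjoint ({a, b, c, d} : Finset α) W :=
      Finset.disjoint_left.2 fun x hx hxW => hWQ x hxW hx
    have hOcard : O.card = 4 := by
      rw [hO, Finset.card_compl, Finset.card_union_of_disjoint hdisj, hα, hQ, hW3]
    have himgQ : ∀ u : G, (∀ q ∈ ({a, b, c, d} : Finset α),
        (u : Equiv.Perm α) q ∈ ({a, b, c, d} : Finset α)) → ∀ x ∈ O, (u : Equiv.Perm α) x ∈ O := by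
      intro u hu x hx
      rw [hO, Finset.mem_compl] at hx ⊢
      intro hm
      apply hx
      have himg : (({a, b, c, d} : Finset α) ∪ W).image (fun q => (u : Equiv.Perm α) q) =
          ({a, b, c, d} : Finset α) ∪ W := by
        refine Finset.eq_of_subset_of_card_le (Finset.image_subset_iff.2 fun q hq => ?_)
          (by rw [Finset.card_image_of_injective _ (u : Equiv.Perm α).injective])
        rcases Finset.mem_union.1 hq with hq | hq
        · exact Finset.mem_union_left _ (hu q hq)
        · exact Finset.mem_union_right _ (hWinv u hu q hq)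
      obtain ⟨q, hq, e⟩ := Finset.mem_image.1 (himg.symm ▸ hm)
      exact (u : Equiv.Perm α).injective e ▸ hq
    have h3 : Fact (Nat.Prime 3) := ⟨Nat.prime_three⟩
    have hmod := card_fixed_modEq (p := 3) (σ := (g : Equiv.Perm α))
      (by rw [← Subgroup.coe_pow, hg3, Subgroup.coe_one]) (F := O) (himgQ g hgQ)
    rw [hOcard] at hmod
    obtain ⟨o, ho⟩ : (O.filter fun x => (g : Equiv.Perm α) x = x).Nonempty := by
      rw [← Finset.card_pos]
      by_contra h0
      rw [Nat.ModEq] at hmod
      omega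
    obtain ⟨hoO, hog⟩ := Finset.mem_filter.1 ho
    have hoQ : o ∉ ({a, b, c, d} : Finset α) ∧ o ∉ W := by
      rw [hO, Finset.mem_compl, Finset.mem_union, not_or] at hoO
      exact hoO
    have hgfix : fixSet g = {a, o} := by
      refine (Finset.eq_of_subset_of_card_le ?_ ?_).symm
      · simp [Finset.insert_subset_iff, mem_fixSet, ga, hog]
      · rw [card_fixSet_three_order h hα hg1 hg3, Finset.card_pair (show a ≠ o by rintro rfl; exact hoQ.1 (by simp))]
    have hto : (t : Equiv.Perm α) o = o := by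
      have hfix : (g : Equiv.Perm α) ((t : Equiv.Perm α) o) = (t : Equiv.Perm α) o := by
        have := congrArg (fun u : G => (u : Equiv.Perm α) o) htg
        simpa [hog] using this
      rw [← mem_fixSet, hgfix, Finset.mem_insert, Finset.mem_singleton] at hfix
      rcases hfix with e | e
      · exact absurd ((t : Equiv.Perm α).injective (e.trans ta.symm)) fun e' => hoQ.1 (e' ▸ by simp)
      · exact e
    have hmodW := card_fixed_modEq (p := 2) (σ := (t : Equiv.Perm α))
      (by rw [← Subgroup.coe_pow, pow_two, htt, Subgroup.coe_one]) (F := W) (hWinv t htQ)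
    rw [hW3] at hmodW
    obtain ⟨w, hw⟩ : (W.filter fun x => (t : Equiv.Perm α) x = x).Nonempty := by
      rw [← Finset.card_pos]
      by_contra h0
      rw [Nat.ModEq] at hmodW
      omega
    obtain ⟨hwW, hwt⟩ := Finset.mem_filter.1 hw
    refine ht1 (h.eq_one4 hab (show a ≠ o by rintro rfl; exact hoQ.1 (by simp))
      (show a ≠ w by rintro rfl; exact hWQ _ hwW (by simp)) (show b ≠ o by rintro rfl; exact hoQ.1 (by simp))
      (show b ≠ w by rintro rfl; exact hWQ _ hwW (by simp)) (show o ≠ w by rintro rfl; exact hoQ.2 hwW) ta tb hto hwt)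
  obtain ⟨e, he⟩ := Finset.card_eq_one.1 hW1
  have heW : e ∈ W := he ▸ Finset.mem_singleton_self e
  refine ⟨e, ⟨hQ, hWQ e heW, fun g hg => Finset.mem_singleton.1 (he ▸ hWinv g hg e heW)⟩, ?_⟩
  rintro e' ⟨-, -, he'⟩
  exact Finset.mem_singleton.1 (he ▸ (hmemW e').2 ⟨he' s fun q hq => (hsD q hq).1,
    he' r fun q hq => (hrD q hq).1⟩)

/-- The system of blocks. -/
def blocks (G : Subgroup (Equiv.Perm α)) : Set (Finset α) :=
  {B | ∃ Q e, IsExtra G Q e ∧ insert e Q = B}

include h hA hα in
theorem isSteinerSystem : IsSteinerSystem 4 5 (blocks G) := by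
  classical
  refine ⟨?_, fun Q hQ => ?_⟩
  · rintro B ⟨Q, e, he, rfl⟩
    rw [Finset.card_insert_of_notMem he.2.1, he.1]
  obtain ⟨e, he, huniq⟩ := exists_extra h hA hα hQ
  refine ⟨insert e Q, ⟨⟨Q, e, he, rfl⟩, Finset.subset_insert _ _⟩, ?_⟩
  rintro B ⟨⟨Q₁, e₁, he₁, rfl⟩, hsub⟩
  by_cases he1Q : e₁ ∈ Q
  · obtain ⟨hQ₁, he₁Q, hfix⟩ := he₁
    -- the point of `Q₁` outside `Q`
    obtain ⟨d, hdQ₁, hdQ⟩ : ∃ d ∈ Q₁, d ∉ Q := by
      by_contra hall
      push Not at hall
      have := Finset.card_le_card (Finset.insert_subset he1Q hall)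
      rw [Finset.card_insert_of_notMem he₁Q, hQ₁, hQ] at this
      omega
    have hQeq : Q = insert e₁ (Q₁.erase d) := by
      refine Finset.eq_of_subset_of_card_le (fun x hx => ?_) ?_
      · rcases Finset.mem_insert.1 (hsub hx) with rfl | hx'
        · exact Finset.mem_insert_self _ _
        · exact Finset.mem_insert_of_mem (Finset.mem_erase.2 ⟨fun e => hdQ (e ▸ hx), hx'⟩)
      · rw [Finset.card_insert_of_notMem (fun e => he₁Q (Finset.mem_of_mem_erase e)),
          Finset.card_erase_of_mem hdQ₁, hQ₁, hQ]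
    obtain ⟨a, b, c, hab, hac, hbc, habc⟩ := Finset.card_eq_three.1
      (show (Q₁.erase d).card = 3 by rw [Finset.card_erase_of_mem hdQ₁, hQ₁])
    have hne : ∀ x ∈ ({a, b, c} : Finset α), x ≠ d ∧ x ∈ Q₁ := fun x hx =>
      Finset.mem_erase.1 (habc ▸ hx)
    obtain ⟨g, ga, gb, gc, gd⟩ := h.map4 hab hac (hne a (by simp)).1 hbc (hne b (by simp)).1
      (hne c (by simp)).1 hbc hab.symm (hne b (by simp)).1 hac.symm (hne c (by simp)).1
      (hne a (by simp)).1
    have hg1 : g ≠ 1 := fun e => hab (by simpa [e] using ga)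
    have hg3 : g ^ 3 = 1 := h.eq_one4 hab hac (hne a (by simp)).1 hbc (hne b (by simp)).1
      (hne c (by simp)).1 (by simp [pow_succ, ga, gb, gc]) (by simp [pow_succ, ga, gb, gc])
      (by simp [pow_succ, ga, gb, gc]) (by simp [pow_succ, gd])
    have hgabc : ∀ x ∈ Q₁.erase d, (g : Equiv.Perm α) x ∈ Q₁.erase d := by
      rw [habc]
      intro x hx
      simp only [Finset.mem_insert, Finset.mem_singleton] at hx
      rcases hx with rfl | rfl | rfl <;> simp [ga, gb, gc]
    have hge : (g : Equiv.Perm α) e₁ = e₁ := hfix g fun q hq => by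
      by_cases hqd : q = d
      · rw [hqd, gd]; exact hdQ₁
      · exact Finset.mem_of_mem_erase (hgabc q (Finset.mem_erase.2 ⟨hqd, hq⟩))
    have hgfix : fixSet g = {d, e₁} := by
      refine (Finset.eq_of_subset_of_card_le ?_ ?_).symm
      · simp [Finset.insert_subset_iff, mem_fixSet, gd, hge]
      · rw [card_fixSet_three_order h hα hg1 hg3, Finset.card_pair (show d ≠ e₁ by rintro rfl; exact he₁Q hdQ₁)]
    have hgQ : ∀ q ∈ Q, (g : Equiv.Perm α) q ∈ Q := by
      rw [hQeq]
      intro q hq
      rcases Finset.mem_insert.1 hq with rfl | hq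
      · rw [hge]; exact Finset.mem_insert_self _ _
      · exact Finset.mem_insert_of_mem (hgabc q hq)
    have := mem_fixSet.2 (he.2.2 g hgQ)
    rw [hgfix, Finset.mem_insert, Finset.mem_singleton] at this
    rcases this with rfl | rfl
    · rw [hQeq, Finset.insert_comm, Finset.insert_erase hdQ₁]
    · exact absurd he1Q he.2.1
  · have hQQ : Q = Q₁ := by
      refine Finset.eq_of_subset_of_card_le (fun x hx => ?_) (by rw [hQ, he₁.1])
      rcases Finset.mem_insert.1 (hsub hx) with rfl | hx'
      · exact absurd hx he1Q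
      · exact hx'
    subst hQQ
    rw [huniq e₁ he₁]

theorem le_setSystemAut : G ≤ setSystemAut (blocks G) := by
  intro g hg
  have hmap : ∀ g : G, ∀ B ∈ blocks G, (g : Equiv.Perm α) • B ∈ blocks G := by
    intro g B hB
    obtain ⟨Q, e, ⟨hQ, heQ, hfix⟩, rfl⟩ := hB
    refine ⟨(g : Equiv.Perm α) • Q, (g : Equiv.Perm α) e, ⟨?_, ?_, fun u hu => ?_⟩, ?_⟩
    · rw [Finset.card_smul_finset, hQ]
    · rwa [← Equiv.Perm.smul_def, Finset.smul_mem_smul_finset_iff]
    · have h2 := hfix (g⁻¹ * u * g) fun q hq => by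
        have hu' := hu ((g : Equiv.Perm α) • q) (Finset.smul_mem_smul_finset hq)
        rw [← Equiv.Perm.smul_def, ← Finset.inv_smul_mem_iff] at hu'
        simpa [mul_smul] using hu'
      simp only [Subgroup.coe_mul, Subgroup.coe_inv, Equiv.Perm.mul_apply] at h2
      rwa [Equiv.Perm.inv_eq_iff_eq] at h2
    · rw [Finset.smul_finset_insert, Equiv.Perm.smul_def]
  rw [MulAction.mem_stabilizer_iff]
  apply Set.Subset.antisymm
  · rintro _ ⟨B, hB, rfl⟩
    exact hmap ⟨g, hg⟩ B hB
  · intro B hB
    refine ⟨g⁻¹ • B, ?_, smul_inv_smul g B⟩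
    exact hmap ⟨g⁻¹, inv_mem hg⟩ B hB

end CfsgLib.Sporadic.SharpSteiner
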