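import Cfsg.Agent.Lib.Sporadic.M11Graph
import Cfsg.Agent.Lib.Sporadic.SharpSteiner
import Cfsg.Agent.Lib.PermGroup.DegreeEleven
import Cfsg.Agent.Lib.Steiner.SmallAut

/-!
A simple group of order 7920 is isomorphic to the Mathieu group of degree 11.
-/

set_option autoImplicit false

noncomputable section

namespace CfsgLib.Sporadic.M11

open Subgroup MulAction Cfsg
open scoped Pointwise

universe u

variable {G : Type u} [Group G] [Finite G]

theorem nonempty_equiv_sporM11 [IsSimpleGroup G] (hcard : Nat.card G = 7920) :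
    Nonempty (G ≃* Spor.M11) := by
  classical
  obtain ⟨H, hH⟩ := exists_index_eleven hcard
  have hnc := not_comm hcard
  let _ : Fintype (G ⧸ H) := Fintype.ofFinite _
  set α := G ⧸ H with hα'
  have hα : Fintype.card α = 11 := by
    rw [← Nat.card_eq_fintype_card, ← Subgroup.index_eq_card]
    exact hH
  set φ : G →* Equiv.Perm α := toPermHom G α with hφ
  have hinj : Function.Injective φ := by
    rw [← MonoidHom.ker_eq_bot_iff]
    refine (φ.normal_ker.eq_bot_or_eq_top).resolve_right fun h => ?_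
    obtain ⟨x, y, hxy⟩ := (Fintype.one_lt_card_iff_nontrivial.1 (by omega : 1 < Fintype.card α)).exists_pair_ne
    obtain ⟨g, rfl⟩ := MulAction.exists_smul_eq G x y
    have hg : φ g = 1 := MonoidHom.mem_ker.1 (h ▸ mem_top g)
    exact hxy (congrArg (fun σ : Equiv.Perm α => σ x) hg).symm
  set G' := φ.range with hG'
  have e : G ≃* G' := MonoidHom.ofInjective hinj
  have hG'card : Nat.card G' = 7920 := (Nat.card_congr e.toEquiv).symm.trans hcard
  have hle : G' ≤ alternatingGroup α := by
    rintro _ ⟨g, rfl⟩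
    exact Equiv.Perm.mem_alternatingGroup.2 (CfsgLib.Small.sign_toPerm hnc g)
  have hc : CfsgLib.PermGroup.Eleven.Ctx G' := by
    refine ⟨hα, ⟨fun x y => ?_⟩, fun h => ?_, fun h => ?_⟩
    · obtain ⟨g, hg⟩ := MulAction.exists_smul_eq G x y
      exact ⟨⟨φ g, g, rfl⟩, hg⟩
    · refine hnc ⟨⟨fun a b => ?_⟩⟩
      have : Group.IsSolvable G := solvable_of_solvable_injective (f := e.toMonoidHom) e.injective
      exact IsSimpleGroup.comm_iff_isSolvable.2 this a b
    · have h1 := Subgroup.card_le_of_le h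
      have : Nontrivial α := Fintype.one_lt_card_iff_nontrivial.1 (by omega)
      rw [hG'card, Nat.card_eq_fintype_card, card_alternatingGroup, hα] at h1
      norm_num [Nat.factorial] at h1
  obtain ⟨ht, hs⟩ := hc.four_transitive hle hG'card
  have hsharp : SharpTrans.Sharp G' 4 := ⟨ht, hs⟩
  have hB := SharpSteiner.isSteinerSystem hsharp hle hα
  obtain ⟨hM, -, -⟩ := CfsgLib.Steiner.Small.aut_four_five hα hB
  have hsub := SharpSteiner.le_setSystemAut (G := G')
  have heq : G' = setSystemAut (SharpSteiner.blocks G') :=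
    Subgroup.eq_of_le_of_card_ge hsub (by rw [hM.2, hG'card])
  obtain ⟨⟨ψ⟩, -, -⟩ := CfsgLib.Steiner.Small.eleven_data
  obtain ⟨-, χ, -⟩ := CfsgLib.Steiner.exists_setSystemAut_equiv (CfsgLib.Steiner.Small.iso_std11 hα hB)
  exact ⟨((e.trans (MulEquiv.subgroupCongr heq)).trans χ).trans ψ.symm⟩

theorem nonempty_equiv_dodPtStab [IsSimpleGroup G] (hcard : Nat.card G = 7920)
    (d : Finset GolayPt) (hd : d ∈ dodecads) (p : GolayPt) (hp : p ∈ d) :
    Nonempty (G ≃* ↥(MulAction.stabilizer M24 d ⊓ MulAction.stabilizer M24 p)) := by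
  obtain ⟨e⟩ := nonempty_equiv_sporM11 hcard
  obtain ⟨f⟩ := CfsgLib.Golay.sporM11_equiv_dodPtStab hd hp
  exact ⟨(e.trans f).trans ((CfsgLib.Golay.subtypeEquiv _).trans
    (MulEquiv.subgroupCongr (CfsgLib.Golay.map_subtype_stabilizer_dodPt d p))).symm⟩

end CfsgLib.Sporadic.M11
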