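import Cfsg.Agent.Lib.Small.Basic
import Mathlib.GroupTheory.Perm.Cycle.Type

/-!
Sylow 11-subgroups of a simple group of order 7920: they are self-centralising and their
normalisers have order 55.
-/

set_option autoImplicit false

namespace CfsgLib.Sporadic.M11

open Subgroup MulAction CfsgLib.Small

variable {G : Type*} [Group G] [Finite G]

theorem not_comm [IsSimpleGroup G] (hcard : Nat.card G = 7920) : ¬ IsMulCommutative G :=
  nc_of_not_prime (by rw [hcard]; norm_num)

/-- The centralizer of a cyclic subgroup is the centralizer of its generator. -/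
theorem centralizer_zpowers z :
    centralizer ((zpowers z : Subgroup G) : Set G) = centralizer ({z} : Set G) := by
  refine le_antisymm (centralizer_le (by simp)) fun x hx => ?_
  rw [Subgroup.mem_centralizer_iff] at hx ⊢
  intro y hy
  obtain ⟨k, rfl⟩ := Subgroup.mem_zpowers_iff.1 hy
  exact (((show Commute z x from hx z rfl)).zpow_left k).eq

section action

variable {p : ℕ} [hp : Fact p.Prime]

theorem card_sylow_prime {m : ℕ} (hc : Nat.card G = p * m) (hm : ¬ p ∣ m) (P : Sylow p G) :
    Nat.card P = p := by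
  have := card_sylow_of_card_eq (k := 1) (m := m) (by rw [hc, pow_one]) hm P
  rwa [pow_one] at this

/-- A nontrivial element of a Sylow subgroup of prime order fixes only that Sylow subgroup. -/
theorem eq_of_smul_eq (hP : ∀ Q : Sylow p G, Nat.card Q = p) {P Q : Sylow p G} {g : G}
    (hg : g ∈ P) (h1 : g ≠ 1) (hfix : g • Q = Q) : Q = P := by
  have hord : orderOf g = p := by
    have := orderOf_dvd_natCard (⟨g, hg⟩ : (P : Subgroup G))
    rw [Subgroup.orderOf_mk, show Nat.card (P : Subgroup G) = p from hP P] at this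
    exact (hp.out.eq_one_or_self_of_dvd _ this).resolve_left (by simpa using h1)
  have hN : g ∈ normalizer ((Q : Subgroup G) : Set G) :=
    Sylow.smul_eq_iff_mem_normalizer.1 hfix
  have hpg : IsPGroup p (zpowers g) :=
    IsPGroup.of_card (n := 1) (by rw [Nat.card_zpowers, hord, pow_one])
  have hgQ : g ∈ Q := by
    exact ((hpg.inf_normalizer_sylow Q).le ⟨mem_zpowers g, hN⟩).2
  exact (exists_unique_sylow_mem hord hP).unique hgQ hg

theorem exists_generator (hP : ∀ Q : Sylow p G, Nat.card Q = p) (P : Sylow p G) :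
    ∃ z : G, (P : Subgroup G) = zpowers z ∧ orderOf z = p := by
  have : Nontrivial (P : Subgroup G) :=
    Finite.one_lt_card_iff_nontrivial.1 (by rw [show Nat.card (P : Subgroup G) = p from hP P]; exact hp.out.one_lt)
  obtain ⟨⟨z, hz⟩, hz1⟩ := exists_ne (1 : (P : Subgroup G))
  have h := eq_zpowers_of_mem (hP P) hz (fun h => hz1 (Subtype.ext h))
  exact ⟨z, h, by rw [← Nat.card_zpowers, ← h]; exact hP P⟩

theorem toPerm_sylow_injective [IsSimpleGroup G] (hn : 1 < Nat.card (Sylow p G)) :
    Function.Injective (toPermHom G (Sylow p G)) := by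
  rw [← MonoidHom.ker_eq_bot_iff]
  refine (eq_bot_or_top _).resolve_right fun h => ?_
  obtain ⟨Q, R, hQR⟩ := (Finite.one_lt_card_iff_nontrivial.1 hn).exists_pair_ne
  obtain ⟨g, rfl⟩ := MulAction.exists_smul_eq G Q R
  refine hQR ?_
  have h' : toPermHom G (Sylow p G) g = 1 := MonoidHom.mem_ker.1 (h ▸ mem_top g)
  exact (congrArg (fun σ : Equiv.Perm (Sylow p G) => σ Q) h').symm

theorem smul_self_of_commute {P : Sylow p G} {z r : G} (hP : (P : Subgroup G) = zpowers z)
    (hr : r * z = z * r) : r • P = P :=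
  Sylow.smul_eq_iff_mem_normalizer.2 <| centralizer_le_normalizer' _ <| by
    rw [hP, centralizer_zpowers]
    exact Subgroup.mem_centralizer_iff.2 fun y hy => by
      obtain rfl : y = z := hy
      exact hr.symm

end action

variable [IsSimpleGroup G] (hcard : Nat.card G = 7920)

instance : Fact (Nat.Prime 11) := ⟨by norm_num⟩

include hcard

theorem card_sylow_eleven_eq (P : Sylow 11 G) : Nat.card P = 11 :=
  card_sylow_prime (m := 720) (by rw [hcard]) (by norm_num) P

private theorem case_twelve (hn : Nat.card (Sylow 11 G) = 12) : False := by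
  classical
  have hP := card_sylow_eleven_eq hcard
  obtain ⟨P⟩ : Nonempty (Sylow 11 G) := inferInstance
  obtain ⟨z, hPz, hzord⟩ := exists_generator hP P
  have : Nontrivial (Sylow 11 G) :=
    Finite.one_lt_card_iff_nontrivial.1 (by omega : 1 < Nat.card (Sylow 11 G))
  obtain ⟨Q0, hQ0⟩ := exists_ne P
  let g : Fin 11 → {Q : Sylow 11 G // Q ≠ P} := fun i => ⟨z ^ (i : ℕ) • Q0, fun h => hQ0 <| by
    have h' := smul_self_of_commute hPz (r := z ^ (i : ℕ)) ((Commute.refl z).pow_left i).eq
    exact smul_left_cancel _ (h.trans h'.symm)⟩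
  have hginj : Function.Injective g := by
    intro i j hij
    have hij' : z ^ (i : ℕ) • Q0 = z ^ (j : ℕ) • Q0 := congrArg Subtype.val hij
    have hfix : ((z ^ (j : ℕ))⁻¹ * z ^ (i : ℕ)) • Q0 = Q0 := by
      rw [mul_smul, hij', inv_smul_smul]
    by_contra hne
    refine hQ0 (eq_of_smul_eq hP (P := P) ?_ ?_ hfix)
    · show _ ∈ (P : Subgroup G)
      rw [hPz]
      exact mul_mem (inv_mem (npow_mem_zpowers _ _)) (npow_mem_zpowers _ _)
    · intro h
      rw [inv_mul_eq_one] at h
      exact hne (Fin.ext (pow_injOn_Iio_orderOf (by simp [hzord, i.isLt]) (by simp [hzord, j.isLt]) h.symm))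
  have hgsurj : Function.Surjective g := by
    refine ((Nat.bijective_iff_injective_and_card g).2 ⟨hginj, ?_⟩).2
    have := Fintype.ofFinite (Sylow 11 G)
    rw [Nat.card_fin, Nat.card_eq_fintype_card, Fintype.card_subtype_compl,
      Fintype.card_subtype_eq, ← Nat.card_eq_fintype_card, hn]
  have hC : centralizer ((P : Subgroup G) : Set G) ≤ (P : Subgroup G) := by
    intro c hc
    rw [hPz, centralizer_zpowers, Subgroup.mem_centralizer_iff] at hc
    have hcz : c * z = z * c := (hc z rfl).symm
    have hcP := smul_self_of_commute hPz hcz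
    obtain ⟨i, hi⟩ := hgsurj ⟨c • Q0, fun h => hQ0 (smul_left_cancel c (h.trans hcP.symm))⟩
    have hi' : z ^ (i : ℕ) • Q0 = c • Q0 := congrArg Subtype.val hi
    set d := (z ^ (i : ℕ))⁻¹ * c
    have hdz : Commute d z :=
      (((Commute.refl z).pow_left i).inv_left).mul_left hcz
    have hd1 : d = 1 := by
      refine toPerm_sylow_injective (p := 11) (by omega) ?_
      rw [map_one]
      refine Equiv.ext fun Q => ?_
      show d • Q = Q
      by_cases hQ : Q = P
      · rw [hQ]; exact smul_self_of_commute hPz hdz.eq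
      · obtain ⟨j, hj⟩ := hgsurj ⟨Q, hQ⟩
        have hj' : z ^ (j : ℕ) • Q0 = Q := congrArg Subtype.val hj
        rw [← hj', smul_smul, (hdz.pow_right j).eq, ← smul_smul]
        congr 1
        show ((z ^ (i : ℕ))⁻¹ * c) • Q0 = Q0
        rw [mul_smul, ← hi', inv_smul_smul]
    rw [hPz, ← inv_mul_eq_one.1 hd1]
    exact npow_mem_zpowers _ _
  obtain ⟨e, -, hdvd, -, -, hmul⟩ := sylow_prime_order_data (not_comm hcard) P (hP P)
  have h11 : Nat.card (centralizer ((P : Subgroup G) : Set G)) ∣ 11 :=
    (card_dvd_of_le hC).trans (dvd_of_eq (hP P))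
  rw [hn, hcard] at hmul
  have he : e ≤ 10 := Nat.le_of_dvd (by norm_num) hdvd
  have hc : Nat.card (centralizer ((P : Subgroup G) : Set G)) ≤ 11 := Nat.le_of_dvd (by norm_num) h11
  nlinarith [Nat.mul_le_mul hc he]

private theorem case_fortyfive (hn : Nat.card (Sylow 11 G) = 45) : False := by
  classical
  have hP := card_sylow_eleven_eq hcard
  have hnc := not_comm hcard
  obtain ⟨P⟩ : Nonempty (Sylow 11 G) := inferInstance
  obtain ⟨z, hPz, hzord⟩ := exists_generator hP P
  have : Nontrivial (Sylow 11 G) :=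
    Finite.one_lt_card_iff_nontrivial.1 (by omega : 1 < Nat.card (Sylow 11 G))
  obtain ⟨Q0, hQ0⟩ := exists_ne P
  obtain ⟨e, he1, hdvd, h11, -, hmul⟩ := sylow_prime_order_data hnc P (hP P)
  rw [hn, hcard] at hmul
  have h8 : 2 ^ 3 ∣ Nat.card (centralizer ((P : Subgroup G) : Set G)) := by
    have hce : Nat.card (centralizer ((P : Subgroup G) : Set G)) * e = 176 := by omega
    obtain ⟨k, hk⟩ := h11
    rw [hk, mul_assoc] at hce
    have hke : k * e = 16 := by omega
    have he : e ∈ (10 : ℕ).divisors := Nat.mem_divisors.2 ⟨hdvd, by norm_num⟩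
    rw [show (10 : ℕ).divisors = {1, 2, 5, 10} by decide] at he
    simp only [Finset.mem_insert, Finset.mem_singleton] at he
    rcases he with rfl | rfl | rfl | rfl
    · omega
    · rw [hk, show k = 8 by omega]; norm_num
    · omega
    · omega
  obtain ⟨R, hR⟩ := Sylow.exists_subgroup_card_pow_prime 2 h8
  have hrz : ∀ r : R, ((r : centralizer ((P : Subgroup G) : Set G)) : G) * z = z * r := fun r =>
    ((Subgroup.mem_centralizer_iff.1 (r : centralizer ((P : Subgroup G) : Set G)).2) z
      (show z ∈ (P : Subgroup G) by rw [hPz]; exact mem_zpowers z)).symm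
  let val : R → G := fun r => ((r : centralizer ((P : Subgroup G) : Set G)) : G)
  have hne : ∀ (r : R) (i : ℕ), val r • z ^ i • Q0 ≠ P := fun r i h => hQ0 <| by
    rw [smul_smul] at h
    exact smul_left_cancel _ (h.trans (smul_self_of_commute hPz
      ((Commute.mul_left (hrz r) ((Commute.refl z).pow_left i))).eq).symm)
  let g : R × Fin 11 → {Q : Sylow 11 G // Q ≠ P} := fun x =>
    ⟨val x.1 • z ^ (x.2 : ℕ) • Q0, hne x.1 x.2⟩
  obtain ⟨r, u, hru, hu⟩ : ∃ (r : R) (u : G), r ≠ 1 ∧ u ∈ zpowers z ∧ val r • Q0 = u • Q0 := by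
    have hni : ¬ Function.Injective g := fun h => by
      have h' := Nat.card_le_card_of_injective g h
      have := Fintype.ofFinite (Sylow 11 G)
      rw [Nat.card_prod, Nat.card_fin, hR, Nat.card_eq_fintype_card, Fintype.card_subtype_compl,
        Fintype.card_subtype_eq, ← Nat.card_eq_fintype_card, hn] at h'
      omega
    rw [Function.not_injective_iff] at hni
    obtain ⟨⟨r, i⟩, ⟨r', j⟩, hij, hne'⟩ := hni
    have hij' : val r • z ^ (i : ℕ) • Q0 = val r' • z ^ (j : ℕ) • Q0 :=
      congrArg Subtype.val hij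
    have hval : val (r'⁻¹ * r) = (val r')⁻¹ * val r := rfl
    have hcom : Commute (val (r'⁻¹ * r)) (z ^ (i : ℕ)) :=
      Commute.pow_right (show Commute (val (r'⁻¹ * r)) z from hrz _) _
    refine ⟨r'⁻¹ * r, (z ^ (i : ℕ))⁻¹ * z ^ (j : ℕ), fun h => ?_,
      mul_mem (inv_mem (npow_mem_zpowers _ _)) (npow_mem_zpowers _ _), ?_⟩
    · obtain rfl : r' = r := inv_mul_eq_one.1 h
      have hz' : ((z ^ (j : ℕ))⁻¹ * z ^ (i : ℕ)) • Q0 = Q0 := by
        rw [mul_smul, smul_left_cancel _ hij', inv_smul_smul]
      refine hQ0 (eq_of_smul_eq hP (P := P) ?_ ?_ hz')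
      · show _ ∈ (P : Subgroup G)
        rw [hPz]
        exact mul_mem (inv_mem (npow_mem_zpowers _ _)) (npow_mem_zpowers _ _)
      · intro hh
        rw [inv_mul_eq_one] at hh
        exact hne' (Prod.ext rfl (Fin.ext (pow_injOn_Iio_orderOf (by simp [hzord, i.isLt])
          (by simp [hzord, j.isLt]) hh.symm)))
    · have : val (r'⁻¹ * r) • z ^ (i : ℕ) • Q0 = z ^ (j : ℕ) • Q0 := by
        rw [hval, mul_smul, hij', inv_smul_smul]
      rw [smul_smul, hcom.eq, mul_smul] at this
      rw [mul_smul, ← this, inv_smul_smul]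
  have hval : ∀ n : ℕ, val (r ^ n) • Q0 = u ^ n • Q0 := by
    intro n
    induction n with
    | zero => simp [val]
    | succ n ih =>
      obtain ⟨k, hk⟩ := Subgroup.mem_zpowers_iff.1 hu.1
      have hcom : Commute (val r) (u ^ n) := by
        rw [← hk]
        exact ((Commute.zpow_right (show Commute (val r) z from hrz r) k).pow_right n)
      show val (r ^ (n + 1)) • Q0 = _
      rw [pow_succ' r, show val (r * r ^ n) = val r * val (r ^ n) from rfl, mul_smul, ih,
        smul_smul, hcom.eq, mul_smul, hu.2, ← mul_smul, ← pow_succ]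
  have hr8 : r ^ 8 = 1 := by
    have := pow_card_eq_one' (x := r)
    rwa [hR, show 2 ^ 3 = 8 by norm_num] at this
  have hu1 : u = 1 := by
    have h8u : u ^ 8 = 1 := by
      by_contra hne8
      refine hQ0 (eq_of_smul_eq hP (P := P) ?_ hne8 ?_)
      · show _ ∈ (P : Subgroup G)
        rw [hPz]; exact pow_mem hu.1 8
      · rw [← hval, hr8]; exact one_smul _ _
    have h11u : u ^ 11 = 1 := by
      obtain ⟨k, hk⟩ := Subgroup.mem_zpowers_iff.1 hu.1
      rw [← hk, ← zpow_natCast, ← zpow_mul, mul_comm, zpow_mul, zpow_natCast,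
        orderOf_dvd_iff_pow_eq_one.1 (dvd_of_eq hzord), one_zpow]
    simpa using (pow_gcd_eq_one (m := 8) (n := 11)).2 ⟨h8u, h11u⟩
  have hord : orderOf r ∣ 2 ^ 3 := orderOf_dvd_of_pow_eq_one (by simpa using hr8)
  obtain ⟨k, -, hk⟩ := (Nat.dvd_prime_pow Nat.prime_two).1 hord
  have hk0 : k ≠ 0 := fun h => hru (orderOf_eq_one_iff.1 (by rw [hk, h, pow_zero]))
  set s : R := r ^ (2 ^ (k - 1))
  have hs2 : orderOf s = 2 := by
    rw [orderOf_pow' _ (by positivity), hk]
    obtain ⟨l, rfl⟩ := Nat.exists_eq_succ_of_ne_zero hk0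
    rw [Nat.succ_sub_one, Nat.gcd_eq_right (pow_dvd_pow 2 (Nat.le_succ l)), pow_succ,
      Nat.mul_div_cancel_left _ (by positivity)]
  have hsQ : val s • Q0 = Q0 := by
    show val (r ^ _) • Q0 = Q0
    rw [hval, hu1, one_pow, one_smul]
  have := Fintype.ofFinite (Sylow 11 G)
  set σ : Equiv.Perm (Sylow 11 G) := toPermHom G (Sylow 11 G) (val s) with hσdef
  set π : Equiv.Perm (Sylow 11 G) := toPermHom G (Sylow 11 G) z with hπdef
  have hσ2 : σ ^ 2 = 1 := by
    rw [hσdef, ← map_pow, show val s ^ 2 = val (s ^ 2) from rfl, ← hs2, pow_orderOf_eq_one]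
    exact map_one _
  have hσ1 : σ ≠ 1 := fun h => by
    have h1 : val s = 1 := toPerm_sylow_injective (p := 11) (by omega) (h.trans (map_one _).symm)
    have : s = 1 := Subtype.ext (Subtype.ext h1)
    rw [this, orderOf_one] at hs2
    omega
  have hcomm : Commute σ π := by
    rw [hσdef, hπdef]
    exact (show Commute (val s) z from hrz s).map _
  have hπmem : ∀ Q, π Q ∈ σ.support ↔ Q ∈ σ.support := by
    intro Q
    simp only [Equiv.Perm.mem_support, ne_eq]
    rw [← Equiv.Perm.mul_apply σ π, hcomm.eq, Equiv.Perm.mul_apply, π.injective.eq_iff]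
  set τ : Equiv.Perm {Q // Q ∈ σ.support} := π.subtypePerm hπmem
  have hτ : τ ^ 11 ^ 1 = 1 := by
    rw [pow_one, Equiv.Perm.subtypePerm_pow]
    refine Equiv.ext fun Q => Subtype.ext ?_
    show (π ^ 11) Q.1 = Q.1
    rw [hπdef, ← map_pow, orderOf_dvd_iff_pow_eq_one.1 (dvd_of_eq hzord), map_one]
    rfl
  have hτfix : τ.supportᶜ = ∅ := by
    refine Finset.eq_empty_of_forall_notMem fun Q hQ => ?_
    rw [Finset.mem_compl, Equiv.Perm.mem_support, not_not] at hQ
    have hQ' : z • Q.1 = Q.1 := congrArg Subtype.val hQ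
    have := eq_of_smul_eq hP (P := P) (show z ∈ (P : Subgroup G) by rw [hPz]; exact mem_zpowers z)
      (fun h => by simp [h] at hzord) hQ'
    have hmem := Q.2
    rw [Equiv.Perm.mem_support, this] at hmem
    exact hmem (smul_self_of_commute hPz (hrz s))
  have hmod := Equiv.Perm.card_compl_support_modEq hτ
  rw [hτfix, Finset.card_empty, Fintype.card_coe] at hmod
  have h11' : 11 ∣ σ.support.card := Nat.modEq_zero_iff_dvd.1 hmod.symm
  have hsign : Equiv.Perm.sign σ = 1 := sign_toPerm hnc (val s)
  rw [Equiv.Perm.sign_of_cycleType, Equiv.Perm.sum_cycleType] at hsign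
  have hrep := Equiv.Perm.cycleType_of_pow_prime_eq_one (p := 2) hσ2
  have hsum : σ.support.card = 2 * Multiset.card σ.cycleType := by
    conv_lhs => rw [← Equiv.Perm.sum_cycleType, hrep, Multiset.sum_replicate, smul_eq_mul, mul_comm]
  have heven : Even (σ.support.card + Multiset.card σ.cycleType) :=
    neg_one_pow_eq_one_iff_even (by decide) |>.1 hsign
  have h44 : 44 ∣ σ.support.card := by
    obtain ⟨a, ha⟩ := heven
    omega
  have hle : σ.support.card ≤ 44 - 11 := by
    let f : Fin 11 → Sylow 11 G := fun i => z ^ (i : ℕ) • Q0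
    have hfinj : Function.Injective f := fun i j hij => by
      by_contra hne'
      have hz' : ((z ^ (j : ℕ))⁻¹ * z ^ (i : ℕ)) • Q0 = Q0 := by
        rw [mul_smul, show z ^ (i : ℕ) • Q0 = z ^ (j : ℕ) • Q0 from hij, inv_smul_smul]
      refine hQ0 (eq_of_smul_eq hP (P := P) ?_ ?_ hz')
      · show _ ∈ (P : Subgroup G)
        rw [hPz]
        exact mul_mem (inv_mem (npow_mem_zpowers _ _)) (npow_mem_zpowers _ _)
      · intro hh
        rw [inv_mul_eq_one] at hh
        exact hne' (Fin.ext (pow_injOn_Iio_orderOf (by simp [hzord, i.isLt])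
          (by simp [hzord, j.isLt]) hh.symm))
    have hsub : insert P (Finset.univ.image f) ⊆ σ.supportᶜ := by
      intro Q hQ
      rw [Finset.mem_compl, Equiv.Perm.mem_support, not_not]
      rcases Finset.mem_insert.1 hQ with rfl | hQ
      · exact smul_self_of_commute hPz (hrz s)
      · obtain ⟨i, -, rfl⟩ := Finset.mem_image.1 hQ
        show val s • z ^ (i : ℕ) • Q0 = z ^ (i : ℕ) • Q0
        rw [smul_smul, (Commute.pow_right (show Commute (val s) z from hrz s) _).eq, mul_smul,
          hsQ]
    have hc := Finset.card_le_card hsub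
    rw [Finset.card_insert_of_notMem ?_, Finset.card_image_of_injective _ hfinj, Finset.card_fin,
      Finset.card_compl, ← Nat.card_eq_fintype_card, hn] at hc
    · omega
    · simp only [Finset.mem_image, Finset.mem_univ, true_and, not_exists]
      intro i h
      exact hQ0 (smul_left_cancel _ (h.trans (smul_self_of_commute hPz
        ((Commute.refl z).pow_left i).eq).symm))
  have h0 : σ.support.card = 0 := by omega
  exact hσ1 (Equiv.Perm.support_eq_empty_iff.1 (Finset.card_eq_zero.1 h0))

theorem card_sylow_eleven : Nat.card (Sylow 11 G) = 144 := by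
  have h := card_sylow_mem (p := 11) (not_comm hcard) (k := 1) (m := 720) one_ne_zero
    (by rw [hcard]; norm_num) (by norm_num)
  rw [show ((720 : ℕ).divisors.filter fun n => n % 11 = 1 ∧ 1 < n) = {12, 45, 144} by
    decide +kernel] at h
  simp only [Finset.mem_insert, Finset.mem_singleton] at h
  rcases h with h | h | h
  · exact (case_twelve hcard h).elim
  · exact (case_fortyfive hcard h).elim
  · exact h

theorem card_normalizer_eleven (P : Sylow 11 G) :
    Nat.card (normalizer ((P : Subgroup G) : Set G)) = 55 := by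
  have h := card_normalizer_mul_card_sylow P
  rw [card_sylow_eleven hcard, hcard] at h
  omega

theorem card_centralizer_eleven (P : Sylow 11 G) :
    centralizer ((P : Subgroup G) : Set G) = P := by
  obtain ⟨e, he1, hdvd, h11, hmul, -⟩ :=
    sylow_prime_order_data (not_comm hcard) P (card_sylow_eleven_eq hcard P)
  rw [card_normalizer_eleven hcard P] at hmul
  have he : e ∈ (10 : ℕ).divisors := Nat.mem_divisors.2 ⟨hdvd, by norm_num⟩
  rw [show (10 : ℕ).divisors = {1, 2, 5, 10} by decide] at he
  simp only [Finset.mem_insert, Finset.mem_singleton] at he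
  have hc : Nat.card (centralizer ((P : Subgroup G) : Set G)) = 11 := by
    rcases he with rfl | rfl | rfl | rfl <;> omega
  refine (eq_of_le_of_card_ge ?_ (le_of_eq ?_)).symm
  · have : IsCyclic (P : Subgroup G) := isCyclic_of_prime_card (card_sylow_eleven_eq hcard P)
    let _ := IsCyclic.commGroup (α := (P : Subgroup G))
    intro x hx
    rw [Subgroup.mem_centralizer_iff]
    intro y hy
    exact congrArg Subtype.val (mul_comm (⟨y, hy⟩ : (P : Subgroup G)) ⟨x, hx⟩)
  · rw [hc]; exact (card_sylow_eleven_eq hcard P).symm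

theorem centralizer_le_zpowers {z : G} (hz : orderOf z = 11) :
    centralizer ({z} : Set G) ≤ zpowers z := by
  obtain ⟨P, hzP, -⟩ := exists_unique_sylow_mem hz (card_sylow_eleven_eq hcard)
  have hPz := eq_zpowers_of_mem (card_sylow_eleven_eq hcard P) hzP (fun h => by simp [h] at hz)
  rw [← centralizer_zpowers, ← hPz]
  exact (card_centralizer_eleven hcard P).le

end CfsgLib.Sporadic.M11
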