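import Cfsg.Agent.Lib.Sporadic.M11Block

/-!
The final shape of the principal 11-block of a simple group of order 7920, its values on
involutions, and the centralisers of elements of order 5.
-/

set_option autoImplicit false

noncomputable section

namespace CfsgLib.Sporadic.M11

open Cfsg CfsgLib.Characters Subgroup
open scoped ComplexConjugate

universe u

variable {G : Type u} [Group G]

/-- The principal 11-block: exceptional characters of degree 16, three of degree 10, one of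
degree 45. -/
structure Shape [Fintype G] (e₁ e₂ w : IrrCharacter G) (U : Finset (IrrCharacter G)) : Prop where
  ne12 : e₁ ≠ e₂
  deg1 : (e₁ : G → ℂ) 1 = (16 : ℕ)
  deg2 : (e₂ : G → ℂ) 1 = (16 : ℕ)
  degw : (w : G → ℂ) 1 = (45 : ℕ)
  degU : ∀ ψ ∈ U, (ψ : G → ℂ) 1 = (10 : ℕ)
  cardU : U.card = 3
  rel : ∀ g : G, g = 1 ∨ g ^ 11 ≠ 1 →
    1 - (e₁ : G → ℂ) g - ∑ ψ ∈ U, (ψ : G → ℂ) g + (w : G → ℂ) g = 0
  rel2 : ∀ t : G, orderOf t = 2 →
    1 - (e₁ : G → ℂ) t ^ 2 / 16 - (∑ ψ ∈ U, (ψ : G → ℂ) t ^ 2) / 10 +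
      (w : G → ℂ) t ^ 2 / 45 = 0

theorem ne_of_deg {a b : IrrCharacter G} {m n : ℕ} (ha : (a : G → ℂ) 1 = m)
    (hb : (b : G → ℂ) 1 = n) (h : m ≠ n) : a ≠ b := by
  rintro rfl
  exact h (Nat.cast_inj.1 (ha.symm.trans hb))

theorem principal_deg : ((principalIrr G : IrrCharacter G) : G → ℂ) 1 = (1 : ℕ) :=
  Nat.cast_one.symm

theorem pow_eleven_ne {g : G} {n : ℕ} (hg : orderOf g = n) (hn : ¬ n ∣ 11) : g ^ 11 ≠ 1 :=
  fun h => hn (hg ▸ orderOf_dvd_of_pow_eq_one h)

theorem dvd_orderOf_mul {a b : G} (h : Commute a b) (hco : (orderOf a).Coprime (orderOf b)) {p : ℕ}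
    (hp : p ∣ orderOf b) : p ∣ orderOf (a * b) := by
  rw [h.orderOf_mul_eq_mul_orderOf_of_coprime hco]
  exact hp.mul_left _

/-- The bound on a sum of values given by second orthogonality. -/
theorem sum_normSq_le [Fintype G] (g : G) (s : Finset (IrrCharacter G)) :
    ∑ ψ ∈ s, Complex.normSq ((ψ : G → ℂ) g) ≤
      (Nat.card (centralizer ({g} : Set G)) : ℝ) := by
  rw [← CharTools.sum_normSq g]
  exact Finset.sum_le_sum_of_subset_of_nonneg (Finset.subset_univ s)
    fun i _ _ => Complex.normSq_nonneg _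

theorem commute_of_mem_centralizer {g h : G} (hh : h ∈ centralizer ({g} : Set G)) : Commute g h :=
  Subgroup.mem_centralizer_iff.1 hh g rfl

variable [IsSimpleGroup G] (hcard : Nat.card G = 7920)

include hcard

/-- A character of `p`-defect zero vanishes at `p`-singular elements. -/
theorem vanish [Fintype G] {p k : ℕ} [Fact p.Prime] (hk : (7920 : ℕ).factorization p = k)
    (χ : IrrCharacter G) {d : ℕ} (hd : (χ : G → ℂ) 1 = d) (hdvd : p ^ k ∣ d) {g : G}
    (hg : p ∣ orderOf g) : (χ : G → ℂ) g = 0 := by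
  refine CfsgLib.DefectZeroVanish.vanish_of_defect_zero χ ?_ hg
  rw [hcard, hk, charDegree, hd, Complex.natCast_re, Nat.floor_natCast]
  exact hdvd

omit hcard in
theorem factorization_two : (7920 : ℕ).factorization 2 = 4 := by
  rw [show (7920 : ℕ) = 2 ^ 4 * 495 by norm_num,
    Nat.factorization_mul (by norm_num) (by norm_num), Finsupp.add_apply,
    Nat.factorization_pow, Finsupp.smul_apply, Nat.Prime.factorization_self Nat.prime_two,
    Nat.factorization_eq_zero_of_not_dvd (by norm_num)]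
  rfl

omit hcard in
theorem factorization_three : (7920 : ℕ).factorization 3 = 2 := by
  rw [show (7920 : ℕ) = 3 ^ 2 * 880 by norm_num,
    Nat.factorization_mul (by norm_num) (by norm_num), Finsupp.add_apply,
    Nat.factorization_pow, Finsupp.smul_apply, Nat.Prime.factorization_self Nat.prime_three,
    Nat.factorization_eq_zero_of_not_dvd (by norm_num)]
  rfl

omit hcard in
theorem factorization_five : (7920 : ℕ).factorization 5 = 1 := by
  rw [show (7920 : ℕ) = 5 ^ 1 * 1584 by norm_num,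
    Nat.factorization_mul (by norm_num) (by norm_num), Finsupp.add_apply,
    Nat.factorization_pow, Finsupp.smul_apply, Nat.Prime.factorization_self Nat.prime_five,
    Nat.factorization_eq_zero_of_not_dvd (by norm_num)]
  rfl

theorem not_eleven_dvd [Finite G] {g : G} (hg : g ^ 11 ≠ 1) :
    ¬ 11 ∣ Nat.card (centralizer ({g} : Set G)) := by
  intro h
  obtain ⟨y, hy⟩ := exists_prime_orderOf_dvd_card' (G := centralizer ({g} : Set G)) 11 h
  have hy' : orderOf (y : G) = 11 := by rw [Subgroup.orderOf_coe, hy]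
  have hgy : g ∈ centralizer ({(y : G)} : Set G) := Subgroup.mem_centralizer_iff.2 fun z hz => by
    obtain rfl : z = (y : G) := hz
    exact ((commute_of_mem_centralizer y.2).symm).eq
  obtain ⟨k, hk⟩ := Subgroup.mem_zpowers_iff.1 (centralizer_le_zpowers hcard hy' hgy)
  refine hg ?_
  rw [← hk, ← zpow_natCast, ← zpow_mul, mul_comm, zpow_mul, zpow_natCast,
    orderOf_dvd_iff_pow_eq_one.1 (dvd_of_eq hy'), one_zpow]

theorem card_centralizer_dvd_720 [Finite G] {g : G} (hg : g ^ 11 ≠ 1) :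
    Nat.card (centralizer ({g} : Set G)) ∣ 720 := by
  refine (((Nat.prime_iff.2 (by norm_num [← Nat.prime_iff] : Prime 11)).coprime_iff_not_dvd.2
    (not_eleven_dvd hcard hg)).symm).dvd_of_dvd_mul_left ?_
  rw [show 11 * 720 = Nat.card G by omega]
  exact Subgroup.card_subgroup_dvd_card _

/-- If no involution commutes with an element of order 5, the elements of order 5 generate their
centralisers and are conjugate to their nontrivial powers. -/
theorem five_data [Finite G]
    (hno : ∀ t x : G, orderOf t = 2 → orderOf x = 5 → ¬ Commute t x) {x : G} (hx : orderOf x = 5) :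
    Nat.card (centralizer ({x} : Set G)) = 5 ∧
      ∀ h ∈ zpowers x, h ≠ 1 → IsConj x h := by
  classical
  have := Fact.mk Nat.prime_five
  have hP5 : ∀ Q : Sylow 5 G, Nat.card Q = 5 :=
    card_sylow_prime (m := 1584) (by rw [hcard]) (by norm_num)
  obtain ⟨P, hxP, -⟩ := CfsgLib.Small.exists_unique_sylow_mem hx hP5
  have hx1 : x ≠ 1 := fun h => by simp [h] at hx
  have hPx := CfsgLib.Small.eq_zpowers_of_mem (hP5 P) hxP hx1
  obtain ⟨e, he1, hdvd, h5, hN, hmul⟩ :=
    CfsgLib.Small.sylow_prime_order_data (not_comm hcard) P (hP5 P)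
  rw [hcard] at hmul
  rw [hPx, centralizer_zpowers] at h5 hN hmul
  set c := Nat.card (centralizer ({x} : Set G)) with hc
  have hc45 : c ∣ 45 := by
    have h2 : ¬ 2 ∣ c := fun h => by
      obtain ⟨t, ht⟩ := exists_prime_orderOf_dvd_card' (G := centralizer ({x} : Set G)) 2 h
      exact hno t x (by rw [Subgroup.orderOf_coe, ht]) hx (commute_of_mem_centralizer t.2).symm
    have h11 := not_eleven_dvd hcard (pow_eleven_ne hx (by norm_num))
    have hco : Nat.Coprime c (2 ^ 4 * 11) :=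
      Nat.Coprime.mul_right (Nat.Coprime.pow_right 4
        ((Nat.prime_two.coprime_iff_not_dvd.2 h2).symm))
        (((show Nat.Prime 11 by norm_num).coprime_iff_not_dvd.2 h11).symm)
    refine hco.dvd_of_dvd_mul_left ?_
    rw [show 2 ^ 4 * 11 * 45 = Nat.card G by rw [hcard]; norm_num]
    exact Subgroup.card_subgroup_dvd_card _
  have hn5 : Nat.card (Sylow 5 G) % 5 = 1 := by
    have := card_sylow_modEq_one 5 G
    rw [Nat.ModEq] at this
    omega
  have hcases : c = 5 ∧ e = 4 := by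
    have hce : c ∈ (45 : ℕ).divisors := Nat.mem_divisors.2 ⟨hc45, by norm_num⟩
    rw [show (45 : ℕ).divisors = {1, 3, 5, 9, 15, 45} by decide] at hce
    have hee : e ∈ (4 : ℕ).divisors := Nat.mem_divisors.2 ⟨by simpa using hdvd, by norm_num⟩
    rw [show (4 : ℕ).divisors = {1, 2, 4} by decide] at hee
    simp only [Finset.mem_insert, Finset.mem_singleton] at hce hee
    rcases hce with h | h | h | h | h | h <;> rcases hee with h' | h' | h' <;>
      rw [h, h'] at hmul <;> omega
  obtain ⟨hc5, he4⟩ := hcases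
  refine ⟨hc5, fun h hh hne => ?_⟩
  rw [← hPx] at hh
  set N := normalizer ((P : Subgroup G) : Set G) with hNdef
  let _ : Fintype G := Fintype.ofFinite G
  let f : N → G := fun n => (n : G) * x * (n : G)⁻¹
  have himg : Finset.univ.image f = Finset.univ.filter fun g => g ∈ (P : Subgroup G) ∧ g ≠ 1 := by
    refine Finset.eq_of_subset_of_card_le (fun g hg => ?_) ?_
    · obtain ⟨n, -, rfl⟩ := Finset.mem_image.1 hg
      refine Finset.mem_filter.2 ⟨Finset.mem_univ _, (Subgroup.mem_normalizer_iff.1 n.2 x).1 hxP, ?_⟩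
      intro h1
      exact hx1 (conj_eq_one_iff.1 h1)
    · have hfib : ∀ b ∈ Finset.univ.image f,
          (Finset.univ.filter fun n => f n = b).card ≤ 5 := by
        intro b hb
        obtain ⟨n₀, -, rfl⟩ := Finset.mem_image.1 hb
        rw [← hc5, hc, Nat.card_eq_fintype_card, ← Finset.card_univ]
        refine Finset.card_le_card_of_injOn (fun n => if hn : (n₀ : G)⁻¹ * (n : G) ∈
          centralizer ({x} : Set G) then ⟨_, hn⟩ else 1) (fun _ _ => Finset.mem_univ _) ?_
        intro n hn n' hn' hnn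
        have key : ∀ m : N, f m = f n₀ → (n₀ : G)⁻¹ * (m : G) ∈ centralizer ({x} : Set G) := by
          intro m hm
          rw [Subgroup.mem_centralizer_iff]
          rintro z rfl
          have hm' : (m : G) * z * (m : G)⁻¹ = (n₀ : G) * z * (n₀ : G)⁻¹ := hm
          calc z * ((n₀ : G)⁻¹ * m) = (n₀ : G)⁻¹ * ((n₀ : G) * z * (n₀ : G)⁻¹) * m := by group
            _ = (n₀ : G)⁻¹ * ((m : G) * z * (m : G)⁻¹) * m := by rw [hm']
            _ = (n₀ : G)⁻¹ * m * z := by group
        simp only [dif_pos (key n (Finset.mem_filter.1 hn).2),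
          dif_pos (key n' (Finset.mem_filter.1 hn').2), Subtype.mk.injEq] at hnn
        exact Subtype.ext (mul_left_cancel hnn)
      have hle := Finset.card_le_mul_card_image (f := f) Finset.univ 5 hfib
      rw [Finset.card_univ, ← Nat.card_eq_fintype_card,
        show Nat.card N = c * e by rw [hNdef, hPx]; exact hN.symm, hc5, he4] at hle
      have hP' : (Finset.univ.filter fun g => g ∈ (P : Subgroup G) ∧ g ≠ 1).card = 4 := by
        rw [show (Finset.univ.filter fun g => g ∈ (P : Subgroup G) ∧ g ≠ 1) =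
          (Finset.univ.filter fun g => g ∈ (P : Subgroup G)).erase 1 by
            ext; simp [and_comm],
          Finset.card_erase_of_mem (by simp [one_mem]), ← Fintype.card_subtype,
          ← Nat.card_eq_fintype_card, show Nat.card {g // g ∈ (P : Subgroup G)} = 5 from hP5 P]
      omega
  have hmem : h ∈ Finset.univ.image f := by
    rw [himg]
    exact Finset.mem_filter.2 ⟨Finset.mem_univ _, hh, hne⟩
  obtain ⟨n, -, hn⟩ := Finset.mem_image.1 hmem
  exact isConj_iff.2 ⟨n, hn⟩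

/-- The pattern with exceptional degree 5 does not occur. -/
theorem exists_shape [Fintype G] : ∃ (e₁ e₂ w : IrrCharacter G) (U : Finset (IrrCharacter G)),
    Shape e₁ e₂ w U := by
  classical
  have hnc := not_comm hcard
  obtain ⟨e₁, e₂, U, T, W, d, hp⟩ := exists_pattern hcard
  rcases hp.shape with ⟨hd, hU, hT, hW⟩ | ⟨hd, hU, hT, hW⟩
  · exfalso
    have := Fact.mk Nat.prime_five
    have hno : ∀ t x : G, orderOf t = 2 → orderOf x = 5 → ¬ Commute t x := by
      intro t x ht hx hcomm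
      have ht2 : t ^ 2 = 1 := by rw [← ht]; exact pow_orderOf_eq_one t
      have ht1 : t ≠ 1 := fun h => by rw [h, orderOf_one] at ht; omega
      obtain ⟨u, hu, hu2⟩ :=
        CharTools.exists_int_of_sq_eq_one (irr_isCharacter e₁) hp.deg1 ht2
      have hlt := CharTools.norm_lt_degree hnc hp.ne1 hp.deg1 ht1
      rw [hu, Complex.norm_intCast, hd] at hlt
      have hlt' : |u| < 5 := by exact_mod_cast hlt
      obtain ⟨hlo, hhi⟩ := abs_lt.1 hlt'
      have hAB : ∀ a ∈ zpowers t, ∀ b ∈ zpowers x, Commute a b := by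
        intro a ha b hb
        obtain ⟨i, rfl⟩ := Subgroup.mem_zpowers_iff.1 ha
        obtain ⟨j, rfl⟩ := Subgroup.mem_zpowers_iff.1 hb
        exact (hcomm.zpow_left i).zpow_right j
      obtain ⟨m, hm⟩ := CharTools.exists_nat_sum_of_vanish (irr_isCharacter e₁) (zpowers t)
        (zpowers x) hAB fun a ha b hb hb1 => by
          have hob : orderOf b = 5 := by
            have := Subgroup.orderOf_dvd_natCard _ hb
            rw [Nat.card_zpowers, hx] at this
            exact (Nat.prime_five.eq_one_or_self_of_dvd _ this).resolve_left (by simpa using hb1)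
          have hoa : orderOf a ∣ 2 := by
            have := Subgroup.orderOf_dvd_natCard _ ha
            rwa [Nat.card_zpowers, ht] at this
          exact vanish hcard factorization_five e₁ hp.deg1 (by rw [hd]; norm_num)
            (dvd_orderOf_mul (hAB a ha b hb)
              (by rw [hob]; exact Nat.Coprime.coprime_dvd_left hoa (by norm_num)) (dvd_of_eq hob.symm))
      rw [CharTools.sum_zpowers_two _ ht, hp.deg1, hu, hd, Nat.card_zpowers, Nat.card_zpowers, ht,
        hx] at hm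
      have : (5 : ℤ) + u = 2 * 5 * m := by exact_mod_cast hm
      rw [hd] at hu2
      omega
    obtain ⟨x, hx⟩ := exists_prime_orderOf_dvd_card' (G := G) 5 (by rw [hcard]; norm_num)
    obtain ⟨hc, hconj⟩ := five_data hcard hno hx
    have hle := sum_normSq_le x T
    rw [hc] at hle
    have hbig : ∀ ψ ∈ T, (4 : ℝ) ≤ Complex.normSq ((ψ : G → ℂ) x) := by
      intro ψ hψ
      obtain ⟨z, hz, hz5⟩ :=
        CharTools.exists_int_of_rational (irr_isCharacter ψ) (hp.degT ψ hψ) hx hconj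
      rw [hz, Complex.normSq_intCast]
      have h2 : (2 : ℤ) ≤ |z| := by
        rcases abs_cases z with ⟨h, _⟩ | ⟨h, _⟩ <;> omega
      have : (4 : ℤ) ≤ z * z := by nlinarith [abs_mul_abs_self z]
      exact_mod_cast this
    have := Finset.card_nsmul_le_sum T _ 4 hbig
    rw [hT, nsmul_eq_mul] at this
    push_cast at hle this
    linarith
  · subst hd
    obtain ⟨w, rfl⟩ := Finset.card_eq_one.1 hW
    obtain rfl := Finset.card_eq_zero.1 hT
    refine ⟨e₁, e₂, w, U, ⟨hp.ne12, hp.deg1, hp.deg2, hp.degW w (Finset.mem_singleton_self w),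
      hp.degU, hU, fun g hg => ?_, fun t ht => ?_⟩⟩
    · have := hp.rel g hg
      simpa using this
    · have := hp.rel2 t ht
      simpa using this

omit hcard in
theorem involution_enum : ∀ a ∈ Finset.Icc (-5 : ℤ) 5, ∀ b₀ ∈ Finset.Icc (-4 : ℤ) 4,
    ∀ b₁ ∈ Finset.Icc (-4 : ℤ) 4, ∀ b₂ ∈ Finset.Icc (-4 : ℤ) 4,
    1 + 4 * a ^ 2 + 4 * (b₀ ^ 2 + b₁ ^ 2 + b₂ ^ 2) + (2 * a + 2 * (b₀ + b₁ + b₂) - 1) ^ 2 ≤ 144 →
    720 - 180 * a ^ 2 - 288 * (b₀ ^ 2 + b₁ ^ 2 + b₂ ^ 2) +
      16 * (2 * a + 2 * (b₀ + b₁ + b₂) - 1) ^ 2 = 0 →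
    a = 0 ∧ b₀ + b₁ + b₂ = -1 ∧ b₀ ^ 2 + b₁ ^ 2 + b₂ ^ 2 = 3 := by
  decide +kernel

/-- The values of the block on an involution, and the absence of elements of order five in
its centraliser. -/
theorem involution_values [Fintype G] {e₁ e₂ w : IrrCharacter G} {U : Finset (IrrCharacter G)}
    (hs : Shape e₁ e₂ w U) {t : G} (ht : orderOf t = 2) :
    (e₁ : G → ℂ) t = 0 ∧ (w : G → ℂ) t = -3 ∧ ∑ ψ ∈ U, (ψ : G → ℂ) t = -2 ∧
      ∑ ψ ∈ U, (ψ : G → ℂ) t ^ 2 = 12 ∧
      (∀ x : G, orderOf x = 5 → ¬ Commute t x) ∧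
      Nat.card (centralizer ({t} : Set G)) ∣ 144 := by
  classical
  have hnc := not_comm hcard
  have := Fact.mk Nat.prime_five
  have ht2 : t ^ 2 = 1 := by rw [← ht]; exact pow_orderOf_eq_one t
  have ht1 : t ≠ 1 := fun h => by rw [h, orderOf_one] at ht; omega
  have ht11 := pow_eleven_ne ht (by norm_num)
  obtain ⟨v₀, v₁, v₂, h01, h02, h12, hUeq⟩ := Finset.card_eq_three.1 hs.cardU
  have hval : ∀ (χ : IrrCharacter G) (d : ℕ), (χ : G → ℂ) 1 = d → d ≠ 1 →
      ∃ z : ℤ, (χ : G → ℂ) t = z ∧ (2 : ℤ) ∣ (d : ℤ) - z ∧ -(d : ℤ) < z ∧ z < d := by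
    intro χ d hd hd1
    obtain ⟨z, hz, hz2⟩ := CharTools.exists_int_of_sq_eq_one (irr_isCharacter χ) hd ht2
    have hlt := CharTools.norm_lt_degree hnc (ne_of_deg hd principal_deg hd1) hd ht1
    rw [hz, Complex.norm_intCast] at hlt
    have hlt' : |z| < (d : ℤ) := by exact_mod_cast hlt
    exact ⟨z, hz, hz2, (abs_lt.1 hlt').1, (abs_lt.1 hlt').2⟩
  obtain ⟨u, hu, hu2, hul, huh⟩ := hval e₁ 16 hs.deg1 (by norm_num)
  obtain ⟨z₀, hz₀, hz₀2, hz₀l, hz₀h⟩ :=
    hval v₀ 10 (hs.degU _ (by simp [hUeq])) (by norm_num)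
  obtain ⟨z₁, hz₁, hz₁2, hz₁l, hz₁h⟩ :=
    hval v₁ 10 (hs.degU _ (by simp [hUeq])) (by norm_num)
  obtain ⟨z₂, hz₂, hz₂2, hz₂l, hz₂h⟩ :=
    hval v₂ 10 (hs.degU _ (by simp [hUeq])) (by norm_num)
  obtain ⟨W, hW, -, -, -⟩ := hval w 45 hs.degw (by norm_num)
  have hsumU : ∀ f : IrrCharacter G → ℂ, ∑ ψ ∈ U, f ψ = f v₀ + f v₁ + f v₂ := fun f => by
    rw [hUeq, Finset.sum_insert (by simp [h01, h02]), Finset.sum_pair h12, add_assoc]
  have hlin : W = u + (z₀ + z₁ + z₂) - 1 := by
    have h := hs.rel t (Or.inr ht11)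
    rw [hsumU, hu, hz₀, hz₁, hz₂, hW] at h
    have h' : (1 : ℤ) - u - (z₀ + z₁ + z₂) + W = 0 := by exact_mod_cast h
    omega
  have hquad : 720 - 45 * u ^ 2 - 72 * (z₀ ^ 2 + z₁ ^ 2 + z₂ ^ 2) + 16 * W ^ 2 = 0 := by
    have h := hs.rel2 t ht
    rw [hsumU, hu, hz₀, hz₁, hz₂, hW] at h
    have h' : (720 : ℂ) - 45 * (u : ℂ) ^ 2 - 72 * ((z₀ : ℂ) ^ 2 + (z₁ : ℂ) ^ 2 + (z₂ : ℂ) ^ 2) +
        16 * (W : ℂ) ^ 2 = 0 := by linear_combination 720 * h
    exact_mod_cast h'
  have hnotzero : ∃ ψ ∈ U, ∃ z : ℤ, (ψ : G → ℂ) t = z ∧ z ≠ 0 ∧ -10 < z ∧ z < 10 := by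
    by_cases h0 : z₀ ≠ 0
    · exact ⟨v₀, by simp [hUeq], z₀, hz₀, h0, by omega, by omega⟩
    by_cases h1 : z₁ ≠ 0
    · exact ⟨v₁, by simp [hUeq], z₁, hz₁, h1, by omega, by omega⟩
    by_cases h2 : z₂ ≠ 0
    · exact ⟨v₂, by simp [hUeq], z₂, hz₂, h2, by omega, by omega⟩
    exfalso
    push Not at h0 h1 h2
    rw [h0, h1, h2] at hquad hlin
    rw [hlin] at hquad
    push_cast at hul huh
    interval_cases u <;> norm_num at hquad
  have hno : ∀ x : G, orderOf x = 5 → ¬ Commute t x := by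
    intro x hx hcomm
    obtain ⟨ψ, hψ, z, hz, hz0, hzl, hzh⟩ := hnotzero
    have hAB : ∀ a ∈ zpowers t, ∀ b ∈ zpowers x, Commute a b := by
      intro a ha b hb
      obtain ⟨i, rfl⟩ := Subgroup.mem_zpowers_iff.1 ha
      obtain ⟨j, rfl⟩ := Subgroup.mem_zpowers_iff.1 hb
      exact (hcomm.zpow_left i).zpow_right j
    obtain ⟨m, hm⟩ := CharTools.exists_nat_sum_of_vanish (irr_isCharacter ψ) (zpowers t)
      (zpowers x) hAB fun a ha b hb hb1 => by
        have hob : orderOf b = 5 := by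
          have := Subgroup.orderOf_dvd_natCard _ hb
          rw [Nat.card_zpowers, hx] at this
          exact (Nat.prime_five.eq_one_or_self_of_dvd _ this).resolve_left (by simpa using hb1)
        have hoa : orderOf a ∣ 2 := by
          have := Subgroup.orderOf_dvd_natCard _ ha
          rwa [Nat.card_zpowers, ht] at this
        exact vanish hcard factorization_five ψ (hs.degU ψ hψ) (by norm_num)
          (dvd_orderOf_mul (hAB a ha b hb)
            (by rw [hob]; exact Nat.Coprime.coprime_dvd_left hoa (by norm_num)) (dvd_of_eq hob.symm))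
    rw [CharTools.sum_zpowers_two _ ht, hs.degU ψ hψ, hz, Nat.card_zpowers, Nat.card_zpowers, ht,
      hx] at hm
    have : (10 : ℤ) + z = 2 * 5 * m := by exact_mod_cast hm
    omega
  have hdiv : Nat.card (centralizer ({t} : Set G)) ∣ 144 := by
    refine ((Nat.prime_five.coprime_iff_not_dvd.2 fun h => ?_).symm).dvd_of_dvd_mul_left
      (show _ ∣ 5 * 144 from card_centralizer_dvd_720 hcard ht11)
    obtain ⟨x, hx⟩ := exists_prime_orderOf_dvd_card' (G := centralizer ({t} : Set G)) 5 h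
    exact hno x (by rw [Subgroup.orderOf_coe, hx]) (commute_of_mem_centralizer x.2)
  have hbound : 1 + u ^ 2 + (z₀ ^ 2 + z₁ ^ 2 + z₂ ^ 2) + W ^ 2 ≤ 144 := by
    have hle : (∑ ψ ∈ insert (principalIrr G) (insert e₁ (insert w U)),
        Complex.normSq ((ψ : G → ℂ) t)) ≤ (144 : ℝ) :=
      (sum_normSq_le t _).trans (by exact_mod_cast Nat.le_of_dvd (by norm_num) hdiv)
    rw [Finset.sum_insert (by
          simp only [Finset.mem_insert, not_or]
          exact ⟨ne_of_deg principal_deg hs.deg1 (by norm_num),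
            ne_of_deg principal_deg hs.degw (by norm_num),
            fun h => ne_of_deg principal_deg (hs.degU _ h) (by norm_num) rfl⟩),
      Finset.sum_insert (by
          simp only [Finset.mem_insert, not_or]
          exact ⟨ne_of_deg hs.deg1 hs.degw (by norm_num),
            fun h => ne_of_deg hs.deg1 (hs.degU _ h) (by norm_num) rfl⟩),
      Finset.sum_insert (fun h => ne_of_deg hs.degw (hs.degU _ h) (by norm_num) rfl),
      hUeq, Finset.sum_insert (by simp [h01, h02]), Finset.sum_pair h12, hu, hW, hz₀, hz₁, hz₂,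
      show ((principalIrr G : IrrCharacter G) : G → ℂ) t = 1 from rfl] at hle
    simp only [map_one, Complex.normSq_intCast] at hle
    have : (1 : ℤ) + (u * u + (W * W + (z₀ * z₀ + (z₁ * z₁ + z₂ * z₂)))) ≤ 144 := by
      exact_mod_cast hle
    linarith
  push_cast at hu2 hz₀2 hz₁2 hz₂2
  obtain ⟨a, rfl⟩ : (2 : ℤ) ∣ u := by omega
  obtain ⟨b₀, rfl⟩ : (2 : ℤ) ∣ z₀ := by omega
  obtain ⟨b₁, rfl⟩ : (2 : ℤ) ∣ z₁ := by omega
  obtain ⟨b₂, rfl⟩ : (2 : ℤ) ∣ z₂ := by omega
  have haR : a ∈ Finset.Icc (-5 : ℤ) 5 := by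
    rw [Finset.mem_Icc]
    constructor <;> nlinarith [sq_nonneg W, sq_nonneg b₀, sq_nonneg b₁, sq_nonneg b₂]
  subst hlin
  obtain ⟨ha, hb, hb2⟩ := involution_enum a haR b₀ (Finset.mem_Icc.2 ⟨by omega, by omega⟩)
    b₁ (Finset.mem_Icc.2 ⟨by omega, by omega⟩) b₂ (Finset.mem_Icc.2 ⟨by omega, by omega⟩)
    (by linarith) (by linarith)
  subst ha
  refine ⟨by simp [hu], ?_, ?_, ?_, hno, hdiv⟩
  · rw [hW, show (2 * 0 + (2 * b₀ + 2 * b₁ + 2 * b₂) - 1 : ℤ) = -3 by omega]; norm_num
  · rw [hsumU, hz₀, hz₁, hz₂, ← Int.cast_add, ← Int.cast_add,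
      show (2 * b₀ + 2 * b₁ + 2 * b₂ : ℤ) = -2 by omega]
    norm_num
  · rw [hsumU, hz₀, hz₁, hz₂]
    have : ((2 * b₀) ^ 2 + (2 * b₁) ^ 2 + (2 * b₂) ^ 2 : ℤ) = 12 := by linarith
    exact_mod_cast this

/-- No involution commutes with an element of order five. -/
theorem involution_five [Finite G] (t x : G) (ht : orderOf t = 2) (hx : orderOf x = 5) :
    ¬ Commute t x := by
  let _ : Fintype G := Fintype.ofFinite G
  obtain ⟨e₁, e₂, w, U, hs⟩ := exists_shape hcard
  exact (involution_values hcard hs ht).2.2.2.2.1 x hx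

theorem card_centralizer_five [Finite G] {x : G} (hx : orderOf x = 5) :
    Nat.card (centralizer ({x} : Set G)) = 5 :=
  (five_data hcard (involution_five hcard) hx).1

end CfsgLib.Sporadic.M11
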