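import Mathlib

/-! A finite group with a relation to a simple group of the same order, closed under products and
holding on enough pairs, is isomorphic to it. -/

set_option autoImplicit false

namespace CfsgLib.Sporadic

/-- If `R` is closed under products, holds at the pairs `(s k, t k)`, the `t k` generate the simple
group `Q`, some element is not related to `1`, and `|G| = |Q|`, then `G ≅ Q`. -/
theorem nonempty_mulEquiv_of_twin {G Q ι : Type*} [Group G] [Group Q] [Finite G] [Finite Q]
    [IsSimpleGroup Q] (hcard : Nat.card G = Nat.card Q) (R : G → Q → Prop) (h1 : R 1 1)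
    (hmul : ∀ g g' q q', R g q → R g' q' → R (g * g') (q * q'))
    (s : ι → G) (t : ι → Q) (hst : ∀ k, R (s k) (t k))
    (hgen : Subgroup.closure (Set.range t) = ⊤) (hne : ∃ q, ¬ R 1 q) :
    Nonempty (G ≃* Q) := by
  set S : Set (G × Q) := Set.range fun k => (s k, t k) with hS
  set P := Subgroup.closure S with hP
  have hR : ∀ p ∈ P, R p.1 p.2 := by
    intro p hp
    rw [← Subgroup.mem_toSubmonoid, hP, Subgroup.closure_toSubmonoid_of_finite] at hp
    induction hp using Submonoid.closure_induction with
    | mem p hp => obtain ⟨k, rfl⟩ := hp; exact hst k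
    | one => exact h1
    | mul a b _ _ ha hb => exact hmul _ _ _ _ ha hb
  let f : P →* G := (MonoidHom.fst G Q).comp P.subtype
  let p₂ : P →* Q := (MonoidHom.snd G Q).comp P.subtype
  have hsurj : Function.Surjective p₂ := by
    rw [← MonoidHom.range_eq_top, eq_top_iff, ← hgen, Subgroup.closure_le]
    rintro _ ⟨k, rfl⟩
    exact ⟨⟨(s k, t k), Subgroup.subset_closure ⟨k, rfl⟩⟩, rfl⟩
  have hnorm : (f.ker.map p₂).Normal := (inferInstance : f.ker.Normal).map p₂ hsurj
  have hbot : f.ker.map p₂ = ⊥ := by
    rcases IsSimpleGroup.eq_bot_or_eq_top_of_normal _ hnorm with h | h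
    · exact h
    · obtain ⟨q, hq⟩ := hne
      obtain ⟨⟨⟨g, q'⟩, hmem⟩, hker, hpq⟩ := (h ▸ Subgroup.mem_top q : q ∈ f.ker.map p₂)
      have e1 : g = 1 := hker
      have e2 : q' = q := hpq
      subst e1 e2
      exact absurd (hR _ hmem) hq
  have hinj : Function.Injective f := by
    refine (injective_iff_map_eq_one f).2 fun p hp => ?_
    have h2 : p₂ p ∈ f.ker.map p₂ := ⟨p, hp, rfl⟩
    rw [hbot, Subgroup.mem_bot] at h2
    exact Subtype.ext (Prod.ext hp h2)
  have hle1 := Nat.card_le_card_of_injective f hinj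
  have hle2 := Nat.card_le_card_of_surjective p₂ hsurj
  have e1 : Function.Bijective f :=
    (Nat.bijective_iff_injective_and_card f).2 ⟨hinj, le_antisymm hle1 (hcard ▸ hle2)⟩
  have e2 : Function.Bijective p₂ :=
    (Nat.bijective_iff_surjective_and_card p₂).2 ⟨hsurj, le_antisymm (hcard ▸ hle1) hle2⟩
  exact ⟨(MulEquiv.ofBijective f e1).symm.trans (MulEquiv.ofBijective p₂ e2)⟩

end CfsgLib.Sporadic
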