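import Cfsg.Agent.Lib.ClassicalGroups.UnitarySimple

/-! A permutation group induced on projective points covering the isotropic lines by unitary matrices
whose classes generate the projective special unitary group is isomorphic to it. -/

set_option autoImplicit false

namespace CfsgLib.Sporadic

open Matrix

variable {F : Type*} [Field F] {n : ℕ} {q : ℕ} {α : Type*}

/-- The permutation `σ` is the action of the matrix `M` on the projective points `pts`. -/
def Induces (pts : α → (Fin n → F)) (M : Cfsg.SU n F q) (σ : Equiv.Perm α) : Prop :=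
  ∀ i, ∃ c : F, c ≠ 0 ∧ M.1.1 *ᵥ pts i = c • pts (σ i)

/-- Pairs of a matrix and the permutation it induces. -/
def inducedPairs (pts : α → (Fin n → F)) : Subgroup (Cfsg.SU n F q × Equiv.Perm α) where
  carrier := {p | Induces pts p.1 p.2}
  one_mem' := fun i => ⟨1, one_ne_zero, by simp⟩
  mul_mem' := by
    intro a b ha hb i
    obtain ⟨c, hc, ec⟩ := hb i
    obtain ⟨d, hd, ed⟩ := ha (b.2 i)
    refine ⟨c * d, mul_ne_zero hc hd, ?_⟩
    change (a.1.1.1 * b.1.1.1) *ᵥ pts i = (c * d) • pts (a.2 (b.2 i))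
    rw [← Matrix.mulVec_mulVec, ec, Matrix.mulVec_smul, ed, smul_smul]
  inv_mem' := by
    intro a ha i
    obtain ⟨c, hc, ec⟩ := ha (a.2⁻¹ i)
    rw [show a.2 (a.2⁻¹ i) = i from a.2.apply_symm_apply i] at ec
    refine ⟨c⁻¹, inv_ne_zero hc, ?_⟩
    have h1 : (a.1⁻¹).1.1 * a.1.1.1 = 1 := by
      rw [← Matrix.SpecialLinearGroup.coe_mul, ← Subgroup.coe_mul, inv_mul_cancel]
      rfl
    change (a.1⁻¹).1.1 *ᵥ pts i = c⁻¹ • pts (a.2⁻¹ i)
    have h2 : pts i = c⁻¹ • (a.1.1.1 *ᵥ pts (a.2⁻¹ i)) := by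
      rw [ec, smul_smul, inv_mul_cancel₀ hc, one_smul]
    conv_lhs => rw [h2, Matrix.mulVec_smul, Matrix.mulVec_mulVec, h1, Matrix.one_mulVec]

/-- A group of permutations induced by unitary matrices on projective points covering all isotropic
lines is isomorphic to `PSU n F q` when the classes of those matrices generate it. -/
theorem nonempty_mulEquiv_PSU [Fintype F] (hF : Fintype.card F = q ^ 2) (hn : 3 ≤ n)
    {pts : α → (Fin n → F)} (hdist : ∀ i j, ∀ c : F, pts i = c • pts j → i = j)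
    (hcover : ∀ v : Fin n → F, v ≠ 0 → Cfsg.hermForm n F q v v = 0 → ∃ a, ∃ c : F, v = c • pts a)
    {S : Set (Equiv.Perm α)} (hS : ∀ σ ∈ S, ∃ M : Cfsg.SU n F q, Induces pts M σ)
    (hgen : ∀ K : Subgroup (Cfsg.PSU n F q),
      (∀ σ ∈ S, ∀ M : Cfsg.SU n F q, Induces pts M σ → QuotientGroup.mk M ∈ K) → K = ⊤) :
    Nonempty (Subgroup.closure S ≃* Cfsg.PSU n F q) := by
  let R := inducedPairs (q := q) pts
  let f : R →* Equiv.Perm α := (MonoidHom.snd _ _).comp R.subtype
  let A : Subgroup R := (Subgroup.closure S).comap f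
  let fA : A →* Subgroup.closure S := (f.comp A.subtype).codRestrict _ fun a => a.2
  let gA : A →* Cfsg.PSU n F q :=
    (QuotientGroup.mk' _).comp ((MonoidHom.fst _ _).comp (R.subtype.comp A.subtype))
  have hle : Subgroup.closure S ≤ f.range := by
    rw [Subgroup.closure_le]
    intro σ hσ
    obtain ⟨M, hM⟩ := hS σ hσ
    exact ⟨⟨(M, σ), hM⟩, rfl⟩
  have hsurj : Function.Surjective fA := by
    rintro ⟨σ, hσ⟩
    obtain ⟨r, hr⟩ := hle hσ
    exact ⟨⟨r, show f r ∈ _ by rw [hr]; exact hσ⟩, Subtype.ext hr⟩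
  have hker : fA.ker = gA.ker := by
    ext ⟨⟨⟨M, σ⟩, hMσ⟩, hA⟩
    simp only [MonoidHom.mem_ker]
    constructor
    · intro h
      have hσ : σ = 1 := congrArg Subtype.val h
      subst hσ
      refine (QuotientGroup.eq_one_iff _).2
        (CfsgLib.ClassicalGroups.mem_center_of_fix_lines hF hn M fun x hx0 hx => ?_)
      obtain ⟨a, c, rfl⟩ := hcover x hx0 hx
      obtain ⟨e, -, he⟩ := hMσ a
      refine ⟨e, ?_⟩
      rw [Matrix.mulVec_smul, he, smul_comm]
      rfl
    · intro h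
      have hM : M ∈ Subgroup.center (Cfsg.SU n F q) := (QuotientGroup.eq_one_iff _).1 h
      have hz := CfsgLib.ClassicalGroups.center_SU_scalar hF ⟨M, hM⟩
      have hdiag : M.1.1 = Matrix.diagonal fun _ => M.1.1 ⟨0, by omega⟩ ⟨0, by omega⟩ := by
        ext k l
        rcases eq_or_ne k l with rfl | hkl
        · rw [Matrix.diagonal_apply_eq]; exact (hz k _).2
        · rw [Matrix.diagonal_apply_ne _ hkl]; exact (hz k l).1 hkl
      refine Subtype.ext (Equiv.ext fun i => ?_)
      obtain ⟨c, hc, ec⟩ := hMσ i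
      have e : M.1.1 *ᵥ pts i = M.1.1 ⟨0, by omega⟩ ⟨0, by omega⟩ • pts i := by
        conv_lhs => rw [hdiag]
        funext k
        rw [Matrix.mulVec_diagonal, Pi.smul_apply, smul_eq_mul]
      rw [e] at ec
      change σ i = i
      refine hdist _ _ (c⁻¹ * M.1.1 ⟨0, by omega⟩ ⟨0, by omega⟩) ?_
      rw [← smul_smul, ec, smul_smul, inv_mul_cancel₀ hc, one_smul]
  have e1 : A ⧸ gA.ker ≃* Subgroup.closure S :=
    (QuotientGroup.quotientMulEquivOfEq hker.symm).trans
      (QuotientGroup.quotientKerEquivOfSurjective fA hsurj)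
  have e2 : A ⧸ gA.ker ≃* gA.range := QuotientGroup.quotientKerEquivRange gA
  have htop : gA.range = ⊤ := hgen _ fun σ hσ M hM =>
    ⟨⟨⟨(M, σ), hM⟩, Subgroup.subset_closure hσ⟩, rfl⟩
  exact ⟨e1.symm.trans (e2.trans ((MulEquiv.subgroupCongr htop).trans Subgroup.topEquiv))⟩

end CfsgLib.Sporadic
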