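import Mathlib

/-!
Square matrices over `ZMod p` packed into natural numbers, for kernel evaluation.

Entry `(i, j)` of an `n × n` matrix sits in the `w`-bit slot `i * n + j`; only the low `e` bits
of a slot are read.  The product takes `n` multiplications of a packed row for each row.
-/

set_option autoImplicit false

namespace CfsgLib.Sporadic

/-- The `i`th `w`-bit slot of `c`. -/
noncomputable def dig (w c i : ℕ) : ℕ := (c >>> (w * i)) % 2 ^ w

/-- `f 0 + 2 ^ w * f 1 + ...`, `m` slots. -/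
noncomputable def pack (w : ℕ) (f : ℕ → ℕ) (m : ℕ) : ℕ :=
  Nat.rec 0 (fun i r => r + (f i) <<< (w * i)) m

/-- `f 0 + ... + f (m - 1)`. -/
noncomputable def sumUpto (f : ℕ → ℕ) (m : ℕ) : ℕ :=
  Nat.rec 0 (fun i r => r + f i) m

theorem pack_succ (w : ℕ) (f : ℕ → ℕ) (m : ℕ) :
    pack w f (m + 1) = pack w f m + 2 ^ (w * m) * f m := by
  change pack w f m + (f m) <<< (w * m) = _
  rw [Nat.shiftLeft_eq, Nat.mul_comm (f m)]

theorem pack_eq_sum (w : ℕ) (f : ℕ → ℕ) (m : ℕ) :
    pack w f m = ∑ i ∈ Finset.range m, 2 ^ (w * i) * f i := by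
  induction m with
  | zero => rfl
  | succ m ih => rw [pack_succ, Finset.sum_range_succ, ih]

theorem sumUpto_eq_sum (f : ℕ → ℕ) (m : ℕ) : sumUpto f m = ∑ i ∈ Finset.range m, f i := by
  induction m with
  | zero => rfl
  | succ m ih =>
    change sumUpto f m + f m = _
    rw [Finset.sum_range_succ, ih]

theorem dig_lt (w c i : ℕ) : dig w c i < 2 ^ w := Nat.mod_lt _ (Nat.two_pow_pos w)

theorem pack_lt {w : ℕ} {f : ℕ → ℕ} {m : ℕ} (h : ∀ i < m, f i < 2 ^ w) :
    pack w f m < 2 ^ (w * m) := by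
  induction m with
  | zero => change (0 : ℕ) < _; simp
  | succ m ih =>
    rw [pack_succ, Nat.mul_succ, Nat.pow_add]
    have h1 := ih fun i hi => h i (by omega)
    have h2 : f m + 1 ≤ 2 ^ w := h m (by omega)
    calc pack w f m + 2 ^ (w * m) * f m < 2 ^ (w * m) * (f m + 1) := by rw [Nat.mul_succ]; omega
      _ ≤ 2 ^ (w * m) * 2 ^ w := Nat.mul_le_mul_left _ h2

theorem dig_pack {w : ℕ} {f : ℕ → ℕ} {m : ℕ} (h : ∀ i < m, f i < 2 ^ w) {j : ℕ} (hj : j < m) :
    dig w (pack w f m) j = f j := by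
  induction m with
  | zero => omega
  | succ m ih =>
    rw [pack_succ, dig, Nat.shiftRight_eq_div_pow]
    rcases Nat.lt_or_ge j m with hlt | hge
    · obtain ⟨d, rfl⟩ : ∃ d, m = j + 1 + d := ⟨m - (j + 1), by omega⟩
      rw [show w * (j + 1 + d) = w * j + (w + w * d) by ring, Nat.pow_add, Nat.mul_assoc,
        Nat.add_mul_div_left _ _ (Nat.two_pow_pos _), Nat.pow_add, Nat.mul_assoc,
        Nat.add_mul_mod_self_left, ← Nat.shiftRight_eq_div_pow]
      exact ih (fun i hi => h i (by omega)) hlt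
    · obtain rfl : j = m := by omega
      rw [Nat.add_mul_div_left _ _ (Nat.two_pow_pos _),
        Nat.div_eq_of_lt (pack_lt fun i hi => h i (by omega)), Nat.zero_add,
        Nat.mod_eq_of_lt (h _ (by omega))]

theorem dig_dig {w n c i j : ℕ} (hj : j < n) :
    dig w (dig (w * n) c i) j = dig w c (i * n + j) := by
  obtain ⟨d, rfl⟩ : ∃ d, n = j + 1 + d := ⟨n - (j + 1), by omega⟩
  simp only [dig, Nat.shiftRight_eq_div_pow]
  rw [show w * (j + 1 + d) = w * j + (w + w * d) by ring, Nat.pow_add, Nat.mod_mul_right_div_self,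
    Nat.pow_add, Nat.mod_mul_right_mod, Nat.div_div_eq_div_mul, ← Nat.pow_add]
  congr 3
  ring

theorem mod_eq_pack (w n c : ℕ) : c % 2 ^ (w * n) = pack w (dig w c) n := by
  induction n with
  | zero => simp [Nat.mod_one]; rfl
  | succ n ih =>
    rw [pack_succ, ← ih, Nat.mul_succ, Nat.pow_add, Nat.mod_mul, dig,
      Nat.shiftRight_eq_div_pow]

theorem dig_and (w a b i : ℕ) : dig w (a &&& b) i = dig w a i &&& dig w b i := by
  simp only [dig, Nat.shiftRight_and_distrib, Nat.and_mod_two_pow]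

variable (n w e p : ℕ)

/-- The entry at `(i, j)`. -/
noncomputable def entP (c i j : ℕ) : ℕ := dig w c (i * n + j) % 2 ^ e

/-- The mask keeping the low `e` bits of every slot. -/
noncomputable def maskP : ℕ := pack w (fun _ => 2 ^ e - 1) (n * n)

/-- Row `i` of the product before reduction. -/
noncomputable def rowP (a b i : ℕ) : ℕ :=
  sumUpto (fun k => entP n w e a i k * dig (w * n) b k) n

/-- The packed product. -/
noncomputable def mulP (a b : ℕ) : ℕ :=
  pack (w * n) (fun i => pack w (fun j => dig w (rowP n w e a (b &&& maskP n w e) i) j % p) n) n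

/-- The matrix coded by `c`. -/
noncomputable def decP (c : ℕ) : Matrix (Fin n) (Fin n) (ZMod p) :=
  Matrix.of fun i j => (entP n w e c i j : ZMod p)

/-- The code is the packing of its own reduced entries. -/
noncomputable def canonP (c : ℕ) : Bool :=
  c == pack (w * n) (fun i => pack w (fun j => entP n w e c i j % p) n) n

/-- Pack a matrix given by a function on indices. -/
noncomputable def encP (f : ℕ → ℕ → ℕ) : ℕ :=
  pack (w * n) (fun i => pack w (fun j => f i j % p) n) n

variable {n w e p}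

theorem decP_mulP [NeZero p] (hwe : e ≤ w) (hpe : p ≤ 2 ^ e)
    (hov : n * (2 ^ e * 2 ^ e) < 2 ^ w) (a b : ℕ) :
    decP n w e p (mulP n w e p a b) = decP n w e p a * decP n w e p b := by
  have hp : 0 < p := Nat.pos_of_ne_zero (NeZero.ne p)
  have hpw : p ≤ 2 ^ w := hpe.trans (Nat.pow_le_pow_right (by norm_num) hwe)
  have hew : 2 ^ e - 1 < 2 ^ w := by
    have := Nat.pow_le_pow_right (show 0 < 2 by norm_num) hwe
    have := Nat.two_pow_pos e
    omega
  ext i j
  have hmask : ∀ k < n, ∀ l < n, dig w (b &&& maskP n w e) (k * n + l) = entP n w e b k l := by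
    intro k hk l hl
    rw [dig_and, maskP, dig_pack (fun _ _ => hew) (by nlinarith), entP,
      Nat.and_two_pow_sub_one_eq_mod]
  have hent : ∀ x k l, entP n w e x k l < 2 ^ e := fun x k l => Nat.mod_lt _ (Nat.two_pow_pos e)
  have hrow : ∀ k ∈ Finset.range n,
      dig (w * n) (b &&& maskP n w e) k = pack w (fun l => entP n w e b k l) n := by
    intro k hk
    have h := mod_eq_pack w n (dig (w * n) (b &&& maskP n w e) k)
    rw [Nat.mod_eq_of_lt (dig_lt _ _ _)] at h
    rw [h, pack_eq_sum, pack_eq_sum]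
    refine Finset.sum_congr rfl fun l hl => ?_
    rw [dig_dig (Finset.mem_range.1 hl),
      hmask k (Finset.mem_range.1 hk) l (Finset.mem_range.1 hl)]
  let s : ℕ → ℕ → ℕ := fun i l => ∑ k ∈ Finset.range n, entP n w e a i k * entP n w e b k l
  have hs : ∀ i l, s i l < 2 ^ w := by
    intro i l
    calc s i l ≤ ∑ _k ∈ Finset.range n, 2 ^ e * 2 ^ e :=
          Finset.sum_le_sum fun k _ => Nat.mul_le_mul (hent _ _ _).le (hent _ _ _).le
      _ = n * (2 ^ e * 2 ^ e) := by simp
      _ < 2 ^ w := hov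
  have hrowP : ∀ i, rowP n w e a (b &&& maskP n w e) i = pack w (s i) n := by
    intro i
    rw [rowP, sumUpto_eq_sum, pack_eq_sum]
    simp only [s, Finset.mul_sum]
    rw [Finset.sum_comm]
    refine Finset.sum_congr rfl fun k hk => ?_
    rw [hrow k hk, pack_eq_sum, Finset.mul_sum]
    exact Finset.sum_congr rfl fun l _ => by ring
  have hlt : ∀ (f : ℕ → ℕ), ∀ l < n, f l % p < 2 ^ w := fun f l _ =>
    (Nat.mod_lt _ hp).trans_le hpw
  have hval : entP n w e (mulP n w e p a b) i j = s i j % p := by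
    rw [entP, ← dig_dig j.2, mulP,
      dig_pack (fun k _ => pack_lt (hlt _)) i.2, dig_pack (hlt _) j.2, hrowP,
      dig_pack (fun l _ => hs i l) j.2, Nat.mod_eq_of_lt ((Nat.mod_lt _ hp).trans_le hpe)]
  simp only [decP, Matrix.of_apply, Matrix.mul_apply, hval, ZMod.natCast_mod, s, Nat.cast_sum,
    Nat.cast_mul]
  rw [← Fin.sum_univ_eq_sum_range
    (fun k => (entP n w e a i k : ZMod p) * (entP n w e b k j : ZMod p))]

theorem decP_injOn [NeZero p] {a b : ℕ} (ha : canonP n w e p a = true)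
    (hb : canonP n w e p b = true) (h : decP n w e p a = decP n w e p b) : a = b := by
  rw [canonP, beq_iff_eq] at ha hb
  rw [ha, hb, pack_eq_sum, pack_eq_sum]
  refine Finset.sum_congr rfl fun i hi => ?_
  congr 1
  rw [pack_eq_sum, pack_eq_sum]
  refine Finset.sum_congr rfl fun j hj => ?_
  congr 1
  have h' := congrFun (congrFun h ⟨i, Finset.mem_range.1 hi⟩) ⟨j, Finset.mem_range.1 hj⟩
  simp only [decP, Matrix.of_apply] at h'
  exact (ZMod.natCast_eq_natCast_iff' _ _ _).1 h'

end CfsgLib.Sporadic
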