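import Cfsg.Agent.Lib.Sporadic.J1Data
import Cfsg.Agent.Lib.Sporadic.MatModP

/-! Kernel evaluation of the certificates for J1. -/

set_option autoImplicit false

namespace CfsgLib.Sporadic.J1

/-- Product of codes. -/
noncomputable abbrev mul : ℕ → ℕ → ℕ := mulP 7 12 4 11

/-- Canonical codes. -/
noncomputable abbrev canon : ℕ → Bool := canonP 7 12 4 11

theorem gens_par : allFrom 0 266 (parentOK mul one gens 266 topT topPar) = true := by
  decide +kernel

theorem top_fac :
    allFrom 0 532 (stepOK mul one gens 266 topT topFac [(660, kT)]) = true := by
  decide +kernel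

theorem k_par : allFrom 0 660 (parentOK mul one kGens 660 kT kPar) = true := by
  decide +kernel

theorem k_fac : allFrom 0 1320 (stepOK mul one kGens 660 kT kFac []) = true := by
  decide +kernel

theorem k_dist : allFrom 0 660 (distinctOK canon 660 kT kSrt kPos kInv) = true := by
  decide +kernel

theorem k_words : kWords.map (genWord mul one gens) = kGens := by
  decide +kernel

theorem s2_par : allFrom 0 8 (parentOK mul one s2Gens 8 s2T s2Par) = true := by
  decide +kernel

theorem s2_fac : allFrom 0 24 (stepOK mul one s2Gens 8 s2T s2Fac []) = true := by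
  decide +kernel

theorem s2_dist : allFrom 0 8 (distinctOK canon 8 s2T s2Srt s2Pos s2Inv) = true := by
  decide +kernel

theorem s2_words : s2Words.map (genWord mul one gens) = s2Gens := by
  decide +kernel

theorem s7_par : allFrom 0 7 (parentOK mul one s7Gens 7 s7T s7Par) = true := by
  decide +kernel

theorem s7_fac : allFrom 0 7 (stepOK mul one s7Gens 7 s7T s7Fac []) = true := by
  decide +kernel

theorem s7_dist : allFrom 0 7 (distinctOK canon 7 s7T s7Srt s7Pos s7Inv) = true := by
  decide +kernel

theorem s7_words : s7Words.map (genWord mul one gens) = s7Gens := by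
  decide +kernel

theorem s19_par : allFrom 0 19 (parentOK mul one s19Gens 19 s19T s19Par) = true := by
  decide +kernel

theorem s19_fac : allFrom 0 19 (stepOK mul one s19Gens 19 s19T s19Fac []) = true := by
  decide +kernel

theorem s19_dist : allFrom 0 19 (distinctOK canon 19 s19T s19Srt s19Pos s19Inv) = true := by
  decide +kernel

theorem s19_words : s19Words.map (genWord mul one gens) = s19Gens := by
  decide +kernel

end CfsgLib.Sporadic.J1
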