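import Cfsg.Agent.Lib.Sporadic.HallJanko
import Cfsg.Agent.Lib.Sporadic.HallJankoOrdersData

/-!
The element orders of the group of order 604800 on 100 points.

An element is conjugated by the point stabiliser so that it sends the first point to one of three
points, then by the two point stabiliser into one of 20 cosets of that stabiliser, so 3360 elements
remain.  Whether a power of one of them is trivial is tested on four points forming a base.
-/

set_option autoImplicit false
set_option maxRecDepth 20000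

noncomputable section

namespace CfsgLib.Sporadic.HallJanko.Orders

open PermCode HallJanko

/-- The four points of the base. -/
def base : List ℕ := [0, 7, 1, 2]

theorem exists_table {H L : Subgroup (Equiv.Perm Pt)} {n : ℕ} {T : Tr} {p : Pt} (hLH : L ≤ H)
    (hfix : L ≤ MulAction.stabilizer (Equiv.Perm Pt) p) (hcard : Nat.card H = n * Nat.card L)
    (hT : ∀ i < n, CodeMem emb dec H (T.get i)) (hnd : (images n T p).Nodup) {h : Equiv.Perm Pt}
    (hh : h ∈ H) : ∃ i < n, ∃ t ∈ H, emb t = dec (T.get i) ∧ t⁻¹ * h ∈ L := by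
  classical
  choose g hg e using fun i : Fin n => hT i i.2
  let F : Fin n × L → H := fun q => ⟨g q.1 * q.2, mul_mem (hg _) (hLH q.2.2)⟩
  have hF : Function.Injective F := by
    rintro ⟨i, l⟩ ⟨j, m⟩ hq
    have hq' : g i * (l : Equiv.Perm Pt) = g j * m := congrArg Subtype.val hq
    have hp : g i p = g j p := by
      have h' := congrArg (fun z : Equiv.Perm Pt => z p) hq'
      simpa [Equiv.Perm.mul_apply, show (l : Equiv.Perm Pt) p = p from hfix l.2,
        show (m : Equiv.Perm Pt) p = p from hfix m.2] using h'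
    have hij : img (T.get i) p = img (T.get j) p := by
      rw [← apply_eq (e i) p, ← apply_eq (e j) p, hp]
    obtain rfl : i = j :=
      Fin.ext (List.inj_on_of_nodup_map hnd (List.mem_range.2 i.2) (List.mem_range.2 j.2) hij)
    exact Prod.ext rfl (Subtype.ext (mul_left_cancel hq'))
  have hbij : Function.Bijective F :=
    (Nat.bijective_iff_injective_and_card F).2
      ⟨hF, by rw [Nat.card_prod, Nat.card_fin, hcard]⟩
  obtain ⟨⟨i, l⟩, hq⟩ := hbij.2 ⟨h, hh⟩
  refine ⟨i, i.2, g i, hg i, e i, ?_⟩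
  have hq' : g i * (l : Equiv.Perm Pt) = h := congrArg Subtype.val hq
  rw [← hq', inv_mul_cancel_left]
  exact l.2

theorem grp_table {h : Equiv.Perm Pt} (hh : h ∈ grp) :
    ∃ i < 100, ∃ t ∈ grp, emb t = dec (topT.get i) ∧ t⁻¹ * h ∈ kGrp :=
  exists_table kGrp_le kGrp_fix (by rw [card_grp, card_kGrp]) topT_mem topT_images hh

theorem kT_images : (images 36 kT ptP).Nodup := by decide +kernel

theorem kGrp_table {h : Equiv.Perm Pt} (hh : h ∈ kGrp) :
    ∃ i < 36, ∃ t ∈ kGrp, emb t = dec (kT.get i) ∧ t⁻¹ * h ∈ lGrp :=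
  exists_table (p := ⟨ptP % 100, by decide⟩) lGrp_le lGrp_fix
    (by rw [card_kGrp, card_lGrp.1]) kT_mem kT_images hh

theorem lT_pairs :
    ((List.range 168).map fun i => img (lT.get i) 1 * 100 + img (lT.get i) 2).Nodup := by
  decide +kernel

theorem lT_zero : lT.get 0 = one := by decide +kernel

theorem lGrp_table {h : Equiv.Perm Pt} (hh : h ∈ lGrp) : ∃ i < 168, emb h = dec (lT.get i) := by
  choose g hg e using fun i : Fin 168 => card_lGrp.2 i i.2
  let F : Fin 168 → lGrp := fun i => ⟨g i, hg i⟩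
  have hF : Function.Injective F := fun i j hij => by
    have hij' : g i = g j := congrArg Subtype.val hij
    refine Fin.ext (List.inj_on_of_nodup_map lT_pairs (List.mem_range.2 i.2)
      (List.mem_range.2 j.2) ?_)
    have h1 : img (lT.get i) 1 = img (lT.get j) 1 := by
      rw [show (1 : ℕ) = ((1 : Pt) : ℕ) from rfl, ← apply_eq (e i), ← apply_eq (e j), hij']
    have h2 : img (lT.get i) 2 = img (lT.get j) 2 := by
      rw [show (2 : ℕ) = ((2 : Pt) : ℕ) from rfl, ← apply_eq (e i), ← apply_eq (e j), hij']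
    rw [h1, h2]
  have hbij : Function.Bijective F :=
    (Nat.bijective_iff_injective_and_card F).2 ⟨hF, by rw [Nat.card_fin, card_lGrp.1]⟩
  obtain ⟨i, hi⟩ := hbij.2 ⟨h, hh⟩
  exact ⟨i, i.2, by rw [← e i, show g i = h from congrArg Subtype.val hi]⟩

theorem eq_one_of_base {h : Equiv.Perm Pt} (hh : h ∈ grp)
    (hb : ∀ b ∈ base, ∀ p : Pt, (p : ℕ) = b → h p = p) : h = 1 := by
  obtain ⟨i, hi, t, -, et, hk⟩ := grp_table hh
  have h0 : h 0 = 0 := hb 0 (by simp [base]) 0 rfl
  have ht0 : t 0 = 0 := by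
    have h' : (t⁻¹ * h) 0 = 0 := kGrp_fix hk
    rw [Equiv.Perm.mul_apply, h0] at h'
    exact (Equiv.Perm.inv_eq_iff_eq.1 h').symm
  obtain rfl : i = 0 := by
    have e0 : img (topT.get i) 0 = img (topT.get 0) 0 := by
      rw [show (0 : ℕ) = ((0 : Pt) : ℕ) from rfl, ← apply_eq et, ht0]
      decide +kernel
    exact List.inj_on_of_nodup_map topT_images (List.mem_range.2 hi)
      (List.mem_range.2 (by norm_num)) e0
  obtain rfl : t = 1 := hemb (by
    rw [et, map_one, show topT.get 0 = one by decide +kernel, hone])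
  rw [inv_one, one_mul] at hk
  obtain ⟨j, hj, u, -, eu, hl⟩ := kGrp_table hk
  let q : Pt := ⟨ptP % 100, by decide⟩
  have h7 : h q = q := hb 7 (by simp [base]) q (by decide)
  have hu7 : u q = q := by
    have h' : (u⁻¹ * h) q = q := lGrp_fix hl
    rw [Equiv.Perm.mul_apply, h7] at h'
    exact (Equiv.Perm.inv_eq_iff_eq.1 h').symm
  obtain rfl : j = 0 := by
    have e0 : img (kT.get j) ptP = img (kT.get 0) ptP := by
      have := apply_eq eu q
      rw [hu7] at this
      rw [show img (kT.get j) ptP = img (kT.get j) (q : ℕ) from rfl, ← this]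
      decide +kernel
    exact List.inj_on_of_nodup_map kT_images (List.mem_range.2 hj)
      (List.mem_range.2 (by norm_num)) e0
  obtain rfl : u = 1 := hemb (by
    rw [eu, map_one, show kT.get 0 = one by decide +kernel, hone])
  rw [inv_one, one_mul] at hl
  obtain ⟨m, hm, em⟩ := lGrp_table hl
  obtain rfl : m = 0 := by
    refine List.inj_on_of_nodup_map lT_pairs (List.mem_range.2 hm)
      (List.mem_range.2 (by norm_num)) ?_
    have h1 := apply_eq em (1 : Pt)
    have h2 := apply_eq em (2 : Pt)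
    rw [hb 1 (by simp [base]) 1 rfl] at h1
    rw [hb 2 (by simp [base]) 2 rfl] at h2
    change img (lT.get m) 1 * 100 + img (lT.get m) 2 = _
    rw [show img (lT.get m) 1 = 1 from h1.symm, show img (lT.get m) 2 = 2 from h2.symm]
    decide +kernel
  exact hemb (by rw [em, map_one, lT_zero, hone])

/-- Iteration. -/
def iter (n : ℕ) (f : ℕ → ℕ) (x : ℕ) : ℕ := Nat.rec x (fun _ r => f r) n

/-- The image under the product of two coded elements. -/
def step (c l x : ℕ) : ℕ := img c (img l x)

/-- The `n`th power of the product of two coded elements fixes the base. -/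
def powOK (c l n : ℕ) : Bool := base.all fun b => iter n (step c l) b == b

theorem pow_apply_eq {h g l : Equiv.Perm Pt} {c d : ℕ} (hh : h = g * l) (eg : emb g = dec c)
    (el : emb l = dec d) (n : ℕ) (p : Pt) : (((h ^ n) p : Pt) : ℕ) = iter n (step c d) p := by
  induction n with
  | zero => rfl
  | succ n ih =>
    rw [pow_succ', Equiv.Perm.mul_apply]
    nth_rw 1 [hh]
    rw [Equiv.Perm.mul_apply, apply_eq eg, apply_eq el, ih]
    rfl

theorem pow_eq_one_of_powOK {h g l : Equiv.Perm Pt} {c d : ℕ} (hh : h = g * l)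
    (eg : emb g = dec c) (el : emb l = dec d) (hmem : h ∈ grp) {n : ℕ}
    (hok : powOK c d n = true) : h ^ n = 1 := by
  refine eq_one_of_base (pow_mem hmem n) fun b hb p hp => Fin.ext ?_
  rw [pow_apply_eq hh eg el, hp]
  exact beq_iff_eq.1 (List.all_eq_true.1 hok b hb)

theorem powOK_of_pow_eq_one {h g l : Equiv.Perm Pt} {c d : ℕ} (hh : h = g * l)
    (eg : emb g = dec c) (el : emb l = dec d) {n : ℕ} (hn : h ^ n = 1) : powOK c d n = true := by
  refine List.all_eq_true.2 fun b hb => beq_iff_eq.2 ?_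
  have hb' : b < 100 := (show ∀ b ∈ base, b < 100 by decide) b hb
  have := pow_apply_eq hh eg el n ⟨b, hb'⟩
  rw [hn] at this
  exact this.symm

/-- The numbers 7, 8, 10, 12, 15. -/
def expo : List ℕ := [7, 8, 10, 12, 15]

/-- Every element of the representative cosets has order dividing 7, 8, 10, 12 or 15. -/
theorem reps_ok : allFrom 0 20 (fun r => allFrom 0 168 fun m =>
    powOK (repT.get r) (lT.get m) (expo.getD (expT.get r / 2 ^ (3 * m) % 8) 7)) = true := by
  decide +kernel

/-- The code of a coset. -/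
def cosetCode (i : ℕ) : ℕ := mul (topT.get (topIx.getD (i / 36) 0)) (kT.get (i % 36))

theorem cosets_ok : allFrom 0 108 (fun i => Nat.blt (repIx.get i) 20 && Nat.blt (conjIx.get i) 168 &&
    Nat.blt (restIx.get i) 168 &&
    (mul (lT.get (conjIx.get i)) (cosetCode i) == mul (repT.get (repIx.get i)) (lT.get (restIx.get i)))) =
      true := by
  decide +kernel

theorem exists_pow_eq_one_coset {i : ℕ} (hi : i < 108) {g l : Equiv.Perm Pt} (hg : g ∈ grp)
    (eg : emb g = dec (cosetCode i)) (hl : l ∈ lGrp) : ∃ n ∈ expo, (g * l) ^ n = 1 := by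
  have h := of_allFrom_zero cosets_ok hi
  simp only [Bool.and_eq_true, Nat.blt_eq, beq_iff_eq] at h
  obtain ⟨⟨⟨hr, hs⟩, hm⟩, he⟩ := h
  obtain ⟨s, hsL, es⟩ := card_lGrp.2 _ hs
  obtain ⟨u, huL, eu⟩ := card_lGrp.2 _ hm
  have hle : lGrp ≤ grp := lGrp_le.trans kGrp_le
  let r : Equiv.Perm Pt := s * g * u⁻¹
  have er : emb r = dec (repT.get (repIx.get i)) := by
    have h1 : emb (s * g) = dec (repT.get (repIx.get i)) * emb u := by
      rw [map_mul, es, eg, ← hmul, he, hmul, eu]
    rw [map_mul, h1, mul_assoc, ← map_mul, mul_inv_cancel, map_one, mul_one]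
  obtain ⟨w, hw, ew⟩ := lGrp_table (mul_mem (mul_mem huL hl) (inv_mem hsL))
  have hx : s * (g * l) * s⁻¹ = r * (u * l * s⁻¹) := by
    simp only [r, mul_assoc, inv_mul_cancel_left]
  have hmem : s * (g * l) * s⁻¹ ∈ grp :=
    mul_mem (mul_mem (hle hsL) (mul_mem hg (hle hl))) (inv_mem (hle hsL))
  have hok := of_allFrom_zero (of_allFrom_zero reps_ok hr) hw
  refine ⟨_, ?_, conj_eq_one_iff.1 (by
    rw [← conj_pow]; exact pow_eq_one_of_powOK hx er ew hmem hok)⟩
  have : ∀ k : ℕ, expo.getD k 7 ∈ expo := by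
    intro k
    by_cases hk : k < expo.length
    · rw [List.getD_eq_getElem _ _ hk]; exact List.getElem_mem hk
    · rw [List.getD_eq_default _ _ (by omega)]; simp [expo]
  exact this _

theorem top_points : (List.range 100).all (fun i =>
    !([0, ptP, ptR].contains (img (topT.get i) 0)) || topIx.contains i) = true := by decide +kernel

theorem exists_pow_eq_one_reduced {g : Equiv.Perm Pt} (hg : g ∈ grp)
    (h0 : (g 0 : ℕ) ∈ [0, ptP, ptR]) : ∃ n ∈ expo, g ^ n = 1 := by
  obtain ⟨i, hi, t, ht, et, hk⟩ := grp_table hg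
  have ht0 : (t 0 : ℕ) = (g 0 : ℕ) := by
    have h' : (t⁻¹ * g) 0 = 0 := kGrp_fix hk
    rw [Equiv.Perm.mul_apply] at h'
    rw [Equiv.Perm.inv_eq_iff_eq.1 h']
  have hix : i ∈ topIx := by
    have h := List.all_eq_true.1 top_points i (List.mem_range.2 hi)
    rw [← ht0, apply_eq et] at h0
    change img (topT.get i) 0 ∈ _ at h0
    rw [Bool.or_eq_true, Bool.not_eq_true'] at h
    rcases h with h | h
    · rw [List.contains_iff_mem.2 h0] at h
      cases h
    · exact List.contains_iff_mem.1 h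
  obtain ⟨j, hj, rfl⟩ := List.getElem_of_mem hix
  have hj3 : j < 3 := hj
  obtain ⟨a, ha, u, hu, eu, hl⟩ := kGrp_table hk
  have hic : 36 * j + a < 108 := by omega
  have ec : emb (t * u) = dec (cosetCode (36 * j + a)) := by
    rw [map_mul, et, eu, ← hmul, cosetCode, show (36 * j + a) / 36 = j by omega,
      show (36 * j + a) % 36 = a by omega, List.getD_eq_getElem _ _ hj]
  obtain ⟨n, hn, hp⟩ := exists_pow_eq_one_coset hic (mul_mem ht (kGrp_le hu)) ec hl
  refine ⟨n, hn, ?_⟩
  rwa [show t * u * (u⁻¹ * (t⁻¹ * g)) = g by group] at hp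

/-- Every element has order dividing 7, 8, 10, 12 or 15. -/
theorem exists_pow_eq_one {g : Equiv.Perm Pt} (hg : g ∈ grp) : ∃ n ∈ expo, g ^ n = 1 := by
  have key : ∀ {m : ℕ} {T : Tr} {p : Pt}, (∀ i < m, CodeMem emb dec kGrp (T.get i)) →
      (g 0 : ℕ) ∈ images m T p → (p : ℕ) ∈ [0, ptP, ptR] → ∃ n ∈ expo, g ^ n = 1 := by
    intro m T p hT hm hp
    obtain ⟨i, hi, e⟩ := List.mem_map.1 hm
    obtain ⟨k, hk, ek⟩ := hT i (List.mem_range.1 hi)
    have hkp : k p = g 0 := Fin.ext ((apply_eq ek p).trans e)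
    have h0 : (k⁻¹ * g * k) 0 = p := by
      rw [Equiv.Perm.mul_apply, Equiv.Perm.mul_apply, show k 0 = 0 from kGrp_fix hk, ← hkp]
      simp
    obtain ⟨n, hn, h'⟩ := exists_pow_eq_one_reduced
      (mul_mem (mul_mem (inv_mem (kGrp_le hk)) hg) (kGrp_le hk)) (by rw [h0]; exact hp)
    refine ⟨n, hn, ?_⟩
    have h2 : (k⁻¹ * g * (k⁻¹)⁻¹) ^ n = k⁻¹ * g ^ n * (k⁻¹)⁻¹ := conj_pow
    rw [inv_inv, h'] at h2
    calc g ^ n = k * (k⁻¹ * g ^ n * k) * k⁻¹ := by group
      _ = 1 := by rw [← h2, mul_one, mul_inv_cancel]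
  have h := List.all_eq_true.1 cover (g 0).val (List.mem_range.2 (g 0).2)
  simp only [Bool.or_eq_true, beq_iff_eq, List.contains_iff_mem] at h
  rcases h with (h | h) | h
  · exact exists_pow_eq_one_reduced hg (by rw [h]; simp)
  · exact key (p := ⟨ptP % 100, by decide⟩) kT_mem h (by decide)
  · exact key (p := ⟨ptR % 100, by decide⟩) oT_mem h (by decide)

/-- The element given by a representative coset and an index. -/
theorem exists_orderOf (r m n : ℕ) (hr : (List.range 108).any (fun i => repIx.get i == r) = true)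
    (hm : m < 168) (hn0 : 0 < n) (hn : powOK (repT.get r) (lT.get m) n = true)
    (hd : ∀ d ∈ n.properDivisors, powOK (repT.get r) (lT.get m) d = false) :
    ∃ g : grp, orderOf g = n := by
  obtain ⟨i, hi, he⟩ := List.any_eq_true.1 hr
  rw [List.mem_range] at hi
  rw [beq_iff_eq] at he
  have h := of_allFrom_zero cosets_ok hi
  simp only [Bool.and_eq_true, Nat.blt_eq, beq_iff_eq] at h
  obtain ⟨⟨⟨-, hs⟩, hm'⟩, hcode⟩ := h
  have hle : lGrp ≤ grp := lGrp_le.trans kGrp_le
  obtain ⟨s, hsL, es⟩ := card_lGrp.2 _ hs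
  obtain ⟨u, huL, eu⟩ := card_lGrp.2 _ hm'
  obtain ⟨l, hlL, el⟩ := card_lGrp.2 m hm
  have hj : topIx.getD (i / 36) 0 < 100 := by
    have : ∀ k < 3, topIx.getD k 0 < 100 := by decide
    exact this _ (by omega)
  obtain ⟨t, ht, et⟩ := topT_mem _ hj
  obtain ⟨v, hv, ev⟩ := kT_mem (i % 36) (Nat.mod_lt _ (by norm_num))
  let c : Equiv.Perm Pt := s * (t * v) * u⁻¹
  have ec : emb c = dec (repT.get r) := by
    have h1 : emb (s * (t * v)) = dec (repT.get r) * emb u := by
      rw [map_mul, map_mul, es, et, ev, ← hmul, ← hmul, eu, ← hmul]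
      change dec (mul _ (cosetCode i)) = _
      rw [hcode, he]
    rw [map_mul, h1, mul_assoc, ← map_mul, mul_inv_cancel, map_one, mul_one]
  have hc : c ∈ grp :=
    mul_mem (mul_mem (hle hsL) (mul_mem ht (kGrp_le hv))) (inv_mem (hle huL))
  refine ⟨⟨c * l, mul_mem hc (hle hlL)⟩, ?_⟩
  rw [Subgroup.orderOf_mk]
  have hp := pow_eq_one_of_powOK rfl ec el (mul_mem hc (hle hlL)) hn
  by_contra hne
  have hlt : orderOf (c * l) ∈ n.properDivisors :=
    Nat.mem_properDivisors.2 ⟨orderOf_dvd_of_pow_eq_one hp,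
      lt_of_le_of_ne (orderOf_le_of_pow_eq_one (by omega) hp) hne⟩
  exact Bool.false_ne_true ((hd _ hlt).symm.trans
    (powOK_of_pow_eq_one rfl ec el (pow_orderOf_eq_one _)))

/-- The element orders. -/
theorem range_orderOf :
    Set.range (orderOf : grp → ℕ) = {d | ∃ n ∈ expo, d ∣ n} := by
  ext d
  constructor
  · rintro ⟨g, rfl⟩
    obtain ⟨n, hn, hp⟩ := exists_pow_eq_one g.2
    exact ⟨n, hn, orderOf_dvd_of_pow_eq_one (Subtype.ext hp)⟩
  · rintro ⟨n, hn, hd⟩
    obtain ⟨g, hg⟩ : ∃ g : grp, orderOf g = n := by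
      simp only [expo, List.mem_cons, List.not_mem_nil, or_false] at hn
      rcases hn with rfl | rfl | rfl | rfl | rfl
      · exact exists_orderOf 0 2 7 (by decide +kernel) (by norm_num) (by norm_num) (by decide +kernel)
          (by decide +kernel)
      · exact exists_orderOf 1 7 8 (by decide +kernel) (by norm_num) (by norm_num) (by decide +kernel)
          (by decide +kernel)
      · exact exists_orderOf 4 6 10 (by decide +kernel) (by norm_num) (by norm_num) (by decide +kernel)
          (by decide +kernel)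
      · exact exists_orderOf 1 0 12 (by decide +kernel) (by norm_num) (by norm_num) (by decide +kernel)
          (by decide +kernel)
      · exact exists_orderOf 4 3 15 (by decide +kernel) (by norm_num) (by norm_num) (by decide +kernel)
          (by decide +kernel)
    have hpos : 0 < n := hg ▸ orderOf_pos g
    refine ⟨g ^ (n / d), ?_⟩
    rw [orderOf_pow, hg, Nat.gcd_eq_right (Nat.div_dvd_of_dvd hd), Nat.div_div_self hd hpos.ne']

end CfsgLib.Sporadic.HallJanko.Orders

end
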