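import Cfsg.Agent.Lib.Sporadic.HallJankoOrders
import Cfsg.Agent.Lib.Sporadic.HallJankoAutData
import Cfsg.Prelude.Def_KGroupFacts

/-!
The outer automorphism group of the group of order 604800 on 100 points has order 2.

The squares of the elements of order 4 form one set of 315 involutions, so an automorphism maps
four generating involutions of that set to four others with the same orders of products of two.
Such quadruples form two classes under conjugation, exchanged by a permutation of the 100 points.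
-/

set_option autoImplicit false
set_option maxRecDepth 20000

noncomputable section

namespace CfsgLib.Sporadic.HallJanko.Aut

open PermCode HallJanko Orders

seal cT repT lT

/-- The elements listed in the table. -/
def IsC (x : Equiv.Perm Pt) : Prop := ∃ i < 315, emb x = dec (cT.get i)

theorem conj_of_code {g X : Equiv.Perm Pt} {q a b : ℕ} (eg : emb g = dec q) (eX : emb X = dec a)
    (he : mul q a = mul b q) : emb (g * X * g⁻¹) = dec b := by
  have h : emb (g * X) = dec b * emb g := by rw [map_mul, eg, eX, ← hmul, he, hmul]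
  rw [map_mul, h, mul_assoc, ← map_mul, mul_inv_cancel, map_one, mul_one]

theorem eq_conj_of_code {g X Y : Equiv.Perm Pt} {q a b : ℕ} (eg : emb g = dec q)
    (eX : emb X = dec a) (eY : emb Y = dec b) (he : mul q a = mul b q) : g * X * g⁻¹ = Y :=
  hemb ((conj_of_code eg eX he).trans eY.symm)

theorem inv_conj_of_code {g X : Equiv.Perm Pt} {q a b : ℕ} (eg : emb g = dec q)
    (eX : emb X = dec b) (he : mul q a = mul b q) : emb (g⁻¹ * X * g) = dec a := by
  have h : emb (X * g) = emb g * dec a := by rw [map_mul, eg, eX, ← hmul, ← he, hmul]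
  rw [mul_assoc, map_mul, h, ← mul_assoc, ← map_mul, inv_mul_cancel, map_one, one_mul]

theorem actTab_ok : allFrom 0 2 (fun q => allFrom 0 315 fun i =>
    Nat.blt ((actTab.getD q []).getD i 0) 315 &&
      (mul (gens.getD q one) (cT.get i) ==
        mul (cT.get ((actTab.getD q []).getD i 0)) (gens.getD q one))) = true := by
  decide +kernel

theorem isC_conj {g : Equiv.Perm Pt} (hg : g ∈ grp) {x : Equiv.Perm Pt} (hx : IsC x) :
    IsC (g * x * g⁻¹) := by
  classical
  let S : Finset (Equiv.Perm Pt) := Finset.univ.filter IsC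
  let K : Subgroup (Equiv.Perm Pt) :=
    { carrier := {h | ∀ y, IsC y ↔ IsC (h * y * h⁻¹)}
      one_mem' := fun y => by simp
      mul_mem' := fun {a b} ha hb y => by
        rw [hb y, ha]
        simp only [mul_assoc, mul_inv_rev]
      inv_mem' := fun {a} ha y => by
        rw [ha (a⁻¹ * y * a⁻¹⁻¹)]
        simp [mul_assoc] }
  have key : ∀ q < 2, ∀ h : Equiv.Perm Pt, emb h = dec (gens.getD q one) → h ∈ K := by
    intro q hq h eh
    have hsub : ∀ y, IsC y → IsC (h * y * h⁻¹) := by
      rintro y ⟨i, hi, ey⟩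
      have hok := of_allFrom_zero (of_allFrom_zero actTab_ok hq) hi
      simp only [Bool.and_eq_true, Nat.blt_eq, beq_iff_eq] at hok
      exact ⟨_, hok.1, conj_of_code eh ey hok.2⟩
    have himg : S.image (fun y => h * y * h⁻¹) = S := by
      refine Finset.eq_of_subset_of_card_le ?_ ?_
      · intro z hz
        obtain ⟨y, hy, rfl⟩ := Finset.mem_image.1 hz
        exact Finset.mem_filter.2 ⟨Finset.mem_univ _, hsub y (Finset.mem_filter.1 hy).2⟩
      · rw [Finset.card_image_of_injective]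
        intro a b hab
        simpa using hab
    intro y
    refine ⟨hsub y, fun hy => ?_⟩
    have hm : h * y * h⁻¹ ∈ S.image fun y => h * y * h⁻¹ := by
      rw [himg]; exact Finset.mem_filter.2 ⟨Finset.mem_univ _, hy⟩
    obtain ⟨z, hz, e⟩ := Finset.mem_image.1 hm
    obtain rfl : z = y := by simpa using e
    exact (Finset.mem_filter.1 hz).2
  have hle : grp ≤ K := by
    refine (Subgroup.closure_le _).2 ?_
    rintro s (rfl | rfl)
    · exact key 0 (by norm_num) _ (emb_A.trans (by simp [gens]))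
    · exact key 1 (by norm_num) _ (emb_B.trans (by simp [gens]))
  exact (hle hg x).1 hx

/-- A chain of conjugations from a root. -/
def reachOK (gs : List ℕ) : List ℕ → List (ℕ × ℕ × ℕ) → Bool
  | _, [] => true
  | seen, (x, i, p) :: rest =>
    seen.contains p && Nat.blt i gs.length &&
      (mul (gs.getD i one) (cT.get p) == mul (cT.get x) (gs.getD i one)) && reachOK gs (x :: seen) rest

theorem reach {H : Subgroup (Equiv.Perm Pt)} {gs : List ℕ} (hgs : ∀ c ∈ gs, CodeMem emb dec H c)
    {R : Equiv.Perm Pt} : ∀ (steps : List (ℕ × ℕ × ℕ)) (seen : List ℕ),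
    reachOK gs seen steps = true →
    (∀ x ∈ seen, ∀ X, emb X = dec (cT.get x) → ∃ h ∈ H, h * X * h⁻¹ = R) →
    ∀ x ∈ seen ++ steps.map Prod.fst, ∀ X, emb X = dec (cT.get x) → ∃ h ∈ H, h * X * h⁻¹ = R
  | [], seen, _, hseen, x, hx => hseen x (by simpa using hx)
  | (y, i, p) :: rest, seen, hok, hseen, x, hx => by
    simp only [reachOK, Bool.and_eq_true, List.contains_iff_mem, Nat.blt_eq, beq_iff_eq] at hok
    obtain ⟨⟨⟨hp, hi⟩, he⟩, hrest⟩ := hok
    refine reach hgs rest (y :: seen) hrest ?_ x ?_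
    · intro z hz
      rcases List.mem_cons.1 hz with rfl | hz
      · intro X eX
        obtain ⟨g, hg, eg⟩ := hgs (gs.getD i one)
          (by rw [List.getD_eq_getElem gs one hi]; exact List.getElem_mem hi)
        obtain ⟨h, hh, e⟩ := hseen p hp _ (inv_conj_of_code eg eX he)
        refine ⟨h * g⁻¹, mul_mem hh (inv_mem hg), ?_⟩
        rw [← e]
        group
      · exact hseen z hz
    · simp only [List.map_cons, List.mem_append, List.mem_cons] at hx ⊢
      rcases hx with hx | hx | hx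
      exacts [Or.inl (Or.inr hx), Or.inl (Or.inl hx), Or.inr hx]

theorem reach_root {H : Subgroup (Equiv.Perm Pt)} {gs : List ℕ}
    (hgs : ∀ c ∈ gs, CodeMem emb dec H c) {R : Equiv.Perm Pt} {r : ℕ} (eR : emb R = dec (cT.get r))
    {steps : List (ℕ × ℕ × ℕ)} (hok : reachOK gs [r] steps = true) {x : ℕ}
    (hx : (r :: steps.map Prod.fst).contains x = true) {X : Equiv.Perm Pt}
    (eX : emb X = dec (cT.get x)) : ∃ h ∈ H, h * X * h⁻¹ = R := by
  refine reach hgs steps [r] hok (fun y hy X eX => ⟨1, one_mem H, ?_⟩) x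
    (List.contains_iff_mem.1 hx) X eX
  obtain rfl : y = r := by simpa using hy
  simp [hemb (eX.trans eR.symm)]

/-- The product of two coded elements has order `k`. -/
def ordOK (c d k : ℕ) : Bool :=
  powOK c d k && (List.range k).all fun j => (j == 0) || !powOK c d j

theorem ordOK_iff {g l : Equiv.Perm Pt} {c d k : ℕ} (hk : 0 < k) (eg : emb g = dec c)
    (el : emb l = dec d) (hmem : g * l ∈ grp) : ordOK c d k = true ↔ orderOf (g * l) = k := by
  simp only [ordOK, Bool.and_eq_true, List.all_eq_true, List.mem_range, Bool.or_eq_true,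
    beq_iff_eq, Bool.not_eq_true']
  constructor
  · rintro ⟨h1, h2⟩
    have hp := pow_eq_one_of_powOK rfl eg el hmem h1
    rw [orderOf_eq_iff hk]
    refine ⟨hp, fun j hj hj0 hj1 => ?_⟩
    rcases h2 j hj with h | h
    · omega
    · rw [powOK_of_pow_eq_one rfl eg el hj1] at h
      cases h
  · intro h
    refine ⟨powOK_of_pow_eq_one rfl eg el (h ▸ pow_orderOf_eq_one _), fun j hj => ?_⟩
    by_cases hj0 : j = 0
    · exact Or.inl hj0
    refine Or.inr (Bool.eq_false_iff.2 fun hj1 => ?_)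
    exact ((orderOf_eq_iff hk).1 h).2 j hj (by omega) (pow_eq_one_of_powOK rfl eg el hmem hj1)

/-- An entry of the table passes the tests on orders of products. -/
def cand (refs : List (ℕ × ℕ)) (x : ℕ) : Bool :=
  refs.all fun q => ordOK (cT.get q.1) (cT.get x) q.2

/-- The four generating involutions. -/
def tIdx : List ℕ := [0, 1, 2, 12]

theorem tWords_ok : tWords.map (genWord mul one gens) = tIdx.map cT.get := by decide +kernel

theorem codeMem_t {i : ℕ} (hi : i ∈ tIdx) : CodeMem emb dec grp (cT.get i) := by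
  have : cT.get i ∈ tWords.map (genWord mul one gens) :=
    tWords_ok ▸ List.mem_map.2 ⟨i, hi, rfl⟩
  obtain ⟨w, -, e⟩ := List.mem_map.1 this
  exact e ▸ codeMem_genWord hmul hone gens_mem w

theorem sWords_ok : sWords.map (genWord mul one gens) = sGens := by decide +kernel

theorem hWords_ok : hWords.map (genWord mul one gens) = hGens := by decide +kernel

theorem sGens_fix : sGens.all (fun c => mul c (cT.get 0) == mul (cT.get 0) c) = true := by
  decide +kernel

theorem hGens_fix : hGens.all (fun c => (mul c (cT.get 0) == mul (cT.get 0) c) &&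
    (mul c (cT.get 1) == mul (cT.get 1) c)) = true := by decide +kernel

theorem step0_ok : reachOK gens [0] step0 = true := by decide +kernel

theorem step1_ok : reachOK sGens [1] step1 = true := by decide +kernel

theorem step2_ok : reachOK hGens [2] step2 = true := by decide +kernel

theorem step2b_ok : reachOK hGens [58] step2b = true := by decide +kernel

theorem all0 : (List.range 315).all (fun x => (0 :: step0.map Prod.fst).contains x) = true := by
  decide +kernel

theorem all1 : (List.range 315).all (fun x =>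
    !cand [(0, 4)] x || (1 :: step1.map Prod.fst).contains x) = true := by decide +kernel

theorem all2 : (List.range 315).all (fun x => !cand [(0, 4), (1, 3)] x ||
    (2 :: step2.map Prod.fst).contains x || (58 :: step2b.map Prod.fst).contains x) = true := by
  decide +kernel

theorem all3 : (List.range 315).all (fun x => !cand [(0, 5), (1, 5), (2, 5)] x ||
    (x == 12 || x == 284)) = true := by decide +kernel

theorem all3b : (List.range 315).all (fun x => !cand [(0, 5), (1, 5), (58, 5)] x) = true := by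
  decide +kernel

theorem all_grp : CodeMem emb dec grp (cT.get 58) ∧ CodeMem emb dec grp (cT.get 284) := by
  obtain ⟨t, ht, et⟩ := codeMem_t (i := 0) (by simp [tIdx])
  constructor
  case left =>
    have hex : ∃ X, emb X = dec (cT.get 58) := by
      refine ⟨ofCodes (cT.get 58) (cT.get 58) ?_ ?_, emb_ofCodes _ _ _ _⟩ <;>
        · intro i
          have : dec (cT.get 58) * dec (cT.get 58) = 1 := by
            rw [← hmul, show mul (cT.get 58) (cT.get 58) = one by decide +kernel, hone]
          exact congrFun this i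
    obtain ⟨X, eX⟩ := hex
    obtain ⟨h', hh, e⟩ := reach_root gens_mem et step0_ok
      (List.all_eq_true.1 all0 58 (List.mem_range.2 (by norm_num))) eX
    refine ⟨X, ?_, eX⟩
    rw [show X = h'⁻¹ * t * h' by rw [← e]; group]
    exact mul_mem (mul_mem (inv_mem hh) ht) hh
  case right =>
    have hex : ∃ X, emb X = dec (cT.get 284) := by
      refine ⟨ofCodes (cT.get 284) (cT.get 284) ?_ ?_, emb_ofCodes _ _ _ _⟩ <;>
        · intro i
          have : dec (cT.get 284) * dec (cT.get 284) = 1 := by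
            rw [← hmul, show mul (cT.get 284) (cT.get 284) = one by decide +kernel, hone]
          exact congrFun this i
    obtain ⟨X, eX⟩ := hex
    obtain ⟨h', hh, e⟩ := reach_root gens_mem et step0_ok
      (List.all_eq_true.1 all0 284 (List.mem_range.2 (by norm_num))) eX
    refine ⟨X, ?_, eX⟩
    rw [show X = h'⁻¹ * t * h' by rw [← e]; group]
    exact mul_mem (mul_mem (inv_mem hh) ht) hh

theorem orderOf_conj_mul (h X Y : Equiv.Perm Pt) :
    orderOf (h * X * h⁻¹ * (h * Y * h⁻¹)) = orderOf (X * Y) := by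
  rw [show h * X * h⁻¹ * (h * Y * h⁻¹) = h * (X * Y) * h⁻¹ by group]
  exact orderOf_injective (MulAut.conj h).toMonoidHom (MulAut.conj h).injective _

/-- The first four and the other four images. -/
def Std (a b c d : Equiv.Perm Pt) : Prop :=
  emb a = dec (cT.get 0) ∧ emb b = dec (cT.get 1) ∧ emb c = dec (cT.get 2) ∧
    (emb d = dec (cT.get 12) ∨ emb d = dec (cT.get 284))

theorem reduce_four {a b c d : Equiv.Perm Pt} (ha : IsC a) (hb : IsC b) (hc : IsC c) (hd : IsC d)
    (_ : a ∈ grp) (gb : b ∈ grp) (gc : c ∈ grp) (gd : d ∈ grp)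
    (hab : orderOf (a * b) = 4) (hac : orderOf (a * c) = 4) (hbc : orderOf (b * c) = 3)
    (had : orderOf (a * d) = 5) (hbd : orderOf (b * d) = 5) (hcd : orderOf (c * d) = 5) :
    ∃ g ∈ grp, Std (g * a * g⁻¹) (g * b * g⁻¹) (g * c * g⁻¹) (g * d * g⁻¹) := by
  obtain ⟨t0, ht0, e0⟩ := codeMem_t (i := 0) (by simp [tIdx])
  obtain ⟨t1, ht1, e1⟩ := codeMem_t (i := 1) (by simp [tIdx])
  obtain ⟨t2, ht2, e2⟩ := codeMem_t (i := 2) (by simp [tIdx])
  obtain ⟨t2b, ht2b, e2b⟩ := all_grp.1
  obtain ⟨i, hi, ea⟩ := ha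
  obtain ⟨h, hh, hha⟩ := reach_root gens_mem e0 step0_ok
    (List.all_eq_true.1 all0 i (List.mem_range.2 hi)) ea
  have memconj : ∀ {k z : Equiv.Perm Pt}, k ∈ grp → z ∈ grp → k * z * k⁻¹ ∈ grp :=
    fun hk hz => mul_mem (mul_mem hk hz) (inv_mem hk)
  -- second
  have hb' := isC_conj hh hb
  obtain ⟨j, hj, ej⟩ := hb'
  have hj1 := List.all_eq_true.1 all1 j (List.mem_range.2 hj)
  have cj : cand [(0, 4)] j = true := by
    simp only [cand, List.all_cons, List.all_nil, Bool.and_true]
    refine (ordOK_iff (by norm_num) e0 ej (mul_mem ht0 (memconj hh gb))).2 ?_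
    rw [← hha, orderOf_conj_mul, hab]
  rw [cj, Bool.not_true, Bool.false_or] at hj1
  have hs : ∀ q ∈ sGens, CodeMem emb dec (grp ⊓ Subgroup.centralizer {t0}) q := by
    intro q hq
    obtain ⟨w, -, e⟩ := List.mem_map.1 (sWords_ok.symm ▸ hq)
    obtain ⟨g, hg, eg⟩ := codeMem_genWord hmul hone gens_mem w
    rw [e] at eg
    refine ⟨g, ⟨hg, Subgroup.mem_centralizer_singleton_iff.2 (hemb ?_)⟩, eg⟩
    have := beq_iff_eq.1 (List.all_eq_true.1 sGens_fix q hq)
    simp only [map_mul, eg, e0, ← hmul, this]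
  obtain ⟨k, ⟨hk, hk0⟩, hkb⟩ := reach_root hs e1 step1_ok hj1 ej
  have hk0' : k * t0 * k⁻¹ = t0 := by
    rw [Subgroup.mem_centralizer_singleton_iff.1 hk0, mul_inv_cancel_right]
  set g1 := k * h with hg1
  have hg1m : g1 ∈ grp := mul_mem hk hh
  have h1a : g1 * a * g1⁻¹ = t0 := by
    rw [← hk0', ← hha, hg1]; group
  have h1b : g1 * b * g1⁻¹ = t1 := by
    rw [← hkb, hg1]; group
  -- third
  obtain ⟨l, hl, el⟩ := isC_conj hg1m hc
  have hl2 := List.all_eq_true.1 all2 l (List.mem_range.2 hl)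
  have cl : cand [(0, 4), (1, 3)] l = true := by
    simp only [cand, List.all_cons, List.all_nil, Bool.and_true, Bool.and_eq_true]
    exact ⟨(ordOK_iff (by norm_num) e0 el (mul_mem ht0 (memconj hg1m gc))).2
        (by rw [← h1a, orderOf_conj_mul, hac]),
      (ordOK_iff (by norm_num) e1 el (mul_mem ht1 (memconj hg1m gc))).2
        (by rw [← h1b, orderOf_conj_mul, hbc])⟩
  rw [cl, Bool.not_true, Bool.false_or, Bool.or_eq_true] at hl2
  have hhs : ∀ q ∈ hGens, CodeMem emb dec (grp ⊓ Subgroup.centralizer {t0, t1}) q := by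
    intro q hq
    obtain ⟨w, -, e⟩ := List.mem_map.1 (hWords_ok.symm ▸ hq)
    obtain ⟨g, hg, eg⟩ := codeMem_genWord hmul hone gens_mem w
    rw [e] at eg
    refine ⟨g, ⟨hg, Subgroup.mem_centralizer_iff.2 ?_⟩, eg⟩
    have h' := List.all_eq_true.1 hGens_fix q hq
    simp only [Bool.and_eq_true, beq_iff_eq] at h'
    rintro z (rfl | rfl) <;> refine hemb ?_
    · simp only [map_mul, eg, e0, ← hmul, h'.1]
    · simp only [map_mul, eg, e1, ← hmul, h'.2]
  have fix01 : ∀ {z : Equiv.Perm Pt}, z ∈ Subgroup.centralizer ({t0, t1} : Set (Equiv.Perm Pt)) →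
      z * t0 * z⁻¹ = t0 ∧ z * t1 * z⁻¹ = t1 := by
    intro z hz
    rw [Subgroup.mem_centralizer_iff] at hz
    constructor
    · rw [← hz t0 (by simp), mul_inv_cancel_right]
    · rw [← hz t1 (by simp), mul_inv_cancel_right]
  have finish : ∀ {r : ℕ} {R : Equiv.Perm Pt}, R ∈ grp → emb R = dec (cT.get r) →
      ∀ z ∈ grp ⊓ Subgroup.centralizer ({t0, t1} : Set (Equiv.Perm Pt)),
      z * (g1 * c * g1⁻¹) * z⁻¹ = R →
      ∃ g ∈ grp, g * a * g⁻¹ = t0 ∧ g * b * g⁻¹ = t1 ∧ g * c * g⁻¹ = R ∧
        ∃ m < 315, emb (g * d * g⁻¹) = dec (cT.get m) ∧ cand [(0, 5), (1, 5), (r, 5)] m = true := by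
    intro r R hR eR z hz e
    have hgm : z * g1 ∈ grp := mul_mem hz.1 hg1m
    have ea' : z * g1 * a * (z * g1)⁻¹ = t0 := by
      rw [← (fix01 hz.2).1, ← h1a]; group
    have eb' : z * g1 * b * (z * g1)⁻¹ = t1 := by
      rw [← (fix01 hz.2).2, ← h1b]; group
    have ec' : z * g1 * c * (z * g1)⁻¹ = R := by
      rw [← e]; group
    obtain ⟨m, hm, em⟩ := isC_conj hgm hd
    refine ⟨z * g1, hgm, ea', eb', ec', m, hm, em, ?_⟩
    simp only [cand, List.all_cons, List.all_nil, Bool.and_true, Bool.and_eq_true]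
    exact ⟨(ordOK_iff (by norm_num) e0 em (mul_mem ht0 (memconj hgm gd))).2
        (by rw [← ea', orderOf_conj_mul, had]),
      (ordOK_iff (by norm_num) e1 em (mul_mem ht1 (memconj hgm gd))).2
        (by rw [← eb', orderOf_conj_mul, hbd]),
      (ordOK_iff (by norm_num) eR em (mul_mem hR (memconj hgm gd))).2
        (by rw [← ec', orderOf_conj_mul, hcd])⟩
  rcases hl2 with hl2 | hl2
  · obtain ⟨z, hz, e⟩ := reach_root hhs e2 step2_ok hl2 el
    obtain ⟨g, hg, ga', gb', gc', m, hm, em, cm⟩ := finish ht2 e2 z hz e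
    have h3 := List.all_eq_true.1 all3 m (List.mem_range.2 hm)
    rw [cm, Bool.not_true, Bool.false_or, Bool.or_eq_true, beq_iff_eq, beq_iff_eq] at h3
    refine ⟨g, hg, ga' ▸ e0, gb' ▸ e1, gc' ▸ e2, ?_⟩
    rcases h3 with rfl | rfl
    exacts [Or.inl em, Or.inr em]
  · obtain ⟨z, hz, e⟩ := reach_root hhs e2b step2b_ok hl2 el
    obtain ⟨g, hg, -, -, -, m, hm, -, cm⟩ := finish ht2b e2b z hz e
    have h3 := List.all_eq_true.1 all3b m (List.mem_range.2 hm)
    rw [cm] at h3
    cases h3

/-- Reduction of a conjugation invariant property to the representative cosets. -/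
theorem coset_reduce {P : Equiv.Perm Pt → Prop} (hP : ∀ g ∈ grp, ∀ x, P x → P (g * x * g⁻¹))
    (hrep : ∀ r < 20, ∀ m < 168, ∀ c l : Equiv.Perm Pt, emb c = dec (repT.get r) →
      emb l = dec (lT.get m) → c * l ∈ grp → P (c * l))
    {g : Equiv.Perm Pt} (hg : g ∈ grp) : P g := by
  have back : ∀ s ∈ grp, ∀ x, P (s * x * s⁻¹) → P x := fun s hs x hx => by
    have := hP s⁻¹ (inv_mem hs) _ hx
    simpa [mul_assoc] using this
  have hle : lGrp ≤ grp := lGrp_le.trans kGrp_le
  have hcoset : ∀ i < 108, ∀ g l : Equiv.Perm Pt, g ∈ grp → emb g = dec (cosetCode i) → l ∈ lGrp →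
      P (g * l) := by
    intro i hi g l hg eg hl
    have h := of_allFrom_zero cosets_ok hi
    simp only [Bool.and_eq_true, Nat.blt_eq, beq_iff_eq] at h
    obtain ⟨⟨⟨hr, hs⟩, hm⟩, he⟩ := h
    obtain ⟨s, hsL, es⟩ := card_lGrp.2 _ hs
    obtain ⟨u, huL, eu⟩ := card_lGrp.2 _ hm
    have er : emb (s * g * u⁻¹) = dec (repT.get (repIx.get i)) := by
      have h1 : emb (s * g) = dec (repT.get (repIx.get i)) * emb u := by
        rw [map_mul, es, eg, ← hmul, he, hmul, eu]
      rw [map_mul, h1, mul_assoc, ← map_mul, mul_inv_cancel, map_one, mul_one]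
    obtain ⟨w, hw, ew⟩ := lGrp_table (mul_mem (mul_mem huL hl) (inv_mem hsL))
    refine back s (hle hsL) _ ?_
    have hx : s * (g * l) * s⁻¹ = s * g * u⁻¹ * (u * l * s⁻¹) := by group
    rw [hx]
    exact hrep _ hr w hw _ _ er ew
      (hx ▸ mul_mem (mul_mem (hle hsL) (mul_mem hg (hle hl))) (inv_mem (hle hsL)))
  have hred : ∀ g ∈ grp, (g 0 : ℕ) ∈ [0, ptP, ptR] → P g := by
    intro g hg h0
    obtain ⟨i, hi, t, ht, et, hk⟩ := grp_table hg
    have ht0 : (t 0 : ℕ) = (g 0 : ℕ) := by
      have h' : (t⁻¹ * g) 0 = 0 := kGrp_fix hk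
      rw [Equiv.Perm.mul_apply] at h'
      rw [Equiv.Perm.inv_eq_iff_eq.1 h']
    have hix : i ∈ topIx := by
      have h := List.all_eq_true.1 top_points i (List.mem_range.2 hi)
      rw [← ht0, apply_eq et] at h0
      change img (topT.get i) 0 ∈ _ at h0
      rw [Bool.or_eq_true, Bool.not_eq_true'] at h
      rcases h with h | h
      · rw [List.contains_iff_mem.2 h0] at h
        cases h
      · exact List.contains_iff_mem.1 h
    obtain ⟨j, hj, rfl⟩ := List.getElem_of_mem hix
    have hj3 : j < 3 := hj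
    obtain ⟨a, ha, u, hu, eu, hl⟩ := kGrp_table hk
    have ec : emb (t * u) = dec (cosetCode (36 * j + a)) := by
      rw [map_mul, et, eu, ← hmul, cosetCode, show (36 * j + a) / 36 = j by omega,
        show (36 * j + a) % 36 = a by omega, List.getD_eq_getElem _ _ hj]
    have := hcoset (36 * j + a) (by omega) _ _ (mul_mem ht (kGrp_le hu)) ec hl
    rwa [show t * u * (u⁻¹ * (t⁻¹ * g)) = g by group] at this
  have key : ∀ {m : ℕ} {T : Tr} {p : Pt}, (∀ i < m, CodeMem emb dec kGrp (T.get i)) →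
      (g 0 : ℕ) ∈ images m T p → (p : ℕ) ∈ [0, ptP, ptR] → P g := by
    intro m T p hT hm hp
    obtain ⟨i, hi, e⟩ := List.mem_map.1 hm
    obtain ⟨k, hk, ek⟩ := hT i (List.mem_range.1 hi)
    have hkp : k p = g 0 := Fin.ext ((apply_eq ek p).trans e)
    have h0 : (k⁻¹ * g * k) 0 = p := by
      rw [Equiv.Perm.mul_apply, Equiv.Perm.mul_apply, show k 0 = 0 from kGrp_fix hk, ← hkp]
      simp
    have := hP k (kGrp_le hk) _ (hred _ (mul_mem (mul_mem (inv_mem (kGrp_le hk)) hg) (kGrp_le hk))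
      (by rw [h0]; exact hp))
    rwa [show k * (k⁻¹ * g * k) * k⁻¹ = g by group] at this
  have h := List.all_eq_true.1 cover (g 0).val (List.mem_range.2 (g 0).2)
  simp only [Bool.or_eq_true, beq_iff_eq, List.contains_iff_mem] at h
  rcases h with (h | h) | h
  · exact hred g hg (by rw [h]; simp)
  · exact key (p := ⟨ptP % 100, by decide⟩) kT_mem h (by decide)
  · exact key (p := ⟨ptR % 100, by decide⟩) oT_mem h (by decide)

/-- The square of the element agrees on the base with an entry of the table. -/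
def squareListed (c d : ℕ) : Bool :=
  (List.range 315).any fun i => base.all fun b => iter 2 (step c d) b == img (cT.get i) b

theorem squares_ok : allFrom 0 20 (fun r => allFrom 0 168 fun m =>
    !(ordOK (repT.get r) (lT.get m) 4) || squareListed (repT.get r) (lT.get m)) = true := by
  decide +kernel

theorem cT_invol : (List.range 315).all (fun i => mul (cT.get i) (cT.get i) == one) = true := by
  decide +kernel

theorem isC_square {x : Equiv.Perm Pt} (hx : x ∈ grp) (h4 : orderOf x = 4) : IsC (x * x) := by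
  refine coset_reduce (P := fun x => orderOf x = 4 → IsC (x * x)) ?_ ?_ hx h4
  · intro g hg x hx h
    have h' : orderOf x = 4 :=
      (orderOf_injective (MulAut.conj g).toMonoidHom (MulAut.conj g).injective x).symm.trans h
    have := isC_conj hg (hx h')
    rwa [show g * (x * x) * g⁻¹ = g * x * g⁻¹ * (g * x * g⁻¹) by group] at this
  intro r hr m hm c l ec el hmem h
  have h' := of_allFrom_zero (of_allFrom_zero squares_ok hr) hm
  rw [(ordOK_iff (by norm_num) ec el hmem).2 h, Bool.not_true, Bool.false_or,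
    squareListed, List.any_eq_true] at h'
  obtain ⟨i, hi, hb⟩ := h'
  rw [List.mem_range] at hi
  refine ⟨i, hi, ?_⟩
  obtain ⟨t0, ht0, e0⟩ := codeMem_t (i := 0) (by simp [tIdx])
  have hinv : dec (cT.get i) * dec (cT.get i) = 1 := by
    rw [← hmul, beq_iff_eq.1 (List.all_eq_true.1 cT_invol i (List.mem_range.2 hi)), hone]
  let X : Equiv.Perm Pt := ofCodes (cT.get i) (cT.get i) (congrFun hinv) (congrFun hinv)
  have eX : emb X = dec (cT.get i) := emb_ofCodes _ _ _ _
  obtain ⟨k, hk, e⟩ := reach_root gens_mem e0 step0_ok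
    (List.all_eq_true.1 all0 i (List.mem_range.2 hi)) eX
  have hX : X ∈ grp := by
    rw [show X = k⁻¹ * t0 * k by rw [← e]; group]
    exact mul_mem (mul_mem (inv_mem hk) ht0) hk
  suffices c * l * (c * l) = X by rw [this, eX]
  refine inv_mul_eq_one.1 (eq_one_of_base (mul_mem (inv_mem (mul_mem hmem hmem)) hX) fun b hb' p hp => ?_)
  rw [Equiv.Perm.mul_apply, Equiv.Perm.inv_eq_iff_eq]
  refine Fin.ext ?_
  have h2 := pow_apply_eq (h := c * l) rfl ec el 2 p
  rw [pow_two, hp] at h2
  rw [h2, apply_eq eX p, hp]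
  exact (beq_iff_eq.1 (List.all_eq_true.1 hb b hb')).symm

theorem aWords_ok : aWords.map (genWord mul one (tIdx.map cT.get)) = gens := by decide +kernel

theorem grp_le_of_four {H : Subgroup (Equiv.Perm Pt)}
    (h : ∀ i ∈ tIdx, CodeMem emb dec H (cT.get i)) : grp ≤ H := by
  have h' : ∀ c ∈ tIdx.map cT.get, CodeMem emb dec H c := fun c hc => by
    obtain ⟨i, hi, rfl⟩ := List.mem_map.1 hc
    exact h i hi
  have hg : ∀ c ∈ gens, CodeMem emb dec H c := by
    intro c hc
    rw [← aWords_ok] at hc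
    obtain ⟨w, -, rfl⟩ := List.mem_map.1 hc
    exact codeMem_genWord hmul hone h' w
  refine (Subgroup.closure_le _).2 ?_
  rintro s (rfl | rfl)
  · obtain ⟨g, hg', e⟩ := hg (gens.getD 0 one) (by simp [gens])
    rwa [hemb (emb_A.trans e.symm)]
  · obtain ⟨g, hg', e⟩ := hg (gens.getD 1 one) (by simp [gens])
    rwa [hemb (emb_B.trans e.symm)]

theorem yWords_ok : yWords.map (genWord mul one gens) = yCodes := by decide +kernel

theorem y_ok : (List.range 4).all (fun k => ordOK (yCodes.getD k one) one 4 &&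
    (mul (yCodes.getD k one) (yCodes.getD k one) == cT.get (tIdx.getD k 0))) = true := by
  decide +kernel

/-- A chosen involution of the table, in the group. -/
def gIdx (i : ℕ) (h : CodeMem emb dec grp (cT.get i)) : grp := ⟨h.choose, h.choose_spec.1⟩

theorem emb_gIdx (i : ℕ) (h : CodeMem emb dec grp (cT.get i)) :
    emb (gIdx i h : Equiv.Perm Pt) = dec (cT.get i) := h.choose_spec.2

/-- The four generators. -/
def u0 : grp := gIdx 0 (codeMem_t (by simp [tIdx]))
/-- The four generators. -/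
def u1 : grp := gIdx 1 (codeMem_t (by simp [tIdx]))
/-- The four generators. -/
def u2 : grp := gIdx 2 (codeMem_t (by simp [tIdx]))
/-- The four generators. -/
def u3 : grp := gIdx 12 (codeMem_t (by simp [tIdx]))
/-- The other image of the last generator. -/
def u3' : grp := gIdx 284 all_grp.2

theorem hom_ext {φ ψ : MulAut grp} (h0 : φ u0 = ψ u0) (h1 : φ u1 = ψ u1) (h2 : φ u2 = ψ u2)
    (h3 : φ u3 = ψ u3) : φ = ψ := by
  let E : Subgroup grp := φ.toMonoidHom.eqLocus ψ.toMonoidHom
  have hle : grp ≤ E.map grp.subtype := grp_le_of_four (by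
    intro i hi
    simp only [tIdx, List.mem_cons, List.not_mem_nil, or_false] at hi
    rcases hi with rfl | rfl | rfl | rfl
    · exact ⟨_, ⟨u0, h0, rfl⟩, emb_gIdx _ _⟩
    · exact ⟨_, ⟨u1, h1, rfl⟩, emb_gIdx _ _⟩
    · exact ⟨_, ⟨u2, h2, rfl⟩, emb_gIdx _ _⟩
    · exact ⟨_, ⟨u3, h3, rfl⟩, emb_gIdx _ _⟩)
  refine MulEquiv.ext fun x => ?_
  obtain ⟨y, hy, e⟩ := hle x.2
  obtain rfl : y = x := Subtype.ext e
  exact hy

theorem isC_image (φ : MulAut grp) {k : ℕ} (hk : k < 4) {u : grp}
    (eu : emb (u : Equiv.Perm Pt) = dec (cT.get (tIdx.getD k 0))) :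
    IsC ((φ u : grp) : Equiv.Perm Pt) := by
  have h := List.all_eq_true.1 y_ok k (List.mem_range.2 hk)
  simp only [Bool.and_eq_true, beq_iff_eq] at h
  have hlen : k < yWords.length := hk
  have hc : yCodes.getD k one = genWord mul one gens (yWords[k]) := by
    rw [← yWords_ok, List.getD_eq_getElem _ _ (by simpa using hlen), List.getElem_map]
  obtain ⟨y, hy, ey⟩ := hc ▸ codeMem_genWord hmul hone gens_mem (yWords[k])
  have h4 : orderOf (⟨y, hy⟩ : grp) = 4 := by
    rw [Subgroup.orderOf_mk, ← mul_one y]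
    exact (ordOK_iff (by norm_num) ey (by rw [map_one]; exact hone.symm) (by rwa [mul_one])).1 h.1
  have hsq : u = ⟨y, hy⟩ * ⟨y, hy⟩ := Subtype.ext (hemb (by
    rw [eu, Subgroup.coe_mul, map_mul, ey, ← hmul, h.2]))
  rw [hsq, map_mul, Subgroup.coe_mul]
  exact isC_square (φ ⟨y, hy⟩).2 (by
    rw [Subgroup.orderOf_coe, MulEquiv.orderOf_eq φ, h4])

theorem exists_normal_form (φ : MulAut grp) : ∃ g : grp,
    (MulAut.conj g * φ) u0 = u0 ∧ (MulAut.conj g * φ) u1 = u1 ∧ (MulAut.conj g * φ) u2 = u2 ∧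
      ((MulAut.conj g * φ) u3 = u3 ∨ (MulAut.conj g * φ) u3 = u3') := by
  have hord : ∀ {k : ℕ} (x y : grp), 0 < k →
      (∀ X Y : Equiv.Perm Pt, emb X = emb (x : Equiv.Perm Pt) → emb Y = emb (y : Equiv.Perm Pt) →
        orderOf (X * Y) = k) →
      orderOf (((φ x : grp) : Equiv.Perm Pt) * ((φ y : grp) : Equiv.Perm Pt)) = k := by
    intro k x y _ h
    rw [← Subgroup.coe_mul, ← map_mul, Subgroup.orderOf_coe,
      MulEquiv.orderOf_eq φ, ← Subgroup.orderOf_coe, Subgroup.coe_mul]
    exact h _ _ rfl rfl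
  have hk : ∀ {i j k : ℕ} (x y : grp), 0 < k → emb (x : Equiv.Perm Pt) = dec (cT.get i) →
      emb (y : Equiv.Perm Pt) = dec (cT.get j) → ordOK (cT.get i) (cT.get j) k = true →
      orderOf (((φ x : grp) : Equiv.Perm Pt) * ((φ y : grp) : Equiv.Perm Pt)) = k := by
    intro i j k x y hk ex ey h
    refine hord x y hk fun X Y eX eY => ?_
    rw [hemb eX, hemb eY]
    exact (ordOK_iff hk ex ey (mul_mem x.2 y.2)).1 h
  obtain ⟨g, hg, ha, hb, hc, hd⟩ := reduce_four
    (isC_image φ (k := 0) (by norm_num) (emb_gIdx _ _))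
    (isC_image φ (k := 1) (by norm_num) (u := u1) (emb_gIdx _ _))
    (isC_image φ (k := 2) (by norm_num) (u := u2) (emb_gIdx _ _))
    (isC_image φ (k := 3) (by norm_num) (u := u3) (emb_gIdx _ _))
    (φ u0).2 (φ u1).2 (φ u2).2 (φ u3).2
    (hk u0 u1 (by norm_num) (emb_gIdx _ _) (emb_gIdx _ _) (by decide +kernel))
    (hk u0 u2 (by norm_num) (emb_gIdx _ _) (emb_gIdx _ _) (by decide +kernel))
    (hk u1 u2 (by norm_num) (emb_gIdx _ _) (emb_gIdx _ _) (by decide +kernel))
    (hk u0 u3 (by norm_num) (emb_gIdx _ _) (emb_gIdx _ _) (by decide +kernel))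
    (hk u1 u3 (by norm_num) (emb_gIdx _ _) (emb_gIdx _ _) (by decide +kernel))
    (hk u2 u3 (by norm_num) (emb_gIdx _ _) (emb_gIdx _ _) (by decide +kernel))
  refine ⟨⟨g, hg⟩, Subtype.ext (hemb (ha.trans (emb_gIdx _ _).symm)),
    Subtype.ext (hemb (hb.trans (emb_gIdx _ _).symm)),
    Subtype.ext (hemb (hc.trans (emb_gIdx _ _).symm)), ?_⟩
  exact hd.imp (fun h => Subtype.ext (hemb (h.trans (emb_gIdx _ _).symm)))
    (fun h => Subtype.ext (hemb (h.trans (emb_gIdx _ _).symm)))

theorem sig_inv : mul sigCode sigInv = one ∧ mul sigInv sigCode = one := by decide +kernel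

/-- The outer permutation. -/
def sig : Equiv.Perm Pt :=
  ofCodes sigCode sigInv
    (fun i => congrFun (show dec sigInv * dec sigCode = 1 by rw [← hmul, sig_inv.2, hone]) i)
    (fun i => congrFun (show dec sigCode * dec sigInv = 1 by rw [← hmul, sig_inv.1, hone]) i)

theorem emb_sig : emb sig = dec sigCode := emb_ofCodes _ _ _ _

theorem sig_conj : ((List.zip tIdx [0, 1, 2, 284]).all fun q =>
    mul sigCode (cT.get q.1) == mul (cT.get q.2) sigCode) = true := by decide +kernel

theorem sig_u : sig * (u0 : Equiv.Perm Pt) * sig⁻¹ = u0 ∧ sig * (u1 : Equiv.Perm Pt) * sig⁻¹ = u1 ∧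
    sig * (u2 : Equiv.Perm Pt) * sig⁻¹ = u2 ∧ sig * (u3 : Equiv.Perm Pt) * sig⁻¹ = u3' := by
  have h := List.all_eq_true.1 sig_conj
  refine ⟨?_, ?_, ?_, ?_⟩
  · exact eq_conj_of_code emb_sig (emb_gIdx _ _) (emb_gIdx _ _)
      (beq_iff_eq.1 (h (0, 0) (by simp [tIdx])))
  · exact eq_conj_of_code emb_sig (emb_gIdx _ _) (emb_gIdx _ _)
      (beq_iff_eq.1 (h (1, 1) (by simp [tIdx])))
  · exact eq_conj_of_code emb_sig (emb_gIdx _ _) (emb_gIdx _ _)
      (beq_iff_eq.1 (h (2, 2) (by simp [tIdx])))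
  · exact eq_conj_of_code emb_sig (emb_gIdx _ _) (emb_gIdx _ _)
      (beq_iff_eq.1 (h (12, 284) (by simp [tIdx])))

theorem map_sig : grp.map (MulAut.conj sig).toMonoidHom = grp := by
  have hle : grp ≤ grp.comap (MulAut.conj sig).toMonoidHom := grp_le_of_four (by
    intro i hi
    simp only [tIdx, List.mem_cons, List.not_mem_nil, or_false] at hi
    obtain ⟨h0, h1, h2, h3⟩ := sig_u
    rcases hi with rfl | rfl | rfl | rfl
    · exact ⟨u0, show sig * (u0 : Equiv.Perm Pt) * sig⁻¹ ∈ grp from by rw [h0]; exact u0.2, emb_gIdx _ _⟩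
    · exact ⟨u1, show sig * (u1 : Equiv.Perm Pt) * sig⁻¹ ∈ grp from by rw [h1]; exact u1.2, emb_gIdx _ _⟩
    · exact ⟨u2, show sig * (u2 : Equiv.Perm Pt) * sig⁻¹ ∈ grp from by rw [h2]; exact u2.2, emb_gIdx _ _⟩
    · exact ⟨u3, show sig * (u3 : Equiv.Perm Pt) * sig⁻¹ ∈ grp from by rw [h3]; exact u3'.2, emb_gIdx _ _⟩)
  refine Subgroup.eq_of_le_of_card_ge (Subgroup.map_le_iff_le_comap.2 hle) ?_
  rw [Subgroup.card_map_of_injective (MulAut.conj sig).injective]

/-- The outer automorphism. -/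
def sigAut : MulAut grp :=
  ((MulAut.conj sig).subgroupMap grp).trans (MulEquiv.subgroupCongr map_sig)

theorem sigAut_apply (x : grp) :
    ((sigAut x : grp) : Equiv.Perm Pt) = sig * (x : Equiv.Perm Pt) * sig⁻¹ := rfl

theorem k_fixed : (List.range 100).all (fun j => j == 0 || kGens.any (fun c => !(img c j == j))) =
    true := by decide +kernel

theorem commute_eq_one {z : Equiv.Perm Pt} (hz : ∀ x ∈ grp, x * z = z * x) : z = 1 := by
  have h0 : z 0 = 0 := by
    by_contra hne
    have h := List.all_eq_true.1 k_fixed (z 0).val (List.mem_range.2 (z 0).2)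
    rw [Bool.or_eq_true, beq_iff_eq, List.any_eq_true] at h
    rcases h with h | ⟨c, hc, h⟩
    · exact hne (Fin.ext h)
    obtain ⟨k, hk, ek⟩ := codeMem_genSet kGens_mem c hc
    have hfix : k (z 0) = z 0 := by
      rw [← Equiv.Perm.mul_apply, hz k (kGrp_le hk), Equiv.Perm.mul_apply,
        show k 0 = 0 from kGrp_fix hk]
    rw [← apply_eq ek, hfix] at h
    simp at h
  have := pretransitive
  refine Equiv.ext fun i => ?_
  obtain ⟨g, rfl⟩ := MulAction.exists_smul_eq grp (0 : Pt) i
  show z ((g : Equiv.Perm Pt) 0) = (g : Equiv.Perm Pt) 0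
  rw [← Equiv.Perm.mul_apply, ← hz g g.2, Equiv.Perm.mul_apply, h0]

theorem sigWord_ok : (base.all fun b => img (genWord mul one gens sigWord) b == img sigCode b) &&
    !(img (genWord mul one gens sigWord) 3 == img sigCode 3) = true := by decide +kernel

theorem sig_notMem : sig ∉ grp := by
  intro hs
  obtain ⟨w, hw, ew⟩ := codeMem_genWord hmul hone gens_mem sigWord
  have h := sigWord_ok
  simp only [Bool.and_eq_true, Bool.not_eq_true', decide_eq_false_iff_not, beq_iff_eq] at h
  obtain ⟨hb, hne⟩ := h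
  obtain rfl : w = sig := inv_mul_eq_one.1 (eq_one_of_base (mul_mem (inv_mem hw) hs) fun b hb' p hp => by
    rw [Equiv.Perm.mul_apply, Equiv.Perm.inv_eq_iff_eq]
    refine Fin.ext ?_
    rw [apply_eq emb_sig, apply_eq ew, hp]
    exact (beq_iff_eq.1 (List.all_eq_true.1 hb b hb')).symm)
  exact hne (by rw [show (3 : ℕ) = ((3 : Pt) : ℕ) from rfl, ← apply_eq ew, apply_eq emb_sig])

theorem sigAut_notMem : sigAut ∉ Cfsg.Inn grp := by
  rintro ⟨g, hg⟩
  refine sig_notMem ?_
  have h : (g : Equiv.Perm Pt)⁻¹ * sig = 1 := commute_eq_one fun x hx => by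
    have := congrArg (fun z : grp => (z : Equiv.Perm Pt)) (MulEquiv.congr_fun hg ⟨x, hx⟩)
    simp only [MulAut.conj_apply, sigAut_apply, Subgroup.coe_mul, InvMemClass.coe_inv] at this
    calc x * ((g : Equiv.Perm Pt)⁻¹ * sig)
        = (g : Equiv.Perm Pt)⁻¹ * ((g : Equiv.Perm Pt) * x * (g : Equiv.Perm Pt)⁻¹) * sig := by group
      _ = (g : Equiv.Perm Pt)⁻¹ * sig * x := by rw [this]; group
  rw [← inv_mul_eq_one.1 h]
  exact g.2

theorem mem_inn_or (φ : MulAut grp) : φ ∈ Cfsg.Inn grp ∨ φ * sigAut⁻¹ ∈ Cfsg.Inn grp := by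
  obtain ⟨g, h0, h1, h2, h3⟩ := exists_normal_form φ
  obtain ⟨s0, s1, s2, s3⟩ := sig_u
  rcases h3 with h3 | h3
  · left
    rw [show φ = (MulAut.conj g)⁻¹ * (MulAut.conj g * φ) by group,
      hom_ext (φ := MulAut.conj g * φ) (ψ := 1) h0 h1 h2 h3, mul_one]
    exact inv_mem ⟨g, rfl⟩
  · right
    rw [show φ * sigAut⁻¹ = (MulAut.conj g)⁻¹ * ((MulAut.conj g * φ) * sigAut⁻¹) by group,
      hom_ext (φ := MulAut.conj g * φ) (ψ := sigAut)
        (h0.trans (Subtype.ext s0).symm) (h1.trans (Subtype.ext s1).symm)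
        (h2.trans (Subtype.ext s2).symm) (h3.trans (Subtype.ext s3).symm), mul_inv_cancel, mul_one]
    exact inv_mem ⟨g, rfl⟩

/-- The outer automorphism group has order 2. -/
theorem card_out : Nat.card (Cfsg.Out grp) = 2 := by
  show Nat.card (MulAut grp ⧸ Cfsg.Inn grp) = 2
  rw [← Subgroup.index_eq_card, Subgroup.index_eq_two_iff]
  refine ⟨sigAut⁻¹, fun φ => ?_⟩
  rcases mem_inn_or φ with h | h
  · refine Or.inr ⟨h, fun h' => sigAut_notMem ?_⟩
    have := mul_mem (inv_mem h) h'
    rw [inv_mul_cancel_left] at this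
    simpa using inv_mem this
  · refine Or.inl ⟨h, fun h' => sigAut_notMem ?_⟩
    have := mul_mem (inv_mem h) h'
    simpa [mul_assoc] using this

end CfsgLib.Sporadic.HallJanko.Aut

end
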