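import Cfsg.Agent.Lib.Sporadic.MatF2

/-! Small tools for matrix groups over `ZMod 2`: first columns, sums, a diagonal block of block
triangular matrices, and vectors packed in bits. -/

set_option autoImplicit false

namespace CfsgLib.Sporadic

/-- The first column of an `n × n` code as an `n`-bit number. -/
noncomputable def colVec (n c : ℕ) : ℕ :=
  xorUpto (fun i => ((c >>> (n * i)) % 2) <<< i) n

/-- The vector coded by the low bits of `v`. -/
noncomputable def decVecF2 (n v : ℕ) : Fin n → ZMod 2 := fun i => ((v.testBit i).toNat : ZMod 2)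

theorem testBit_colVec {n c i : ℕ} (hi : i < n) : (colVec n c).testBit i = c.testBit (n * i) := by
  have h := testBit_xorUpto (fun k => ((c >>> (n * k)) % 2) <<< k) n i
  rw [Finset.sum_eq_single i] at h
  · have hb : (((c >>> (n * i)) % 2) <<< i).testBit i = c.testBit (n * i) := by
      have h2 : ((c >>> (n * i)) % 2 ^ 1).testBit 0 = (c >>> (n * i)).testBit 0 := by
        rw [Nat.testBit_mod_two_pow]; simp
      rw [Nat.testBit_shiftLeft, Nat.sub_self]
      rw [pow_one] at h2
      rw [h2, Nat.testBit_shiftRight, Nat.add_zero]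
      simp
    rw [hb] at h
    revert h
    unfold colVec
    cases (xorUpto (fun i => ((c >>> (n * i)) % 2) <<< i) n).testBit i <;>
      cases c.testBit (n * i) <;> simp
  · intro k _ hk
    have : (((c >>> (n * k)) % 2) <<< k).testBit i = false := by
      have h2 : ∀ j, ((c >>> (n * k)) % 2).testBit j = (decide (j < 1) &&
          (c >>> (n * k)).testBit j) := fun j => by
        have h3 := Nat.testBit_mod_two_pow (c >>> (n * k)) 1 j
        rwa [pow_one] at h3
      rw [Nat.testBit_shiftLeft, h2]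
      rcases Nat.lt_or_ge i k with hlt | hge
      · simp [show ¬ k ≤ i by omega]
      · simp [show ¬ i - k < 1 by omega]
    rw [this]; rfl
  · exact fun hk => absurd (Finset.mem_range.2 hi) hk

theorem decVecF2_colVec {n c : ℕ} (hn : 0 < n) :
    decVecF2 n (colVec n c) = fun i => decF2 n c i ⟨0, hn⟩ := by
  funext i
  rw [decVecF2, testBit_colVec i.2, decF2, Matrix.of_apply, Nat.add_zero, Nat.mul_comm]

theorem colVec_eq_iff {n a b : ℕ} (hn : 0 < n) (ha : colVec n a < 2 ^ n) (hb : colVec n b < 2 ^ n) :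
    (fun i => decF2 n a i ⟨0, hn⟩) = (fun i => decF2 n b i ⟨0, hn⟩) → colVec n a = colVec n b := by
  intro h
  refine Nat.eq_of_testBit_eq fun m => ?_
  rcases Nat.lt_or_ge m n with hlt | hge
  · have h' := congrFun (((decVecF2_colVec (c := a) hn).trans h).trans
      (decVecF2_colVec (c := b) hn).symm) ⟨m, hlt⟩
    simp only [decVecF2] at h'
    revert h'
    cases (colVec n a).testBit m <;> cases (colVec n b).testBit m <;> simp
  · have hle : 2 ^ n ≤ 2 ^ m := Nat.pow_le_pow_right (by norm_num) hge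
    rw [Nat.testBit_lt_two_pow (ha.trans_le hle), Nat.testBit_lt_two_pow (hb.trans_le hle)]

theorem decF2_xor {n : ℕ} (a b : ℕ) : decF2 n (a ^^^ b) = decF2 n a + decF2 n b := by
  ext i j
  simp only [decF2, Matrix.of_apply, Matrix.add_apply, Nat.testBit_xor]
  cases a.testBit (i.1 * n + j.1) <;> cases b.testBit (i.1 * n + j.1) <;> rfl

theorem decF2_zero {n : ℕ} : decF2 n 0 = 0 := by
  ext i j
  simp [decF2]

/-- Block upper triangular with respect to the steps `[0, s)`, `[s, s + l)`, `[s + l, n)`. -/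
def TriBlock {n : ℕ} (s l : ℕ) (M : Matrix (Fin n) (Fin n) (ZMod 2)) : Prop :=
  ∀ i j : Fin n, (s ≤ i.1 ∧ j.1 < s) ∨ (s + l ≤ i.1 ∧ j.1 < s + l) → M i j = 0

theorem triBlock_one {n s l : ℕ} : TriBlock s l (1 : Matrix (Fin n) (Fin n) (ZMod 2)) := by
  intro i j h
  exact Matrix.one_apply_ne (by rintro rfl; omega)

theorem TriBlock.mul {n s l : ℕ} {M N : Matrix (Fin n) (Fin n) (ZMod 2)} (hM : TriBlock s l M)
    (hN : TriBlock s l N) : TriBlock s l (M * N) := by
  intro i j h
  rw [Matrix.mul_apply]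
  refine Finset.sum_eq_zero fun k _ => ?_
  rcases h with ⟨hi, hj⟩ | ⟨hi, hj⟩
  · rcases Nat.lt_or_ge k.1 s with hk | hk
    · rw [hM i k (.inl ⟨hi, hk⟩), zero_mul]
    · rw [hN k j (.inl ⟨hk, hj⟩), mul_zero]
  · rcases Nat.lt_or_ge k.1 (s + l) with hk | hk
    · rw [hM i k (.inr ⟨hi, hk⟩), zero_mul]
    · rw [hN k j (.inr ⟨hk, hj⟩), mul_zero]

/-- The diagonal block on `[s, s + l)`. -/
def diagBlock {n s l : ℕ} (h : s + l ≤ n) (M : Matrix (Fin n) (Fin n) (ZMod 2)) :
    Matrix (Fin l) (Fin l) (ZMod 2) :=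
  Matrix.of fun i j => M ⟨s + i.1, by omega⟩ ⟨s + j.1, by omega⟩

theorem diagBlock_one {n s l : ℕ} (h : s + l ≤ n) :
    diagBlock h (1 : Matrix (Fin n) (Fin n) (ZMod 2)) = (1 : Matrix (Fin l) (Fin l) (ZMod 2)) := by
  ext i j
  rw [diagBlock, Matrix.of_apply, Matrix.one_apply, Matrix.one_apply]
  congr 1
  simp [Fin.ext_iff]

theorem diagBlock_mul {n s l : ℕ} (h : s + l ≤ n) {M N : Matrix (Fin n) (Fin n) (ZMod 2)}
    (hM : TriBlock s l M) (hN : TriBlock s l N) :
    diagBlock h (M * N) = diagBlock h M * diagBlock h N := by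
  ext i j
  simp only [diagBlock, Matrix.of_apply, Matrix.mul_apply]
  let e : Fin l ↪ Fin n := ⟨fun k => ⟨s + k.1, by omega⟩, fun a b hab => by
    simp only [Fin.mk.injEq] at hab
    exact Fin.ext (by omega)⟩
  symm
  have hmap := Finset.sum_map Finset.univ e
    (fun k => M ⟨s + i.1, by omega⟩ k * N k ⟨s + j.1, by omega⟩)
  change _ = ∑ k : Fin n, _
  refine Eq.trans hmap.symm ?_
  refine Finset.sum_subset (Finset.subset_univ _) fun k _ hk => ?_
  rcases Nat.lt_or_ge k.1 s with hlt | hge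
  · rw [hM _ k (.inl ⟨Nat.le_add_right _ _, hlt⟩), zero_mul]
  · rcases Nat.lt_or_ge k.1 (s + l) with hlt' | hge'
    · exact absurd (Finset.mem_map.2 ⟨⟨k.1 - s, by omega⟩, Finset.mem_univ _,
        Fin.ext (show s + (k.1 - s) = k.1 by omega)⟩) hk
    · rw [hN k _ (.inr ⟨hge', show s + j.1 < s + l by omega⟩), mul_zero]

end CfsgLib.Sporadic
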