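import Cfsg.Agent.Lib.Sporadic.CoTwoRoots
import Cfsg.Agent.Lib.MonsterType.Frame
import Cfsg.Agent.Lib.Golay.Co0
import Cfsg.Agent.Lib.Golay.OctadAffine
import Cfsg.Agent.Lib.Golay.OctadStabilizer
import Cfsg.Agent.Lib.Sp.Card
import Cfsg.Agent.Lib.LargeExtra.Transport

/-! An involution of Co2 with centraliser `2^(1+8) Sp6(2)`. -/

set_option autoImplicit false
set_option maxRecDepth 20000

noncomputable section

namespace CfsgLib.Sporadic.CoTwo

open Cfsg CfsgLib.Golay CfsgLib.Golay.LeechOrbit CfsgLib.MonsterType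
open scoped Pointwise Matrix

/-- The coordinate index set of the symplectic space. -/
abbrev I6 := Fin 3 ⊕ Fin 3

/-- The coordinate list of a lattice vector. -/
abbrev lv (v : leechLattice) : List ℤ := toL (v : GolayPt → ℤ)

theorem lv_injective : Function.Injective lv := fun _ _ h => Subtype.ext (toL_injective h)

/-- The word negating the sixteen coordinates outside the octad. -/
def outWord : golayCode := ⟨dec 8241104, dec_mem_of_isCode (by decide +kernel)⟩

/-- The involution. -/
def tZero : Co0 := sgnW outWord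

theorem lv_sgnW {n : ℕ} (c : golayCode) (hc : c.1 = dec n) (v : leechLattice) :
    lv (sgnW c • v) = flipL n (lv v) := by
  rw [lv, toL, flipL]
  refine congrArg List.ofFn (funext fun i => ?_)
  show ((sgnW c • v : leechLattice) : GolayPt → ℤ) (pt i) = _
  rw [sgnW_apply, hc, getD_toL]
  simp only [dec, idx_pt]
  cases n.testBit i.val <;> simp

theorem lv_tZero (v : leechLattice) : lv (tZero • v) = flipL 8241104 (lv v) := lv_sgnW _ rfl v

theorem lv_leechU : lv Spor.leechU = uL := by decide +kernel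

theorem lv_latE (i : Fin 24) : lv (LeechEight.latE (pt i)) = eightE i.val := by
  revert i; decide +kernel

theorem exists_steps : ∀ w : List Step, w.all stepB = true →
    ∃ γ : Co0, ∀ v, lv (γ • v) = appSteps w (lv v)
  | [], _ => ⟨1, fun v => by rw [one_smul]; rfl⟩
  | a :: w, h => by
    rw [List.all_cons, Bool.and_eq_true] at h
    obtain ⟨δ, hδ⟩ := exists_steps w h.2
    obtain ⟨γ, hγ⟩ : ∃ γ : Co0, ∀ v, lv (γ • v) = appStep a (lv v) := by
      match a, h.1 with
      | .perm l, ha =>
        obtain ⟨σ, hσ, hl⟩ := exists_perm (show genOK l = true from ha)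
        exact ⟨permW ⟨σ, hσ⟩, fun v => toL_permW ⟨σ, hσ⟩ hl v⟩
      | .sgn n, ha =>
        simp only [stepB, Bool.and_eq_true] at ha
        exact ⟨sgnW ⟨dec n, dec_mem_of_isCode ha.1⟩, fun v => lv_sgnW _ rfl v⟩
      | .xi, _ => exact ⟨xiW, fun v => toL_xiF _⟩
    exact ⟨γ * δ, fun v => by rw [mul_smul, hγ, hδ]; rfl⟩

/-- The centraliser of the involution inside the stabiliser of `(4, 4, 0²²)`. -/
def cTwo : Subgroup Co0 := Subgroup.centralizer {tZero} ⊓ MulAction.stabilizer Co0 Spor.leechU

theorem mem_cTwo {γ : Co0} : γ ∈ cTwo ↔ γ * tZero = tZero * γ ∧ γ • Spor.leechU = Spor.leechU := by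
  rw [cTwo, Subgroup.mem_inf, Subgroup.mem_centralizer_singleton_iff, MulAction.mem_stabilizer_iff]

theorem exists_gen {k : ℕ} (hk : k < genSteps.length) :
    ∃ γ : cTwo, ∀ v, lv (γ.1 • v) = appSteps (genSteps.getD k []) (lv v) := by
  have h := List.all_eq_true.mp genSteps_ok _ (List.getElem_mem hk)
  rw [← List.getD_eq_getElem _ [] hk] at h
  simp only [Bool.and_eq_true, List.all_eq_true, List.mem_range, beq_iff_eq] at h
  obtain ⟨⟨hw, hU⟩, ht⟩ := h
  obtain ⟨γ, hγ⟩ := exists_steps _ (List.all_eq_true.mpr hw)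
  refine ⟨⟨γ, mem_cTwo.mpr ⟨ext_latE fun j => lv_injective ?_, lv_injective ?_⟩⟩, hγ⟩
  · rw [← pt_idx j]
    rw [mul_smul, mul_smul, hγ, lv_tZero, lv_tZero, hγ, lv_latE]
    exact ht _ (idx j).isLt
  · rw [hγ, lv_leechU, hU]

/-! ### Roots -/

/-- A root: a minimal vector of the fixed lattice orthogonal to `(4, 4, 0²²)`. -/
abbrev Root : Type := {v : leechLattice // sqNorm (v : GolayPt → ℤ) = 32 ∧
  dotInt (v : GolayPt → ℤ) (Spor.leechU : GolayPt → ℤ) = 0 ∧ tZero • v = v}

instance rootAction : MulAction cTwo Root where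
  smul γ r := ⟨γ.1 • r.1, by rw [sqNorm_smul_lat, r.2.1], by
      exact (congrArg (fun u : leechLattice =>
        dotInt ((γ.1 • r.1 : leechLattice) : GolayPt → ℤ) (u : GolayPt → ℤ)) (mem_cTwo.mp γ.2).2).symm.trans
        ((dot_smul_lat _ _ _).trans r.2.2.1), by
      rw [← mul_smul, ← (mem_cTwo.mp γ.2).1, mul_smul, r.2.2.2]⟩
  one_smul r := Subtype.ext (one_smul Co0 r.1)
  mul_smul γ δ r := Subtype.ext (mul_smul γ.1 δ.1 r.1)

theorem coe_smul_root (γ : cTwo) (r : Root) : (γ • r).1 = γ.1 • r.1 := rfl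

/-- The half coordinates of a root. -/
def Root.toO (r : Root) : List ℤ := toOL (lv r.1)

theorem fixed_apply {v : leechLattice} (hv : tZero • v = v) {i : Fin 24}
    (hi : (8241104 : ℕ).testBit i.val = true) : (v : GolayPt → ℤ) (pt i) = 0 := by
  have h := congrFun (congrArg Subtype.val hv) (pt i)
  rw [tZero, sgnW_apply, outWord] at h
  simp only [dec, idx_pt, hi, if_true, one_ne_zero, if_false] at h
  omega

theorem fixed_even {v : leechLattice} (hv : tZero • v = v) (i : GolayPt) :
    (2 : ℤ) ∣ (v : GolayPt → ℤ) i := by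
  have h := par v.2 i (pt ⟨4, by norm_num⟩)
  rw [fixed_apply hv (by decide +kernel), sub_zero] at h
  exact h

theorem liftO_toOL {v : leechLattice} (hv : tZero • v = v) : liftO (toOL (lv v)) = lv v := by
  rw [lv, toL, liftO]
  refine congrArg List.ofFn (funext fun i => ?_)
  by_cases hi : (8241104 : ℕ).testBit i.val = true
  · have hn : opL.contains i.val = false := by
      revert hi; revert i; decide +kernel
    rw [hn, cond_false, fixed_apply hv hi]
  · have hc : opL.contains i.val = true ∧ opL.getD (opL.idxOf i.val) 0 = i.val ∧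
        opL.idxOf i.val < 8 := by
      revert hi; revert i; decide +kernel
    rw [hc.1, cond_true, toOL, List.getD_eq_getElem _ _ (by simpa [opL] using hc.2.2),
      List.getElem_map, ← List.getD_eq_getElem _ 0, hc.2.1, ← toL, getD_toL]
    exact Int.mul_ediv_cancel' (fixed_even hv _)

theorem Root.toO_injective : Function.Injective Root.toO := fun r s h =>
  Subtype.ext (lv_injective (by rw [← liftO_toOL r.2.2.2, ← liftO_toOL s.2.2.2]; exact congrArg liftO h))

theorem length_toOL (l : List ℤ) : (toOL l).length = 8 := by simp [toOL, opL]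

theorem dotL_lift {x y : List ℤ} (hx : x.length = 8) (hy : y.length = 8) :
    dotL (liftO x) (liftO y) = 4 * dotL x y ∧ dotL (liftO x) uL = 8 * (x.getD 0 0 + x.getD 1 0) ∧
      (liftO x).sum = 2 * x.sum := by
  match x, hx, y, hy with
  | [a, b, c, d, e, f, g, i], _, [a', b', c', d', e', f', g', i'], _ =>
    refine ⟨?_, ?_, ?_⟩ <;>
      simp [liftO, uL, opL, dotL, List.ofFn_succ, List.idxOf_cons] <;> ring

theorem mem_tuples {A : List ℤ} : ∀ {n : ℕ} {l : List ℤ}, l.length = n → (∀ a ∈ l, a ∈ A) →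
    l ∈ tuples A n
  | 0, [], _, _ => List.mem_singleton_self _
  | n + 1, a :: l, hn, h => by
    rw [tuples, List.mem_flatMap]
    exact ⟨l, mem_tuples (by simpa using hn) fun b hb => h b (List.mem_cons_of_mem _ hb),
      List.mem_map.mpr ⟨a, h a List.mem_cons_self, rfl⟩⟩

theorem code_inside : ∀ k < 4096, (codeWord k &&& 8241104 = 0 ∨ codeWord k &&& 8241104 = 8241104) →
    codeWord k &&& 8536111 = 0 ∨ codeWord k &&& 8536111 = 8536111 := by
  decide +kernel

theorem sq_le_dotL : ∀ {l : List ℤ} {a : ℤ}, a ∈ l → a * a ≤ dotL l l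
  | b :: l, a, h => by
    have h0 : ∀ l : List ℤ, 0 ≤ dotL l l := by
      intro l; induction l with
      | nil => simp [dotL]
      | cons c m ih => rw [dotL]; nlinarith [mul_self_nonneg c]
    rw [dotL]
    rcases List.mem_cons.mp h with rfl | h
    · linarith [h0 l]
    · linarith [sq_le_dotL h, mul_self_nonneg b]

theorem Root.mem_rootL (r : Root) : r.toO ∈ rootL := by
  have hlift : liftO r.toO = lv r.1 := liftO_toOL r.2.2.2
  have hlen : r.toO.length = 8 := length_toOL _
  obtain ⟨hd, hu, hs⟩ := dotL_lift hlen hlen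
  rw [hlift] at hd hu hs
  have h8 : dotL r.toO r.toO = 8 := by
    have h := r.2.1
    rw [sqNorm_eq_dotL, ← lv] at h
    omega
  have hu' : r.toO.getD 0 0 + r.toO.getD 1 0 = 0 := by
    have h := r.2.2.1
    rw [dotInt_eq_dotL, ← lv, ← lv, lv_leechU] at h
    omega
  have hin := mem_leechLattice.mp r.1.2
  obtain ⟨m, hm⟩ := hin
  have hm2 : (2 : ℤ) ∣ m := by
    have h1 := (hm.1 none).dvd
    have h2 := fixed_even r.2.2.2 none
    omega
  have hsum : r.toO.sum % 4 = 0 := by
    have h := hm.2.1.dvd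
    have e : ∑ p, (r.1 : GolayPt → ℤ) p = (lv r.1).sum := by
      rw [lv, toL, List.sum_ofFn, ← sum_pt fun p => (r.1 : GolayPt → ℤ) p]
    rw [e, hs] at h
    omega
  -- the parities of the half coordinates form a code word inside the octad
  have hw := mem_golayCode.mp hm.2.2
  obtain ⟨k, hk, hkw⟩ := exists_codeWord hw
  have hbit : ∀ i : Fin 24, (codeWord k).testBit i.val =
      decide ((((r.1 : GolayPt → ℤ) (pt i) - m) / 2) % 2 = 1) := by
    intro i
    rw [hkw, enc_twoWord, Nat.testBit_ofBits_lt _ _ i.isLt]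
  have hand : codeWord k &&& 8241104 = 0 ∨ codeWord k &&& 8241104 = 8241104 := by
    have key : ∀ j, (codeWord k &&& 8241104).testBit j =
        ((8241104 : ℕ).testBit j && decide (((0 - m) / 2) % 2 = 1)) := by
      intro j
      rw [Nat.testBit_and]
      rcases Nat.lt_or_ge j 24 with hj | hj
      · cases hb : (8241104 : ℕ).testBit j
        · simp
        · rw [show j = (⟨j, hj⟩ : Fin 24).val from rfl, hbit, fixed_apply r.2.2.2 hb]
          simp
      · rw [Nat.testBit_lt_two_pow (lt_of_lt_of_le (codeWord_lt k) (Nat.pow_le_pow_right (by norm_num) hj)),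
          Nat.testBit_lt_two_pow (x := 8241104) (lt_of_lt_of_le (show 8241104 < 2 ^ 24 by norm_num)
            (Nat.pow_le_pow_right (by norm_num) hj))]
        simp
    by_cases h : ((0 - m) / 2) % 2 = 1
    · exact Or.inr (Nat.eq_of_testBit_eq fun j => by rw [key, decide_eq_true h, Bool.and_true])
    · exact Or.inl (Nat.eq_of_testBit_eq fun j => by
        rw [key, decide_eq_false h, Bool.and_false, Nat.zero_testBit])
  obtain ⟨e, he⟩ : ∃ e : Bool, ∀ i : Fin 24, opL.contains i.val = true →
      decide ((((r.1 : GolayPt → ℤ) (pt i) - m) / 2) % 2 = 1) = e := by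
    have hmask : ∀ i : Fin 24, opL.contains i.val = true → (8536111 : ℕ).testBit i.val = true := by
      decide +kernel
    rcases code_inside k hk hand with h | h
    · refine ⟨false, fun i hi => ?_⟩
      have h' := congrArg (fun n : ℕ => n.testBit i.val) h
      simp only [Nat.testBit_and, hmask i hi, Bool.and_true, Nat.zero_testBit] at h'
      rw [← hbit]; exact h'
    · refine ⟨true, fun i hi => ?_⟩
      have h' := congrArg (fun n : ℕ => n.testBit i.val) h
      simp only [Nat.testBit_and, hmask i hi, Bool.and_true] at h'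
      rw [← hbit]; exact h'
  obtain ⟨f, hent⟩ : ∃ f : ℤ, ∀ a ∈ r.toO, a % 2 = f % 2 := by
    refine ⟨if e then m / 2 + 1 else m / 2, fun a ha => ?_⟩
    rw [Root.toO, toOL, List.mem_map] at ha
    obtain ⟨j, hj, rfl⟩ := ha
    have hj24 : j < 24 := by revert hj; revert j; decide +kernel
    have h := he ⟨j, hj24⟩ (List.contains_iff_mem.mpr hj)
    have h2 := fixed_even r.2.2.2 (pt ⟨j, hj24⟩)
    rw [show j = (⟨j, hj24⟩ : Fin 24).val from rfl, getD_toL]
    cases e <;> simp only [decide_eq_false_iff_not, decide_eq_true_eq] at h <;>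
      simp only [if_true, Bool.false_eq_true, if_false] <;> omega
  have hsq : ∀ a ∈ r.toO, -2 ≤ a ∧ a ≤ 2 := fun a ha => by
    have := sq_le_dotL ha
    rw [h8] at this
    constructor <;> nlinarith
  rw [rootL, List.mem_filter]
  refine ⟨List.mem_append.mpr ?_, by
    simp only [rootB, Bool.and_eq_true, decide_eq_true_eq]; exact ⟨⟨h8, hsum⟩, hu'⟩⟩
  by_cases hf : f % 2 = 0
  · refine Or.inl (mem_tuples hlen fun a ha => ?_)
    have := hent a ha
    have := hsq a ha
    simp only [List.mem_cons, List.not_mem_nil, or_false]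
    omega
  · refine Or.inr (mem_tuples hlen fun a ha => ?_)
    have := hent a ha
    have := hsq a ha
    simp only [List.mem_cons, List.not_mem_nil, or_false]
    omega

theorem exists_root {y : List ℤ} (hy : y ∈ rootL) : ∃ r : Root, r.toO = y ∧ lv r.1 = liftO y := by
  have h := List.all_eq_true.mp rootL_lift y hy
  simp only [Bool.and_eq_true, decide_eq_true_eq, beq_iff_eq] at h
  obtain ⟨⟨⟨⟨h1, h2⟩, h3⟩, h4⟩, h5⟩ := h
  have hl : toL (ofL (liftO y)) = liftO y := toL_ofL List.length_ofFn
  refine ⟨⟨⟨ofL (liftO y), mem_of_latA h1⟩, ?_, ?_, lv_injective ?_⟩, ?_, hl⟩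
  · rw [sqNorm_eq_dotL, hl, h2]
  · rw [dotInt_eq_dotL, hl, ← lv, lv_leechU, h3]
  · rw [lv_tZero, lv, hl, h4]
  · show toOL (toL (ofL (liftO y))) = y
    rw [hl, h5]

theorem dot_root (r s : Root) :
    dotInt (r.1 : GolayPt → ℤ) (s.1 : GolayPt → ℤ) = 4 * dotL r.toO s.toO := by
  show _ = 4 * dotL (toOL (lv r.1)) (toOL (lv s.1))
  rw [← (dotL_lift (length_toOL (lv r.1)) (length_toOL (lv s.1))).1,
    liftO_toOL r.2.2.2, liftO_toOL s.2.2.2, dotInt_eq_dotL]

/-- The class of a root. -/
def Root.cl (r : Root) : I6 → ZMod 2 := clL r.toO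

theorem sform_eq (a b : I6 → ZMod 2) : sform a b = a ⬝ᵥ (Matrix.J (Fin 3) (ZMod 2) *ᵥ b) := by
  simp only [sform, Matrix.J, dotProduct, Matrix.mulVec, Fintype.sum_sum_type, Fin.sum_univ_three,
    Matrix.fromBlocks_apply₁₁, Matrix.fromBlocks_apply₁₂, Matrix.fromBlocks_apply₂₁,
    Matrix.fromBlocks_apply₂₂, Matrix.zero_apply, Matrix.neg_apply, Matrix.one_apply,
    ZMod.neg_eq_self_mod_two]
  simp

theorem bilL_smul (γ : cTwo) (r s : Root) :
    bilL (γ • r).toO (γ • s).toO = bilL r.toO s.toO := by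
  have e : dotL (γ • r).toO (γ • s).toO = dotL r.toO s.toO := by
    have h := dot_root (γ • r) (γ • s)
    rw [coe_smul_root, coe_smul_root, dot_smul_lat, dot_root] at h
    omega
  rw [bilL, bilL, e]

theorem bilL_eq (r s : Root) : bilL r.toO s.toO = sform r.cl s.cl :=
  eq_of_beq (List.all_eq_true.mp (List.all_eq_true.mp bil_eq _ r.mem_rootL) _ s.mem_rootL)

/-- The chosen basis. -/
def basisRoot (i : I6) : Root := (exists_root (basis_ok i).1).choose

theorem basisRoot_toO (i : I6) : (basisRoot i).toO = basisL i :=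
  (exists_root (basis_ok i).1).choose_spec.1

theorem basisRoot_cl (i : I6) : (basisRoot i).cl = Pi.single i 1 := by
  rw [Root.cl, basisRoot_toO, (basis_ok i).2]

/-- The matrix of an element. -/
def mat (γ : cTwo) : Matrix I6 I6 (ZMod 2) := Matrix.of fun i j => (γ • basisRoot j).cl i

theorem cl_smul (γ : cTwo) (r : Root) : (γ • r).cl = mat γ *ᵥ r.cl := by
  funext i
  have h : ∀ s : Root, (γ • s).cl i =
      s.cl ⬝ᵥ (Matrix.J (Fin 3) (ZMod 2) *ᵥ (γ⁻¹ • basisRoot i.swap).cl) := by
    intro s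
    rw [← sform_eq, ← bilL_eq, ← bilL_smul γ, smul_inv_smul, basisRoot_toO]
    rfl
  rw [h r, Matrix.mulVec, dotProduct, dotProduct]
  refine Finset.sum_congr rfl fun j _ => ?_
  rw [mul_comm, mat, Matrix.of_apply, h, basisRoot_cl, single_one_dotProduct]

theorem mat_mul (γ δ : cTwo) : mat (γ * δ) = mat γ * mat δ := by
  ext i j
  rw [mat, Matrix.of_apply, mul_smul, cl_smul]
  rfl

theorem mat_mem (γ : cTwo) : mat γ ∈ Matrix.symplecticGroup (Fin 3) (ZMod 2) := by
  rw [SymplecticGroup.mem_iff']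
  ext j k
  have h := bilL_smul γ (basisRoot j) (basisRoot k)
  rw [bilL_eq, bilL_eq, sform_eq, sform_eq, basisRoot_cl, basisRoot_cl, single_one_dotProduct] at h
  rw [Matrix.mulVec_single_one] at h
  refine Eq.trans ?_ h
  rw [Matrix.mul_assoc, Matrix.mul_apply]
  rfl

/-- The action on the symplectic space. -/
def toSp : cTwo →* Matrix.symplecticGroup (Fin 3) (ZMod 2) :=
  MonoidHom.mk' (fun γ => ⟨mat γ, mat_mem γ⟩) fun γ δ => Subtype.ext (mat_mul γ δ)

theorem toSp_coe (γ : cTwo) : (toSp γ : Matrix I6 I6 (ZMod 2)) = mat γ := rfl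

theorem mat_eq_one_of_fix {γ : cTwo} (h : ∀ r : Root, γ • r = r) : toSp γ = 1 := by
  refine Subtype.ext ?_
  ext i j
  rw [toSp_coe, mat, Matrix.of_apply, h, basisRoot_cl, OneMemClass.coe_one, Matrix.one_apply,
    Pi.single_apply]

/-- The opposite root. -/
def Root.neg (r : Root) : Root :=
  ⟨-r.1, by
    refine Eq.trans ?_ r.2.1
    simp [sqNorm], by
    refine Eq.trans ?_ (neg_eq_zero.mpr r.2.2.1)
    simp [dotInt, Finset.sum_neg_distrib], by rw [smul_neg', r.2.2.2]⟩

theorem Root.toO_neg (r : Root) : r.neg.toO = r.toO.map (fun a => -a) := by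
  rw [Root.toO, Root.toO, toOL, toOL, List.map_map]
  refine List.map_congr_left fun j hj => ?_
  have hj24 : j < 24 := by revert hj; revert j; decide +kernel
  rw [Function.comp_apply, show j = (⟨j, hj24⟩ : Fin 24).val from rfl, getD_toL, getD_toL]
  show (-(r.1 : GolayPt → ℤ) (pt _)) / 2 = _
  have := fixed_even r.2.2.2 (pt ⟨j, hj24⟩)
  omega

theorem pm_of_cl {r s : Root} (h : r.cl = s.cl) : r = s ∨ r.1 = -s.1 := by
  have h1 := List.all_eq_true.mp (List.all_eq_true.mp cl_eq _ r.mem_rootL) _ s.mem_rootL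
  simp only [Bool.or_eq_true, Bool.not_eq_true', decide_eq_false_iff_not, beq_iff_eq] at h1
  rcases h1 with (h1 | h1) | h1
  · exact absurd h h1
  · exact Or.inl (Root.toO_injective h1)
  · refine Or.inr (congrArg Subtype.val (Root.toO_injective (a₂ := s.neg) ?_))
    rw [Root.toO_neg]
    exact h1

theorem sign_of_trivial {γ : cTwo} (h : toSp γ = 1) :
    (∀ r : Root, γ.1 • r.1 = r.1) ∨ ∀ r : Root, γ.1 • r.1 = -r.1 := by
  have hpm : ∀ r : Root, γ.1 • r.1 = r.1 ∨ γ.1 • r.1 = -r.1 := fun r => by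
    have hc : (γ • r).cl = r.cl := by
      rw [cl_smul, ← toSp_coe, h, OneMemClass.coe_one, Matrix.one_mulVec]
    exact (pm_of_cl hc).imp (congrArg Subtype.val) id
  have hstep : ∀ r s : Root, dotL r.toO s.toO ≠ 0 → γ.1 • r.1 = r.1 → γ.1 • s.1 = s.1 := by
    intro r s hd hr
    refine (hpm s).resolve_right fun hs => hd ?_
    have e := dot_smul_lat γ.1 r.1 s.1
    rw [hr, hs, AddSubgroup.coe_neg, dot_root, show dotInt (r.1 : GolayPt → ℤ) (-(s.1 : GolayPt → ℤ)) =
      -dotInt (r.1 : GolayPt → ℤ) (s.1 : GolayPt → ℤ) by simp [dotInt, mul_neg], dot_root] at e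
    omega
  by_cases hex : ∃ r : Root, γ.1 • r.1 = r.1
  · obtain ⟨r, hr⟩ := hex
    refine Or.inl fun s => ?_
    have hc := List.all_eq_true.mp (List.all_eq_true.mp connected _ r.mem_rootL) _ s.mem_rootL
    rw [List.any_eq_true] at hc
    obtain ⟨z, hz, hc⟩ := hc
    simp only [Bool.and_eq_true, Bool.not_eq_true', decide_eq_false_iff_not] at hc
    obtain ⟨w, rfl, -⟩ := exists_root hz
    exact hstep w s hc.2 (hstep r w hc.1 hr)
  · push Not at hex
    exact Or.inr fun r => (hpm r).resolve_left (hex r)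

theorem six_check : ∀ j ∈ [1, 2, 3, 5, 14, 17], ∃ y ∈ rootL, ∃ y' ∈ rootL,
    List.zipWith (· + ·) (liftO y) (liftO y') = eightE j := by
  have h : ([1, 2, 3, 5, 14, 17].all fun j => rootL.any fun y => rootL.any fun y' =>
      List.zipWith (· + ·) (liftO y) (liftO y') == eightE j) = true := by decide +kernel
  intro j hj
  have h' := List.all_eq_true.mp h j hj
  simp only [List.any_eq_true, beq_iff_eq] at h'
  exact h'

theorem lv_add (v w : leechLattice) : lv (v + w) = List.zipWith (· + ·) (lv v) (lv w) := by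
  rw [lv, lv, lv, toL, toL, toL]
  refine List.ext_getElem (by simp) fun i h1 h2 => ?_
  simp

theorem apt_six {p : GolayPt} (hp : p ∈ baseOctad) (h1 : p ≠ none) (h2 : p ≠ some 0) :
    (idx p).val ∈ [1, 2, 3, 5, 14, 17] := by
  have key : ∀ i : Fin 24, (8536111 : ℕ).testBit i.val = true → i.val ≠ 23 → i.val ≠ 0 →
      i.val ∈ [1, 2, 3, 5, 14, 17] := by decide +kernel
  rw [baseOctad, mem_decS] at hp
  refine key _ hp (fun e => h1 ?_) (fun e => h2 ?_)
  · rw [← pt_idx p, show idx p = ⟨23, by norm_num⟩ from Fin.ext e]; rfl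
  · rw [← pt_idx p, show idx p = ⟨0, by norm_num⟩ from Fin.ext e]; rfl

/-- The basic root `(4, -4)`. -/
def rZero : Root := (exists_root (show [2, -2, 0, 0, 0, 0, 0, 0] ∈ rootL by decide +kernel)).choose

theorem rZero_spec : rZero.toO = [2, -2, 0, 0, 0, 0, 0, 0] ∧ lv rZero.1 = liftO [2, -2, 0, 0, 0, 0, 0, 0] :=
  (exists_root (show [2, -2, 0, 0, 0, 0, 0, 0] ∈ rootL by decide +kernel)).choose_spec

theorem latE_none : LeechEight.latE none = Spor.leechU + rZero.1 := lv_injective (by
  rw [lv_add, lv_leechU, rZero_spec.2]; decide +kernel)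

theorem latE_zero : LeechEight.latE (some 0) + rZero.1 = Spor.leechU := lv_injective (by
  rw [lv_add, lv_leechU, rZero_spec.2]; decide +kernel)

/-- The kernel consists of monomial elements fixing the octad. -/
theorem exists_mono_of_trivial {γ : cTwo} (h : toSp γ = 1) : ∃ (c : golayCode) (σ : M24),
    γ.1 = sgnW c * permW σ ∧ (∀ p ∈ baseOctad, c.1 p = 0) ∧
      ∀ p ∈ baseOctad, (σ : Equiv.Perm GolayPt) p = p := by
  have hU := (mem_cTwo.mp γ.2).2
  have hsix : ∀ p ∈ baseOctad, p ≠ none → p ≠ some 0 →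
      ∃ r s : Root, LeechEight.latE p = r.1 + s.1 := by
    intro p hp h1 h2
    obtain ⟨y, hy, y', hy', e⟩ := six_check _ (apt_six hp h1 h2)
    obtain ⟨r, -, hr⟩ := exists_root hy
    obtain ⟨s, -, hs⟩ := exists_root hy'
    exact ⟨r, s, lv_injective (by rw [lv_add, hr, hs, e, ← lv_latE, pt_idx])⟩
  have mono : Cong (γ.1 • LeechEight.latE none) (LeechEight.latE none) →
      ∃ (c : golayCode) (σ : M24), γ.1 = sgnW c * permW σ ∧ ∀ p q : GolayPt,
        (γ.1 • LeechEight.latE p = LeechEight.latE q → (σ : Equiv.Perm GolayPt) p = q ∧ c.1 q = 0) ∧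
        (γ.1 • LeechEight.latE p = -LeechEight.latE q → (σ : Equiv.Perm GolayPt) p = q) := by
    intro hc
    obtain ⟨c, σ, e⟩ := cong_latE_iff.mp hc
    refine ⟨c, σ, e, fun p q => ?_⟩
    have he : γ.1 • LeechEight.latE p =
        if c.1 ((σ : Equiv.Perm GolayPt) p) = 0 then LeechEight.latE ((σ : Equiv.Perm GolayPt) p)
        else -LeechEight.latE ((σ : Equiv.Perm GolayPt) p) := by
      rw [e, mul_smul, permW_latE, sgnW_latE]
    rw [he]
    refine ⟨fun h => ?_, fun h => ?_⟩
    · split_ifs at h with hz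
      · have := latE_inj (Or.inl h)
        exact ⟨this, this ▸ hz⟩
      · refine absurd h (fun h => ?_)
        have hq := latE_inj (Or.inr h.symm)
        subst hq
        have := congrArg (fun v : leechLattice => (v : GolayPt → ℤ) ((σ : Equiv.Perm GolayPt) p)) h
        simp [latE_apply] at this
    · split_ifs at h
      · exact latE_inj (Or.inr h)
      · exact latE_inj (Or.inl (neg_injective h))
  rcases sign_of_trivial h with hp | hm
  · have hall : ∀ p ∈ baseOctad, γ.1 • LeechEight.latE p = LeechEight.latE p := by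
      intro p hpO
      by_cases h1 : p = none
      · subst h1; rw [latE_none, smul_add', hU, hp]
      by_cases h2 : p = some 0
      · subst h2
        have e : LeechEight.latE (some 0) = Spor.leechU - rZero.1 := eq_sub_of_add_eq latE_zero
        rw [e, sub_eq_add_neg, smul_add', smul_neg', hU, hp]
      obtain ⟨r, s, e⟩ := hsix p hpO h1 h2
      rw [e, smul_add', hp, hp]
    obtain ⟨c, σ, e, hcs⟩ := mono (by
      rw [hall none (by decide +kernel)]; exact Cong.refl' _)
    refine ⟨c, σ, e, fun p hpO => ((hcs p p).1 (hall p hpO)).2, fun p hpO => ((hcs p p).1 (hall p hpO)).1⟩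
  · exfalso
    have ea : γ.1 • LeechEight.latE none = LeechEight.latE (some 0) := by
      rw [latE_none, smul_add', hU, hm, eq_sub_of_add_eq latE_zero, sub_eq_add_neg]
    have eb : γ.1 • LeechEight.latE (some 0) = LeechEight.latE none := by
      rw [eq_sub_of_add_eq latE_zero, sub_eq_add_neg, smul_add', smul_neg', hU, hm, neg_neg, latE_none]
    obtain ⟨c, σ, -, hcs⟩ := mono (by rw [ea]; exact latE_cong _ _)
    have hsa := ((hcs none (some 0)).1 ea).1
    have hsb := ((hcs (some 0) none).1 eb).1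
    have hso : ∀ p ∈ baseOctad, p ≠ none → p ≠ some 0 → (σ : Equiv.Perm GolayPt) p = p := by
      intro p hpO h1 h2
      obtain ⟨r, s, e⟩ := hsix p hpO h1 h2
      refine (hcs p p).2 ?_
      rw [e, smul_add', hm, hm, neg_add]
    have hmem : ∀ p ∈ baseOctad, (σ : Equiv.Perm GolayPt) p ∈ baseOctad := by
      intro p hpO
      by_cases h1 : p = none
      · rw [h1, hsa]; decide +kernel
      by_cases h2 : p = some 0
      · rw [h2, hsb]; decide +kernel
      rw [hso p hpO h1 h2]; exact hpO
    have hst : (σ : Equiv.Perm GolayPt) ∈ octStab baseOctad := by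
      refine ⟨σ.2, ?_⟩
      show (σ : Equiv.Perm GolayPt) • baseOctad = baseOctad
      refine Finset.eq_of_subset_of_card_le (fun x hx => ?_) (by rw [Finset.card_smul_finset])
      obtain ⟨y, hy, rfl⟩ := Finset.mem_smul_finset.mp hx
      exact hmem y hy
    have hev : octRes baseOctad ⟨_, hst⟩ ∈ alternatingGroup ↥baseOctad :=
      range_octRes baseOctad_mem ▸ ⟨_, rfl⟩
    have ha : (none : GolayPt) ∈ baseOctad := by decide +kernel
    have hb : (some 0 : GolayPt) ∈ baseOctad := by decide +kernel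
    have hswap : octRes baseOctad ⟨_, hst⟩ = Equiv.swap ⟨none, ha⟩ ⟨some 0, hb⟩ := by
      refine Equiv.ext fun x => Subtype.ext ?_
      rw [octRes_apply]
      by_cases h1 : x.1 = none
      · rw [show x = ⟨none, ha⟩ from Subtype.ext h1, Equiv.swap_apply_left]; exact hsa
      by_cases h2 : x.1 = some 0
      · rw [show x = ⟨some 0, hb⟩ from Subtype.ext h2, Equiv.swap_apply_right]; exact hsb
      rw [Equiv.swap_apply_of_ne_of_ne (fun e => h1 (congrArg Subtype.val e))
        (fun e => h2 (congrArg Subtype.val e))]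
      exact hso _ x.2 h1 h2
    rw [hswap, Equiv.Perm.mem_alternatingGroup, Equiv.Perm.sign_swap (by simp)] at hev
    exact absurd hev (by decide)

theorem mono_mem {c : golayCode} {σ : M24}
    (hO : (σ : Equiv.Perm GolayPt) • baseOctad = baseOctad)
    (hP : (σ : Equiv.Perm GolayPt) • ({none, some 0} : Finset GolayPt) = {none, some 0})
    (hc : c.1 none = 0 ∧ c.1 (some 0) = 0) : sgnW c * permW σ ∈ cTwo := by
  have hw : ∀ p, outWord.1 p = if p ∈ baseOctad then 0 else 1 := by
    have key : ∀ i : Fin 24, (8241104 : ℕ).testBit i.val = !(8536111 : ℕ).testBit i.val := by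
      decide +kernel
    intro p
    show dec 8241104 p = _
    simp only [dec, baseOctad, mem_decS, key]
    cases (8536111 : ℕ).testBit (idx p).val <;> simp
  have hact : (⟨_, act_code σ.2 outWord⟩ : golayCode) = outWord := by
    refine Subtype.ext (funext fun p => ?_)
    show outWord.1 ((σ : Equiv.Perm GolayPt).symm p) = _
    rw [hw, hw]
    refine if_congr ?_ rfl rfl
    conv_rhs => rw [← hO, Finset.mem_smul_finset]
    constructor
    · intro h; exact ⟨_, h, Equiv.apply_symm_apply _ _⟩
    · rintro ⟨q, hq, rfl⟩; rw [Equiv.Perm.smul_def, Equiv.symm_apply_apply]; exact hq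
  refine mem_cTwo.mpr ⟨?_, ?_⟩
  · have e := perm_sgn σ outWord
    rw [hact, mul_inv_eq_iff_eq_mul] at e
    have hcomm : sgnW c * tZero = tZero * sgnW c := by
      have h1 : sgnHom (Multiplicative.ofAdd c) * sgnHom (Multiplicative.ofAdd outWord) =
          sgnHom (Multiplicative.ofAdd outWord) * sgnHom (Multiplicative.ofAdd c) := by
        rw [← map_mul sgnHom, ← map_mul sgnHom, mul_comm (Multiplicative.ofAdd c)]
      exact h1
    rw [mul_assoc, show permW σ * tZero = tZero * permW σ from e, ← mul_assoc, hcomm, mul_assoc]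
  · have hU : ∀ p, (Spor.leechU : GolayPt → ℤ) p =
        if p ∈ ({none, some 0} : Finset GolayPt) then 4 else 0 := fun p => by
      rw [leechU_apply]; simp
    refine Subtype.ext (funext fun p => ?_)
    have hm : (σ : Equiv.Perm GolayPt).symm p ∈ ({none, some 0} : Finset GolayPt) ↔
        p ∈ ({none, some 0} : Finset GolayPt) := by
      conv_rhs => rw [← hP, Finset.mem_smul_finset]
      constructor
      · intro h; exact ⟨_, h, Equiv.apply_symm_apply _ _⟩
      · rintro ⟨q, hq, rfl⟩; rw [Equiv.Perm.smul_def, Equiv.symm_apply_apply]; exact hq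
    rw [mul_smul, sgnW_apply, permW_apply, hU, hU, if_congr hm rfl rfl]
    by_cases hp : p ∈ ({none, some 0} : Finset GolayPt)
    · rw [if_pos hp]
      simp only [Finset.mem_insert, Finset.mem_singleton] at hp
      rcases hp with rfl | rfl <;> simp [hc.1, hc.2]
    · rw [if_neg hp]; simp

theorem mono_trivial {c : golayCode} {σ : M24} (hc : ∀ p ∈ baseOctad, c.1 p = 0)
    (hσ : ∀ p ∈ baseOctad, (σ : Equiv.Perm GolayPt) p = p) :
    ∃ γ : cTwo, γ.1 = sgnW c * permW σ ∧ toSp γ = 1 := by
  have hsm : ∀ S : Finset GolayPt, S ⊆ baseOctad → (σ : Equiv.Perm GolayPt) • S = S := by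
    intro S hS
    refine Finset.eq_of_subset_of_card_le (fun x hx => ?_) (by rw [Finset.card_smul_finset])
    obtain ⟨y, hy, rfl⟩ := Finset.mem_smul_finset.mp hx
    rw [Equiv.Perm.smul_def, hσ y (hS hy)]; exact hy
  have hab : ({none, some 0} : Finset GolayPt) ⊆ baseOctad := by decide +kernel
  refine ⟨⟨_, mono_mem (hsm _ subset_rfl) (hsm _ hab)
    ⟨hc _ (hab (by simp)), hc _ (hab (by simp))⟩⟩, rfl, mat_eq_one_of_fix fun r => Subtype.ext
    (Subtype.ext (funext fun p => ?_))⟩
  rw [coe_smul_root, mul_smul, sgnW_apply, permW_apply]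
  have hz : ∀ q, q ∉ baseOctad → (r.1 : GolayPt → ℤ) q = 0 := by
    intro q hq
    have key : ∀ i : Fin 24, (8536111 : ℕ).testBit i.val = false → (8241104 : ℕ).testBit i.val = true := by
      decide +kernel
    rw [baseOctad, mem_decS, Bool.not_eq_true] at hq
    rw [← pt_idx q]
    exact fixed_apply r.2.2.2 (key _ hq)
  by_cases hp : p ∈ baseOctad
  · have : (σ : Equiv.Perm GolayPt).symm p = p := (Equiv.symm_apply_eq _).mpr (hσ p hp).symm
    rw [hc p hp, if_pos rfl, this]
  · have : (σ : Equiv.Perm GolayPt).symm p ∉ baseOctad := fun hq =>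
      hp (by have := hσ _ hq; rw [Equiv.apply_symm_apply] at this; exact this ▸ hq)
    rw [hz _ this, hz _ hp]; simp

/-! ### Orders -/

theorem cTwo_finite : Finite cTwo := by
  have := co0_finite
  infer_instance

/-- Code words vanishing on a mask. -/
theorem card_zero_on (mask : ℕ) :
    Nat.card {c : golayCode // ∀ i : Fin 24, mask.testBit i.val = true → c.1 (pt i) = 0} =
      ((Finset.range 4096).filter fun k => codeWord k &&& mask = 0).card := by
  rw [← Nat.card_eq_finsetCard]
  symm
  let f : {k // k ∈ (Finset.range 4096).filter fun k => codeWord k &&& mask = 0} →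
      {c : golayCode // ∀ i : Fin 24, mask.testBit i.val = true → c.1 (pt i) = 0} := fun k =>
    ⟨⟨dec (codeWord k.1), dec_codeWord_mem _⟩, fun i hi => by
      have h := congrArg (fun n : ℕ => n.testBit i.val) (Finset.mem_filter.mp k.2).2
      simp only [Nat.testBit_and, hi, Bool.and_true, Nat.zero_testBit] at h
      simp [dec, idx_pt, h]⟩
  refine Nat.card_congr (Equiv.ofBijective f ⟨fun a b e => ?_, fun c => ?_⟩)
  · have e' := congrArg (fun c => enc c.1.1) e
    simp only [f, enc_dec (codeWord_lt _)] at e'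
    exact Subtype.ext (codeWord_injOn (Finset.mem_range.mp (Finset.mem_filter.mp a.2).1)
      (Finset.mem_range.mp (Finset.mem_filter.mp b.2).1) e')
  · obtain ⟨k, hk, e⟩ := exists_codeWord (mem_golayCode.mp c.1.2)
    refine ⟨⟨k, Finset.mem_filter.mpr ⟨Finset.mem_range.mpr hk, Nat.eq_of_testBit_eq fun j => ?_⟩⟩,
      Subtype.ext (Subtype.ext ?_)⟩
    · rw [Nat.testBit_and, e, Nat.zero_testBit]
      rcases Nat.lt_or_ge j 24 with hj | hj
      · cases hb : mask.testBit j
        · simp
        · have := c.2 ⟨j, hj⟩ hb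
          rw [Bool.and_true, show j = (idx (pt ⟨j, hj⟩)).val by rw [idx_pt], testBit_enc, this]
          simp
      · rw [testBit_enc_ge _ hj, Bool.false_and]
    · show dec (codeWord k) = c.1.1
      rw [e, dec_enc]

theorem zero_on_octad {c : golayCode} :
    (∀ i : Fin 24, (8536111 : ℕ).testBit i.val = true → c.1 (pt i) = 0) ↔
      ∀ p ∈ baseOctad, c.1 p = 0 := by
  constructor
  · intro h p hp
    rw [← pt_idx p]
    exact h _ (mem_decS.mp hp)
  · intro h i hi
    exact h _ (mem_decS.mpr (by rwa [idx_pt]))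

theorem card_code_octad :
    Nat.card {c : golayCode // ∀ p ∈ baseOctad, c.1 p = 0} = 32 := by
  rw [← Nat.card_congr (Equiv.subtypeEquivRight fun c => zero_on_octad (c := c)), card_zero_on]
  decide +kernel

theorem card_code_pair :
    Nat.card {c : golayCode // c.1 none = 0 ∧ c.1 (some 0) = 0} = 1024 := by
  have h : ∀ c : golayCode, (∀ i : Fin 24, (8388609 : ℕ).testBit i.val = true → c.1 (pt i) = 0) ↔
      (c.1 none = 0 ∧ c.1 (some 0) = 0) := by
    intro c
    constructor
    · intro h
      exact ⟨h ⟨23, by norm_num⟩ (by decide +kernel), h ⟨0, by norm_num⟩ (by decide +kernel)⟩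
    · intro h i hi
      have key : ∀ i : Fin 24, (8388609 : ℕ).testBit i.val = true → pt i = none ∨ pt i = some 0 := by
        decide +kernel
      rcases key i hi with e | e <;> rw [e]
      exacts [h.1, h.2]
  rw [← Nat.card_congr (Equiv.subtypeEquivRight h), card_zero_on]
  decide +kernel

/-- Permutations of the code preserving the octad and the pair. -/
def pairStabPerm : Subgroup (Equiv.Perm GolayPt) :=
  octStab baseOctad ⊓ MulAction.stabilizer (Equiv.Perm GolayPt) ({none, some 0} : Finset GolayPt)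

theorem card_pairStabPerm : 11520 ≤ Nat.card pairStabPerm := by
  classical
  let H := octStab baseOctad
  let pr : Finset GolayPt := {none, some 0}
  have hst : Nat.card (MulAction.stabilizer H pr) = Nat.card pairStabPerm := by
    have e : MulAction.stabilizer H pr = pairStabPerm.subgroupOf H := by
      ext g
      simp only [Subgroup.mem_subgroupOf, pairStabPerm, Subgroup.mem_inf, MulAction.mem_stabilizer_iff]
      exact ⟨fun h => ⟨g.2, h⟩, fun h => h.2⟩
    rw [e, Nat.card_congr (Subgroup.subgroupOfEquivOfLe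
      (show pairStabPerm ≤ H from inf_le_left)).toEquiv]
  have hle : (MulAction.orbit H pr).ncard ≤ 28 := by
    refine le_trans (Set.ncard_le_ncard (t := ↑(Finset.powersetCard 2 baseOctad)) ?_) ?_
    · rintro _ ⟨g, rfl⟩
      have hg : (g : Equiv.Perm GolayPt) • baseOctad = baseOctad := g.2.2
      rw [Finset.mem_coe, Finset.mem_powersetCard]
      refine ⟨?_, ?_⟩
      · show (g : Equiv.Perm GolayPt) • pr ⊆ baseOctad
        rw [← hg]
        exact Finset.smul_finset_subset_smul_finset (by decide +kernel)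
      · show ((g : Equiv.Perm GolayPt) • pr).card = 2
        rw [Finset.card_smul_finset]; rfl
    · rw [Set.ncard_coe_finset, Finset.card_powersetCard, card_of_mem_octads baseOctad_mem]; rfl
  have hmul := (MulAction.stabilizer H pr).index_mul_card
  rw [MulAction.index_stabilizer, hst, natCard_octStab baseOctad_mem] at hmul
  nlinarith

theorem exists_orbit : ∀ n, n < 63 → ∃ γ : cTwo, (γ • rZero).toO = orbRoots.getD n [] := by
  intro n
  induction n using Nat.strong_induction_on with
  | _ n ih =>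
    intro hn
    match n with
    | 0 =>
      refine ⟨1, ?_⟩
      rw [one_smul, rZero_spec.1]
      decide +kernel
    | n + 1 =>
      have h := List.all_eq_true.mp orb_step n (List.mem_range.mpr (by omega))
      simp only [Bool.and_eq_true, beq_iff_eq, Nat.blt_eq] at h
      obtain ⟨⟨hp, hk⟩, he⟩ := h
      obtain ⟨γ, hγ⟩ := ih _ hp (by omega)
      obtain ⟨g, hg⟩ := exists_gen (k := (orbPar.getD n (0, 0)).2)
        (lt_of_lt_of_le hk (by decide +kernel))
      refine ⟨g * γ, ?_⟩
      rw [he, mul_smul, Root.toO, coe_smul_root, hg, actO, ← hγ, Root.toO, liftO_toOL (γ • rZero).2.2.2]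

theorem exists_to {v : I6 → ZMod 2} (hv : v ≠ 0) : ∃ γ : cTwo, (γ • rZero).cl = v := by
  obtain ⟨n, hn⟩ := orb_cover v hv
  obtain ⟨γ, hγ⟩ := exists_orbit n n.2
  exact ⟨γ, by rw [Root.cl, hγ, hn]⟩

theorem transitive {v w : I6 → ZMod 2} (hv : v ≠ 0) (hw : w ≠ 0) : ∃ γ : cTwo, mat γ *ᵥ v = w := by
  obtain ⟨a, rfl⟩ := exists_to hv
  obtain ⟨b, rfl⟩ := exists_to hw
  exact ⟨b * a⁻¹, by rw [← cl_smul, mul_smul, inv_smul_smul]⟩

theorem card_cTwo_ge : 63 * (1024 * 11520) ≤ Nat.card cTwo := by
  classical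
  have := cTwo_finite
  let V := {v : I6 → ZMod 2 // v ≠ 0}
  let A := {c : golayCode // c.1 none = 0 ∧ c.1 (some 0) = 0}
  have hV : Nat.card V = 63 := by
    rw [Nat.card_eq_fintype_card, Fintype.card_subtype_compl]
    rfl
  let m : A × pairStabPerm → cTwo := fun x =>
    ⟨sgnW x.1.1 * permW ⟨x.2.1, x.2.2.1.1⟩, mono_mem x.2.2.1.2 x.2.2.2 x.1.2⟩
  have hm : ∀ x, (m x • rZero).cl = rZero.cl := by
    rintro ⟨c, σ⟩
    have hU : (m (c, σ)).1 • Spor.leechU = Spor.leechU := (mem_cTwo.mp (m (c, σ)).2).2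
    have hσ : (σ : Equiv.Perm GolayPt) none = none ∨ (σ : Equiv.Perm GolayPt) none = some 0 := by
      have h : (σ : Equiv.Perm GolayPt) none ∈
          (σ : Equiv.Perm GolayPt) • ({none, some 0} : Finset GolayPt) :=
        Finset.smul_mem_smul_finset (by simp)
      rw [show (σ : Equiv.Perm GolayPt) • ({none, some 0} : Finset GolayPt) = {none, some 0} from σ.2.2,
        Finset.mem_insert, Finset.mem_singleton] at h
      exact h
    have hE : (m (c, σ)).1 • LeechEight.latE none = LeechEight.latE ((σ : Equiv.Perm GolayPt) none) := by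
      show (sgnW c.1 * permW _) • _ = _
      rw [mul_smul, permW_latE, sgnW_latE, if_pos]
      rcases hσ with e | e
      · exact (congrArg c.1.1 e).trans c.2.1
      · exact (congrArg c.1.1 e).trans c.2.2
    have hr : rZero.1 = LeechEight.latE none - Spor.leechU := eq_sub_of_add_eq' latE_none.symm
    have h1 : (m (c, σ) • rZero).1 = LeechEight.latE ((σ : Equiv.Perm GolayPt) none) - Spor.leechU := by
      rw [coe_smul_root, hr, sub_eq_add_neg, smul_add', smul_neg', hE, hU, ← sub_eq_add_neg]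
    rcases hσ with e | e
    · rw [show m (c, σ) • rZero = rZero from Subtype.ext (by rw [h1, e, hr])]
    · have h2 : m (c, σ) • rZero = rZero.neg := Subtype.ext (by
        rw [h1, e, eq_sub_of_add_eq latE_zero]
        show _ = -rZero.1
        abel)
      rw [h2, Root.cl, Root.cl, Root.toO_neg, rZero_spec.1]
      decide +kernel
  choose g hg using fun v : V => exists_to v.2
  have hinj : Function.Injective (fun y : V × (A × pairStabPerm) => g y.1 * m y.2) := by
    rintro ⟨v, x⟩ ⟨w, y⟩ e
    have hvw : v = w := by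
      have e' := congrArg (fun γ : cTwo => (γ • rZero).cl) e
      simp only [mul_smul] at e'
      rw [cl_smul (g v), cl_smul (g w), hm, hm, ← cl_smul, ← cl_smul, hg, hg] at e'
      exact Subtype.ext e'
    subst hvw
    have e2 : sgnW x.1.1 * permW ⟨x.2.1, x.2.2.1.1⟩ = sgnW y.1.1 * permW ⟨y.2.1, y.2.2.1.1⟩ :=
      congrArg Subtype.val (mul_left_cancel e)
    have hs := mono_unique e2
    rw [hs] at e2
    exact Prod.ext rfl (Prod.ext
      (Subtype.ext (Multiplicative.ofAdd.injective (sgnHom_injective (mul_right_cancel e2))))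
      (Subtype.ext (congrArg (fun z : M24 => (z : Equiv.Perm GolayPt)) hs)))
  have h := Nat.card_le_card_of_injective _ hinj
  rw [Nat.card_prod, Nat.card_prod, hV, card_code_pair] at h
  exact le_trans (by gcongr; exact card_pairStabPerm) h

/-- The pointwise stabiliser of the octad in the code group. -/
def fixOct : Subgroup (Equiv.Perm GolayPt) :=
  M24 ⊓ fixingSubgroup (Equiv.Perm GolayPt) (baseOctad : Set GolayPt)

theorem fixOct_apply (σ : fixOct) {p : GolayPt} (hp : p ∈ baseOctad) : (σ : Equiv.Perm GolayPt) p = p :=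
  (mem_fixingSubgroup_iff _).mp σ.2.2 p hp

theorem card_ker : Nat.card toSp.ker = 512 := by
  classical
  let A := {c : golayCode // ∀ p ∈ baseOctad, c.1 p = 0}
  have hex : ∀ x : A × fixOct, ∃ γ : cTwo, γ.1 = sgnW x.1.1 * permW ⟨x.2.1, x.2.2.1⟩ ∧ toSp γ = 1 :=
    fun x => mono_trivial x.1.2 fun p hp => fixOct_apply x.2 hp
  choose γ hγ hγ1 using hex
  let f : A × fixOct → toSp.ker := fun x => ⟨γ x, MonoidHom.mem_ker.mpr (hγ1 x)⟩
  have hb : Function.Bijective f := by
    refine ⟨fun x y e => ?_, fun k => ?_⟩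
    · have e2 : sgnW x.1.1 * permW ⟨x.2.1, x.2.2.1⟩ = sgnW y.1.1 * permW ⟨y.2.1, y.2.2.1⟩ := by
        rw [← hγ x, ← hγ y]
        exact congrArg (fun z : toSp.ker => z.1.1) e
      have hs := mono_unique e2
      rw [hs] at e2
      exact Prod.ext
        (Subtype.ext (Multiplicative.ofAdd.injective (sgnHom_injective (mul_right_cancel e2))))
        (Subtype.ext (congrArg (fun z : M24 => (z : Equiv.Perm GolayPt)) hs))
    · obtain ⟨c, σ, e, hc, hσ⟩ := exists_mono_of_trivial (MonoidHom.mem_ker.mp k.2)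
      refine ⟨(⟨c, hc⟩, ⟨σ.1, σ.2, (mem_fixingSubgroup_iff _).mpr fun p hp => hσ p hp⟩), ?_⟩
      exact Subtype.ext (Subtype.ext ((hγ _).trans e.symm))
  rw [← Nat.card_congr (Equiv.ofBijective f hb), Nat.card_prod, card_code_octad,
    show Nat.card fixOct = 16 from (octad_fixing baseOctad_mem).1]

theorem card_sp : Nat.card (Matrix.symplecticGroup (Fin 3) (ZMod 2)) = 1451520 := by
  rw [CfsgLib.Sp.card_symplecticGroup (q := 2) (ZMod.card 2)]
  rfl

theorem toSp_surjective : Function.Surjective toSp := by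
  have := cTwo_finite
  rw [← MonoidHom.range_eq_top]
  refine Subgroup.eq_top_of_le_card _ ?_
  have h := toSp.ker.index_mul_card
  rw [Subgroup.index_ker, card_ker] at h
  rw [card_sp]
  have := card_cTwo_ge
  omega

/-- A normal `2`-subgroup acts trivially. -/
theorem le_ker {N : Subgroup cTwo} (hN : N.Normal) (hp : IsPGroup 2 N) : N ≤ toSp.ker := by
  classical
  have := cTwo_finite
  have := Fact.mk Nat.prime_two
  let _ : MulAction N (I6 → ZMod 2) :=
    { smul := fun n v => mat n.1 *ᵥ v
      one_smul := fun v => by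
        show mat (1 : cTwo) *ᵥ v = v
        rw [← toSp_coe, map_one, OneMemClass.coe_one, Matrix.one_mulVec]
      mul_smul := fun a b v => by
        show mat (a.1 * b.1) *ᵥ v = mat a.1 *ᵥ (mat b.1 *ᵥ v)
        rw [mat_mul, Matrix.mulVec_mulVec] }
  have h0 : (0 : I6 → ZMod 2) ∈ MulAction.fixedPoints N (I6 → ZMod 2) :=
    fun n => Matrix.mulVec_zero _
  obtain ⟨v, hv, hv0⟩ := hp.exists_fixed_point_of_prime_dvd_card_of_fixed_point (I6 → ZMod 2)
    (by rw [Nat.card_eq_fintype_card, Fintype.card_fun, ZMod.card]; decide) h0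
  intro n hn
  have hfix : ∀ w, mat n *ᵥ w = w := by
    intro w
    by_cases hw : w = 0
    · rw [hw, Matrix.mulVec_zero]
    obtain ⟨g, rfl⟩ := transitive (Ne.symm hv0) hw
    have hn' : g⁻¹ * n * g⁻¹⁻¹ ∈ N := hN.conj_mem n hn g⁻¹
    have h1 : mat (g⁻¹ * n * g) *ᵥ v = v := hv ⟨_, by simpa using hn'⟩
    calc mat n *ᵥ (mat g *ᵥ v) = mat (g * (g⁻¹ * n * g)) *ᵥ v := by
          rw [Matrix.mulVec_mulVec, ← mat_mul]; congr 2; group
      _ = mat g *ᵥ v := by rw [mat_mul, ← Matrix.mulVec_mulVec, h1]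
  refine MonoidHom.mem_ker.mpr (Subtype.ext ?_)
  rw [OneMemClass.coe_one, toSp_coe]
  exact Matrix.ext_of_mulVec_single fun i => by rw [hfix, Matrix.one_mulVec]

/-! ### The kernel is extraspecial -/

theorem affine_check : ∀ k < 4096, codeWord k &&& 8536111 = 0 →
    (∀ v w : V4, xor ((codeWord k).testBit (apt (w + v))) ((codeWord k).testBit (apt w)) =
      xor ((codeWord k).testBit (apt v)) ((codeWord k).testBit (apt 0))) := by
  decide +kernel

theorem moved_check : ∀ v : V4, v ≠ 0 →
    ∃ k : Fin 4096, codeWord k &&& 8536111 = 0 ∧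
      (codeWord k).testBit (apt v) ≠ (codeWord k).testBit (apt 0) := by
  decide +kernel

theorem fixOct_translation (σ : fixOct) :
    ∃ v : V4, ∀ w, (σ : Equiv.Perm GolayPt) (affP w) = affP (w + v) := by
  have hst : (⟨σ.1, σ.2.1⟩ : M24) ∈ octH := by
    show (σ : Equiv.Perm GolayPt) • baseOctad = baseOctad
    refine Finset.eq_of_subset_of_card_le (fun x hx => ?_) (by rw [Finset.card_smul_finset])
    obtain ⟨y, hy, rfl⟩ := Finset.mem_smul_finset.mp hx
    rw [Equiv.Perm.smul_def, fixOct_apply σ hy]; exact hy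
  have h6 : (σ : Equiv.Perm GolayPt) ∈ stdStab 6 := by
    rw [← fixingSubgroup_baseOctad]; exact σ.2
  obtain ⟨v, hv⟩ := exists_of_fixing (τ := ⟨⟨σ.1, σ.2.1⟩, hst⟩) h6
  exact ⟨v, fun w => by rw [← hv w, affP_affMap]⟩

end CfsgLib.Sporadic.CoTwo
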