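import Cfsg.Agent.Lib.Golay.LeechOrbit.Elem
import Cfsg.Agent.Lib.Golay.Orbits

/-!
The root system E7 inside the fixed lattice of an octad involution in Co2: kernel-evaluated facts.

Roots are coded by their eight half-coordinates on the octad at positions `opL`.
-/

set_option autoImplicit false
set_option maxRecDepth 100000

namespace CfsgLib.Sporadic.CoTwo

open Cfsg CfsgLib.Golay CfsgLib.Golay.LeechOrbit

/-- The positions of the octad, starting with the two in the support of `(4, 4, 0²²)`. -/
def opL : List ℕ := [23, 0, 1, 2, 3, 5, 14, 17]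

/-- Half coordinates on the octad. -/
def toOL (l : List ℤ) : List ℤ := opL.map fun i => l.getD i 0 / 2

/-- The lattice coordinates of half coordinates on the octad. -/
def liftO (y : List ℤ) : List ℤ :=
  List.ofFn fun i : Fin 24 => bif opL.contains i.val then 2 * y.getD (opL.idxOf i.val) 0 else 0

/-- All lists of a given length over a given list of entries. -/
def tuples (A : List ℤ) : ℕ → List (List ℤ)
  | 0 => [[]]
  | n + 1 => (tuples A n).flatMap fun l => A.map fun a => a :: l

/-- The conditions on a root. -/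
def rootB (y : List ℤ) : Bool :=
  decide (dotL y y = 8) && decide (y.sum % 4 = 0) && decide (y.getD 0 0 + y.getD 1 0 = 0)

/-- The 126 roots. -/
def rootL : List (List ℤ) := (tuples [-2, 0, 2] 8 ++ tuples [-1, 1] 8).filter rootB

/-- The coordinates of the standard vector `(4, 4, 0²²)`. -/
def uL : List ℤ := List.ofFn fun i : Fin 24 => bif i.val == 0 || i.val == 23 then 4 else 0

/-- The bilinear form modulo two. -/
def bilL (x y : List ℤ) : ZMod 2 := bif decide ((dotL x y / 4) % 2 = 0) then 0 else 1

/-- A symplectic basis. -/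
def basisL : Fin 3 ⊕ Fin 3 → List ℤ :=
  fun i => [[-2, 2, 0, 0, 0, 0, 0, 0],
   [0, 0, -2, 0, 0, 0, 0, -2],
   [0, 0, 0, -2, 0, 2, 0, 0],
   [-1, 1, -1, -1, -1, -1, -1, 1],
   [0, 0, -2, 0, 0, 0, 2, 0],
   [0, 0, 0, -2, 2, 0, 0, 0]].getD (Sum.elim (fun j => j.val) (fun j => 3 + j.val) i) []

/-- The class of a root in the symplectic space. -/
def clL (y : List ℤ) : Fin 3 ⊕ Fin 3 → ZMod 2 := fun i => bilL y (basisL i.swap)

/-- The standard alternating form over two elements. -/
def sform (a b : Fin 3 ⊕ Fin 3 → ZMod 2) : ZMod 2 :=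
  a (Sum.inl 0) * b (Sum.inr 0) + a (Sum.inl 1) * b (Sum.inr 1) + a (Sum.inl 2) * b (Sum.inr 2) +
    (a (Sum.inr 0) * b (Sum.inl 0) + a (Sum.inr 1) * b (Sum.inl 1) + a (Sum.inr 2) * b (Sum.inl 2))

theorem rootL_length : rootL.length = 126 := by decide +kernel

theorem rootL_lift : (rootL.all fun y => latA (ofL (liftO y)) &&
    decide (dotL (liftO y) (liftO y) = 32) && decide (dotL (liftO y) uL = 0) &&
    (flipL 8241104 (liftO y) == liftO y) && (toOL (liftO y) == y)) = true := by
  decide +kernel

theorem bil_eq : (rootL.all fun x => rootL.all fun y => bilL x y == sform (clL x) (clL y)) = true := by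
  decide +kernel

theorem four_dvd_dot : (rootL.all fun x => rootL.all fun y => decide (dotL x y % 4 = 0)) = true := by
  decide +kernel

theorem cl_eq : (rootL.all fun x => rootL.all fun y =>
    !decide (clL x = clL y) || x == y || x == y.map (fun a => -a)) = true := by
  decide +kernel

theorem basis_ok : ∀ i, basisL i ∈ rootL ∧ clL (basisL i) = Pi.single i 1 := by
  decide +kernel

theorem connected : (rootL.all fun x => rootL.all fun y =>
    rootL.any fun z => !decide (dotL x z = 0) && !decide (dotL z y = 0)) = true := by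
  decide +kernel

/-- A step: a permutation of the code, a sign change, or the tetrad involution. -/
inductive Step : Type
  | perm (l : List ℕ)
  | sgn (n : ℕ)
  | xi

/-- Validity of a step. -/
def stepB : Step → Bool
  | .perm l => genOK l
  | .sgn n => isCode n && Nat.blt n 16777216
  | .xi => true

/-- A step on coordinates. -/
def appStep : Step → List ℤ → List ℤ
  | .perm l => moveL (invP l)
  | .sgn n => flipL n
  | .xi => xiL

/-- Steps on coordinates, the last one first. -/
def appSteps : List Step → List ℤ → List ℤ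
  | [], l => l
  | a :: w, l => appStep a (appSteps w l)

/-- Generators of the centraliser modulo the kernel. -/
def genSteps : List (List Step) :=
  [[.sgn 13062145, .perm [1, 5, 14, 3, 8, 2, 11, 15, 20, 19, 22, 16, 6, 21, 23, 18, 4, 0, 12, 7, 10, 13, 9, 17], .perm [5, 2, 3, 1, 7, 17, 22, 21, 11, 12, 15, 18, 9, 19, 14, 8, 4, 0, 20, 13, 10, 6, 16, 23], .xi, .perm [17, 3, 1, 2, 16, 0, 21, 4, 15, 12, 20, 8, 9, 19, 14, 10, 22, 5, 11, 13, 18, 7, 6, 23]],
   [.perm [23, 5, 1, 14, 19, 17, 15, 4, 22, 9, 13, 18, 6, 10, 2, 21, 16, 3, 20, 7, 11, 8, 12, 0]],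
   [.perm [23, 3, 17, 5, 15, 1, 13, 22, 12, 11, 18, 19, 7, 4, 14, 21, 16, 2, 8, 9, 6, 20, 10, 0]],
   [.sgn 4845570]]

/-- The unit vectors, times eight. -/
def eightE (j : ℕ) : List ℤ := List.ofFn fun i : Fin 24 => bif i.val == j then 8 else 0

/-- The action on half coordinates. -/
def actO (k : ℕ) (y : List ℤ) : List ℤ := toOL (appSteps (genSteps.getD k []) (liftO y))

theorem genSteps_ok : (genSteps.all fun w => w.all stepB && (appSteps w uL == uL) &&
    (List.range 24).all fun j =>
      appSteps w (flipL 8241104 (eightE j)) == flipL 8241104 (appSteps w (eightE j))) = true := by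
  decide +kernel

/-- A spanning tree of the 63 classes. -/
def orbPar : List (ℕ × ℕ) := [(0, 0), (1, 0), (1, 1), (1, 2), (1, 3), (2, 0), (2, 1), (2, 2), (2, 3), (3, 0), (3, 1), (3, 2), (4, 0), (4, 1), (4, 2), (5, 0), (5, 1), (5, 2), (6, 0), (6, 1), (6, 2), (6, 3), (7, 3), (8, 0), (8, 1), (8, 3), (9, 0), (9, 1), (9, 2), (10, 0), (10, 1), (10, 2), (10, 3), (11, 2), (11, 3), (12, 0), (12, 2), (12, 3), (14, 0), (14, 2), (15, 0), (15, 1), (15, 2), (16, 3), (18, 2), (19, 0), (19, 1), (21, 3), (22, 0), (23, 0), (23, 1), (23, 2), (25, 0), (25, 2), (25, 3), (26, 1), (30, 1), (32, 1), (33, 0), (33, 1), (34, 3), (52, 2)]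

/-- The roots along the tree. -/
def orbRoots : List (List ℤ) :=
  orbPar.foldl (fun acc p => acc ++ [actO p.2 (acc.getD p.1 [])]) [[2, -2, 0, 0, 0, 0, 0, 0]]

theorem orb_step : ((List.range 62).all fun n =>
    let p := orbPar.getD n (0, 0)
    Nat.blt p.1 (n + 1) && Nat.blt p.2 4 &&
      orbRoots.getD (n + 1) [] == actO p.2 (orbRoots.getD p.1 [])) = true := by
  decide +kernel

theorem orb_cover : ∀ v : Fin 3 ⊕ Fin 3 → ZMod 2, v ≠ 0 → ∃ n : Fin 63, clL (orbRoots.getD n []) = v := by
  decide +kernel

theorem cl_ne_zero : (rootL.all fun x => !decide (clL x = 0)) = true := by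
  decide +kernel

end CfsgLib.Sporadic.CoTwo
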