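import Mathlib
import Cfsg.Agent.Lib.Sporadic.ConwayLocal
import Cfsg.Agent.Lib.Golay.LeechIrreducible
import Cfsg.Prelude.Def_Sporadic

/-! The automorphism group of the lattice modulo its centre is simple. -/

set_option autoImplicit false

namespace CfsgLib.Sporadic.ConwayOne

open Cfsg CfsgLib.MonsterType CfsgLib.LeechEight CfsgLib.Golay
open CfsgLib.GolayModule (indic indic_mem act_indic code_le_of_octads act)
open CfsgLib.Sporadic.Conway CfsgLib.Sporadic.NormalizerCriterion
open scoped Pointwise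

theorem orderOf_shift : orderOf (permW shiftEl) = 23 := by
  rw [← permHom_apply, orderOf_injective permHom permHom_injective, ← Subgroup.orderOf_coe]
  exact orderOf_shiftPerm

theorem prime23 : Fact (Nat.Prime 23) := ⟨by norm_num⟩

theorem not_sq_dvd : ¬ 23 * 23 ∣ Nat.card Co0 := by rw [natCard_Co0]; norm_num

theorem shift_pow : (permW shiftEl) ^ 23 = 1 := orderOf_shift ▸ pow_orderOf_eq_one _

/-- The sign changes that lie in a normal subgroup containing the permutations. -/
theorem mono_le {N : Subgroup Co0} [N.Normal] (hp : ∀ σ : M24, permW σ ∈ N) (c : golayCode) :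
    sgnW c ∈ N := by
  have hdiff : ∀ (c : golayCode) (σ : M24), sgnW (c + ⟨_, act_code σ.2 c⟩) ∈ N := by
    intro c σ
    have h := mul_mem (Subgroup.Normal.conj_mem inferInstance (permW σ) (hp σ) (sgnW c)) (inv_mem (hp σ))
    have hinv : (sgnW c)⁻¹ = sgnW c := by
      rw [inv_eq_iff_mul_eq_one]
      show sgnHom (Multiplicative.ofAdd c) * sgnHom (Multiplicative.ofAdd c) = 1
      rw [← map_mul, ← ofAdd_add,
        show c + c = 0 from Subtype.ext (funext fun i => CharTwo.add_self_eq_zero _)]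
      exact map_one _
    have hm : sgnW c * permW σ * (sgnW c)⁻¹ * (permW σ)⁻¹ = sgnW (c + ⟨_, act_code σ.2 c⟩) := by
      rw [hinv]
      calc sgnW c * permW σ * sgnW c * (permW σ)⁻¹
          = sgnW c * (permW σ * sgnW c * (permW σ)⁻¹) := by group
        _ = sgnHom (Multiplicative.ofAdd c) * sgnHom (Multiplicative.ofAdd ⟨_, act_code σ.2 c⟩) := by
          rw [perm_sgn]; rfl
        _ = _ := by rw [← map_mul, ← ofAdd_add]; rfl
    rwa [hm] at h
  let W : Submodule (ZMod 2) (GolayPt → ZMod 2) :=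
    { carrier := {w | ∃ h : w ∈ golayCode, sgnW ⟨w, h⟩ ∈ N}
      add_mem' := by
        rintro u v ⟨hu, hu'⟩ ⟨hv, hv'⟩
        refine ⟨add_mem hu hv, ?_⟩
        have h := mul_mem hu' hv'
        have e : sgnW ⟨u, hu⟩ * sgnW ⟨v, hv⟩ = sgnW ⟨u + v, add_mem hu hv⟩ :=
          (map_mul sgnHom (Multiplicative.ofAdd (⟨u, hu⟩ : golayCode))
            (Multiplicative.ofAdd (⟨v, hv⟩ : golayCode))).symm
        rwa [e] at h
      zero_mem' := ⟨zero_mem _, by
        have : sgnW (⟨0, zero_mem _⟩ : golayCode) = 1 := sgnW_zero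
        rw [this]; exact one_mem _⟩
      smul_mem' := by
        intro a u ⟨hu, hu'⟩
        rcases zmod2_cases a with rfl | rfl
        · rw [zero_smul]
          refine ⟨zero_mem _, ?_⟩
          have : sgnW (⟨0, zero_mem _⟩ : golayCode) = 1 := sgnW_zero
          rw [this]; exact one_mem _
        · rw [one_smul]; exact ⟨hu, hu'⟩ }
  have ho1 : decS 13062145 ∈ octads := by rw [mem_octads]; decide +kernel
  have ho2 : decS 4845570 ∈ octads := by rw [mem_octads]; decide +kernel
  have ho : decS (13062145 ^^^ 4845570) ∈ octads := by rw [mem_octads]; decide +kernel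
  obtain ⟨τ, hτ, hτo⟩ := exists_smul_octad_eq ho1 ho2
  have hW : ∀ o ∈ octads, indic o ∈ W := by
    have h0 : indic (decS (13062145 ^^^ 4845570)) ∈ W := by
      have e : indic (decS (13062145 ^^^ 4845570)) =
          indic (decS 13062145) + act τ (indic (decS 13062145)) := by
        rw [act_indic, hτo, ← GolayModule.dec_eq_indic, ← GolayModule.dec_eq_indic,
          ← GolayModule.dec_eq_indic, dec_xor]
      rw [e]
      exact ⟨add_mem (indic_mem ho1) (GolayModule.act_mem_code hτ (indic_mem ho1)),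
        hdiff ⟨_, indic_mem ho1⟩ ⟨τ, hτ⟩⟩
    intro o ho'
    obtain ⟨g, hg, rfl⟩ := exists_smul_octad_eq ho ho'
    obtain ⟨hm, hN⟩ := h0
    rw [← act_indic]
    refine ⟨GolayModule.act_mem_code hg hm, ?_⟩
    have := Subgroup.Normal.conj_mem inferInstance _ hN (permW ⟨g, hg⟩)
    rwa [perm_sgn] at this
  exact (code_le_of_octads hW c.2).2

theorem stdCross_le {N : Subgroup Co0} [N.Normal] (hN : 23 ∣ Nat.card N) :
    MulAction.stabilizer Co0 stdCrossL ≤ N := by
  have := co0_finite
  have := prime23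
  have hx : permW shiftEl ∈ N := mem_of_dvd_card not_sq_dvd hN shift_pow
  have hp : ∀ σ : M24, permW σ ∈ N := by
    have := CfsgLib.Golay.isSimpleGroup_M24
    have htop : N.comap permHom = ⊤ := by
      refine ((inferInstance : (N.comap permHom).Normal).eq_bot_or_eq_top).resolve_left fun h => ?_
      have h1 : shiftEl ∈ N.comap permHom := hx
      rw [h, Subgroup.mem_bot] at h1
      have := orderOf_shift
      rw [h1, ← permHom_apply, map_one, orderOf_one] at this
      norm_num at this
    intro σ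
    exact (Subgroup.eq_top_iff' _).1 htop σ
  intro g hg
  obtain ⟨c, σ, rfl⟩ := mem_stabilizer_stdCrossL.1 hg
  exact mul_mem (mono_le hp c) (hp σ)

theorem normalizer_le_stdCross :
    Subgroup.normalizer (Subgroup.zpowers (permW shiftEl) : Set Co0) ≤
      MulAction.stabilizer Co0 stdCrossL := by
  intro g hg
  rw [mem_stabilizer_stdCrossL, ← cong_latE_iff]
  rcases shift_normalizer (conj_mem_of_mem_normalizer hg) with ⟨-, h⟩ | ⟨-, h⟩ <;> rw [h]
  · exact Cong.refl' _
  · exact Cong.neg' _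

theorem eq_top_of_dvd {N : Subgroup Co0} [N.Normal] (hN : 23 ∣ Nat.card N) : N = ⊤ := by
  have := co0_finite
  have := prime23
  rw [← top_le_iff, ← normalizer_sup_eq_top not_sq_dvd orderOf_shift (mem_of_dvd_card not_sq_dvd hN shift_pow)]
  exact sup_le (normalizer_le_stdCross.trans (stdCross_le hN)) le_rfl

/-- The monomial elements of a normal subgroup of order prime to 23 are sign changes. -/
theorem mono_two {N : Subgroup Co0} [N.Normal] (hN : ¬ 23 ∣ Nat.card N) :
    IsPGroup 2 ↥(MulAction.stabilizer Co0 stdCrossL ⊓ N) := by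
  have := co0_finite
  have := prime23
  have := CfsgLib.Golay.isSimpleGroup_M24
  let S : Subgroup M24 :=
    { carrier := {σ | ∃ c : golayCode, sgnW c * permW σ ∈ N}
      mul_mem' := fun {σ τ} ⟨c, hc⟩ ⟨d, hd⟩ => ⟨_, by rw [← mono_mul]; exact mul_mem hc hd⟩
      one_mem' := ⟨0, by rw [sgnW_zero, one_mul, ← permHom_apply, map_one]; exact one_mem _⟩
      inv_mem' := fun {σ} ⟨c, hc⟩ => ⟨⟨_, act_code (inv_mem σ.2) c⟩, by
        have h1 := inv_mem hc
        have e : (sgnW c * permW σ)⁻¹ = sgnW ⟨_, act_code (inv_mem σ.2) c⟩ * permW σ⁻¹ := by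
          refine inv_eq_of_mul_eq_one_right ?_
          rw [mono_mul, mul_inv_cancel, ← permHom_apply, map_one, mul_one, ← sgnW_zero]
          congr 1
          apply Subtype.ext
          funext i
          show c.1 i + c.1 (((σ⁻¹ : M24) : Equiv.Perm GolayPt).symm ((σ : Equiv.Perm GolayPt).symm i)) = 0
          rw [show ((σ⁻¹ : M24) : Equiv.Perm GolayPt).symm ((σ : Equiv.Perm GolayPt).symm i) = i by
            simp [InvMemClass.coe_inv, Equiv.Perm.inv_def]]
          exact CharTwo.add_self_eq_zero _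
        rwa [e] at h1⟩ }
  have hS : S.Normal := ⟨fun σ ⟨c, hc⟩ τ => ⟨⟨_, act_code τ.2 c⟩, by
    have h1 := Subgroup.Normal.conj_mem inferInstance _ hc (permW τ)
    have e : permW τ * (sgnW c * permW σ) * (permW τ)⁻¹ =
        sgnW ⟨_, act_code τ.2 c⟩ * permW (τ * σ * τ⁻¹) := by
      rw [← perm_sgn]
      simp only [← permHom_apply, map_mul, map_inv]
      group
    rwa [e] at h1⟩⟩
  have hbot : S = ⊥ := by
    refine hS.eq_bot_or_eq_top.resolve_right fun htop => hN ?_
    obtain ⟨c, hc⟩ := (Subgroup.eq_top_iff' _).1 htop shiftEl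
    have hdvd : 23 ∣ orderOf (sgnW c * permW shiftEl) := by
      have hkey : ∀ k : ℕ, ∃ d : golayCode, (sgnW c * permW shiftEl) ^ k = sgnW d * permW (shiftEl ^ k) := by
        intro k
        induction k with
        | zero => exact ⟨0, by rw [pow_zero, pow_zero, sgnW_zero, one_mul, ← permHom_apply, map_one]⟩
        | succ k ih =>
          obtain ⟨d, hd⟩ := ih
          exact ⟨_, by rw [pow_succ, pow_succ, hd, mono_mul]⟩
      obtain ⟨d, hd⟩ := hkey (orderOf (sgnW c * permW shiftEl))
      rw [pow_orderOf_eq_one] at hd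
      have h1 : shiftEl ^ orderOf (sgnW c * permW shiftEl) = 1 := by
        refine mono_unique (c := d) (d := 0) ?_
        rw [← hd, sgnW_zero, one_mul, ← permHom_apply, map_one]
      have h2 := orderOf_dvd_of_pow_eq_one h1
      rwa [← Subgroup.orderOf_coe, show orderOf (shiftEl : Equiv.Perm GolayPt) = 23 from orderOf_shiftPerm] at h2
    refine hdvd.trans ?_
    rw [show orderOf (sgnW c * permW shiftEl) = orderOf (⟨_, hc⟩ : N) from
      Subgroup.orderOf_coe (⟨_, hc⟩ : N)]
    exact orderOf_dvd_natCard _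
  refine (IsPGroup.of_card (p := 2) (n := 12) card_sgn_range).to_le ?_
  rintro g ⟨hg, hgN⟩
  obtain ⟨c, σ, rfl⟩ := mem_stabilizer_stdCrossL.1 hg
  have hσ : σ ∈ S := ⟨c, hgN⟩
  rw [hbot, Subgroup.mem_bot] at hσ
  exact ⟨Multiplicative.ofAdd c, by rw [hσ, ← permHom_apply, map_one, mul_one]; rfl⟩

theorem two_group {N : Subgroup Co0} [N.Normal] (hN : ¬ 23 ∣ Nat.card N) : IsPGroup 2 N := by
  have := co0_finite
  have := prime23
  have hprime : ∀ d : ℕ, d.Prime → d ∣ Nat.card N → d = 2 := by
    intro q hq hqN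
    refine (prime_dvd_centralizer_or (q₀ := 2) (p := 23)
      [(2, 22), (3, 9), (5, 4), (7, 2), (11, 1), (13, 1), (23, 1)]
      (by rw [natCard_Co0]; norm_num) (by norm_num) (by rw [natCard_Co0]; norm_num)
      (by decide +kernel) hN shift_pow hq hqN).elim id fun h => ?_
    obtain ⟨n, hn⟩ := (mono_two hN).exists_card_eq
    have hle : Subgroup.centralizer {permW shiftEl} ⊓ N ≤ MulAction.stabilizer Co0 stdCrossL ⊓ N :=
      le_inf (inf_le_left.trans ((centralizer_le_normalizer_zpowers _).trans normalizer_le_stdCross))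
        inf_le_right
    exact (Nat.prime_dvd_prime_iff_eq hq Nat.prime_two).1
      (hq.dvd_of_dvd_pow ((h.trans (Subgroup.card_dvd_of_le hle)).trans hn.dvd))
  exact IsPGroup.of_card (Nat.eq_prime_pow_of_unique_prime_dvd Nat.card_pos.ne' fun hd hdN => hprime _ hd hdN)

theorem le_center_of_two {N : Subgroup Co0} [N.Normal] (hN : IsPGroup 2 N) :
    N ≤ Subgroup.center Co0 := by
  have := co0_finite
  have : Fact (Nat.Prime 2) := ⟨Nat.prime_two⟩
  have hfix : ∀ n ∈ N, n • stdCrossL = stdCrossL := by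
    have hcard := ncard_orbit_stdCrossL
    haveI : Finite (MulAction.orbit Co0 stdCrossL) :=
      (Set.finite_of_ncard_ne_zero (by rw [hcard]; norm_num)).to_subtype
    have hn : ¬ 2 ∣ Nat.card (MulAction.orbit Co0 stdCrossL) := by
      rw [Nat.card_coe_set_eq, hcard]; norm_num
    obtain ⟨⟨_, γ, rfl⟩, hq⟩ := hN.nonempty_fixed_point_of_prime_not_dvd_card
      (MulAction.orbit Co0 stdCrossL) hn
    intro n hn
    have h1 := congrArg Subtype.val (hq ⟨γ * n * γ⁻¹, Subgroup.Normal.conj_mem inferInstance n hn γ⟩)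
    change (γ * n * γ⁻¹) • γ • stdCrossL = γ • stdCrossL at h1
    rw [← mul_smul, show γ * n * γ⁻¹ * γ = γ * n by group, mul_smul] at h1
    exact MulAction.injective γ h1
  intro n hn
  apply central_of_trivial_modTwo
  let M : AddSubgroup (GolayPt → ℤ) :=
    { carrier := {x | ∃ h : x ∈ leechLattice, ∀ n ∈ N, Cong (n • (⟨x, h⟩ : leechLattice)) ⟨x, h⟩}
      add_mem' := by
        rintro x y ⟨hx, hx'⟩ ⟨hy, hy'⟩
        refine ⟨add_mem hx hy, fun n hn => ?_⟩
        obtain ⟨u, hu⟩ := hx' n hn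
        obtain ⟨v, hv⟩ := hy' n hn
        refine ⟨u + v, ?_⟩
        have e : (⟨x + y, add_mem hx hy⟩ : leechLattice) = ⟨x, hx⟩ + ⟨y, hy⟩ := rfl
        rw [e, smul_add', hu, hv]
        abel
      zero_mem' := ⟨zero_mem _, fun n hn => ⟨0, by
        have e : (⟨0, zero_mem _⟩ : leechLattice) = 0 := rfl
        rw [e, add_zero, add_zero]
        exact (LeechEight.addHom n).map_zero⟩⟩
      neg_mem' := by
        rintro x ⟨hx, hx'⟩
        refine ⟨neg_mem hx, fun n hn => ?_⟩
        obtain ⟨u, hu⟩ := hx' n hn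
        refine ⟨-u, ?_⟩
        have e : (⟨-x, neg_mem hx⟩ : leechLattice) = -⟨x, hx⟩ := rfl
        rw [e, smul_neg', hu]
        abel }
  have hM : M = leechLattice := by
    refine invariant_eq_top M ?_ (fun x ⟨hx, _⟩ => hx) ?_ (x := ((latE none : leechLattice) : GolayPt → ℤ)) ?_ ?_
    · intro v hv
      refine ⟨AddSubgroup.zsmul_mem _ hv 2, fun n hn => ⟨n • (⟨v, hv⟩ : leechLattice) - ⟨v, hv⟩, ?_⟩⟩
      have e : (⟨(2 : ℤ) • v, AddSubgroup.zsmul_mem _ hv 2⟩ : leechLattice) = ⟨v, hv⟩ + ⟨v, hv⟩ :=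
        Subtype.ext (two_zsmul v)
      rw [e, smul_add']
      abel
    · rintro g v ⟨hv, hv'⟩
      refine ⟨(g • v).2, fun n hn => ?_⟩
      have h1 := (hv' (g⁻¹ * n * g) (by simpa using Subgroup.Normal.conj_mem inferInstance n hn g⁻¹)).smul' g
      rw [← mul_smul, show g * (g⁻¹ * n * g) = n * g by group, mul_smul] at h1
      exact h1
    · refine ⟨(latE none).2, fun n hn => ?_⟩
      exact cong_latE_iff.2 (mem_stabilizer_stdCrossL.1 (hfix n hn))
    · intro w hw e
      have h1 := congrArg sqNorm e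
      rw [sqNorm_latE, sqNorm_smul] at h1
      have h2 := thirtytwo_le_sqNorm hw (fun h0 => by
        rw [h0, sqNorm_eq_zero.2 rfl] at h1
        norm_num at h1)
      omega
  intro v
  have hv : (v : GolayPt → ℤ) ∈ M := hM.symm ▸ v.2
  exact hv.2 n hn

theorem normal_cases {N : Subgroup Co0} [N.Normal] : N ≤ Subgroup.center Co0 ∨ N = ⊤ := by
  by_cases h : 23 ∣ Nat.card N
  · exact Or.inr (eq_top_of_dvd h)
  · exact Or.inl (le_center_of_two (two_group h))

theorem isCo1 : Cfsg.IsCo1 (Co0 ⧸ Subgroup.center Co0) := by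
  have := co0_finite
  have hcard : Nat.card (Co0 ⧸ Subgroup.center Co0) = 4157776806543360000 := by
    have h := Subgroup.card_eq_card_quotient_mul_card_subgroup (Subgroup.center Co0)
    rw [natCard_Co0, card_center_Co0] at h
    omega
  refine ⟨?_, hcard⟩
  have : Nontrivial (Co0 ⧸ Subgroup.center Co0) := Finite.one_lt_card_iff_nontrivial.1 (by rw [hcard]; norm_num)
  refine ⟨fun N hN => ?_⟩
  rcases normal_cases (N := N.comap (QuotientGroup.mk' (Subgroup.center Co0))) with h | h
  · refine Or.inl (le_bot_iff.1 fun q hq => ?_)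
    obtain ⟨g, rfl⟩ := QuotientGroup.mk'_surjective _ q
    rw [Subgroup.mem_bot, QuotientGroup.mk'_apply, QuotientGroup.eq_one_iff]
    exact h hq
  · refine Or.inr (top_unique fun q _ => ?_)
    obtain ⟨g, rfl⟩ := QuotientGroup.mk'_surjective _ q
    exact (Subgroup.eq_top_iff' _).1 h g

end CfsgLib.Sporadic.ConwayOne
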