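import Cfsg.Agent.Lib.Sporadic.ConwayTwoOut
import Cfsg.Agent.Lib.Sporadic.ConwayOne

/-!
# Elements of the automorphism group of the lattice and their centralisers modulo the centre
-/

set_option autoImplicit false

namespace CfsgLib.Sporadic.Conway.OneOut

open Cfsg CfsgLib.Golay CfsgLib.MonsterType CfsgLib.LeechEight Subgroup
open scoped Pointwise
open ThreeOut (vecList vecList_injective stepA stepB unitList vecList_latE permL clsTab cls_eq_tab dotList)
open TwoOut (stepC gA gB gC GT)

/-! ### The elements -/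

/-- The translation. -/
def eA : Co0 := (gA : Co0)

/-- The doubling. -/
def eB : Co0 := (gB : Co0)

/-- The involution inverting the doubling. -/
noncomputable def eC : Co0 := (gC : Co0)

/-- The word of the squares. -/
def qWord : golayCode := ⟨qrWord 0, Submodule.subset_span (Set.mem_union_left _ ⟨0, rfl⟩)⟩

/-- The sign change on that word. -/
def eS : Co0 := sgnW qWord

/-- The negation. -/
def eN : Co0 := sgnW ⟨1, one_mem_golay⟩

/-- An element of order three modulo the centre commuting with the doubling. -/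
noncomputable def eX : Co0 := eS * (eC * eS * eC)

theorem eA_eq : eA = permW shiftEl := rfl

theorem eB_eq : eB = permW doubleEl := rfl

theorem eN_smul (v : leechLattice) : eN • v = -v := by
  apply Subtype.ext; funext i; rw [eN, sgnW_apply]; simp

theorem eN_sq : eN * eN = 1 := ext_latE fun j => by rw [mul_smul, eN_smul, eN_smul, neg_neg, one_smul]

theorem eN_comm (g : Co0) : eN * g = g * eN := (Subgroup.mem_center_iff.mp neg_mem_center g).symm

theorem sgnW_add (c d : golayCode) : sgnW (c + d) = sgnW c * sgnW d :=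
  map_mul sgnHom (Multiplicative.ofAdd c) (Multiplicative.ofAdd d)

theorem sgnW_inj {c d : golayCode} (h : sgnW c = sgnW d) : c = d :=
  Multiplicative.ofAdd.injective (sgnHom_injective h)

theorem eS_sq : eS * eS = 1 := by
  rw [eS, ← sgnW_add, show qWord + qWord = 0 from Subtype.ext (funext fun i => CharTwo.add_self_eq_zero _)]
  exact sgnW_zero

/-! ### Computing with lists -/

/-- An automorphism with its action on lists. -/
def Acts (g : Co0) (f : List ℤ → List ℤ) : Prop :=
  ∀ u : leechLattice, vecList ((g • u : leechLattice) : GolayPt → ℤ) = f (vecList u)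

theorem acts_one : Acts 1 id := fun u => by rw [one_smul]; rfl

theorem acts_mul {g h : Co0} {f f' : List ℤ → List ℤ} (hg : Acts g f) (hh : Acts h f') :
    Acts (g * h) (f ∘ f') := fun u => by rw [mul_smul, hg, hh]; rfl

theorem acts_pow {g : Co0} {f : List ℤ → List ℤ} (hg : Acts g f) : ∀ n : ℕ, Acts (g ^ n) f^[n]
  | 0 => by rw [pow_zero]; exact acts_one
  | n + 1 => by
    rw [pow_succ', Function.iterate_succ']
    exact acts_mul hg (acts_pow hg n)

/-- The negation on lists. -/
def stepN (l : List ℤ) : List ℤ := l.map fun x => -x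

/-- The sign change on lists. -/
def stepS (l : List ℤ) : List ℤ :=
  (List.range 24).map fun k => if Nat.testBit 340831 k then -(l.getD k 0) else l.getD k 0

theorem acts_eA : Acts eA stepA := TwoOut.acts_gA

theorem acts_eB : Acts eB stepB := TwoOut.acts_gB

theorem acts_eC : Acts eC stepC := TwoOut.acts_gC

theorem acts_eA_pow (j : ℕ) : Acts (eA ^ j) (permL (shiftPows.getD ((23 - j % 23) % 23) [])) := by
  rw [eA, ← SubgroupClass.coe_pow]; exact TwoOut.acts_gA_pow j

theorem acts_eB_pow (j : ℕ) : Acts (eB ^ j) (permL (doublePows.getD ((11 - j % 11) % 11) [])) := by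
  rw [eB, ← SubgroupClass.coe_pow]; exact TwoOut.acts_gB_pow j

theorem acts_eN : Acts eN stepN := fun u => by
  rw [eN_smul, stepN, vecList, vecList, AddSubgroup.coe_neg, List.map_ofFn]
  rfl

theorem qWord_bits : ∀ k : Fin 24, (qrWord 0 (pt k) = 0) ↔ Nat.testBit 340831 k.val = false := by
  decide +kernel

theorem acts_eS : Acts eS stepS := by
  intro u
  refine List.ext_getElem (by simp [vecList, stepS]) fun k h1 h2 => ?_
  have hk : k < 24 := by simpa [vecList] using h1
  simp only [stepS, vecList, List.getElem_map, List.getElem_range, List.getElem_ofFn, List.getD_eq_getElem?_getD]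
  rw [List.getElem?_eq_getElem (by simpa using hk), Option.getD_some, List.getElem_ofFn, eS, sgnW_apply]
  have h := qWord_bits ⟨k, hk⟩
  simp only at h
  show (if qrWord 0 (pt ⟨k, hk⟩) = 0 then _ else _) = _
  cases hb : Nat.testBit 340831 k <;> rw [hb] at h <;> simp [h]

/-- The element of order three on lists. -/
def stepX : List ℤ → List ℤ := stepS ∘ (stepC ∘ stepS) ∘ stepC

theorem acts_eX : Acts eX stepX := acts_mul acts_eS (acts_mul (acts_mul acts_eC acts_eS) acts_eC)

/-- The test of being the identity. -/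
def isIdFull (f : List ℤ → List ℤ) : Bool :=
  (List.finRange 24).all fun n => f (unitList n) == unitList n

/-- The test of equality. -/
def isSameFull (f f' : List ℤ → List ℤ) : Bool :=
  (List.finRange 24).all fun n => f (unitList n) == f' (unitList n)

theorem eq_of_isSameFull {g h : Co0} {f f' : List ℤ → List ℤ} (hg : Acts g f) (hh : Acts h f')
    (hs : isSameFull f f' = true) : g = h := by
  rw [isSameFull, List.all_eq_true] at hs
  refine ext_latE fun p => Subtype.ext (vecList_injective ?_)
  rw [← pt_idx p, hg, hh, vecList_latE]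
  exact beq_iff_eq.mp (hs _ (List.mem_finRange _))

/-- The test of being central. -/
def isCentral (f : List ℤ → List ℤ) : Bool := isSameFull f id || isSameFull f stepN

theorem mem_center_iff_isCentral {g : Co0} {f : List ℤ → List ℤ} (hg : Acts g f) :
    g ∈ Subgroup.center Co0 ↔ isCentral f = true := by
  constructor
  · intro h
    rw [isCentral, Bool.or_eq_true]
    rcases center_cases h with e | e
    · left
      rw [isSameFull, List.all_eq_true]
      intro n _
      rw [beq_iff_eq, ← vecList_latE, ← hg, e, one_smul]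
      rfl
    · right
      rw [isSameFull, List.all_eq_true]
      intro n _
      rw [beq_iff_eq, ← vecList_latE, ← hg, ← acts_eN, e]
      rfl
  · intro h
    rw [isCentral, Bool.or_eq_true] at h
    rcases h with h | h
    · rw [eq_of_isSameFull hg acts_one h]; exact one_mem _
    · rw [eq_of_isSameFull hg acts_eN h]; exact neg_mem_center

theorem eS_comm_eB : eS * eB = eB * eS :=
  eq_of_isSameFull (acts_mul acts_eS acts_eB) (acts_mul acts_eB acts_eS) (by decide +kernel)

theorem eX_comm_eB : eX * eB = eB * eX :=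
  eq_of_isSameFull (acts_mul acts_eX acts_eB) (acts_mul acts_eB acts_eX) (by decide +kernel)

theorem eC_sq : eC * eC = 1 := congrArg Subtype.val TwoOut.gC_sq

theorem conj_eB_eA : eB * eA * eB⁻¹ = eA ^ 2 := congrArg Subtype.val TwoOut.conj_gB_gA

theorem conj_eC_eB : eC * eB * eC⁻¹ = eB ^ 10 := congrArg Subtype.val TwoOut.conj_gC_gB

theorem orderOf_eA : orderOf eA = 23 := by
  rw [eA, Subgroup.orderOf_coe, TwoOut.orderOf_gA]

theorem orderOf_eB : orderOf eB = 11 := by
  rw [eB, Subgroup.orderOf_coe, TwoOut.orderOf_gB]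

/-! ### Lifting from the quotient -/

theorem eq_of_mk_eq {x y : Co0} {n : ℕ} (hn : Odd n) (hx : x ^ n = 1) (hy : y ^ n = 1)
    (h : (x : Spor.Co1) = (y : Spor.Co1)) : x = y := by
  obtain ⟨z, hz, rfl⟩ : ∃ z ∈ Subgroup.center Co0, y = x * z :=
    ⟨x⁻¹ * y, QuotientGroup.eq.mp h, by group⟩
  have hxz : Commute x z := Subgroup.mem_center_iff.mp hz x
  rw [hxz.mul_pow, hx, one_mul] at hy
  rcases center_cases hz with rfl | rfl
  · rw [mul_one]
  · exfalso
    obtain ⟨k, rfl⟩ := hn
    change eN ^ (2 * k + 1) = 1 at hy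
    rw [pow_succ, pow_mul, sq, eN_sq, one_pow, one_mul] at hy
    have h1 := congrArg (fun g : Co0 => vecList ((g • latE none : leechLattice) : GolayPt → ℤ)) hy
    simp only [acts_eN (latE none), one_smul, show (none : GolayPt) = pt 23 from rfl, vecList_latE] at h1
    exact absurd h1 (by decide)

theorem comm_of_mk {g x : Co0} {n k : ℕ} (hn : Odd n) (hx : x ^ n = 1)
    (h : (g : Spor.Co1) * (x : Spor.Co1) * (g : Spor.Co1)⁻¹ = (x : Spor.Co1) ^ k) : g * x * g⁻¹ = x ^ k := by
  refine eq_of_mk_eq hn (by rw [conj_pow, hx, mul_one, mul_inv_cancel]) ?_ h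
  rw [← pow_mul, mul_comm, pow_mul, hx, one_pow]

theorem conj_mem_zpowers {g x : Co0} {k : ℕ} (h : g * x * g⁻¹ = x ^ k) (hfin : IsOfFinOrder x) :
    g⁻¹ * x * g ∈ zpowers x := by
  have : Finite Co0 := co0_finite
  set K := zpowers x
  have hle : K.map (MulAut.conj g : MulAut Co0).toMonoidHom ≤ K := by
    rw [MonoidHom.map_zpowers, Subgroup.zpowers_le]
    show g * x * g⁻¹ ∈ K
    rw [h]; exact pow_mem (mem_zpowers x) k
  have heq := Subgroup.eq_of_le_of_card_ge hle
    (le_of_eq (Subgroup.card_map_of_injective (MulAut.conj g : MulAut Co0).injective).symm)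
  have hx : x ∈ K.map (MulAut.conj g : MulAut Co0).toMonoidHom := heq.symm ▸ mem_zpowers x
  obtain ⟨y, hy, e⟩ := Subgroup.mem_map.mp hx
  have : g⁻¹ * x * g = y := by rw [← e]; simp [mul_assoc]
  rw [this]; exact hy

/-! ### Monomial elements -/

theorem exists_monomial_pm {g : Co0} (h : g • latE none = latE none ∨ g • latE none = -latE none) :
    ∃ (e : Co0) (c : golayCode) (σ : M24), (e = 1 ∨ e = eN) ∧ g = e * (sgnW c * permW σ) ∧
      (σ : Equiv.Perm GolayPt) none = none ∧ c.1 none = 0 := by
  rcases h with h | h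
  · obtain ⟨c, σ, h1, h2, h3⟩ := exists_monomial h
    exact ⟨1, c, σ, Or.inl rfl, by rw [one_mul, h1], h2, h3⟩
  · obtain ⟨c, σ, h1, h2, h3⟩ := exists_monomial (g := eN * g) (by rw [mul_smul, eN_smul, h, neg_neg])
    exact ⟨eN, c, σ, Or.inr rfl, by rw [← h1, ← mul_assoc, eN_sq, one_mul], h2, h3⟩

theorem comm_strip {e g x : Co0} (he : e = 1 ∨ e = eN) : (e * g) * x * (e * g)⁻¹ = g * x * g⁻¹ := by
  rcases he with rfl | rfl
  · rw [one_mul]
  · calc eN * g * x * (eN * g)⁻¹ = eN * (g * x * g⁻¹) * eN⁻¹ := by group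
      _ = g * x * g⁻¹ := by rw [eN_comm, mul_inv_cancel_right]

theorem mono_conj {c : golayCode} {σ π : M24} {k : ℕ}
    (h : sgnW c * permW σ * permW π * (sgnW c * permW σ)⁻¹ = permW π ^ k) :
    (σ : Equiv.Perm GolayPt) * π = (π : Equiv.Perm GolayPt) ^ k * σ ∧
      ∀ i, c.1 (((π : Equiv.Perm GolayPt) ^ k).symm i) = c.1 i := by
  rw [mul_inv_eq_iff_eq_mul, ← permHom_apply π, ← map_pow, permHom_apply, permHom_apply, mul_assoc] at h
  have h2 : sgnW c * permW (σ * π) = sgnW ⟨_, act_code (π ^ k).2 c⟩ * permW (π ^ k * σ) := by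
    rw [show permW (σ * π) = permW σ * permW π from map_mul permHom σ π, h,
      show permW (π ^ k * σ) = permW (π ^ k) * permW σ from map_mul permHom (π ^ k) σ, ← perm_sgn]
    group
  have hσ := mono_unique h2
  refine ⟨by simpa using congrArg (fun τ : M24 => (τ : Equiv.Perm GolayPt)) hσ, fun i => ?_⟩
  rw [hσ] at h2
  have hc := congrFun (congrArg Subtype.val (sgnW_inj (mul_right_cancel h2))) i
  exact hc.symm

/-! ### The centraliser of the translation -/

theorem shift_trivial_code {c : golayCode} (h0 : c.1 none = 0)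
    (h : ∀ i, c.1 ((shiftPerm ^ 1).symm i) = c.1 i) : c = 0 := by
  have hinv : ∀ n : ℕ, ∀ i, c.1 ((shiftPerm ^ n) i) = c.1 i := by
    intro n
    induction n with
    | zero => intro i; rfl
    | succ n ih =>
      intro i
      rw [pow_succ', Equiv.Perm.mul_apply, ← h, pow_one, Equiv.symm_apply_apply, ih]
  have hc : c.1 = fun i => if i = none then 0 else c.1 (some 0) := by
    funext i
    split_ifs with hi
    · rw [hi, h0]
    · obtain ⟨k, hk⟩ := (shift_cover i).resolve_left hi
      rw [← hk, hinv]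
  have hnot : ¬ isCode (enc (fun i : GolayPt => if i = none then (0 : ZMod 2) else 1)) = true := by decide +kernel
  refine Subtype.ext ?_
  rcases zmod2_cases (c.1 (some 0)) with e | e
  · rw [hc, e]; funext i; simp
  · exfalso
    refine hnot (mem_golayCode.mp ?_)
    rw [← e, ← hc]
    exact c.2

theorem centralizer_eA {g : Co0} (h : g * eA * g⁻¹ = eA ^ 1) :
    ∃ i : ℕ, (g : Spor.Co1) = (eA : Spor.Co1) ^ i := by
  have hz := conj_mem_zpowers h (isOfFinOrder_iff_pow_eq_one.mpr ⟨23, by norm_num, orderOf_eA ▸ pow_orderOf_eq_one _⟩)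
  rw [eA_eq] at hz
  have hfix : g • latE none = latE none ∨ g • latE none = -latE none := by
    rcases shift_normalizer hz with ⟨-, e⟩ | ⟨-, e⟩
    exacts [Or.inl e, Or.inr e]
  obtain ⟨e, c, σ, he, rfl, hσ0, hc0⟩ := exists_monomial_pm hfix
  rw [comm_strip he, eA_eq] at h
  obtain ⟨hσ, hc⟩ := mono_conj h
  obtain rfl := shift_trivial_code hc0 hc
  have hl := toList_mem_shiftCands σ.2 hσ0 (k := 1) le_rfl (by norm_num) hσ
  have hall : (shiftCands.all fun l => !(CfsgLib.Golay.comp l (toList shiftPerm) ==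
      CfsgLib.Golay.comp (toList shiftPerm) l) || shiftPows.contains l) = true := by decide +kernel
  have h3 := List.all_eq_true.mp hall _ hl
  have hσ' : (σ : Equiv.Perm GolayPt) * shiftPerm = shiftPerm * σ := by
    rw [← pow_one shiftPerm] at ⊢; exact hσ
  rw [← toList_mul, ← toList_mul, hσ'] at h3
  simp only [beq_self_eq_true, Bool.not_true, Bool.false_or, List.contains_iff_mem] at h3
  obtain ⟨i, hi, e'⟩ := List.getElem_of_mem h3
  have hi' : i < 23 := by simpa [shiftPows] using hi
  have hσe : σ = shiftEl ^ i := Subtype.ext (toList_injective (by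
    rw [SubgroupClass.coe_pow, show ((shiftEl : M24) : Equiv.Perm GolayPt) = shiftPerm from rfl,
      toList_shiftPerm_pow ⟨i, hi'⟩, List.getD_eq_getElem _ _ hi, e']))
  refine ⟨i, ?_⟩
  have he' : e ∈ Subgroup.center Co0 := by
    rcases he with rfl | rfl
    exacts [one_mem _, neg_mem_center]
  rw [QuotientGroup.mk_mul, (QuotientGroup.eq_one_iff e).mpr he', one_mul, sgnW_zero, one_mul, hσe,
    ← QuotientGroup.mk_pow, eA_eq, ← permHom_apply, map_pow]
  rfl

/-! ### The normaliser and the centraliser of the doubling -/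

/-- Representatives of the images of the extra point under the normaliser of the doubling. -/
noncomputable def rep (a : ℕ) (b : Bool) : Co0 := eX ^ a * (if b then eC else 1)

/-- Their actions. -/
def stepRep (a : ℕ) (b : Bool) : List ℤ → List ℤ := stepX^[a] ∘ (if b then stepC else id)

theorem acts_rep (a : ℕ) (b : Bool) : Acts (rep a b) (stepRep a b) := by
  refine acts_mul (acts_pow acts_eX a) ?_
  cases b
  exacts [acts_one, acts_eC]

/-- The twelve images, up to sign. -/
def imgList : List (List ℤ) :=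
  (List.range 3).flatMap fun a => [false, true].flatMap fun b =>
    [stepRep a b (unitList 23), stepN (stepRep a b (unitList 23))]

theorem double_images {v : leechLattice} (h : permW doubleEl • v = v)
    (hn : sqNorm (v : GolayPt → ℤ) = 64) :
    ∃ a < 3, ∃ b : Bool, vecList (v : GolayPt → ℤ) = stepRep a b (unitList 23) ∨
      vecList (v : GolayPt → ℤ) = stepN (stepRep a b (unitList 23)) := by
  have hp := double_pattern h
  set a := (v : GolayPt → ℤ) none
  set b := (v : GolayPt → ℤ) (some 0)
  set c := (v : GolayPt → ℤ) (some 1)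
  set d := (v : GolayPt → ℤ) (some 5)
  have hN : a ^ 2 + b ^ 2 + 11 * c ^ 2 + 11 * d ^ 2 = 64 := by
    rw [← hn, sqNorm]
    conv_rhs => rw [Finset.sum_congr rfl fun i _ => by rw [hp i]]
    rw [sum_cls (fun j => (![a, b, c, d] : Fin 4 → ℤ) j ^ 2)]
    simp
  have hbool : ((List.range 17).all fun A => (List.range 17).all fun B => (List.range 5).all fun C =>
      (List.range 5).all fun D =>
        let A' : ℤ := (A : ℤ) - 8
        let B' : ℤ := (B : ℤ) - 8
        let C' : ℤ := (C : ℤ) - 2
        let D' : ℤ := (D : ℤ) - 2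
        !(Int.mul A' A' + Int.mul B' B' + Int.mul 11 (C' * C' + D' * D') == (64 : ℤ)) ||
          (!leechTest (fun i => ![A', B', C', D'] (Fin.ofNat 4 (clsTab.getD (idx i).val 0))) ||
            imgList.contains (vecList (fun i => ![A', B', C', D'] (Fin.ofNat 4 (clsTab.getD (idx i).val 0)))))) =
      true := by decide +kernel
  have ha : -8 ≤ a ∧ a ≤ 8 := ⟨by nlinarith, by nlinarith⟩
  have hb : -8 ≤ b ∧ b ≤ 8 := ⟨by nlinarith, by nlinarith⟩
  have hc : -2 ≤ c ∧ c ≤ 2 := ⟨by nlinarith, by nlinarith⟩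
  have hd' : -2 ≤ d ∧ d ≤ 2 := ⟨by nlinarith, by nlinarith⟩
  have h0 := List.all_eq_true.mp (List.all_eq_true.mp (List.all_eq_true.mp (List.all_eq_true.mp hbool
    (a + 8).toNat (List.mem_range.mpr (by omega))) (b + 8).toNat (List.mem_range.mpr (by omega)))
    (c + 2).toNat (List.mem_range.mpr (by omega))) (d + 2).toNat (List.mem_range.mpr (by omega))
  rw [Int.toNat_of_nonneg (by omega), Int.toNat_of_nonneg (by omega), Int.toNat_of_nonneg (by omega),
    Int.toNat_of_nonneg (by omega)] at h0
  have hN' : Int.mul a a + Int.mul b b + Int.mul 11 (c * c + d * d) = 64 := by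
    show a * a + b * b + 11 * (c * c + d * d) = 64
    rw [← hN]; ring
  simp only [add_sub_cancel_right, ← cls_eq_tab, hN', beq_self_eq_true, Bool.not_true, Bool.false_or,
    Bool.or_eq_true, Bool.not_eq_true', List.contains_iff_mem] at h0
  have hv : (v : GolayPt → ℤ) = fun i => (![a, b, c, d] : Fin 4 → ℤ) (cls i) := funext hp
  rw [← hv] at h0
  rcases h0 with h | h
  · rw [leechTest_of_mem v.2] at h
    exact Bool.noConfusion h
  · simp only [imgList, List.mem_flatMap, List.mem_range, List.mem_cons, List.not_mem_nil, or_false] at h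
    obtain ⟨k, hk, q, -, hq⟩ := h
    exact ⟨k, hk, q, hq⟩

theorem normalizer_eB_cases {g : Co0} (hg : g⁻¹ * eB * g ∈ zpowers eB) :
    ∃ a < 3, ∃ b : Bool,
      ((rep a b)⁻¹ * g) • latE none = latE none ∨ ((rep a b)⁻¹ * g) • latE none = -latE none := by
  rw [eB_eq] at hg
  have hfix : permW doubleEl • latE none = latE none := by
    rw [permW_latE]; exact congrArg latE (by decide +kernel)
  have hn : sqNorm (((g • latE none : leechLattice)) : GolayPt → ℤ) = 64 := by
    rw [sqNorm_smul_lat, sqNorm_latE]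
  obtain ⟨a, ha, b, h | h⟩ := double_images (fixed_smul hg hfix) hn
  · refine ⟨a, ha, b, Or.inl ?_⟩
    rw [mul_smul, inv_smul_eq_iff]
    refine Subtype.ext (vecList_injective ?_)
    rw [h, show (none : GolayPt) = pt 23 from rfl, acts_rep, vecList_latE]
  · refine ⟨a, ha, b, Or.inr ?_⟩
    rw [mul_smul, inv_smul_eq_iff, ← eN_smul]
    refine Subtype.ext (vecList_injective ?_)
    rw [h, show (none : GolayPt) = pt 23 from rfl, ← mul_smul, ← eN_comm, mul_smul, acts_eN, acts_rep,
      vecList_latE]

theorem double_code {c : golayCode} (h0 : c.1 none = 0)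
    (h : ∀ i, c.1 ((doublePerm ^ 1).symm i) = c.1 i) : c = 0 ∨ c = qWord := by
  have hinv : ∀ n : ℕ, ∀ i, c.1 ((doublePerm ^ n) i) = c.1 i := by
    intro n
    induction n with
    | zero => intro i; rfl
    | succ n ih =>
      intro i
      rw [pow_succ', Equiv.Perm.mul_apply, ← h, pow_one, Equiv.symm_apply_apply, ih]
  have hc : c.1 = fun i => (![0, c.1 (some 0), c.1 (some 1), c.1 (some 5)] : Fin 4 → ZMod 2) (cls i) := by
    funext i
    rw [cls]
    split_ifs with h1 h2 h3
    · rw [h1, h0]; rfl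
    · rw [h2]; rfl
    · obtain ⟨k, hk⟩ := h3
      rw [← hk, hinv]; rfl
    · obtain ⟨k, hk⟩ := (((double_cover i).resolve_left h1).resolve_left h2).resolve_left h3
      rw [← hk, hinv]; rfl
  have hall : ∀ x y z : ZMod 2,
      isCode (enc (fun i => (![0, x, y, z] : Fin 4 → ZMod 2) (Fin.ofNat 4 (clsTab.getD (idx i).val 0)))) = true →
      (fun i => (![0, x, y, z] : Fin 4 → ZMod 2) (Fin.ofNat 4 (clsTab.getD (idx i).val 0))) = (fun _ => 0) ∨
      (fun i => (![0, x, y, z] : Fin 4 → ZMod 2) (Fin.ofNat 4 (clsTab.getD (idx i).val 0))) = qrWord 0 := by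
    decide +kernel
  have h1 := hall (c.1 (some 0)) (c.1 (some 1)) (c.1 (some 5))
  simp only [← cls_eq_tab, ← hc] at h1
  rcases h1 (mem_golayCode.mp c.2) with e | e
  exacts [Or.inl (Subtype.ext e), Or.inr (Subtype.ext e)]

set_option maxHeartbeats 1600000 in
theorem centralizer_eB {g : Co0} (h : g * eB * g⁻¹ = eB ^ 1) :
    ∃ i < 11, ∃ a < 3, ∃ u < 2, (g : Spor.Co1) = ((eB ^ i * eX ^ a * eS ^ u : Co0) : Spor.Co1) := by
  have hfin : IsOfFinOrder eB :=
    isOfFinOrder_iff_pow_eq_one.mpr ⟨11, by norm_num, orderOf_eB ▸ pow_orderOf_eq_one _⟩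
  obtain ⟨a, ha, b, hb⟩ := normalizer_eB_cases (conj_mem_zpowers h hfin)
  obtain ⟨e, c, σ, he, hy, hσ0, hc0⟩ := exists_monomial_pm hb
  rw [pow_one] at h
  have hXa : Commute (eX ^ a) eB := Commute.pow_left eX_comm_eB a
  have hgB : Commute g eB := mul_inv_eq_iff_eq_mul.mp h
  have hconj : ((rep a b)⁻¹ * g) * eB * ((rep a b)⁻¹ * g)⁻¹ = eB ^ (if b then 10 else 1) := by
    calc ((rep a b)⁻¹ * g) * eB * ((rep a b)⁻¹ * g)⁻¹ = (rep a b)⁻¹ * (g * eB * g⁻¹) * rep a b := by group
      _ = (if b then eC else 1)⁻¹ * ((eX ^ a)⁻¹ * eB * eX ^ a) * (if b then eC else 1) := by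
        rw [h, rep]; group
      _ = eB ^ (if b then 10 else 1) := by
        rw [mul_assoc ((eX ^ a)⁻¹), ← hXa.eq, inv_mul_cancel_left]
        cases b
        · simp
        · simp only [if_true]
          rw [← conj_eC_eB, inv_eq_of_mul_eq_one_right eC_sq]
  rw [hy, comm_strip he, eB_eq] at hconj
  obtain ⟨hσ, hc⟩ := mono_conj hconj
  have hk : 1 ≤ (if b then 10 else 1 : ℕ) ∧ (if b then 10 else 1 : ℕ) < 11 := by cases b <;> decide
  have h05 : (σ : Equiv.Perm GolayPt) (some 0) = some 0 := by
    have h1 := Equiv.Perm.ext_iff.mp hσ (some 0)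
    rw [Equiv.Perm.mul_apply, Equiv.Perm.mul_apply,
      show (doubleEl : Equiv.Perm GolayPt) (some 0) = some 0 by decide +kernel] at h1
    have hall : ∀ k : Fin 11, 1 ≤ k.val → ∀ p : GolayPt, (doublePerm ^ k.val) p = p → p = none ∨ p = some 0 := by
      decide +kernel
    rcases hall ⟨_, hk.2⟩ hk.1 _ h1.symm with e | e
    · exact absurd ((σ : Equiv.Perm GolayPt).injective (e.trans hσ0.symm)) (Option.some_ne_none 0)
    · exact e
  have hl := toList_mem_doubleCands σ.2 hσ0 h05 hk.1 hk.2 hσ
  cases b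
  swap
  · exfalso
    have hall : (doubleCands.all fun l => !(CfsgLib.Golay.comp l (toList doublePerm) ==
        CfsgLib.Golay.comp (toList (doublePerm ^ 10)) l)) = true := by decide +kernel
    have h3 := List.all_eq_true.mp hall _ hl
    have hσ' : (σ : Equiv.Perm GolayPt) * doublePerm = doublePerm ^ 10 * σ := hσ
    rw [← toList_mul, ← toList_mul, hσ'] at h3
    simp at h3
  have hall : (doubleCands.all fun l => !(CfsgLib.Golay.comp l (toList doublePerm) ==
      CfsgLib.Golay.comp (toList doublePerm) l) || doublePows.contains l) = true := by decide +kernel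
  have h3 := List.all_eq_true.mp hall _ hl
  have hσ' : (σ : Equiv.Perm GolayPt) * doublePerm = doublePerm ^ 1 * σ := hσ
  rw [pow_one] at hσ'
  rw [← toList_mul, ← toList_mul, hσ'] at h3
  simp only [beq_self_eq_true, Bool.not_true, Bool.false_or, List.contains_iff_mem] at h3
  obtain ⟨i, hi, e'⟩ := List.getElem_of_mem h3
  have hi' : i < 11 := by simpa [doublePows] using hi
  have hσe : σ = doubleEl ^ i := Subtype.ext (toList_injective (by
    rw [SubgroupClass.coe_pow, show ((doubleEl : M24) : Equiv.Perm GolayPt) = doublePerm from rfl,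
      toList_doublePerm_pow ⟨i, hi'⟩, List.getD_eq_getElem _ _ hi, e']))
  obtain ⟨u, hu, hcu⟩ : ∃ u < 2, sgnW c = eS ^ u := by
    rcases double_code hc0 hc with rfl | rfl
    · exact ⟨0, by norm_num, by rw [sgnW_zero, pow_zero]⟩
    · exact ⟨1, by norm_num, by rw [pow_one]; rfl⟩
  refine ⟨i, hi', a, ha, u, hu, ?_⟩
  have hσp : permW σ = eB ^ i := by rw [hσe, eB_eq, ← permHom_apply, map_pow]; rfl
  have hSB : Commute (eS ^ u) (eB ^ i) := Commute.pow_pow eS_comm_eB u i
  have hg : g = e * (eB ^ i * eX ^ a * eS ^ u) := by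
    rw [inv_mul_eq_iff_eq_mul, rep] at hy
    simp only [Bool.false_eq_true, if_false, mul_one] at hy
    have hec : eX ^ a * e = e * eX ^ a := by
      rcases he with rfl | rfl
      · rw [one_mul, mul_one]
      · exact (eN_comm _).symm
    rw [hy, ← mul_assoc, hec, hcu, hσp, hSB.eq, mul_assoc e, ← mul_assoc (eX ^ a),
      (Commute.pow_pow eX_comm_eB a i).eq]
  have he' : e ∈ Subgroup.center Co0 := by
    rcases he with rfl | rfl
    exacts [one_mem _, neg_mem_center]
  rw [hg, QuotientGroup.mk_mul, (QuotientGroup.eq_one_iff e).mpr he', one_mul]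

end CfsgLib.Sporadic.Conway.OneOut
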