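import Cfsg.Agent.Lib.Sporadic.ConwayOneStep

/-!
# The relations leave one assignment of the four generators
-/

set_option autoImplicit false
set_option Elab.async false

namespace CfsgLib.Sporadic.Conway.OneOut

open Cfsg CfsgLib.Golay CfsgLib.MonsterType CfsgLib.LeechEight
open ThreeOut (unitList permL)
open TwoOut (stepC)
open LeechOrbit (forceL forceL_eq)

/-- The relations not involving the fourth generator. -/
def relOne : List (List ℕ × ℕ) := [([0, 0, 2], 11), ([0, 1, 1, 0, 2, 0, 2], 18)]

/-- The relations involving it. -/
def relTwo : List (List ℕ × ℕ) := [([0, 1, 3], 11), ([0, 3], 23), ([0, 2, 3], 16)]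

/-- The candidate images of the third generator, on lists. -/
noncomputable def fastThird (t : ℕ) (l : List ℤ) : List ℤ := forceL (fastMem t l) fastC

theorem acts_fastThird (t : ℕ) : Acts (eC * member t) (fastThird t) := by
  intro u
  rw [fastThird, forceL_eq, fastC, rowsR_invRows]
  exact acts_mul acts_eC (acts_fastMem t) u

/-- The candidate images of the first generator, on lists. -/
noncomputable def fastFirst (j : ℕ) : List ℤ → List ℤ := permR (shiftPows.getD ((23 - j % 23) % 23) [])

theorem acts_fastFirst (j : ℕ) : Acts (eA ^ j) (fastFirst j) := by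
  rw [fastFirst, permR_eq]; exact acts_eA_pow j

theorem acts_fastB : Acts eB fastB := fastB_eq ▸ acts_eB

theorem rel_holds {x y z v : Co0} {fA fB fC fD : List ℤ → List ℤ} (hx : Acts x fA) (hy : Acts y fB)
    (hz : Acts z fC) (hv : Acts v fD) (r : List ℕ × ℕ) :
    CfsgLib.Schur.evalFour (x : Spor.Co1) (y : Spor.Co1) (z : Spor.Co1) (v : Spor.Co1) r.1 ^ r.2 = 1 ↔
      isCentral (runPow (runWord [fA, fB, fC, fD] r.1) r.2) = true := by
  rw [← mem_center_iff_isCentral (g := CfsgLib.Schur.evalFour x y z v r.1 ^ r.2)
      (runPow_eq _ _ ▸ acts_pow (acts_runWord hx hy hz hv r.1) r.2), ← QuotientGroup.eq_one_iff,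
    QuotientGroup.mk_pow]
  rw [← show _ = CfsgLib.Schur.evalFour (x : Spor.Co1) (y : Spor.Co1) (z : Spor.Co1) (v : Spor.Co1) r.1 from
    CfsgLib.Schur.evalFour_map (QuotientGroup.mk' (Subgroup.center Co0)) x y z v r.1]
  rfl

theorem holds_one : (relOne.all fun r =>
    isCentral (runPow (runWord [fastA, fastB, fastC, fastS] r.1) r.2)) = true := by decide +kernel

theorem holds_two : (relTwo.all fun r =>
    isCentral (runPow (runWord [fastA, fastB, fastC, fastS] r.1) r.2)) = true := by decide +kernel

theorem holds : ((relOne ++ relTwo).all fun r =>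
    isCentral (runPow (runWord [fastA, fastB, fastC, fastS] r.1) r.2)) = true := by
  rw [List.all_append, holds_one, holds_two]
  rfl

/-- The survivors of the first stage, by index. -/
def survOne (j : ℕ) : List ℕ := if j = 1 then [0, 2, 3] else [2, 3]

/-- The first stage for one index. -/
noncomputable def stageOne (j t : ℕ) : Bool :=
  !(relOne.all fun r => weakTest (runPow (runWord [fastFirst j, fastB, fastThird t, id] r.1) r.2)) ||
    (survOne j).contains t

/-- The second stage for one index. -/
noncomputable def stageTwo (j t s : ℕ) : Bool :=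
  !(relTwo.all fun r => weakTest (runPow (runWord [fastFirst j, fastB, fastThird t, fastMem s] r.1) r.2)) ||
    (Nat.beq j 1 && Nat.beq t 0 && Nat.beq s 1)

theorem stageOne_one : ((List.range 66).all (stageOne 1)) = true := by decide +kernel

theorem stageOne_last : ((List.range 66).all (stageOne 22)) = true := by decide +kernel

theorem stageTwo_zero : ((List.range 66).all (stageTwo 1 0)) = true := by decide +kernel

theorem stageTwo_two : ((List.range 66).all (stageTwo 1 2)) = true := by decide +kernel

theorem stageTwo_three : ((List.range 66).all (stageTwo 1 3)) = true := by decide +kernel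

theorem stageTwo_last_two : ((List.range 66).all (stageTwo 22 2)) = true := by decide +kernel

theorem stageTwo_last_three : ((List.range 66).all (stageTwo 22 3)) = true := by decide +kernel

theorem rigid {j t s : ℕ} (hj : j ∈ [1, 22]) (ht : t < 66) (hs : s < 66)
    (h1 : ∀ r ∈ relOne, weakTest (runPow (runWord [fastFirst j, fastB, fastThird t, id] r.1) r.2) = true)
    (h2 : ∀ r ∈ relTwo, weakTest (runPow (runWord [fastFirst j, fastB, fastThird t, fastMem s] r.1) r.2) = true) :
    j = 1 ∧ t = 0 ∧ s = 1 := by
  have hone : ∀ {j : ℕ}, ((List.range 66).all (stageOne j)) = true →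
      (∀ r ∈ relOne, weakTest (runPow (runWord [fastFirst j, fastB, fastThird t, id] r.1) r.2) = true) →
      t ∈ survOne j := by
    intro j h h1
    have := List.all_eq_true.mp h t (List.mem_range.mpr ht)
    rw [stageOne, List.all_eq_true.mpr h1] at this
    simpa using this
  have htwo : ((List.range 66).all (stageTwo j t)) = true → j = 1 ∧ t = 0 ∧ s = 1 := by
    intro h
    have := List.all_eq_true.mp h s (List.mem_range.mpr hs)
    rw [stageTwo, List.all_eq_true.mpr h2] at this
    simpa [and_assoc] using this
  simp only [List.mem_cons, List.not_mem_nil, or_false] at hj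
  rcases hj with rfl | rfl
  · have h := hone stageOne_one h1
    simp only [survOne, if_pos, List.mem_cons, List.not_mem_nil, or_false] at h
    rcases h with rfl | rfl | rfl
    exacts [htwo stageTwo_zero, htwo stageTwo_two, htwo stageTwo_three]
  · have h := hone stageOne_last h1
    simp only [survOne, show ¬ ((22 : ℕ) = 1) by norm_num, if_false, List.mem_cons, List.not_mem_nil, or_false] at h
    rcases h with rfl | rfl
    exacts [htwo stageTwo_last_two, htwo stageTwo_last_three]

end CfsgLib.Sporadic.Conway.OneOut
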