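import Cfsg.Agent.Lib.Sporadic.ConwayOneElem
import Cfsg.Agent.Lib.Sporadic.ConwayOneRigid

/-!
# The automorphism group of the lattice modulo its centre has no outer automorphisms
-/

set_option autoImplicit false

namespace CfsgLib.Sporadic.Conway.OneOut

open Cfsg CfsgLib.Golay CfsgLib.MonsterType CfsgLib.LeechEight Subgroup
open scoped Pointwise
open ThreeOut (vecList vecList_injective stepA stepB unitList permL card_eq_mul_normalizer)
open TwoOut (stepC gA gB gC GT)
open LeechOrbit (forceL forceL_eq)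

/-! ### Generation -/

theorem qrWord_translate : ∀ t : ZMod 23,
    qrWord t = fun p => qrWord 0 ((shiftPerm ^ t.val).symm p) := by decide +kernel

theorem closure_eq_top : Subgroup.closure ({eN, eA, eB, eC, eS} : Set Co0) = ⊤ := by
  classical
  have := co0_finite
  have := Fact.mk (show Nat.Prime 23 by norm_num)
  have := Fact.mk (show Nat.Prime 11 by norm_num)
  set H := Subgroup.closure ({eN, eA, eB, eC, eS} : Set Co0)
  have hN : eN ∈ H := subset_closure (by simp)
  have hA : eA ∈ H := subset_closure (by simp)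
  have hB : eB ∈ H := subset_closure (by simp)
  have hC : eC ∈ H := subset_closure (by simp)
  have hS : eS ∈ H := subset_closure (by simp)
  have hGT : GT ≤ H := by
    have h := congrArg (Subgroup.map GT.subtype) TwoOut.generates
    rw [MonoidHom.map_closure, ← MonoidHom.range_eq_map, Subgroup.range_subtype] at h
    rw [← h, Subgroup.closure_le]
    rintro _ ⟨x, rfl | rfl | rfl, rfl⟩
    exacts [hA, hB, hC]
  have hsgn : ∀ c : golayCode, sgnW c ∈ H := by
    rintro ⟨w, hw⟩
    induction hw using Submodule.span_induction with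
    | mem x hx =>
      rcases hx with ⟨t, rfl⟩ | hx
      · have h := mul_mem (mul_mem (pow_mem hA t.val) hS) (inv_mem (pow_mem hA t.val))
        rw [eA_eq, ← permHom_apply, ← map_pow, permHom_apply, eS, perm_sgn] at h
        convert h using 2
        exact Subtype.ext (qrWord_translate t)
      · rw [Set.mem_singleton_iff] at hx
        subst hx
        exact hN
    | zero =>
      have e : sgnW (⟨0, zero_mem _⟩ : golayCode) = 1 := sgnW_zero
      rw [e]; exact one_mem _
    | add x y hx hy ihx ihy =>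
      have h := mul_mem ihx ihy
      rw [← sgnW_add] at h
      exact h
    | smul a x hx ih =>
      rcases zmod2_cases a with rfl | rfl
      · have e : (⟨(0 : ZMod 2) • x, Submodule.smul_mem _ _ hx⟩ : golayCode) = 0 := Subtype.ext (zero_smul _ x)
        rw [e, sgnW_zero]; exact one_mem _
      · have e : (⟨(1 : ZMod 2) • x, Submodule.smul_mem _ _ hx⟩ : golayCode) = ⟨x, hx⟩ := Subtype.ext (one_smul _ x)
        rw [e]; exact ih
  have hfix : ∀ g : Co0, g • latE none = latE none ∨ g • latE none = -latE none → g ∈ H := by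
    intro g hg
    obtain ⟨e, c, σ, he, rfl, hσ0, -⟩ := exists_monomial_pm hg
    refine mul_mem ?_ (mul_mem (hsgn c) (hGT ?_))
    · rcases he with rfl | rfl
      exacts [one_mem _, hN]
    · exact (TwoOut.emb ⟨σ.1, mem_fixPts.mpr ⟨σ.2, by simpa using hσ0⟩⟩).2
  have hNA : normalizer (zpowers eA : Set Co0) ≤ H := by
    intro g hg
    refine hfix g ?_
    rcases shift_normalizer (g := g) (conj_mem_of_mem_normalizer hg) with ⟨-, e⟩ | ⟨-, e⟩
    exacts [Or.inl e, Or.inr e]
  have hNB : normalizer (zpowers eB : Set Co0) ≤ H := by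
    intro g hg
    obtain ⟨a, -, b, h⟩ := normalizer_eB_cases (conj_mem_of_mem_normalizer hg)
    have hrep : rep a b ∈ H := by
      refine mul_mem (pow_mem (mul_mem hS (mul_mem (mul_mem hC hS) hC)) a) ?_
      cases b
      exacts [one_mem _, hC]
    have := mul_mem hrep (hfix _ h)
    rwa [mul_inv_cancel_left] at this
  have p23 : ¬ 23 * 23 ∣ Nat.card Co0 := by rw [natCard_Co0]; norm_num
  have p11 : ¬ 11 * 11 ∣ Nat.card Co0 := by rw [natCard_Co0]; norm_num
  obtain ⟨d, hd⟩ := Subgroup.card_subgroup_dvd_card H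
  have hdmod : ∀ (p : ℕ) [Fact p.Prime] (x : Co0), orderOf x = p → ¬ p * p ∣ Nat.card Co0 → x ∈ H →
      normalizer (zpowers x : Set Co0) ≤ H → d % p = 1 := by
    intro p _ x hx hpp hxH hN
    obtain ⟨n, hn1, hn2⟩ := card_eq_mul_normalizer p hx hpp H hxH
    obtain ⟨n', hn1', hn2'⟩ := card_eq_mul_normalizer p hx hpp ⊤ (mem_top x)
    rw [inf_eq_left.mpr hN] at hn2
    rw [inf_top_eq, Subgroup.card_top, hd, hn2] at hn2'
    have hpos : 0 < Nat.card ↥(normalizer (zpowers x : Set Co0)) := Nat.card_pos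
    have he : n * d = n' := Nat.eq_of_mul_eq_mul_right hpos (by rw [← hn2']; ring)
    have : n' % p = d % p := by rw [← he, Nat.mul_mod, hn1, one_mul, Nat.mod_mod]
    omega
  have h23 := hdmod 23 eA orderOf_eA p23 hA hNA
  have h11 := hdmod 11 eB orderOf_eB p11 hB hNB
  obtain ⟨j, hj⟩ := Subgroup.card_dvd_of_le hGT
  rw [TwoOut.card_GT] at hj
  have hdd : d ∣ 196560 := by
    refine ⟨j, Nat.eq_of_mul_eq_mul_left (show 0 < 42305421312000 by norm_num) ?_⟩
    rw [show 42305421312000 * 196560 = Nat.card Co0 by rw [natCard_Co0], hd, hj]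
    ring
  have hall : ((List.range 777).all fun k => !Nat.beq (196560 % (253 * k + 1)) 0 || Nat.beq k 0) = true := by
    decide +kernel
  have hd253 : d % 253 = 1 := by omega
  have hle : d ≤ 196560 := Nat.le_of_dvd (by norm_num) hdd
  have h0 := List.all_eq_true.mp hall (d / 253) (List.mem_range.mpr (by omega))
  rw [show 253 * (d / 253) + 1 = d by omega, Nat.mod_eq_zero_of_dvd hdd] at h0
  have hd1 : d = 1 := by
    have : d / 253 = 0 := by simpa using h0
    omega
  exact Subgroup.eq_top_of_card_eq _ (by rw [hd, hd1, mul_one])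

/-! ### The outer automorphism group -/

theorem closure_eq_top_quot :
    Subgroup.closure ({(eA : Spor.Co1), (eB : Spor.Co1), (eC : Spor.Co1), (eS : Spor.Co1)} : Set Spor.Co1) = ⊤ := by
  have h := congrArg (Subgroup.map (QuotientGroup.mk' (Subgroup.center Co0))) closure_eq_top
  rw [MonoidHom.map_closure, Subgroup.map_top_of_surjective _ (QuotientGroup.mk'_surjective _)] at h
  rw [← top_le_iff, ← h, Subgroup.closure_le]
  rintro _ ⟨x, rfl | rfl | rfl | rfl | rfl, rfl⟩
  · show ((eN : Co0) : Spor.Co1) ∈ _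
    rw [(QuotientGroup.eq_one_iff eN).mpr neg_mem_center]; exact one_mem _
  all_goals exact subset_closure (by simp)

theorem comm_eB_mem {g : Spor.Co1} (h : g * (eB : Spor.Co1) * g⁻¹ = (eB : Spor.Co1) ^ 1) :
    ∃ t < 66, g = ((member t : Co0) : Spor.Co1) := by
  obtain ⟨g, rfl⟩ := QuotientGroup.mk_surjective g
  obtain ⟨i, hi, a, ha, u, hu, e⟩ := centralizer_eB
    (comm_of_mk (n := 11) (by decide) (orderOf_eB ▸ pow_orderOf_eq_one _) h)
  refine ⟨6 * i + 2 * a + u, by omega, ?_⟩
  rw [e, member, show (6 * i + 2 * a + u) / 6 = i by omega, show (6 * i + 2 * a + u) % 6 / 2 = a by omega,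
    show (6 * i + 2 * a + u) % 2 = u by omega]

theorem relOne_no_four {x y z v v' : Spor.Co1} {r : List ℕ × ℕ} (hr : r ∈ relOne) :
    CfsgLib.Schur.evalFour x y z v r.1 = CfsgLib.Schur.evalFour x y z v' r.1 := by
  simp only [relOne, List.mem_cons, List.not_mem_nil, or_false] at hr
  rcases hr with rfl | rfl <;> simp [CfsgLib.Schur.evalFour]

theorem card_out : Nat.card (Cfsg.Out Spor.Co1) = 1 := by
  classical
  have := co0_finite
  have := Fact.mk (show Nat.Prime 23 by norm_num)
  have hB11 : eB ^ 11 = 1 := orderOf_eB ▸ pow_orderOf_eq_one _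
  have hA23 : eA ^ 23 = 1 := orderOf_eA ▸ pow_orderOf_eq_one _
  have hord : orderOf (eA : Spor.Co1) = 23 := by
    refine orderOf_eq_prime (by rw [← QuotientGroup.mk_pow, hA23]; rfl) fun h => ?_
    have h1 := eq_of_mk_eq (n := 23) (by decide) hA23 (one_pow _) h
    have := orderOf_eA
    rw [h1, orderOf_one] at this
    omega
  have hcard : Nat.card Spor.Co1 = 4157776806543360000 := CfsgLib.Sporadic.ConwayOne.isCo1.2
  refine CfsgLib.Schur.card_out_eq_one (CfsgLib.Schur.card_out_le_four (eA : Spor.Co1) (eB : Spor.Co1)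
    (eC : Spor.Co1) (eS : Spor.Co1) 23 2 10 1 hord
    (by rw [hcard]; norm_num) ?_ ?_ (by norm_num) [1, 22] ?_ ?_
    ((List.range 66).map fun t => ((eC * member t : Co0) : Spor.Co1)) ?_ ?_
    ((List.range 66).map fun t => ((member t : Co0) : Spor.Co1)) ?_ closure_eq_top_quot
    (relOne ++ relTwo) ?_ [(1, (eC : Spor.Co1), (eS : Spor.Co1))] ?_)
  · intro x hx
    obtain ⟨g, rfl⟩ := QuotientGroup.mk_surjective x
    exact centralizer_eA (comm_of_mk (n := 23) (by decide) hA23 (by rw [pow_one]; exact hx))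
  · exact congrArg (QuotientGroup.mk' (Subgroup.center Co0)) conj_eB_eA
  · intro j hj hj0
    have hall : ∀ j : Fin 23, j.val ≠ 0 → ∃ i : Fin 11, j.val * 2 ^ i.val % 23 ∈ [1, 22] := by decide +kernel
    obtain ⟨i, hi⟩ := hall ⟨j, hj⟩ hj0
    exact ⟨i.val, hi⟩
  · exact congrArg (QuotientGroup.mk' (Subgroup.center Co0)) conj_eC_eB
  · intro x hx
    obtain ⟨g, rfl⟩ := QuotientGroup.mk_surjective x
    have h := comm_of_mk (n := 11) (by decide) hB11 hx
    have h2 : eC * g * eB * (eC * g)⁻¹ = eB ^ 1 := by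
      calc eC * g * eB * (eC * g)⁻¹ = eC * (g * eB * g⁻¹) * eC⁻¹ := by group
        _ = (eC * eB * eC⁻¹) ^ 10 := by rw [h, conj_pow]
        _ = eB ^ 1 := by
          rw [conj_eC_eB, ← pow_mul, show 10 * 10 = 1 + 11 * 9 by norm_num,
            pow_add, pow_mul eB 11, hB11, one_pow, mul_one]
    obtain ⟨t, ht66, ht⟩ := comm_eB_mem (g := ((eC * g : Co0) : Spor.Co1))
      (congrArg (QuotientGroup.mk' (Subgroup.center Co0)) h2)
    rw [List.mem_map]
    refine ⟨t, List.mem_range.mpr ht66, ?_⟩
    rw [QuotientGroup.mk_mul, ← ht, ← QuotientGroup.mk_mul, ← mul_assoc, eC_sq, one_mul]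
  · exact congrArg (QuotientGroup.mk' (Subgroup.center Co0))
      (show eS * eB * eS⁻¹ = eB ^ 1 by rw [eS_comm_eB, mul_inv_cancel_right, pow_one])
  · intro x hx
    obtain ⟨t, ht66, ht⟩ := comm_eB_mem hx
    exact List.mem_map.mpr ⟨t, List.mem_range.mpr ht66, ht.symm⟩
  · intro r hr
    rw [rel_holds (fastA_eq ▸ acts_eA) acts_fastB
      (show Acts eC fastC by rw [fastC, rowsR_invRows]; exact acts_eC) (fastS_eq ▸ acts_eS)]
    exact List.all_eq_true.mp holds r hr
  · intro j hj x hx y hy hrel
    simp only [List.mem_map, List.mem_range] at hx hy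
    obtain ⟨t, ht, rfl⟩ := hx
    obtain ⟨s, hs, rfl⟩ := hy
    obtain ⟨rfl, rfl, rfl⟩ := rigid hj ht hs
      (fun r hr => by
        have h := hrel r (List.mem_append_left _ hr)
        rw [relOne_no_four hr (v' := ((1 : Co0) : Spor.Co1)), ← QuotientGroup.mk_pow,
          rel_holds (acts_fastFirst j) acts_fastB (acts_fastThird t) acts_one] at h
        exact weakTest_of_isCentral h)
      (fun r hr => by
        have h := hrel r (List.mem_append_right _ hr)
        rw [← QuotientGroup.mk_pow,
          rel_holds (acts_fastFirst j) acts_fastB (acts_fastThird t) (acts_fastMem s)] at h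
        exact weakTest_of_isCentral h)
    simp [member]

end CfsgLib.Sporadic.Conway.OneOut
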