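import Cfsg.Agent.Lib.Sporadic.ConwayOneElem
import Cfsg.Agent.Lib.Schur.OutRigidFour
import Cfsg.Agent.Lib.Golay.LeechOrbit.Elem

/-!
# Evaluating elements of the automorphism group of the lattice one step at a time
-/

set_option autoImplicit false

namespace CfsgLib.Sporadic.Conway.OneOut

open Cfsg CfsgLib.Golay CfsgLib.MonsterType CfsgLib.LeechEight
open ThreeOut (vecList vecList_injective stepA stepB unitList vecList_latE permL dotList dotList_ofFn)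
open TwoOut (stepC invRows)
open LeechOrbit (forceL forceL_eq)

/-- The rows of the frame of the element of order three. -/
def xRows : List (List ℤ) :=
  [[4, 0, 0, 0, 0, 2, 0, 2, 0, 0, 2, 2, 0, 0, 2, 2, 0, 2, 0, 2, 2, 2, 2, -2],
   [0, 4, 0, 0, 0, 2, 0, -2, 0, 0, -2, -2, 0, 0, 2, 2, 0, -2, 0, 2, 2, 2, -2, 2],
   [0, 0, 4, 0, 0, 2, 0, 2, 0, 0, 2, -2, 0, 0, -2, 2, 0, 2, 0, 2, -2, -2, -2, 2],
   [0, 0, 0, 4, 0, -2, 0, -2, 0, 0, -2, 2, 0, 0, 2, 2, 0, 2, 0, 2, -2, -2, 2, 2],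
   [0, 0, 0, 0, 4, -2, 0, 2, 0, 0, 2, 2, 0, 0, 2, 2, 0, -2, 0, -2, 2, -2, -2, 2],
   [-2, -2, -2, 2, 2, 4, -2, 0, -2, -2, 0, 0, 2, 2, 0, 0, -2, 0, 2, 0, 0, 0, 0, 0],
   [0, 0, 0, 0, 0, 2, 4, 2, 0, 0, -2, 2, 0, 0, -2, 2, 0, -2, 0, -2, -2, 2, 2, 2],
   [-2, 2, -2, 2, -2, 0, -2, 4, -2, 2, 0, 0, -2, -2, 0, 0, 2, 0, 2, 0, 0, 0, 0, 0],
   [0, 0, 0, 0, 0, 2, 0, 2, 4, 0, -2, -2, 0, 0, 2, -2, 0, 2, 0, -2, 2, -2, 2, 2],
   [0, 0, 0, 0, 0, 2, 0, -2, 0, 4, 2, 2, 0, 0, -2, -2, 0, -2, 0, 2, 2, -2, 2, 2],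
   [-2, 2, -2, 2, -2, 0, 2, 0, 2, -2, 4, 0, -2, 2, 0, 0, -2, 0, -2, 0, 0, 0, 0, 0],
   [-2, 2, 2, -2, -2, 0, -2, 0, 2, -2, 0, 4, 2, -2, 0, 0, -2, 0, 2, 0, 0, 0, 0, 0],
   [0, 0, 0, 0, 0, -2, 0, 2, 0, 0, 2, -2, 4, 0, 2, -2, 0, -2, 0, 2, -2, 2, 2, 2],
   [0, 0, 0, 0, 0, -2, 0, 2, 0, 0, -2, 2, 0, 4, -2, -2, 0, 2, 0, 2, 2, 2, -2, 2],
   [-2, -2, 2, -2, -2, 0, 2, 0, -2, 2, 0, 0, -2, 2, 4, 0, -2, 0, 2, 0, 0, 0, 0, 0],
   [-2, -2, -2, -2, -2, 0, -2, 0, 2, 2, 0, 0, 2, 2, 0, 4, 2, 0, -2, 0, 0, 0, 0, 0],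
   [0, 0, 0, 0, 0, 2, 0, -2, 0, 0, 2, 2, 0, 0, 2, -2, 4, 2, 0, -2, -2, 2, -2, 2],
   [-2, 2, -2, -2, 2, 0, 2, 0, -2, 2, 0, 0, 2, -2, 0, 0, -2, 4, -2, 0, 0, 0, 0, 0],
   [0, 0, 0, 0, 0, -2, 0, -2, 0, 0, 2, -2, 0, 0, -2, 2, 0, 2, 4, -2, 2, 2, 2, 2],
   [-2, -2, -2, -2, 2, 0, 2, 0, 2, -2, 0, 0, -2, -2, 0, 0, 2, 0, 2, 4, 0, 0, 0, 0],
   [-2, -2, 2, 2, -2, 0, 2, 0, -2, -2, 0, 0, 2, -2, 0, 0, 2, 0, -2, 0, 4, 0, 0, 0],
   [-2, -2, 2, 2, 2, 0, -2, 0, 2, 2, 0, 0, -2, -2, 0, 0, -2, 0, -2, 0, 0, 4, 0, 0],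
   [-2, 2, 2, -2, 2, 0, -2, 0, -2, -2, 0, 0, -2, 2, 0, 0, 2, 0, -2, 0, 0, 0, 4, 0],
   [2, -2, -2, -2, -2, 0, -2, 0, -2, -2, 0, 0, -2, -2, 0, 0, -2, 0, -2, 0, 0, 0, 0, 4]]

/-- The rows of the frame of its square. -/
def xxRows : List (List ℤ) :=
  [[-4, 0, 0, 0, 0, 2, 0, 2, 0, 0, 2, 2, 0, 0, 2, 2, 0, 2, 0, 2, 2, 2, 2, -2],
   [0, -4, 0, 0, 0, 2, 0, -2, 0, 0, -2, -2, 0, 0, 2, 2, 0, -2, 0, 2, 2, 2, -2, 2],
   [0, 0, -4, 0, 0, 2, 0, 2, 0, 0, 2, -2, 0, 0, -2, 2, 0, 2, 0, 2, -2, -2, -2, 2],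
   [0, 0, 0, -4, 0, -2, 0, -2, 0, 0, -2, 2, 0, 0, 2, 2, 0, 2, 0, 2, -2, -2, 2, 2],
   [0, 0, 0, 0, -4, -2, 0, 2, 0, 0, 2, 2, 0, 0, 2, 2, 0, -2, 0, -2, 2, -2, -2, 2],
   [-2, -2, -2, 2, 2, -4, -2, 0, -2, -2, 0, 0, 2, 2, 0, 0, -2, 0, 2, 0, 0, 0, 0, 0],
   [0, 0, 0, 0, 0, 2, -4, 2, 0, 0, -2, 2, 0, 0, -2, 2, 0, -2, 0, -2, -2, 2, 2, 2],
   [-2, 2, -2, 2, -2, 0, -2, -4, -2, 2, 0, 0, -2, -2, 0, 0, 2, 0, 2, 0, 0, 0, 0, 0],
   [0, 0, 0, 0, 0, 2, 0, 2, -4, 0, -2, -2, 0, 0, 2, -2, 0, 2, 0, -2, 2, -2, 2, 2],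
   [0, 0, 0, 0, 0, 2, 0, -2, 0, -4, 2, 2, 0, 0, -2, -2, 0, -2, 0, 2, 2, -2, 2, 2],
   [-2, 2, -2, 2, -2, 0, 2, 0, 2, -2, -4, 0, -2, 2, 0, 0, -2, 0, -2, 0, 0, 0, 0, 0],
   [-2, 2, 2, -2, -2, 0, -2, 0, 2, -2, 0, -4, 2, -2, 0, 0, -2, 0, 2, 0, 0, 0, 0, 0],
   [0, 0, 0, 0, 0, -2, 0, 2, 0, 0, 2, -2, -4, 0, 2, -2, 0, -2, 0, 2, -2, 2, 2, 2],
   [0, 0, 0, 0, 0, -2, 0, 2, 0, 0, -2, 2, 0, -4, -2, -2, 0, 2, 0, 2, 2, 2, -2, 2],
   [-2, -2, 2, -2, -2, 0, 2, 0, -2, 2, 0, 0, -2, 2, -4, 0, -2, 0, 2, 0, 0, 0, 0, 0],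
   [-2, -2, -2, -2, -2, 0, -2, 0, 2, 2, 0, 0, 2, 2, 0, -4, 2, 0, -2, 0, 0, 0, 0, 0],
   [0, 0, 0, 0, 0, 2, 0, -2, 0, 0, 2, 2, 0, 0, 2, -2, -4, 2, 0, -2, -2, 2, -2, 2],
   [-2, 2, -2, -2, 2, 0, 2, 0, -2, 2, 0, 0, 2, -2, 0, 0, -2, -4, -2, 0, 0, 0, 0, 0],
   [0, 0, 0, 0, 0, -2, 0, -2, 0, 0, 2, -2, 0, 0, -2, 2, 0, 2, -4, -2, 2, 2, 2, 2],
   [-2, -2, -2, -2, 2, 0, 2, 0, 2, -2, 0, 0, -2, -2, 0, 0, 2, 0, 2, -4, 0, 0, 0, 0],
   [-2, -2, 2, 2, -2, 0, 2, 0, -2, -2, 0, 0, 2, -2, 0, 0, 2, 0, -2, 0, -4, 0, 0, 0],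
   [-2, -2, 2, 2, 2, 0, -2, 0, 2, 2, 0, 0, -2, -2, 0, 0, -2, 0, -2, 0, 0, -4, 0, 0],
   [-2, 2, 2, -2, 2, 0, -2, 0, -2, -2, 0, 0, -2, 2, 0, 0, 2, 0, -2, 0, 0, 0, -4, 0],
   [2, -2, -2, -2, -2, 0, -2, 0, -2, -2, 0, 0, -2, -2, 0, 0, -2, 0, -2, 0, 0, 0, 0, -4]]

/-- An entry of a list. -/
noncomputable def nth (l : List ℤ) (n : ℕ) : ℤ :=
  List.rec (motive := fun _ => ℕ → ℤ) (fun _ => 0)
    (fun a _ ih n => Nat.rec (motive := fun _ => ℤ) a (fun m _ => ih m) n) l n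

theorem nth_eq : ∀ (l : List ℤ) (n : ℕ), nth l n = l.getD n 0
  | [], _ => rfl
  | a :: _, 0 => rfl
  | _ :: l, n + 1 => by rw [List.getD_cons_succ, ← nth_eq l n]; rfl

/-- Inner product of lists. -/
noncomputable def dotRec (l r : List ℤ) : ℤ :=
  List.rec (motive := fun _ => List ℤ → ℤ) (fun _ => 0)
    (fun a _ ih r => List.rec (motive := fun _ => ℤ) 0 (fun b r _ => Int.add (Int.mul a b) (ih r)) r) l r

theorem dotRec_eq : ∀ l r : List ℤ, dotRec l r = dotList l r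
  | [], _ => rfl
  | _ :: _, [] => rfl
  | a :: l, b :: r => by
    show a * b + dotRec l r = _
    rw [dotRec_eq l r, dotList]

/-- A permutation of coordinates. -/
noncomputable def permR (L : List ℕ) (l : List ℤ) : List ℤ := L.map (nth l)

theorem permR_eq (L : List ℕ) : permR L = permL L := by
  funext l; exact List.map_congr_left fun k _ => nth_eq l k

/-- The map given by the rows of a frame. -/
noncomputable def rowsR (R : List (List ℤ)) (l : List ℤ) : List ℤ := R.map fun r => Int.ediv (dotRec l r) 8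

theorem acts_rows {R : List (List ℤ)} (h : frameTest R = true)
    (hr : R = List.ofFn fun k : Fin 24 => vecList (rowsFrame R (pt k))) : Acts (rowsAut h) (rowsR R) := by
  intro u
  rw [coe_rowsAut, rowsR]
  conv_rhs => rw [hr]
  rw [List.map_ofFn, vecList]
  refine congrArg List.ofFn (funext fun k => ?_)
  simp only [Function.comp_apply, vecList, dotRec_eq, dotList_ofFn]
  exact congrArg (· / 8) (Equiv.sum_comp ptEquiv fun p => (u : GolayPt → ℤ) p * rowsFrame R (pt k) p).symm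

theorem rowsR_invRows : rowsR invRows = stepC := by
  funext l; rw [rowsR, stepC]; simp only [dotRec_eq]; rfl

/-- The translation. -/
noncomputable def fastA : List ℤ → List ℤ :=
  permR [22, 0, 1, 2, 3, 4, 5, 6, 7, 8, 9, 10, 11, 12, 13, 14, 15, 16, 17, 18, 19, 20, 21, 23]

theorem fastA_eq : fastA = stepA := by rw [fastA, permR_eq]; rfl

/-- The doubling. -/
noncomputable def fastB : List ℤ → List ℤ :=
  permR [0, 12, 1, 13, 2, 14, 3, 15, 4, 16, 5, 17, 6, 18, 7, 19, 8, 20, 9, 21, 10, 22, 11, 23]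

theorem fastB_eq : fastB = stepB := by rw [fastB, permR_eq]; rfl

/-- The involution. -/
noncomputable def fastC : List ℤ → List ℤ := rowsR invRows

/-- The coordinates negated by the sign change. -/
def signList : List (ℕ × Bool) := (List.range 24).map fun k => (k, Nat.testBit 340831 k)

/-- The sign change. -/
noncomputable def fastS (l : List ℤ) : List ℤ :=
  signList.map fun q => bif q.2 then Int.neg (nth l q.1) else nth l q.1

theorem fastS_eq : fastS = stepS := by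
  funext l
  rw [fastS, signList, stepS, List.map_map]
  refine List.map_congr_left fun k _ => ?_
  simp only [Function.comp_apply, nth_eq]
  cases Nat.testBit 340831 k <;> rfl

/-- The powers of the element of order three. -/
noncomputable def fastX : ℕ → List ℤ → List ℤ
  | 0 => id
  | 1 => rowsR xRows
  | _ => rowsR xxRows

set_option maxHeartbeats 1000000 in
theorem acts_fastX {a : ℕ} (ha : a < 3) : Acts (eX ^ a) (fastX a) := by
  have h1 : frameTest xRows = true := by decide +kernel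
  have h2 : frameTest xxRows = true := by decide +kernel
  have a1 := acts_rows h1 (by decide +kernel)
  have a2 := acts_rows h2 (by decide +kernel)
  have e1 : eX = rowsAut h1 := eq_of_isSameFull acts_eX a1 (by decide +kernel)
  interval_cases a
  · rw [pow_zero]; exact acts_one
  · rw [pow_one, e1]; exact a1
  · rw [pow_two, e1,
      eq_of_isSameFull (acts_mul a1 a1) a2 (by decide +kernel)]
    exact a2

theorem acts_fastS (u : ℕ) (hu : u < 2) : Acts (eS ^ u) (if u = 0 then id else fastS) := by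
  interval_cases u
  · rw [pow_zero, if_pos rfl]; exact acts_one
  · rw [pow_one, fastS_eq, if_neg (by norm_num)]; exact acts_eS

/-- The element with parameters `i`, `a`, `u` of the centraliser of the doubling, by index. -/
noncomputable def fastMem (t : ℕ) (l : List ℤ) : List ℤ :=
  forceL ((if t % 2 = 0 then id else fastS) l) fun l =>
    forceL (fastX (t % 6 / 2) l) (permR (doublePows.getD ((11 - t / 6 % 11) % 11) []))

/-- The member with that index. -/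
noncomputable def member (t : ℕ) : Co0 := eB ^ (t / 6) * eX ^ (t % 6 / 2) * eS ^ (t % 2)

theorem acts_fastMem (t : ℕ) : Acts (member t) (fastMem t) := by
  have h := acts_mul (acts_mul (acts_eB_pow (t / 6)) (acts_fastX (a := t % 6 / 2) (by omega)))
    (acts_fastS (t % 2) (by omega))
  intro u
  rw [member, h u, fastMem, forceL_eq, forceL_eq, permR_eq]
  rfl

/-- The action of a word, one letter after another. -/
noncomputable def runWord (fs : List (List ℤ → List ℤ)) : List ℕ → List ℤ → List ℤ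
  | [], l => l
  | i :: w, l => forceL (runWord fs w l) (fs.getD i id)

/-- The action of a power. -/
def runPow (f : List ℤ → List ℤ) : ℕ → List ℤ → List ℤ
  | 0, l => l
  | n + 1, l => forceL (runPow f n l) f

theorem runPow_eq (f : List ℤ → List ℤ) : ∀ n : ℕ, runPow f n = f^[n]
  | 0 => rfl
  | n + 1 => by
    funext l
    rw [runPow, forceL_eq, runPow_eq f n, Function.iterate_succ', Function.comp_apply]

theorem acts_runWord {x y z v : Co0} {fA fB fC fD : List ℤ → List ℤ} (hx : Acts x fA) (hy : Acts y fB)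
    (hz : Acts z fC) (hv : Acts v fD) :
    ∀ w, Acts (CfsgLib.Schur.evalFour x y z v w) (runWord [fA, fB, fC, fD] w)
  | [] => acts_one
  | i :: w => by
    intro u
    have h : Acts ([x, y, z, v].getD i 1) ([fA, fB, fC, fD].getD i id) := by
      rcases i with _ | _ | _ | _ | i
      exacts [hx, hy, hz, hv, by simpa using acts_one]
    rw [CfsgLib.Schur.evalFour, mul_smul, h, acts_runWord hx hy hz hv w, runWord, forceL_eq]

/-- The image of one vector is that vector or its negative. -/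
noncomputable def weakTest (f : List ℤ → List ℤ) : Bool :=
  forceL (f (unitList 0)) fun v => v == unitList 0 || v == stepN (unitList 0)

theorem weakTest_of_isCentral {f : List ℤ → List ℤ} (h : isCentral f = true) : weakTest f = true := by
  rw [weakTest, forceL_eq]
  rw [isCentral, Bool.or_eq_true, isSameFull, isSameFull, List.all_eq_true, List.all_eq_true] at h
  rw [Bool.or_eq_true]
  exact h.imp (fun h => h 0 (List.mem_finRange _)) (fun h => h 0 (List.mem_finRange _))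

end CfsgLib.Sporadic.Conway.OneOut
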