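import Mathlib
import Cfsg.Agent.Lib.Sporadic.ConwayLocal
import Cfsg.Prelude.Def_Spor_Conway
import Cfsg.Prelude.Def_Sporadic

/-! Simplicity of the two pair stabilisers, given their orders. -/

set_option autoImplicit false

namespace CfsgLib.Sporadic.ConwayPairs

open Cfsg CfsgLib.MonsterType CfsgLib.LeechEight CfsgLib.Golay
open CfsgLib.Sporadic.Conway CfsgLib.Sporadic.NormalizerCriterion

/-- The stabiliser of `(-5, -1^23)` and a further vector. -/
abbrev pairStab (u : leechLattice) : Subgroup Co0 :=
  MulAction.stabilizer Co0 Spor.leechV ⊓ MulAction.stabilizer Co0 u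

theorem vecV_rest : ∀ i, i ≠ none → (Spor.leechV : GolayPt → ℤ) i = -1 := fun i hi => by
  simp [Spor.leechV, Spor.vecV, hi]

theorem vecV_first : (Spor.leechV : GolayPt → ℤ) none = -5 := by simp [Spor.leechV, Spor.vecV]

section
variable {u : leechLattice} (hu : ∀ i, i ≠ none → i ≠ some 0 → (u : GolayPt → ℤ) i = 0)

/-- The permutations fixing two points. -/
def embed : fixPts [none, some 0] →* pairStab u :=
  (permHom.comp (Subgroup.inclusion (fixPts_le_M24 [none, some 0]))).codRestrict _ fun σ => by
    have h0 : (σ : Equiv.Perm GolayPt) none = none := (mem_fixPts.1 σ.2).2 none (by simp)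
    have h1 : (σ : Equiv.Perm GolayPt) (some 0) = some 0 := (mem_fixPts.1 σ.2).2 (some 0) (by simp)
    refine ⟨?_, ?_⟩
    · show permW _ • Spor.leechV = Spor.leechV
      apply permW_fix
      intro i
      rcases eq_or_ne i none with rfl | hi
      · exact congrArg _ h0
      · rw [vecV_rest i hi, vecV_rest]
        exact fun e => hi ((σ : Equiv.Perm GolayPt).injective (e.trans h0.symm))
    · show permW _ • u = u
      apply permW_fix
      intro i
      rcases eq_or_ne i none with rfl | hi
      · exact congrArg _ h0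
      rcases eq_or_ne i (some 0) with rfl | hi'
      · exact congrArg _ h1
      rw [hu i hi hi', hu]
      · exact fun e => hi ((σ : Equiv.Perm GolayPt).injective (e.trans h0.symm))
      · exact fun e => hi' ((σ : Equiv.Perm GolayPt).injective (e.trans h1.symm))

theorem embed_injective : Function.Injective (embed hu) := fun σ τ h =>
  Subgroup.inclusion_injective (fixPts_le_M24 [none, some 0]) (permHom_injective (congrArg Subtype.val h))

/-- The element of order 11. -/
def xEl : pairStab u := embed hu ⟨doublePerm, mem_fixPts.mpr ⟨doublePerm_mem_M24, by decide +kernel⟩⟩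

theorem orderOf_xEl : orderOf (xEl hu) = 11 := by
  rw [xEl, orderOf_injective _ (embed_injective hu), ← Subgroup.orderOf_coe]
  exact orderOf_doublePerm

theorem coe_xEl : ((xEl hu : pairStab u) : Co0) = permW doubleEl := rfl

theorem range_simple : IsSimpleGroup (embed hu).range := by
  have := isSimpleGroup_sporM22
  rw [sporM22_eq] at this
  exact (MonoidHom.ofInjective (embed_injective hu)).symm.isSimpleGroup

theorem double_fix {w : leechLattice} (hw : ∀ i, i ≠ none → i ≠ some 0 → (w : GolayPt → ℤ) i = 0) :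
    permW doubleEl • w = w := by
  apply permW_fix
  intro i
  have h0 : (doubleEl : Equiv.Perm GolayPt) none = none := by decide +kernel
  have h1 : (doubleEl : Equiv.Perm GolayPt) (some 0) = some 0 := by decide +kernel
  rcases eq_or_ne i none with rfl | hi
  · exact congrArg _ h0
  rcases eq_or_ne i (some 0) with rfl | hi'
  · exact congrArg _ h1
  rw [hw i hi hi', hw]
  · exact fun e => hi ((doubleEl : Equiv.Perm GolayPt).injective (e.trans h0.symm))
  · exact fun e => hi' ((doubleEl : Equiv.Perm GolayPt).injective (e.trans h1.symm))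

include hu in
theorem dot_pair (z : GolayPt → ℤ) : dotInt (u : GolayPt → ℤ) z =
    (u : GolayPt → ℤ) none * z none + (u : GolayPt → ℤ) (some 0) * z (some 0) := by
  rw [dotInt, Fintype.sum_eq_add none (some 0) (by decide) fun i hi => by rw [hu i hi.1 hi.2, zero_mul]]

theorem normalizer_le {s : ℤ} (hs : s = 1 ∨ s = -1)
    (hu0 : (u : GolayPt → ℤ) none = 4) (hu1 : (u : GolayPt → ℤ) (some 0) = -(4 * s))
    {w : leechLattice}
    (hw : (w : GolayPt → ℤ) = fun p => if p = none then 4 else if p = some 0 then 4 * s else 0) :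
    Subgroup.normalizer (Subgroup.zpowers (xEl hu) : Set (pairStab u)) ≤ (embed hu).range := by
  rintro ⟨g, hgV, hgu⟩ hn
  replace hgV : g • Spor.leechV = Spor.leechV := hgV
  replace hgu : g • u = u := hgu
  have h1 : g⁻¹ * permW doubleEl * g ∈ Subgroup.zpowers (permW doubleEl) := by
    have h := (Subgroup.mem_normalizer_iff''.1 hn (xEl hu)).1 (Subgroup.mem_zpowers _)
    obtain ⟨k, hk⟩ := Subgroup.mem_zpowers_iff.1 h
    refine Subgroup.mem_zpowers_iff.2 ⟨k, ?_⟩
    have h' := congrArg Subtype.val hk
    rw [Subgroup.coe_zpow, coe_xEl] at h'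
    exact h'
  have hw0 : ∀ i, i ≠ none → i ≠ some 0 → (w : GolayPt → ℤ) i = 0 := fun i hi hi' => by
    rw [hw]; simp [hi, hi']
  have hwn : (w : GolayPt → ℤ) none = 4 := by rw [hw]; simp
  have hws : (w : GolayPt → ℤ) (some 0) = 4 * s := by rw [hw]; simp
  have hnorm : sqNorm (w : GolayPt → ℤ) = 32 := by
    rw [sqNorm, Fintype.sum_eq_add none (some 0) (by decide) fun i hi => by rw [hw0 i hi.1 hi.2]; rfl,
      hwn, hws]
    rcases hs with rfl | rfl <;> norm_num
  have hgw : g • w = w := by
    refine Subtype.ext ?_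
    rw [hw]
    refine double_pair (fixed_smul h1 (double_fix hw0)) (by rw [sqNorm_smul_lat, hnorm]) hs ?_ ?_
    · have h2 := dot_smul_lat g Spor.leechV w
      rw [hgV] at h2
      refine h2.trans ?_
      rw [dot_symm, dot_pair hw0, hwn, hws, vecV_first, vecV_rest _ (Option.some_ne_none 0)]
      ring
    · have h2 := dot_smul_lat g u w
      rw [hgu, dot_pair hu, dot_pair hu, hwn, hws, hu0, hu1] at h2
      rcases hs with rfl | rfl <;> omega
  have hsum : u + w = latE none := by
    apply Subtype.ext
    funext i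
    rw [coe_add_lat, Pi.add_apply, coe_latE]
    rcases eq_or_ne i none with rfl | hi
    · rw [Pi.single_eq_same, hu0, hwn]; norm_num
    rw [Pi.single_eq_of_ne hi]
    rcases eq_or_ne i (some 0) with rfl | hi'
    · rw [hu1, hws]; ring
    · rw [hu i hi hi', hw0 i hi hi', add_zero]
  have hlat : g • latE none = latE none := by rw [← hsum, smul_add', hgu, hgw]
  obtain ⟨σ, hσ, hσ0⟩ := eq_permW hlat (show (-1 : ℤ) ≠ 0 by norm_num) vecV_rest hgV
  have hσ1 : (σ : Equiv.Perm GolayPt) (some 0) = some 0 := by
    set j := (σ : Equiv.Perm GolayPt).symm (some 0) with hj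
    have h2 := congrFun (congrArg Subtype.val hgu) (some 0)
    rw [hσ, permW_apply, hu1, ← hj] at h2
    have hj0 : j ≠ none := fun e => by
      have := congrArg (σ : Equiv.Perm GolayPt) e
      rw [hj, Equiv.apply_symm_apply, hσ0] at this
      exact Option.some_ne_none _ this
    have hj1 : j = some 0 := by
      by_contra hne
      rw [hu j hj0 hne] at h2
      rcases hs with rfl | rfl <;> norm_num at h2
    rw [hj, Equiv.symm_apply_eq] at hj1
    exact hj1.symm
  exact ⟨⟨σ, mem_fixPts.mpr ⟨σ.2, by simp [hσ0, hσ1]⟩⟩, Subtype.ext hσ.symm⟩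

end

theorem leechU'_zero : ∀ i, i ≠ none → i ≠ some 0 → (Spor.leechU' : GolayPt → ℤ) i = 0 := fun i hi hi' => by
  simp [Spor.leechU', Spor.vecU', hi, hi']

theorem leechU_zero : ∀ i, i ≠ none → i ≠ some 0 → (Spor.leechU : GolayPt → ℤ) i = 0 := fun i hi hi' => by
  simp [Spor.leechU, Spor.vecU, hi, hi']

theorem prime11 : Fact (Nat.Prime 11) := ⟨by norm_num⟩

theorem isHS_of_card (hcard : Nat.card (pairStab Spor.leechU') = 44352000) :
    IsHS (pairStab Spor.leechU') := by
  have := co0_finite
  have := prime11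
  refine ⟨?_, hcard⟩
  refine NormalizerCriterion.isSimpleGroup (p := 11) (by rw [hcard]; norm_num) (orderOf_xEl leechU'_zero)
    (K := (embed leechU'_zero).range) ⟨_, rfl⟩ (range_simple _)
    (normalizer_le _ (s := 1) (Or.inl rfl) (by simp [Spor.leechU', Spor.vecU'])
      (by simp [Spor.leechU', Spor.vecU']) (w := Spor.leechU) ?_)
    [(2, 9), (3, 2), (5, 3), (7, 1), (11, 1)] (by rw [hcard]; norm_num) (by norm_num)
    (by rw [hcard]; norm_num) (by decide +kernel)
  funext i
  simp only [Spor.leechU, Spor.vecU]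
  split_ifs <;> simp_all

theorem isMcL_of_card (hcard : Nat.card (pairStab Spor.leechU) = 898128000) :
    IsMcL (pairStab Spor.leechU) := by
  have := co0_finite
  have := prime11
  have : Fact (Nat.Prime 3) := ⟨Nat.prime_three⟩
  have : Fact (Nat.Prime 7) := ⟨by norm_num⟩
  refine ⟨?_, hcard⟩
  have : Nontrivial (pairStab Spor.leechU) :=
    Finite.one_lt_card_iff_nontrivial.1 (by rw [hcard]; norm_num)
  refine ⟨fun N hN => ?_⟩
  rcases normal_structure (p := 11) (q₀ := 3) (a := 5) (by rw [hcard]; norm_num)
    (orderOf_xEl leechU_zero) (K := (embed leechU_zero).range) ⟨_, rfl⟩ (range_simple _)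
    (normalizer_le _ (s := -1) (Or.inr rfl) (by simp [Spor.leechU, Spor.vecU])
      (by simp [Spor.leechU, Spor.vecU]) (w := Spor.leechU') (by
        funext i
        simp only [Spor.leechU', Spor.vecU']
        split_ifs <;> simp_all))
    [(2, 7), (3, 6), (5, 3), (7, 1), (11, 1)] (by rw [hcard]; norm_num) (by norm_num)
    (by rw [hcard]; norm_num) (by decide +kernel) (fun k hk hk1 => by
      have hle : k ≤ 6 := by
        by_contra h
        have := (pow_dvd_pow 3 (show 7 ≤ k by omega)).trans (hcard ▸ hk)
        norm_num at this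
      interval_cases k <;> simp_all) N with h | h | ⟨hc, hcomm, hexp, hcent⟩
  · exact Or.inl h
  · exact Or.inr h
  · exfalso
    obtain ⟨y, hy⟩ := exists_prime_orderOf_dvd_card' (G := (embed leechU_zero).range) 7 (by
      rw [Nat.card_congr (MonoidHom.ofInjective (embed_injective leechU_zero)).symm.toEquiv,
        ← sporM22_eq, natCard_sporM22]
      norm_num)
    rw [← Subgroup.orderOf_coe] at hy
    have h7 : ¬ 7 ∣ Nat.card N := by rw [hc]; norm_num
    have h3 := pow_dvd_inf_centralizer (q := 3) (e := 5) (x := (y : pairStab Spor.leechU)) (k := 5) h7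
      (fun i hi => (Nat.pow_dvd_pow_iff_le_right (by norm_num)).1 (hc ▸ hi)) (by decide +kernel)
      (hy ▸ pow_orderOf_eq_one _) (by rw [hc])
    have hle : Subgroup.centralizer {(y : pairStab Spor.leechU)} ⊓ N = N :=
      Subgroup.eq_of_le_of_card_ge inf_le_right (hc.le.trans (Nat.le_of_dvd Nat.card_pos h3))
    have hyN : (y : pairStab Spor.leechU) ∈ N := by
      rw [← hcent, Subgroup.mem_centralizer_iff]
      intro n hn
      have hn' : n ∈ Subgroup.centralizer {(y : pairStab Spor.leechU)} ⊓ N := hle.symm ▸ hn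
      exact (Subgroup.mem_centralizer_singleton_iff.1 hn'.1)
    refine h7 ?_
    rw [← hy, show orderOf (y : pairStab Spor.leechU) = orderOf (⟨_, hyN⟩ : N) from
      Subgroup.orderOf_coe (⟨_, hyN⟩ : N)]
    exact orderOf_dvd_natCard _

end CfsgLib.Sporadic.ConwayPairs
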