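import Cfsg.Agent.Lib.Sporadic.ConwayThreeOut

/-!
# Three explicit elements of the second Conway group and their normalisers

The elements are the translation, the doubling and an involution inverting the doubling.
-/

set_option autoImplicit false

namespace CfsgLib.Sporadic.Conway.TwoOut

open Cfsg CfsgLib.Golay CfsgLib.MonsterType CfsgLib.LeechEight Subgroup
open scoped Pointwise
open ThreeOut (vecList vecList_injective dotList dotList_ofFn stepA stepB unitList vecList_latE isId isSame unit_of_base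
  permL clsTab cls_eq_tab pow_of_normalizes)

/-! ### The elements -/

/-- The vector fixed by the group. -/
abbrev vT : leechLattice := lA

/-- The group. -/
abbrev GT : Subgroup Co0 := MulAction.stabilizer Co0 vT

theorem coe_vT : ((vT : leechLattice) : GolayPt → ℤ) = fun k => if k = none then -3 else 1 := by
  funext i
  rcases eq_or_ne i none with rfl | hi
  · rw [lA_none]; rfl
  · rw [lA_some i hi, if_neg hi]

/-- The rows of the frame of the involution. -/
def invRows : List (List ℤ) :=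
  [[-2, 2, 2, 2, 2, 0, 2, 0, 2, 2, 0, 0, 2, 2, 0, 0, 2, 0, 2, 0, 0, 0, 0, 4],
   [2, -2, 2, -2, 2, 0, 2, 4, 2, -2, 0, 0, 2, 2, 0, 0, -2, 0, -2, 0, 0, 0, 0, 0],
   [2, 2, 2, 2, 2, 0, 2, 0, -2, -2, 0, 0, -2, -2, 0, 4, -2, 0, 2, 0, 0, 0, 0, 0],
   [2, -2, 2, -2, 2, 0, -2, 0, -2, 2, 4, 0, 2, -2, 0, 0, 2, 0, 2, 0, 0, 0, 0, 0],
   [2, 2, 2, 2, -2, 0, -2, 0, -2, 2, 0, 0, 2, 2, 0, 0, -2, 0, -2, 4, 0, 0, 0, 0],
   [0, 0, 0, 0, 0, -2, 4, -2, 0, 0, 2, -2, 0, 0, 2, -2, 0, 2, 0, 2, 2, -2, -2, -2],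
   [2, 2, 2, -2, -2, 4, 2, 0, 2, 2, 0, 0, -2, -2, 0, 0, 2, 0, -2, 0, 0, 0, 0, 0],
   [0, 4, 0, 0, 0, -2, 0, 2, 0, 0, 2, 2, 0, 0, -2, -2, 0, 2, 0, -2, -2, -2, 2, -2],
   [2, 2, -2, -2, -2, 0, 2, 0, -2, -2, 0, 0, 2, 2, 0, 0, 2, 0, 2, 0, 0, 4, 0, 0],
   [2, -2, -2, 2, 2, 0, 2, 0, -2, 2, 0, 4, -2, 2, 0, 0, 2, 0, -2, 0, 0, 0, 0, 0],
   [0, 0, 0, 4, 0, 2, 0, 2, 0, 0, 2, -2, 0, 0, -2, -2, 0, -2, 0, -2, 2, 2, -2, -2],
   [0, 0, 0, 0, 0, -2, 0, 2, 0, 4, -2, -2, 0, 0, 2, 2, 0, 2, 0, -2, -2, 2, -2, -2],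
   [2, 2, -2, 2, 2, 0, -2, 0, 2, -2, 0, 0, 2, -2, 4, 0, 2, 0, -2, 0, 0, 0, 0, 0],
   [2, 2, -2, -2, 2, 0, -2, 0, 2, 2, 0, 0, -2, 2, 0, 0, -2, 0, 2, 0, 4, 0, 0, 0],
   [0, 0, 0, 0, 0, 2, 0, -2, 0, 0, -2, 2, 4, 0, -2, 2, 0, 2, 0, -2, 2, -2, -2, -2],
   [0, 0, 4, 0, 0, -2, 0, -2, 0, 0, -2, 2, 0, 0, 2, -2, 0, -2, 0, -2, 2, 2, 2, -2],
   [2, -2, -2, 2, -2, 0, 2, 0, 2, 2, 0, 0, 2, -2, 0, 0, -2, 0, 2, 0, 0, 0, 4, 0],
   [0, 0, 0, 0, 0, 2, 0, 2, 0, 0, -2, 2, 0, 0, 2, -2, 0, -2, 4, 2, -2, -2, -2, -2],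
   [2, -2, 2, 2, -2, 0, -2, 0, 2, -2, 0, 0, -2, 2, 0, 0, 2, 4, 2, 0, 0, 0, 0, 0],
   [0, 0, 0, 0, 4, 2, 0, -2, 0, 0, -2, -2, 0, 0, -2, -2, 0, 2, 0, 2, -2, 2, 2, -2],
   [0, 0, 0, 0, 0, 2, 0, -2, 0, 0, 2, -2, 0, 4, 2, 2, 0, -2, 0, -2, -2, -2, 2, -2],
   [0, 0, 0, 0, 0, -2, 0, -2, 4, 0, 2, 2, 0, 0, -2, 2, 0, -2, 0, 2, -2, 2, -2, -2],
   [0, 0, 0, 0, 0, -2, 0, 2, 0, 0, -2, -2, 0, 0, -2, 2, 4, -2, 0, 2, 2, -2, 2, -2],
   [4, 0, 0, 0, 0, -2, 0, -2, 0, 0, -2, -2, 0, 0, -2, -2, 0, -2, 0, -2, -2, -2, -2, 2]]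

theorem invRows_test : frameTest invRows = true := by decide +kernel

/-- The embedded stabiliser of the extra point. -/
abbrev emb : fixPts [none] →* GT := ConwayTwoThree.embed ConwayTwoThree.lA_one

theorem coe_emb (σ : fixPts [none]) :
    ((emb σ : GT) : Co0) = permW (Subgroup.inclusion (fixPts_le_M24 [none]) σ) := rfl

/-- The image of the stabiliser of the extra point. -/
abbrev MT : Subgroup GT := emb.range

/-- The translation. -/
def gA : GT := emb ⟨shiftPerm, mem_fixPts.mpr ⟨shiftPerm_mem_M24, by decide +kernel⟩⟩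

/-- The doubling. -/
def gB : GT := emb ⟨doublePerm, mem_fixPts.mpr ⟨doublePerm_mem_M24, by decide +kernel⟩⟩

theorem rowsAut_vT : rowsAut invRows_test • vT = vT := by
  refine Subtype.ext ?_
  rw [coe_rowsAut, coe_vT]
  decide +kernel

/-- The involution. -/
noncomputable def gC : GT := ⟨rowsAut invRows_test, rowsAut_vT⟩

theorem orderOf_xEl' : orderOf gA = 23 := ConwayTwoThree.orderOf_xEl ConwayTwoThree.lA_one

theorem orderOf_gB' : orderOf gB = 11 := by
  rw [gB, orderOf_injective _ (ConwayTwoThree.embed_injective ConwayTwoThree.lA_one), ← Subgroup.orderOf_coe]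
  exact orderOf_doublePerm

/-! ### Computing with lists -/

/-- The involution on lists. -/
def stepC (l : List ℤ) : List ℤ := invRows.map fun r => dotList l r / 8

/-- A group element with its action on lists. -/
def Acts (g : GT) (f : List ℤ → List ℤ) : Prop :=
  ∀ u : leechLattice, vecList (((g : Co0) • u : leechLattice) : GolayPt → ℤ) = f (vecList u)

theorem acts_one : Acts 1 id := fun u => by rw [Subgroup.coe_one, one_smul]; rfl

theorem acts_mul {g h : GT} {f f' : List ℤ → List ℤ} (hg : Acts g f) (hh : Acts h f') :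
    Acts (g * h) (f ∘ f') := fun u => by rw [Subgroup.coe_mul, mul_smul, hg, hh]; rfl

theorem acts_pow {g : GT} {f : List ℤ → List ℤ} (hg : Acts g f) : ∀ n : ℕ, Acts (g ^ n) f^[n]
  | 0 => by rw [pow_zero]; exact acts_one
  | n + 1 => by
    rw [pow_succ', Function.iterate_succ']
    exact acts_mul hg (acts_pow hg n)

theorem acts_perm (σ : fixPts [none]) (L : List ℕ)
    (hL : ∀ k : Fin 24, L.getD k.val 0 = (idx ((σ : Equiv.Perm GolayPt).symm (pt k))).val ∧ L.length = 24) :
    Acts (emb σ) (fun l => L.map fun k => l.getD k 0) := by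
  intro u
  refine List.ext_getElem (by simp [vecList, (hL 0).2]) fun k h1 h2 => ?_
  have hk : k < 24 := by simpa [vecList] using h1
  have e : (L[k]'(by simpa using h2)) = L.getD k 0 := (List.getD_eq_getElem _ _ _).symm
  simp only [List.getElem_map, e, (hL ⟨k, hk⟩).1]
  simp only [vecList, List.getElem_ofFn, List.getD_eq_getElem?_getD]
  rw [List.getElem?_eq_getElem (by simp), Option.getD_some, List.getElem_ofFn]
  rw [coe_emb, permW_apply]
  simp only [Fin.eta, pt_idx]
  rfl

theorem acts_gA : Acts gA stepA := by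
  refine acts_perm _ ((22 : ℕ) :: List.range 22 ++ [23]) ?_
  decide +kernel

theorem acts_gB : Acts gB stepB := by
  refine acts_perm _ ((List.range 23).map (fun k => 12 * k % 23) ++ [23]) ?_
  decide +kernel

theorem acts_gC : Acts gC stepC := by
  have hr : invRows = List.ofFn fun k : Fin 24 => vecList (rowsFrame invRows (pt k)) := by decide +kernel
  intro u
  show vecList ((rowsAut invRows_test • u : leechLattice) : GolayPt → ℤ) = _
  rw [coe_rowsAut, stepC]
  conv_rhs => rw [hr]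
  rw [List.map_ofFn, vecList]
  refine congrArg List.ofFn (funext fun k => ?_)
  simp only [Function.comp_apply, vecList, dotList_ofFn]
  exact congrArg (· / 8) (Equiv.sum_comp ptEquiv fun p => (u : GolayPt → ℤ) p * rowsFrame invRows (pt k) p).symm

theorem eq_one_of_fix_basePts {g : GT} (h : ∀ p ∈ basePts, (g : Co0) • latE p = latE p) : g = 1 := by
  obtain ⟨σ, hσ, -⟩ := eq_permW (h none (by simp [basePts])) one_ne_zero ConwayTwoThree.lA_one g.2
  have h1 : (σ : Equiv.Perm GolayPt) = 1 := eq_one_of_fix_base σ.2 fun p hp => by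
    have h2 := h p hp
    rw [hσ, permW_latE] at h2
    exact latE_inj (Or.inl h2)
  refine Subtype.ext ?_
  rw [hσ, show σ = 1 from Subtype.ext h1]
  exact map_one permHom

theorem eq_one_iff_isId {g : GT} {f : List ℤ → List ℤ} (hg : Acts g f) : g = 1 ↔ isId f = true := by
  rw [isId, List.all_eq_true]
  simp only [beq_iff_eq]
  constructor
  · rintro rfl n _
    rw [← vecList_latE, ← hg, Subgroup.coe_one, one_smul]
  · intro h
    refine eq_one_of_fix_basePts fun p hp => Subtype.ext (vecList_injective ?_)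
    obtain ⟨n, hn, e⟩ := unit_of_base hp
    rw [hg, ← e, h n hn]

theorem eq_of_isSame {g h : GT} {f f' : List ℤ → List ℤ} (hg : Acts g f) (hh : Acts h f')
    (hs : isSame f f' = true) : g = h := by
  rw [isSame, List.all_eq_true] at hs
  refine (inv_mul_eq_one.mp (eq_one_of_fix_basePts (g := h⁻¹ * g) fun p hp => ?_)).symm
  obtain ⟨n, hn, e⟩ := unit_of_base hp
  have e1 : (g : Co0) • latE p = (h : Co0) • latE p := by
    refine Subtype.ext (vecList_injective ?_)
    rw [hg, hh, ← e]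
    exact beq_iff_eq.mp (hs n hn)
  rw [Subgroup.coe_mul, Subgroup.coe_inv, mul_smul, e1, inv_smul_smul]

theorem acts_gA_pow (j : ℕ) : Acts (gA ^ j) (permL (shiftPows.getD ((23 - j % 23) % 23) [])) := by
  rw [← pow_mod_orderOf, show orderOf gA = 23 from orderOf_xEl', gA, ← map_pow]
  refine acts_perm _ _ ?_
  have h : ∀ i : Fin 23, ∀ k : Fin 24,
      (shiftPows.getD ((23 - i.val) % 23) []).getD k.val 0 = (idx ((shiftPerm ^ i.val).symm (pt k))).val ∧
        (shiftPows.getD ((23 - i.val) % 23) []).length = 24 := by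
    intro i k
    have e := toList_shiftPerm_pow ⟨(23 - i.val) % 23, Nat.mod_lt _ (by norm_num)⟩
    refine ⟨?_, by rw [← e, toList_length]⟩
    have hinv : (shiftPerm ^ i.val).symm = shiftPerm ^ ((23 - i.val) % 23) := by
      show (shiftPerm ^ i.val)⁻¹ = _
      rw [inv_eq_iff_mul_eq_one, ← pow_add, ← pow_mod_orderOf, orderOf_shiftPerm]
      have := i.isLt
      rw [show (i.val + (23 - i.val) % 23) % 23 = 0 by omega, pow_zero]
    rw [hinv, ← e]
    have h2 := toList_getD (shiftPerm ^ ((23 - i.val) % 23)) (pt k)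
    rwa [idx_pt] at h2
  exact h ⟨j % 23, Nat.mod_lt _ (by norm_num)⟩

theorem acts_gB_pow (i : ℕ) : Acts (gB ^ i) (permL (doublePows.getD ((11 - i % 11) % 11) [])) := by
  rw [← pow_mod_orderOf, show orderOf gB = 11 from orderOf_gB', gB, ← map_pow]
  refine acts_perm _ _ ?_
  have h : ∀ i : Fin 11, ∀ k : Fin 24,
      (doublePows.getD ((11 - i.val) % 11) []).getD k.val 0 = (idx ((doublePerm ^ i.val).symm (pt k))).val ∧
        (doublePows.getD ((11 - i.val) % 11) []).length = 24 := by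
    intro i k
    have e := toList_doublePerm_pow ⟨(11 - i.val) % 11, Nat.mod_lt _ (by norm_num)⟩
    refine ⟨?_, by rw [← e, toList_length]⟩
    have hinv : (doublePerm ^ i.val).symm = doublePerm ^ ((11 - i.val) % 11) := by
      show (doublePerm ^ i.val)⁻¹ = _
      rw [inv_eq_iff_mul_eq_one, ← pow_add, ← pow_mod_orderOf, orderOf_doublePerm]
      have := i.isLt
      rw [show (i.val + (11 - i.val) % 11) % 11 = 0 by omega, pow_zero]
    rw [hinv, ← e]
    have h2 := toList_getD (doublePerm ^ ((11 - i.val) % 11)) (pt k)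
    rwa [idx_pt] at h2
  exact h ⟨i % 11, Nat.mod_lt _ (by norm_num)⟩

theorem orderOf_gA : orderOf gA = 23 := orderOf_xEl'

theorem orderOf_gB : orderOf gB = 11 := by
  exact orderOf_gB'

theorem conj_gB_gA : gB * gA * gB⁻¹ = gA ^ 2 := by
  rw [mul_inv_eq_iff_eq_mul]
  exact eq_of_isSame (acts_mul acts_gB acts_gA) (acts_mul (acts_gA_pow 2) acts_gB) (by decide +kernel)

theorem conj_gC_gB : gC * gB * gC⁻¹ = gB ^ 10 := by
  rw [mul_inv_eq_iff_eq_mul]
  exact eq_of_isSame (acts_mul acts_gC acts_gB) (acts_mul (acts_gB_pow 10) acts_gC) (by decide +kernel)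

theorem gC_sq : gC * gC = 1 := (eq_one_iff_isId (acts_mul acts_gC acts_gC)).mpr (by decide +kernel)

/-! ### Normalisers -/

theorem mem_range_of_fix {g : GT} (h : (g : Co0) • latE none = latE none) : g ∈ MT := by
  obtain ⟨σ, hσ, hσ0⟩ := eq_permW h one_ne_zero ConwayTwoThree.lA_one g.2
  exact ⟨⟨σ, mem_fixPts.mpr ⟨σ.2, by simpa using hσ0⟩⟩, Subtype.ext hσ.symm⟩

theorem normalizer_gA_le : normalizer (zpowers gA : Set GT) ≤ MT :=
  ConwayTwoThree.normalizer_le ConwayTwoThree.lA_one fun _ h1 _ => h1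

/-- The second vector fixed by the doubling with inner product -24. -/
def xList : List ℤ := stepC (unitList 23)

theorem double_two_points {v : leechLattice} (h : permW doubleEl • v = v)
    (hn : sqNorm (v : GolayPt → ℤ) = 64) (hd : dotInt ((vT : leechLattice) : GolayPt → ℤ) v = -24) :
    vecList (v : GolayPt → ℤ) = unitList 23 ∨ vecList (v : GolayPt → ℤ) = xList := by
  have hp := double_pattern h
  set a := (v : GolayPt → ℤ) none
  set b := (v : GolayPt → ℤ) (some 0)
  set c := (v : GolayPt → ℤ) (some 1)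
  set d := (v : GolayPt → ℤ) (some 5)
  have hN : a ^ 2 + b ^ 2 + 11 * c ^ 2 + 11 * d ^ 2 = 64 := by
    rw [← hn, sqNorm]
    conv_rhs => rw [Finset.sum_congr rfl fun i _ => by rw [hp i]]
    rw [sum_cls (fun j => (![a, b, c, d] : Fin 4 → ℤ) j ^ 2)]
    simp
  have hD : -3 * a + b + 11 * c + 11 * d = -24 := by
    rw [← hd, coe_vT, dotInt]
    have hvv : ∀ i : GolayPt, (if i = none then -3 else 1 : ℤ) = (![-3, 1, 1, 1] : Fin 4 → ℤ) (cls i) := by
      simp only [cls_eq_tab]
      decide +kernel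
    conv_rhs => rw [Finset.sum_congr rfl fun i _ => by rw [hvv i, hp i]]
    rw [sum_cls (fun j => (![-3, 1, 1, 1] : Fin 4 → ℤ) j * (![a, b, c, d] : Fin 4 → ℤ) j)]
    simp
    -- closed by simp
  have hbool : ((List.range 17).all fun A => (List.range 17).all fun B => (List.range 5).all fun C =>
      (List.range 5).all fun D =>
        let A' : ℤ := (A : ℤ) - 8
        let B' : ℤ := (B : ℤ) - 8
        let C' : ℤ := (C : ℤ) - 2
        let D' : ℤ := (D : ℤ) - 2
        !(Int.mul A' A' + Int.mul B' B' + Int.mul 11 (C' * C' + D' * D') == (64 : ℤ) && Int.mul (-3) A' + B' + Int.mul 11 (C' + D') == (-24 : ℤ)) ||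
          (!leechTest (fun i => ![A', B', C', D'] (Fin.ofNat 4 (clsTab.getD (idx i).val 0))) ||
            decide (vecList (fun i => ![A', B', C', D'] (Fin.ofNat 4 (clsTab.getD (idx i).val 0))) = unitList 23) ||
            decide (vecList (fun i => ![A', B', C', D'] (Fin.ofNat 4 (clsTab.getD (idx i).val 0))) = xList))) = true := by decide +kernel
  have ha : -8 ≤ a ∧ a ≤ 8 := ⟨by nlinarith, by nlinarith⟩
  have hb : -8 ≤ b ∧ b ≤ 8 := ⟨by nlinarith, by nlinarith⟩
  have hc : -2 ≤ c ∧ c ≤ 2 := ⟨by nlinarith, by nlinarith⟩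
  have hd' : -2 ≤ d ∧ d ≤ 2 := ⟨by nlinarith, by nlinarith⟩
  have h0 := List.all_eq_true.mp (List.all_eq_true.mp (List.all_eq_true.mp (List.all_eq_true.mp hbool
    (a + 8).toNat (List.mem_range.mpr (by omega))) (b + 8).toNat (List.mem_range.mpr (by omega)))
    (c + 2).toNat (List.mem_range.mpr (by omega))) (d + 2).toNat (List.mem_range.mpr (by omega))
  rw [Int.toNat_of_nonneg (by omega), Int.toNat_of_nonneg (by omega), Int.toNat_of_nonneg (by omega),
    Int.toNat_of_nonneg (by omega)] at h0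
  have hN' : Int.mul a a + Int.mul b b + Int.mul 11 (c * c + d * d) = 64 := by
    show a * a + b * b + 11 * (c * c + d * d) = 64
    rw [← hN]; ring
  have hD' : Int.mul (-3) a + b + Int.mul 11 (c + d) = -24 := by
    show -3 * a + b + 11 * (c + d) = -24
    rw [← hD]; ring
  simp only [add_sub_cancel_right, ← cls_eq_tab, hN', hD', beq_self_eq_true, Bool.and_self, Bool.not_true, Bool.false_or,
    Bool.or_eq_true, Bool.not_eq_true', decide_eq_true_eq, or_assoc] at h0
  have hv : (v : GolayPt → ℤ) = fun i => (![a, b, c, d] : Fin 4 → ℤ) (cls i) := funext hp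
  rcases h0 with h | h | h
  · exfalso
    rw [← hv, leechTest_of_mem v.2] at h
    exact Bool.noConfusion h
  · left; rw [hv]; exact h
  · right; rw [hv]; exact h

theorem normalizer_gB_cases {g : GT} (hg : g ∈ normalizer (zpowers gB : Set GT)) :
    g ∈ MT ∨ gC * g ∈ MT := by
  have h1 : (g : Co0)⁻¹ * permW doubleEl * g ∈ zpowers (permW doubleEl) := by
    obtain ⟨k, hk⟩ := mem_zpowers_iff.1 ((mem_normalizer_iff''.1 hg gB).1 (mem_zpowers _))
    refine mem_zpowers_iff.2 ⟨k, ?_⟩
    have h' := congrArg Subtype.val hk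
    rw [Subgroup.coe_zpow, Subgroup.coe_mul, Subgroup.coe_mul, Subgroup.coe_inv] at h'
    exact h'
  have hfix : permW doubleEl • latE none = latE none := by
    rw [permW_latE]; exact congrArg latE (by decide +kernel)
  have hn : sqNorm (((g : Co0) • latE none : leechLattice) : GolayPt → ℤ) = 64 := by
    rw [sqNorm_smul_lat, sqNorm_latE]
  have hd : dotInt ((vT : leechLattice) : GolayPt → ℤ) (((g : Co0) • latE none : leechLattice) : GolayPt → ℤ) = -24 := by
    have h := dot_smul_lat (g : Co0) vT (latE none)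
    rw [show (g : Co0) • vT = vT from g.2] at h
    rw [h, coe_latE, dot_single_right, coe_vT]
    rfl
  rcases double_two_points (fixed_smul h1 hfix) hn hd with h | h
  · refine Or.inl (mem_range_of_fix (Subtype.ext (vecList_injective ?_)))
    rw [h]; exact (vecList_latE 23).symm
  · refine Or.inr (mem_range_of_fix (Subtype.ext (vecList_injective ?_)))
    rw [Subgroup.coe_mul, mul_smul, acts_gC, h, show (none : GolayPt) = pt 23 from rfl, vecList_latE]
    decide +kernel

theorem emb_normalizes {τ : fixPts [none]} {π : fixPts [none]}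
    (h : emb τ ∈ normalizer (zpowers (emb π) : Set GT)) :
    τ ∈ normalizer (zpowers π : Set (fixPts [none])) := by
  refine mem_normalizer_iff.mpr fun x => ?_
  have key := mem_normalizer_iff.mp h (emb x)
  rw [← map_inv, ← map_mul, ← map_mul, ← MonoidHom.map_zpowers,
    mem_map_iff_mem (ConwayTwoThree.embed_injective ConwayTwoThree.lA_one), mem_map_iff_mem (ConwayTwoThree.embed_injective ConwayTwoThree.lA_one)] at key
  exact key

theorem shift_list_of_normalizes {τ : fixPts [none]} (h : emb τ ∈ normalizer (zpowers gA : Set GT)) :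
    toList (τ : Equiv.Perm GolayPt) ∈ shiftCands := by
  obtain ⟨k, hk, hk', hkk⟩ := pow_of_normalizes (π := ⟨shiftPerm, _⟩) (m := 23) (by norm_num)
    (by rw [← Subgroup.orderOf_coe]; exact orderOf_shiftPerm) (emb_normalizes h)
  exact toList_mem_shiftCands (mem_fixPts.mp τ.2).1 ((mem_fixPts.mp τ.2).2 none (by simp)) hk hk' hkk

theorem double_list_of_normalizes {τ : fixPts [none]} (h : emb τ ∈ normalizer (zpowers gB : Set GT)) :
    toList (τ : Equiv.Perm GolayPt) ∈ doubleCands := by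
  obtain ⟨k, hk, hk', hkk⟩ := pow_of_normalizes (π := ⟨doublePerm, _⟩) (m := 11) (by norm_num)
    (by rw [← Subgroup.orderOf_coe]; exact orderOf_doublePerm) (emb_normalizes h)
  obtain ⟨hτ, hfix⟩ := mem_fixPts.mp τ.2
  have h0 := hfix none (by simp)
  refine toList_mem_doubleCands hτ h0 ?_ hk hk' hkk
  have h1 := Equiv.Perm.ext_iff.mp hkk (some 0)
  rw [Equiv.Perm.mul_apply, Equiv.Perm.mul_apply, show doublePerm (some 0) = some 0 by decide +kernel] at h1
  have hall : ∀ k : Fin 11, 1 ≤ k.val → ∀ p : GolayPt, (doublePerm ^ k.val) p = p → p = none ∨ p = some 0 := by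
    decide +kernel
  rcases hall ⟨k, hk'⟩ hk _ h1.symm with e | e
  · exact absurd ((τ : Equiv.Perm GolayPt).injective (e.trans h0.symm)) (Option.some_ne_none 0)
  · exact e

theorem card_le_cands (K : Subgroup GT) (hK : K ≤ MT) (cands : List (List ℕ))
    (h : ∀ τ : fixPts [none], emb τ ∈ K → toList (τ : Equiv.Perm GolayPt) ∈ cands) :
    Nat.card K ≤ cands.length := by
  classical
  have hmem : ∀ g : K, ∃ τ : fixPts [none], emb τ = g.1 := fun g => hK g.2
  choose τ hτ using hmem
  have hL : ∀ g : K, toList (τ g : Equiv.Perm GolayPt) ∈ cands.toFinset := fun g =>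
    List.mem_toFinset.mpr (h _ (by rw [hτ]; exact g.2))
  refine le_trans ?_ (List.toFinset_card_le cands)
  rw [← Fintype.card_coe, ← Nat.card_eq_fintype_card]
  refine Nat.card_le_card_of_injective (fun g => ⟨_, hL g⟩) fun a b hab => Subtype.ext ?_
  rw [← hτ a, ← hτ b]
  exact congrArg emb (Subtype.ext (toList_injective (congrArg Subtype.val hab)))

theorem commute_gA_cases {g : GT} (h : g * gA * g⁻¹ = gA) : ∃ i : ℕ, g = gA ^ i := by
  have hn : g ∈ normalizer (zpowers gA : Set GT) := by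
    rw [mem_normalizer_iff]
    intro x
    refine ⟨fun hx => ?_, fun hx => ?_⟩
    · obtain ⟨k, rfl⟩ := mem_zpowers_iff.mp hx
      exact mem_zpowers_iff.mpr ⟨k, by rw [← conj_zpow, h]⟩
    · obtain ⟨k, hk⟩ := mem_zpowers_iff.mp hx
      refine mem_zpowers_iff.mpr ⟨k, ?_⟩
      rw [← h, conj_zpow] at hk
      simpa using hk
  obtain ⟨τ, rfl⟩ := normalizer_gA_le hn
  have hl := shift_list_of_normalizes hn
  have hall : (shiftCands.all fun l => !(CfsgLib.Golay.comp l (toList shiftPerm) ==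
      CfsgLib.Golay.comp (toList shiftPerm) l) || shiftPows.contains l) = true := by decide +kernel
  have hc : (τ : Equiv.Perm GolayPt) * shiftPerm = shiftPerm * (τ : Equiv.Perm GolayPt) := by
    have h2 : τ * (⟨shiftPerm, mem_fixPts.mpr ⟨shiftPerm_mem_M24, by decide +kernel⟩⟩ : fixPts [none]) =
        ⟨shiftPerm, mem_fixPts.mpr ⟨shiftPerm_mem_M24, by decide +kernel⟩⟩ * τ := by
      apply ConwayTwoThree.embed_injective ConwayTwoThree.lA_one
      rw [map_mul, map_mul]
      exact mul_inv_eq_iff_eq_mul.mp h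
    exact congrArg Subtype.val h2
  have h3 := List.all_eq_true.mp hall _ hl
  rw [← toList_mul, ← toList_mul, hc] at h3
  simp only [beq_self_eq_true, Bool.not_true, Bool.false_or, List.contains_iff_mem] at h3
  obtain ⟨i, hi, e⟩ := List.getElem_of_mem h3
  have hi' : i < 23 := by simpa [shiftPows] using hi
  refine ⟨i, ?_⟩
  rw [gA, ← map_pow]
  refine congrArg emb (Subtype.ext (toList_injective ?_))
  rw [SubgroupClass.coe_pow, toList_shiftPerm_pow ⟨i, hi'⟩, List.getD_eq_getElem _ _ hi, e]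

/-- The elements inverting the doubling. -/
noncomputable def listC : List GT := (List.range 11).map fun i => gC * gB ^ i

theorem inverts_gB_mem {g : GT} (h : g * gB * g⁻¹ = gB ^ 10) : g ∈ listC := by
  have hb10 : gB ^ 10 = gB⁻¹ := by
    refine (inv_eq_of_mul_eq_one_right ?_).symm
    rw [← pow_succ', show 10 + 1 = orderOf gB by rw [orderOf_gB], pow_orderOf_eq_one]
  have hn : g ∈ normalizer (zpowers gB : Set GT) := by
    rw [mem_normalizer_iff]
    intro x
    have hz : ∀ k : ℤ, g * gB ^ k * g⁻¹ = gB ^ (-k) := fun k => by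
      rw [← conj_zpow, h, hb10, inv_zpow']
    refine ⟨fun hx => ?_, fun hx => ?_⟩
    · obtain ⟨k, rfl⟩ := mem_zpowers_iff.mp hx
      exact mem_zpowers_iff.mpr ⟨-k, (hz k).symm⟩
    · obtain ⟨k, hk⟩ := mem_zpowers_iff.mp hx
      refine mem_zpowers_iff.mpr ⟨-k, ?_⟩
      have h2 := hz (-k)
      rw [neg_neg, hk] at h2
      simpa using h2
  have key : ∀ y : GT, y ∈ MT → y * gB = gB * y → ∃ i < 11, y = gB ^ i := by
    intro y hy hc
    obtain ⟨τ, rfl⟩ := hy
    have hny : emb τ ∈ normalizer (zpowers gB : Set GT) := by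
      rw [mem_normalizer_iff]
      intro x
      refine ⟨fun hx => ?_, fun hx => ?_⟩
      · obtain ⟨k, rfl⟩ := mem_zpowers_iff.mp hx
        exact mem_zpowers_iff.mpr ⟨k, by rw [← conj_zpow, hc, mul_inv_cancel_right]⟩
      · obtain ⟨k, hk⟩ := mem_zpowers_iff.mp hx
        refine mem_zpowers_iff.mpr ⟨k, ?_⟩
        have h4 : gB ^ k = emb τ * gB ^ k * (emb τ)⁻¹ := by rw [← conj_zpow, hc, mul_inv_cancel_right]
        rw [h4] at hk
        simpa using hk
    have hl := double_list_of_normalizes hny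
    have hall : (doubleCands.all fun l => !(CfsgLib.Golay.comp l (toList doublePerm) ==
        CfsgLib.Golay.comp (toList doublePerm) l) || doublePows.contains l) = true := by decide +kernel
    have hc' : (τ : Equiv.Perm GolayPt) * doublePerm = doublePerm * (τ : Equiv.Perm GolayPt) := by
      have h2 : τ * (⟨doublePerm, mem_fixPts.mpr ⟨doublePerm_mem_M24, by decide +kernel⟩⟩ : fixPts [none]) =
          ⟨doublePerm, mem_fixPts.mpr ⟨doublePerm_mem_M24, by decide +kernel⟩⟩ * τ := by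
        apply ConwayTwoThree.embed_injective ConwayTwoThree.lA_one
        rw [map_mul, map_mul]
        exact hc
      exact congrArg Subtype.val h2
    have h3 := List.all_eq_true.mp hall _ hl
    rw [← toList_mul, ← toList_mul, hc'] at h3
    simp only [beq_self_eq_true, Bool.not_true, Bool.false_or, List.contains_iff_mem] at h3
    obtain ⟨i, hi, e⟩ := List.getElem_of_mem h3
    have hi' : i < 11 := by simpa [doublePows] using hi
    refine ⟨i, hi', ?_⟩
    rw [gB, ← map_pow]
    refine congrArg emb (Subtype.ext (toList_injective ?_))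
    rw [SubgroupClass.coe_pow, toList_doublePerm_pow ⟨i, hi'⟩, List.getD_eq_getElem _ _ hi, e]
  simp only [listC, List.mem_map, List.mem_range]
  rcases normalizer_gB_cases hn with h1 | h1
  · exfalso
    obtain ⟨τ, rfl⟩ := h1
    have hl := double_list_of_normalizes hn
    have hall : (doubleCands.all fun l => !(CfsgLib.Golay.comp l (toList doublePerm) ==
        CfsgLib.Golay.comp (toList (doublePerm ^ 10)) l)) = true := by decide +kernel
    have hc : (τ : Equiv.Perm GolayPt) * doublePerm = doublePerm ^ 10 * (τ : Equiv.Perm GolayPt) := by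
      have h2 : τ * (⟨doublePerm, mem_fixPts.mpr ⟨doublePerm_mem_M24, by decide +kernel⟩⟩ : fixPts [none]) =
          ⟨doublePerm, mem_fixPts.mpr ⟨doublePerm_mem_M24, by decide +kernel⟩⟩ ^ 10 * τ := by
        apply ConwayTwoThree.embed_injective ConwayTwoThree.lA_one
        rw [map_mul, map_mul, map_pow]
        exact mul_inv_eq_iff_eq_mul.mp h
      exact congrArg Subtype.val h2
    have h3 := List.all_eq_true.mp hall _ hl
    rw [← toList_mul, ← toList_mul, hc] at h3
    simp at h3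
  · have h2 : gC * g * gB * (gC * g)⁻¹ = gB := by
      calc gC * g * gB * (gC * g)⁻¹ = gC * (g * gB * g⁻¹) * gC⁻¹ := by group
        _ = (gC * gB * gC⁻¹) ^ 10 := by rw [h, conj_pow]
        _ = gB := by
          rw [conj_gC_gB, ← pow_mul, show 10 * 10 = 1 + orderOf gB * 9 by rw [orderOf_gB],
            pow_add, pow_mul, pow_orderOf_eq_one, one_pow, mul_one, pow_one]
    obtain ⟨i, hi, e⟩ := key (gC * g) h1 (mul_inv_eq_iff_eq_mul.mp h2)
    refine ⟨i, hi, ?_⟩
    rw [← e, ← mul_assoc, gC_sq, one_mul]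

end CfsgLib.Sporadic.Conway.TwoOut
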