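import Cfsg.Agent.Lib.Sporadic.ConwayTwoElem

/-!
# Three explicit elements generate the second Conway group
-/

set_option autoImplicit false

namespace CfsgLib.Sporadic.Conway.TwoOut

open Cfsg CfsgLib.Golay CfsgLib.MonsterType CfsgLib.LeechEight Subgroup
open scoped Pointwise
open ThreeOut (vecList vecList_injective stepA stepB unitList vecList_latE permL card_eq_mul_normalizer step_small)

/-! ### Generation -/

/-- An element of the small group outside the normaliser. -/
noncomputable def gS : GT :=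
  gC * gA ^ 21 * gB ^ 10 * gA ^ 22 * gC * gA * gB ^ 2 * gA ^ 2 * gC *
    gA ^ 5 * gC * gB * gA ^ 2 * gC

/-- Its action on lists. -/
def stepS : List ℤ → List ℤ :=
  stepC ∘ permL (shiftPows.getD 2 []) ∘ permL (doublePows.getD 1 []) ∘ permL (shiftPows.getD 1 []) ∘ stepC ∘
    stepA ∘ permL (doublePows.getD 9 []) ∘ permL (shiftPows.getD 21 []) ∘ stepC ∘
    permL (shiftPows.getD 18 []) ∘ stepC ∘ stepB ∘ permL (shiftPows.getD 21 []) ∘ stepC

theorem acts_gS : Acts gS stepS := by
  have h := (acts_mul (acts_mul (acts_mul (acts_mul (acts_mul (acts_mul (acts_mul (acts_mul (acts_mul (acts_mul (acts_mul (acts_mul (acts_mul acts_gC (acts_gA_pow 21)) (acts_gB_pow 10)) (acts_gA_pow 22)) acts_gC) acts_gA) (acts_gB_pow 2)) (acts_gA_pow 2)) acts_gC) (acts_gA_pow 5)) acts_gC) acts_gB) (acts_gA_pow 2)) acts_gC)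
  exact h

theorem gS_mem : gS ∈ MT := by
  refine mem_range_of_fix (Subtype.ext (vecList_injective ?_))
  rw [acts_gS, show (none : GolayPt) = pt 23 from rfl, vecList_latE]
  decide +kernel

/-- The source of each coordinate under `gS`. -/
def permS : List ℕ := [11, 20, 4, 22, 19, 13, 2, 15, 14, 10, 21, 18, 12, 0, 5, 9, 3, 7, 6, 8, 17, 16, 1, 23]

theorem acts_gS_perm : Acts gS (permL permS) := by
  obtain ⟨τ, hτ⟩ := gS_mem
  rw [← hτ]
  refine acts_perm τ permS fun k => ⟨?_, by decide⟩
  have hS : ∀ k : Fin 24, stepS (unitList (Fin.ofNat 24 (permS.getD k.val 0))) = unitList k ∧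
      permS.getD k.val 0 < 24 := by decide +kernel
  have hinj : ∀ x y : Fin 24, unitList x = unitList y → x = y := by decide +kernel
  obtain ⟨h1, h2⟩ := hS k
  have hv : unitList (idx ((τ : Equiv.Perm GolayPt) (pt (Fin.ofNat 24 (permS.getD k.val 0))))) =
      stepS (unitList (Fin.ofNat 24 (permS.getD k.val 0))) := by
    rw [← vecList_latE, ← vecList_latE, pt_idx, ← acts_gS, ← hτ]
    refine congrArg (fun w : leechLattice => vecList (w : GolayPt → ℤ)) ?_
    rw [coe_emb, permW_latE]
    rfl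
  conv_rhs => rw [← hinj _ _ (hv.trans h1), pt_idx, Equiv.symm_apply_apply, idx_pt]
  exact (Nat.mod_eq_of_lt h2).symm

theorem gS_not_normalizes : gS ∉ normalizer (zpowers gA : Set GT) := by
  intro hn
  obtain ⟨τ, hτ⟩ := gS_mem
  rw [← hτ] at hn
  have hl := shift_list_of_normalizes hn
  have hval : ∀ j : Fin 24, unitList (idx ((τ : Equiv.Perm GolayPt) (pt j))) = stepS (unitList j) := by
    intro j
    rw [← vecList_latE, ← vecList_latE, pt_idx, ← acts_gS, ← hτ]
    refine congrArg (fun w : leechLattice => vecList (w : GolayPt → ℤ)) ?_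
    rw [coe_emb, permW_latE]
    rfl
  have hget : ∀ j : Fin 24,
      (idx ((τ : Equiv.Perm GolayPt) (pt j))).val = (toList (τ : Equiv.Perm GolayPt)).getD j.val 0 := by
    intro j
    rw [List.getD_eq_getElem _ _ (by rw [toList_length]; exact j.isLt), toList_getElem]
  have hS : stepS (unitList 0) = unitList 13 ∧ stepS (unitList 1) = unitList 22 ∧
      stepS (unitList 2) = unitList 6 := by decide +kernel
  have hinj : ∀ x y : Fin 24, unitList x = unitList y → x = y := by decide +kernel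
  have hall : (shiftCands.all fun l =>
      !(l.getD 0 0 == 13 && l.getD 1 0 == 22 && l.getD 2 0 == 6)) = true := by decide +kernel
  have h3 := List.all_eq_true.mp hall _ hl
  have v0 := hinj _ _ ((hval 0).trans hS.1)
  have v1 := hinj _ _ ((hval 1).trans hS.2.1)
  have v2 := hinj _ _ ((hval 2).trans hS.2.2)
  have w0 := hget 0
  have w1 := hget 1
  have w2 := hget 2
  rw [v0] at w0; rw [v1] at w1; rw [v2] at w2
  have e0 : (toList (τ : Equiv.Perm GolayPt)).getD 0 0 = 13 := w0.symm
  have e1 : (toList (τ : Equiv.Perm GolayPt)).getD 1 0 = 22 := w1.symm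
  have e2 : (toList (τ : Equiv.Perm GolayPt)).getD 2 0 = 6 := w2.symm
  rw [e0, e1, e2] at h3
  exact absurd h3 (by decide)

/-- The translations on lists. -/
def shiftL (k : ℕ) : List ℤ → List ℤ := permL (shiftPows.getD ((23 - k % 23) % 23) [])

/-- Images of the second fixed vector with a four at the first point. -/
def applyTab : List (ℕ × ℕ) → List ℤ → List ℤ
  | [], l => l
  | (k, r) :: w, l => shiftL r (permL permS (shiftL k (applyTab w l)))

/-- The table of these images. -/
def orbTab : List (List (ℕ × ℕ)) :=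
  [[], [(0, 10)], [(1, 1)], [(2, 17)], [(3, 7)],
   [(4, 21)], [(5, 9)], [(6, 5)], [(7, 6)], [(8, 4)],
   [(9, 8)], [(10, 14)], [(11, 0)], [(12, 11)], [(13, 18)],
   [(14, 15)], [(15, 16)], [(16, 2)], [(17, 3)], [(18, 12)],
   [(19, 19)], [(20, 22)], [(21, 13)], [(22, 20)], [(1, 1), (0, 10)],
   [(2, 17), (0, 10)], [(3, 7), (0, 10)], [(4, 21), (0, 10)], [(5, 9), (0, 10)], [(6, 5), (0, 10)],
   [(7, 6), (0, 10)], [(8, 4), (0, 10)], [(9, 8), (0, 10)], [(10, 14), (0, 10)], [(11, 0), (0, 10)],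
   [(12, 11), (0, 10)], [(13, 18), (0, 10)], [(14, 15), (0, 10)], [(15, 16), (0, 10)], [(16, 2), (0, 10)],
   [(17, 3), (0, 10)], [(18, 12), (0, 10)], [(19, 19), (0, 10)], [(20, 22), (0, 10)], [(21, 13), (0, 10)],
   [(22, 20), (0, 10)], [(0, 10), (1, 1)], [(1, 1), (1, 1)], [(2, 17), (1, 1)], [(3, 7), (1, 1)],
   [(4, 21), (1, 1)], [(6, 5), (1, 1)], [(7, 6), (1, 1)], [(8, 4), (1, 1)], [(9, 8), (1, 1)],
   [(10, 14), (1, 1)], [(11, 0), (1, 1)], [(12, 11), (1, 1)], [(13, 18), (1, 1)], [(14, 15), (1, 1)],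
   [(15, 16), (1, 1)], [(16, 2), (1, 1)], [(17, 3), (1, 1)], [(18, 12), (1, 1)], [(19, 19), (1, 1)],
   [(20, 22), (1, 1)], [(21, 13), (1, 1)], [(22, 20), (1, 1)], [(0, 10), (2, 17)], [(1, 1), (2, 17)],
   [(2, 17), (2, 17)], [(3, 7), (2, 17)], [(4, 21), (2, 17)], [(5, 9), (2, 17)], [(6, 5), (2, 17)],
   [(7, 6), (2, 17)], [(8, 4), (2, 17)], [(9, 8), (2, 17)], [(10, 14), (2, 17)], [(11, 0), (2, 17)],
   [(12, 11), (2, 17)], [(13, 18), (2, 17)], [(14, 15), (2, 17)], [(15, 16), (2, 17)], [(16, 2), (2, 17)],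
   [(17, 3), (2, 17)], [(19, 19), (2, 17)], [(20, 22), (2, 17)], [(21, 13), (2, 17)], [(22, 20), (2, 17)],
   [(0, 10), (3, 7)], [(1, 1), (3, 7)]]

theorem orbTab_length : orbTab.length = 92 := by decide +kernel

theorem orbTab_nodup : (orbTab.map fun w => applyTab w (stepC (unitList 23))).Nodup := by decide +kernel

theorem orbTab_pos : ∀ i : Fin 23, ∀ j : Fin 92,
    (shiftL i.val (applyTab (orbTab.getD j.val []) (stepC (unitList 23)))).idxOf (4 : ℤ) = i.val := by decide +kernel

theorem step_large : ∀ d : ℕ, d ∣ 4147200 → d % 23 = 1 → d % 11 = 1 → d = 1 ∨ d = 2025 ∨ d = 172800 := by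
  intro d hd h1 h2
  rw [show 4147200 = 2 ^ 11 * 3 ^ 4 * 5 ^ 2 by norm_num] at hd
  obtain ⟨x, z, hx, hz, rfl⟩ := Nat.dvd_mul.mp hd
  obtain ⟨u, w, hu, hw, rfl⟩ := Nat.dvd_mul.mp hx
  obtain ⟨a, ha, rfl⟩ := (Nat.dvd_prime_pow (by norm_num)).mp hu
  obtain ⟨b, hb, rfl⟩ := (Nat.dvd_prime_pow (by norm_num)).mp hw
  obtain ⟨c, hc, rfl⟩ := (Nat.dvd_prime_pow (by norm_num)).mp hz
  have h : ∀ a : Fin 12, ∀ b : Fin 5, ∀ c : Fin 3, (2 ^ a.val * 3 ^ b.val * 5 ^ c.val) % 23 = 1 →
      (2 ^ a.val * 3 ^ b.val * 5 ^ c.val) % 11 = 1 →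
      (a.val, b.val, c.val) = (0, 0, 0) ∨ (a.val, b.val, c.val) = (0, 4, 2) ∨ (a.val, b.val, c.val) = (8, 3, 2) := by
    decide +kernel
  rcases h ⟨a, by omega⟩ ⟨b, by omega⟩ ⟨c, by omega⟩ h1 h2 with h | h | h <;>
    simp only [Prod.mk.injEq] at h <;> obtain ⟨rfl, rfl, rfl⟩ := h <;> norm_num

theorem card_GT : Nat.card GT = 42305421312000 := ConwayTwoThree.card_co2

theorem finite_GT : Finite GT := Nat.finite_of_card_ne_zero (by rw [card_GT]; norm_num)

theorem card_MT : Nat.card MT = 10200960 := by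
  rw [← Nat.card_congr (MonoidHom.ofInjective (ConwayTwoThree.embed_injective ConwayTwoThree.lA_one)).toEquiv]
  have h : Nat.card (fixPts [none]) = Nat.card (stdStab 1) := rfl
  rw [h]
  exact natCard_stdStab 1

theorem generates : Subgroup.closure ({gA, gB, gC} : Set GT) = ⊤ := by
  classical
  have := finite_GT
  have := Fact.mk (show Nat.Prime 23 by norm_num)
  have := Fact.mk (show Nat.Prime 11 by norm_num)
  set H := Subgroup.closure ({gA, gB, gC} : Set GT)
  have hA : gA ∈ H := subset_closure (by simp)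
  have hB : gB ∈ H := subset_closure (by simp)
  have hC : gC ∈ H := subset_closure (by simp)
  have p23 : ¬ 23 * 23 ∣ Nat.card GT := by rw [card_GT]; norm_num
  have p11 : ¬ 11 * 11 ∣ Nat.card GT := by rw [card_GT]; norm_num
  set NA := normalizer (zpowers gA : Set GT)
  set NB := normalizer (zpowers gB : Set GT)
  have hAM : gA ∈ MT := ⟨_, rfl⟩
  have hBM : gB ∈ MT := ⟨_, rfl⟩
  have hBNA : gB ∈ NA := by
    rw [mem_normalizer_iff]
    intro x
    refine ⟨fun hx => ?_, fun hx => ?_⟩
    · obtain ⟨k, rfl⟩ := mem_zpowers_iff.mp hx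
      rw [← conj_zpow, conj_gB_gA]
      exact zpow_mem (pow_mem (mem_zpowers _) 2) k
    · obtain ⟨k, hk⟩ := mem_zpowers_iff.mp hx
      have h2 : gB⁻¹ * gA * gB = gA ^ 12 := by
        have h3 : gB * gA ^ 12 * gB⁻¹ = gA := by
          rw [← conj_pow, conj_gB_gA, ← pow_mul, show 2 * 12 = 1 + orderOf gA by rw [orderOf_gA],
            pow_add, pow_orderOf_eq_one, mul_one, pow_one]
        conv_lhs => rw [← h3]
        group
      have hxe : x = (gB⁻¹ * gA * gB) ^ k := by
        rw [show gB⁻¹ * gA * gB = gB⁻¹ * gA * (gB⁻¹)⁻¹ by rw [inv_inv], conj_zpow, hk]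
        group
      rw [hxe, h2]
      exact zpow_mem (pow_mem (mem_zpowers _) 12) k
  -- the small group
  set K := H ⊓ MT
  have hNAle : ∀ L : Subgroup GT, gA ∈ L → gB ∈ L → Nat.card ↥(NA ⊓ L) = 253 := by
    intro L hLA hLB
    have hle : Nat.card ↥(NA ⊓ L) ≤ 253 := by
      rw [← length_shiftCands]
      exact card_le_cands _ (inf_le_left.trans normalizer_gA_le) _ fun τ hτ => shift_list_of_normalizes hτ.1
    have d1 : 23 ∣ Nat.card ↥(NA ⊓ L) := by
      have := orderOf_dvd_natCard (⟨gA, le_normalizer (mem_zpowers _), hLA⟩ : ↥(NA ⊓ L))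
      rwa [← Subgroup.orderOf_coe, orderOf_gA] at this
    have d2 : 11 ∣ Nat.card ↥(NA ⊓ L) := by
      have := orderOf_dvd_natCard (⟨gB, hBNA, hLB⟩ : ↥(NA ⊓ L))
      rwa [← Subgroup.orderOf_coe, orderOf_gB] at this
    have d3 : 253 ∣ Nat.card ↥(NA ⊓ L) := Nat.Coprime.mul_dvd_of_dvd_of_dvd (by norm_num) d1 d2
    exact le_antisymm hle (Nat.le_of_dvd Nat.card_pos d3)
  have hNAK : NA ≤ K := by
    intro g hg
    have e1 := hNAle MT hAM hBM
    have e2 := hNAle K ⟨hA, hAM⟩ ⟨hB, hBM⟩
    have heq : NA ⊓ K = NA ⊓ MT :=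
      Subgroup.eq_of_le_of_card_ge (inf_le_inf_left _ inf_le_right) (by rw [e1, e2])
    exact (heq.symm ▸ (⟨hg, normalizer_gA_le hg⟩ : g ∈ NA ⊓ MT) : g ∈ NA ⊓ K).2
  have hKM : K = MT := by
    obtain ⟨k, hk1, hk2⟩ := card_eq_mul_normalizer 23 orderOf_gA p23 K ⟨hA, hAM⟩
    obtain ⟨n, hn1, hn2⟩ := card_eq_mul_normalizer 11 orderOf_gB p11 K ⟨hB, hBM⟩
    obtain ⟨n', hn1', hn2'⟩ := card_eq_mul_normalizer 11 orderOf_gB p11 MT hBM
    rw [hNAle K ⟨hA, hAM⟩ ⟨hB, hBM⟩] at hk2
    set m := Nat.card ↥(NB ⊓ K)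
    set m' := Nat.card ↥(NB ⊓ MT)
    have hm'le : m' ≤ 55 := by
      rw [← length_doubleCands]
      exact card_le_cands _ inf_le_right _ fun τ hτ => double_list_of_normalizes hτ.1
    have d11 : ∀ L : Subgroup GT, gB ∈ L → 11 ∣ Nat.card ↥(NB ⊓ L) := fun L hL => by
      have := orderOf_dvd_natCard (⟨gB, le_normalizer (mem_zpowers _), hL⟩ : ↥(NB ⊓ L))
      rwa [← Subgroup.orderOf_coe, orderOf_gB] at this
    have hm' : m' = 55 := by
      obtain ⟨c, hc⟩ := d11 MT hBM
      rw [show Nat.card ↥(NB ⊓ MT) = m' from rfl] at hc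
      rw [card_MT, hc] at hn2'
      have hc5 : c ≤ 5 := by omega
      interval_cases c <;> omega
    have hm : m = 11 ∨ m = 55 := by
      have h1 : m ∣ 55 := hm' ▸ Subgroup.card_dvd_of_le (inf_le_inf_left _ inf_le_right)
      obtain ⟨c, hc⟩ := d11 K ⟨hB, hBM⟩
      rw [show Nat.card ↥(NB ⊓ K) = m from rfl] at hc
      have h2 : c ∣ 5 := Nat.dvd_of_mul_dvd_mul_left (by norm_num : 0 < 11) (hc ▸ h1)
      rcases (Nat.dvd_prime (by norm_num)).mp h2 with rfl | rfl <;> omega
    have hkdvd : k ∣ 40320 := by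
      have := Subgroup.card_dvd_of_le (inf_le_right : K ≤ MT)
      rw [card_MT, hk2] at this
      exact Nat.dvd_of_mul_dvd_mul_right (by norm_num : 0 < 253) (by simpa using this)
    have hkk := step_small k (by have := Nat.le_of_dvd (by norm_num) hkdvd; omega)
      (Nat.mod_eq_zero_of_dvd hkdvd) hk1 m (by simpa using hm)
      (by rw [mul_comm, ← hk2, hn2, Nat.mul_mod_left])
      (by rw [mul_comm, ← hk2, hn2, Nat.mul_div_cancel _ (by omega), hn1])
    rcases hkk with rfl | rfl
    · exfalso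
      have heq : NA = K := Subgroup.eq_of_le_of_card_ge hNAK (by
        rw [hk2, one_mul, ← hNAle K ⟨hA, hAM⟩ ⟨hB, hBM⟩]
        exact Nat.card_le_card_of_injective _ (Subgroup.inclusion_injective (inf_le_left : NA ⊓ K ≤ NA)))
      refine gS_not_normalizes ?_
      show gS ∈ NA
      rw [heq]
      refine ⟨?_, gS_mem⟩
      simp only [gS]
      repeat' apply mul_mem
      all_goals first | exact hC | exact hA | exact hB | exact pow_mem hA _ | exact pow_mem hB _
    · exact Subgroup.eq_of_le_of_card_ge inf_le_right (by rw [hk2, card_MT])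
  have hMH : MT ≤ H := hKM ▸ inf_le_left
  -- the whole group
  have hNA : NA ≤ H := normalizer_gA_le.trans hMH
  have hNB : NB ≤ H := by
    intro g hg
    rcases normalizer_gB_cases hg with h | h
    · exact hMH h
    · have := mul_mem (inv_mem hC) (hMH h)
      rwa [inv_mul_cancel_left] at this
  obtain ⟨d, hd⟩ := Subgroup.card_subgroup_dvd_card H
  have hdmod : ∀ (p : ℕ) [Fact p.Prime] (x : GT), orderOf x = p → ¬ p * p ∣ Nat.card GT → x ∈ H →
      normalizer (zpowers x : Set GT) ≤ H → d % p = 1 := by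
    intro p _ x hx hpp hxH hN
    obtain ⟨n, hn1, hn2⟩ := card_eq_mul_normalizer p hx hpp H hxH
    obtain ⟨n', hn1', hn2'⟩ := card_eq_mul_normalizer p hx hpp ⊤ (mem_top x)
    rw [inf_eq_left.mpr hN] at hn2
    rw [inf_top_eq, Subgroup.card_top, hd, hn2] at hn2'
    have hpos : 0 < Nat.card ↥(normalizer (zpowers x : Set GT)) := Nat.card_pos
    have he : n * d = n' := Nat.eq_of_mul_eq_mul_right hpos (by rw [← hn2']; ring)
    have : n' % p = d % p := by rw [← he, Nat.mul_mod, hn1, one_mul, Nat.mod_mod]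
    omega
  have h23 := hdmod 23 gA orderOf_gA p23 hA hNA
  have h11 := hdmod 11 gB orderOf_gB p11 hB hNB
  obtain ⟨j, hj⟩ := Subgroup.card_dvd_of_le hMH
  rw [card_MT] at hj
  have hdd : d ∣ 4147200 := by
    refine ⟨j, Nat.eq_of_mul_eq_mul_left (show 0 < 10200960 by norm_num) ?_⟩
    rw [show 10200960 * 4147200 = Nat.card GT by rw [card_GT], hd, hj]
    ring
  rcases step_large d hdd h23 h11 with rfl | hbad
  · exact Subgroup.eq_top_of_card_eq _ (by rw [hd, mul_one])
  · exfalso
    set H' : Subgroup Co0 := H.map GT.subtype with hH'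
    have hcard' : Nat.card H' = Nat.card H :=
      (Nat.card_congr (H.equivMapOfInjective GT.subtype GT.subtype_injective).toEquiv).symm
    set S : Subgroup Co0 := H' ⊓ MulAction.stabilizer Co0 (latE none) with hS
    have hfac : Nat.card H' = (MulAction.orbit H' (latE none)).ncard * Nat.card S := by
      have hmap : (MulAction.stabilizer H' (latE none)).map H'.subtype = S := by
        ext σ
        simp only [hS, Subgroup.mem_map, Subgroup.mem_inf, MulAction.mem_stabilizer_iff]
        constructor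
        · rintro ⟨τ, hτ, rfl⟩; exact ⟨τ.2, hτ⟩
        · rintro ⟨hσ, hp⟩; exact ⟨⟨σ, hσ⟩, hp, rfl⟩
      rw [← hmap, ← Nat.card_congr ((MulAction.stabilizer H' (latE none)).equivMapOfInjective H'.subtype
        H'.subtype_injective).toEquiv, ← MulAction.index_stabilizer, Subgroup.index_mul_card]
    have hSge : 10200960 ≤ Nat.card S := by
      have hle : MT.map GT.subtype ≤ S := by
        rintro _ ⟨g, hg, rfl⟩
        refine ⟨⟨g, hMH hg, rfl⟩, ?_⟩
        obtain ⟨τ, rfl⟩ := hg
        show ((emb τ : GT) : Co0) • latE none = latE none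
        rw [coe_emb, permW_latE]
        exact congrArg latE ((mem_fixPts.mp τ.2).2 none (by simp))
      have := co0_finite
      refine le_trans (le_of_eq ?_) (Nat.card_le_card_of_injective _ (Subgroup.inclusion_injective hle))
      rw [← card_MT]
      exact Nat.card_congr (MT.equivMapOfInjective GT.subtype GT.subtype_injective).toEquiv
    have horb : 2116 ≤ (MulAction.orbit H' (latE none)).ncard := by
      have := co0_finite
      have hS : gS ∈ H := hMH gS_mem
      have hmem : ∀ w, ∃ g ∈ H, vecList (((g : Co0) • latE none : leechLattice) : GolayPt → ℤ) =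
          applyTab w (stepC (unitList 23)) := by
        intro w
        induction w with
        | nil => exact ⟨gC, hC, by rw [acts_gC, show (none : GolayPt) = pt 23 from rfl, vecList_latE]; rfl⟩
        | cons kr w ih =>
          obtain ⟨g, hg, he⟩ := ih
          refine ⟨gA ^ kr.2 * (gS * (gA ^ kr.1 * g)),
            mul_mem (pow_mem hA _) (mul_mem hS (mul_mem (pow_mem hA _) hg)), ?_⟩
          rw [Subgroup.coe_mul, mul_smul, acts_gA_pow, Subgroup.coe_mul, mul_smul, acts_gS_perm, Subgroup.coe_mul,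
            mul_smul, acts_gA_pow, he]
          rfl
      choose gw hgw hew using hmem
      let F : Fin 23 × Fin 92 → leechLattice := fun q =>
        ((gA ^ q.1.val * gw (orbTab.getD q.2.val []) : GT) : Co0) • latE none
      have hF : ∀ q, vecList ((F q : leechLattice) : GolayPt → ℤ) =
          shiftL q.1.val (applyTab (orbTab.getD q.2.val []) (stepC (unitList 23))) := fun q => by
        rw [← hew]
        show vecList ((((gA ^ q.1.val * gw _ : GT) : Co0) • latE none : leechLattice) : GolayPt → ℤ) = _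
        rw [Subgroup.coe_mul, mul_smul, acts_gA_pow]
        rfl
      have hinj : Function.Injective F := by
        rintro ⟨i, j⟩ ⟨i', j'⟩ heq
        have e1 := congrArg (fun w : leechLattice => (vecList (w : GolayPt → ℤ)).idxOf (4 : ℤ)) heq
        simp only [hF, orbTab_pos] at e1
        obtain rfl : i = i' := Fin.ext e1
        simp only [F, Subgroup.coe_mul, mul_smul] at heq
        have e2 := congrArg (fun w : leechLattice => vecList (w : GolayPt → ℤ)) (MulAction.injective _ heq)
        simp only [hew] at e2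
        have hnd := List.nodup_iff_injective_get.mp orbTab_nodup
        have hj1 : j.val < orbTab.length := by rw [orbTab_length]; exact j.isLt
        have hj2 : j'.val < orbTab.length := by rw [orbTab_length]; exact j'.isLt
        rw [List.getD_eq_getElem _ _ hj1, List.getD_eq_getElem _ _ hj2] at e2
        have h := @hnd ⟨j.val, by simpa using hj1⟩ ⟨j'.val, by simpa using hj2⟩ (by simpa using e2)
        simp only [Fin.mk.injEq] at h
        exact Prod.ext rfl (Fin.ext h)
      have hsub : Set.range F ⊆ MulAction.orbit H' (latE none) := by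
        rintro _ ⟨q, rfl⟩
        exact MulAction.mem_orbit_iff.mpr ⟨⟨_, gA ^ q.1.val * gw _, mul_mem (pow_mem hA _) (hgw _), rfl⟩, rfl⟩
      have h := Set.ncard_le_ncard hsub (Set.finite_range _)
      rwa [Set.ncard_range_of_injective hinj, Nat.card_prod, Nat.card_eq_fintype_card, Nat.card_eq_fintype_card,
        Fintype.card_fin, Fintype.card_fin] at h
    have h1 : 2116 * 10200960 ≤ Nat.card H := by
      rw [← hcard', hfac]; exact Nat.mul_le_mul horb hSge
    rw [card_GT] at hd
    rcases hbad with rfl | rfl <;> omega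

end CfsgLib.Sporadic.Conway.TwoOut
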