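import Cfsg.Agent.Lib.Sporadic.ConwayTwoGen

/-!
# The second Conway group has no outer automorphisms
-/

set_option autoImplicit false
set_option Elab.async false

namespace CfsgLib.Sporadic.Conway.TwoOut

open Cfsg CfsgLib.Golay CfsgLib.MonsterType CfsgLib.LeechEight Subgroup
open scoped Pointwise
open ThreeOut (stepB permL isId wordFun genFun card_out_congr)

theorem acts_word {x y z : GT} {fA fB fC : List ℤ → List ℤ} (hx : Acts x fA) (hy : Acts y fB)
    (hz : Acts z fC) : ∀ w, Acts (CfsgLib.Schur.evalThree x y z w) (wordFun fA fB fC w)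
  | [] => acts_one
  | i :: w => by
    refine acts_mul ?_ (acts_word hx hy hz w)
    rcases i with _ | _ | _ | i
    exacts [hx, hy, hz, by simpa [genFun] using acts_one]

/-- The relations. -/
def relList : List (List ℕ × ℕ) := [([0, 0, 2], 11), ([0, 1, 1, 0, 2, 0, 2], 18)]

/-- The failing relation test for one candidate pair of exponents. -/
def badChk (j i : ℕ) : Bool :=
  relList.all fun r => isId (wordFun (permL (shiftPows.getD ((23 - j % 23) % 23) [])) stepB
    (stepC ∘ permL (doublePows.getD ((11 - i % 11) % 11) [])) r.1)^[r.2]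

theorem badChk_1_1 : badChk 1 1 = false := by decide +kernel
theorem badChk_1_2 : badChk 1 2 = false := by decide +kernel
theorem badChk_1_3 : badChk 1 3 = false := by decide +kernel
theorem badChk_1_4 : badChk 1 4 = false := by decide +kernel
theorem badChk_1_5 : badChk 1 5 = false := by decide +kernel
theorem badChk_1_6 : badChk 1 6 = false := by decide +kernel
theorem badChk_1_7 : badChk 1 7 = false := by decide +kernel
theorem badChk_1_8 : badChk 1 8 = false := by decide +kernel
theorem badChk_1_9 : badChk 1 9 = false := by decide +kernel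
theorem badChk_1_10 : badChk 1 10 = false := by decide +kernel
theorem badChk_22_0 : badChk 22 0 = false := by decide +kernel
theorem badChk_22_1 : badChk 22 1 = false := by decide +kernel
theorem badChk_22_2 : badChk 22 2 = false := by decide +kernel
theorem badChk_22_3 : badChk 22 3 = false := by decide +kernel
theorem badChk_22_4 : badChk 22 4 = false := by decide +kernel
theorem badChk_22_5 : badChk 22 5 = false := by decide +kernel
theorem badChk_22_6 : badChk 22 6 = false := by decide +kernel
theorem badChk_22_7 : badChk 22 7 = false := by decide +kernel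
theorem badChk_22_8 : badChk 22 8 = false := by decide +kernel
theorem badChk_22_9 : badChk 22 9 = false := by decide +kernel
theorem badChk_22_10 : badChk 22 10 = false := by decide +kernel

theorem badChk_false : ∀ j ∈ [1, 22], ∀ i : Fin 11, ¬ (j = 1 ∧ i.val = 0) → badChk j i.val = false := by
  intro j hj i hne
  rcases List.mem_cons.1 hj with rfl | hj
  · match i with
    | ⟨0, _⟩ => exact absurd ⟨rfl, rfl⟩ hne
    | ⟨1, _⟩ => exact badChk_1_1
    | ⟨2, _⟩ => exact badChk_1_2
    | ⟨3, _⟩ => exact badChk_1_3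
    | ⟨4, _⟩ => exact badChk_1_4
    | ⟨5, _⟩ => exact badChk_1_5
    | ⟨6, _⟩ => exact badChk_1_6
    | ⟨7, _⟩ => exact badChk_1_7
    | ⟨8, _⟩ => exact badChk_1_8
    | ⟨9, _⟩ => exact badChk_1_9
    | ⟨10, _⟩ => exact badChk_1_10
    | ⟨n + 11, h⟩ => exact absurd h (by omega)
  · rw [List.mem_singleton] at hj
    subst hj
    match i with
    | ⟨0, _⟩ => exact badChk_22_0
    | ⟨1, _⟩ => exact badChk_22_1
    | ⟨2, _⟩ => exact badChk_22_2
    | ⟨3, _⟩ => exact badChk_22_3
    | ⟨4, _⟩ => exact badChk_22_4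
    | ⟨5, _⟩ => exact badChk_22_5
    | ⟨6, _⟩ => exact badChk_22_6
    | ⟨7, _⟩ => exact badChk_22_7
    | ⟨8, _⟩ => exact badChk_22_8
    | ⟨9, _⟩ => exact badChk_22_9
    | ⟨10, _⟩ => exact badChk_22_10
    | ⟨n + 11, h⟩ => exact absurd h (by omega)

/-- The relation test at one base position. -/
def relChk (r : List ℕ × ℕ) (n : ℕ) : Bool :=
  (wordFun ThreeOut.stepA stepB stepC r.1)^[r.2] (ThreeOut.unitList (Fin.ofNat 24 n)) ==
    ThreeOut.unitList (Fin.ofNat 24 n)

theorem relChk_23 : relChk ([0, 1, 1, 0, 2, 0, 2], 18) 23 = true := by decide +kernel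
theorem relChk_0 : relChk ([0, 1, 1, 0, 2, 0, 2], 18) 0 = true := by decide +kernel
theorem relChk_1 : relChk ([0, 1, 1, 0, 2, 0, 2], 18) 1 = true := by decide +kernel
theorem relChk_2 : relChk ([0, 1, 1, 0, 2, 0, 2], 18) 2 = true := by decide +kernel
theorem relChk_3 : relChk ([0, 1, 1, 0, 2, 0, 2], 18) 3 = true := by decide +kernel
theorem relChk_5 : relChk ([0, 1, 1, 0, 2, 0, 2], 18) 5 = true := by decide +kernel
theorem relChk_4 : relChk ([0, 1, 1, 0, 2, 0, 2], 18) 4 = true := by decide +kernel
theorem rel_first : isId (wordFun ThreeOut.stepA stepB stepC [0, 0, 2])^[11] = true := by decide +kernel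

theorem rel_true : ∀ r ∈ relList, isId (wordFun ThreeOut.stepA stepB stepC r.1)^[r.2] = true := by
  intro r hr
  rcases List.mem_cons.1 hr with rfl | hr
  · exact rel_first
  · rw [List.mem_singleton] at hr
    subst hr
    simp only [isId, List.all_eq_true]
    intro n hn
    simp only [CfsgLib.Golay.basePos, List.mem_cons, List.not_mem_nil, or_false] at hn
    rcases hn with rfl | rfl | rfl | rfl | rfl | rfl | rfl
    · exact relChk_23
    · exact relChk_0
    · exact relChk_1
    · exact relChk_2
    · exact relChk_3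
    · exact relChk_5
    · exact relChk_4

theorem card_out : Nat.card (Cfsg.Out GT) = 1 := by
  classical
  have := finite_GT
  have := Fact.mk (show Nat.Prime 23 by norm_num)
  refine CfsgLib.Schur.card_out_eq_one (CfsgLib.Schur.card_out_le gA gB gC 23 2 10 orderOf_gA
    (by rw [card_GT]; norm_num) (fun x hx => commute_gA_cases hx) conj_gB_gA (by norm_num) [1, 22] ?_
    conj_gC_gB listC (fun x hx => inverts_gB_mem hx) generates relList ?_ [(1, gC)] ?_)
  · intro j hj hj0
    have hall : ∀ j : Fin 23, j.val ≠ 0 → ∃ i : Fin 11, j.val * 2 ^ i.val % 23 ∈ [1, 22] := by decide +kernel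
    obtain ⟨i, hi⟩ := hall ⟨j, hj⟩ hj0
    exact ⟨i.val, hi⟩
  · intro r hr
    rw [eq_one_iff_isId (acts_pow (acts_word acts_gA acts_gB acts_gC r.1) r.2)]
    exact rel_true r hr
  · intro j hj x hx hrel
    simp only [listC, List.mem_map, List.mem_range] at hx
    obtain ⟨i, hi, rfl⟩ := hx
    have hbad : ∀ j ∈ [1, 22], ∀ i : Fin 11, ¬ (j = 1 ∧ i.val = 0) →
        (relList.all fun r => isId (wordFun (permL (shiftPows.getD ((23 - j % 23) % 23) [])) stepB
          (stepC ∘ permL (doublePows.getD ((11 - i.val % 11) % 11) [])) r.1)^[r.2]) = false := badChk_false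
    by_cases hgood : j = 1 ∧ i = 0
    · obtain ⟨rfl, rfl⟩ := hgood
      simp
    · exfalso
      have hf := hbad j hj ⟨i, hi⟩ hgood
      rw [List.all_eq_false] at hf
      obtain ⟨r, hr, hrf⟩ := hf
      exact hrf ((eq_one_iff_isId
        (acts_pow (acts_word (acts_gA_pow j) acts_gB (acts_mul acts_gC (acts_gB_pow i)) r.1) r.2)).mp (hrel r hr))

theorem card_out_sporCo2 : Nat.card (Cfsg.Out Cfsg.Spor.Co2) = 1 := by
  have hn : sqNorm ((Spor.leechU : leechLattice) : GolayPt → ℤ) = 32 := by
    show sqNorm Spor.vecU = 32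
    decide +kernel
  obtain ⟨g, hg⟩ := exists_smul_eq_norm32 sqNorm_lA hn
  obtain ⟨e⟩ := ConwayTwoThree.equiv_of_smul hg
  have hmap : (MulAction.stabilizer Co0 (Spor.leechU : leechLattice)).map Co0.subtype = Spor.Co2 := by
    ext g
    simp only [Subgroup.mem_map, Spor.Co2, Subgroup.mem_inf, MulAction.mem_stabilizer_iff]
    constructor
    · rintro ⟨w, hw, rfl⟩
      exact ⟨w.2, hw⟩
    · rintro ⟨hg, hgv⟩
      exact ⟨⟨g, hg⟩, hgv, rfl⟩
  rw [← card_out_congr (((MulAction.stabilizer Co0 (Spor.leechU : leechLattice)).equivMapOfInjective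
    Co0.subtype Co0.subtype_injective).trans (MulEquiv.subgroupCongr hmap)), card_out_congr e]
  exact card_out

end CfsgLib.Sporadic.Conway.TwoOut
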