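import Cfsg.Agent.Lib.Sporadic.Chain

/-! Generated parents, factorisations and first columns for the transversal of index 2058. -/

set_option autoImplicit false
set_option maxRecDepth 20000

namespace CfsgLib.Sporadic.He

/-- Part of `topPar`. -/
def topPar_p000 : Tr := .node (.node (.node (.node (.node (.node (.node (.node (.node (.leaf 0) (.leaf 1911)) (.leaf 2665)) (.node (.leaf 277) (.leaf 1028))) (.node (.node (.leaf 132) (.leaf 810)) (.node (.leaf 437) (.leaf 3396)))) (.node (.node (.node (.leaf 64) (.leaf 700)) (.node (.leaf 352) (.leaf 3222))) (.node (.node (.leaf 2259) (.leaf 2969)) (.node (.leaf 524) (.leaf 1549))))) (.node (.node (.node (.node (.leaf 2089) (.leaf 2713)) (.node (.leaf 2373) (.leaf 1094))) (.node (.node (.leaf 2223) (.leaf 2920)) (.node (.leaf 2538) (.leaf 1422)))) (.node (.node (.node (.leaf 2155) (.leaf 2816)) (.node (.leaf 2452) (.leaf 3312))) (.node (.node (.leaf 2296) (.leaf 3029)) (.node (.leaf 564) (.leaf 1699)))))) (.node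 (.node (.node (.node (.node (.leaf 2073) (.leaf 2691)) (.node (.leaf 296) (.leaf 3119))) (.node (.node (.leaf 2207) (.leaf 2891)) (.node (.leaf 460) (.leaf 3433)))) (.node (.node (.node (.leaf 2138) (.leaf 2791)) (.node (.leaf 2432) (.leaf 1208))) (.node (.node (.leaf 221) (.leaf 944)) (.node (.leaf 2601) (.leaf 1611))))) (.node (.node (.node (.node (.leaf 48) (.leaf 679)) (.node (.leaf 332) (.leaf 1125))) (.node (.node (.leaf 2241) (.leaf 2945)) (.node (.leaf 2559) (.leaf 3535)))) (.node (.node (.node (.leaf 115) (.leaf 782)) (.node (.leaf 417) (.leaf 1295))) (.node (.node (.leaf 257) (.leaf 3061)) (.node (.leaf 2643) (.leaf 3835))))))) (.node (.node (.node (.node (.node (.node (.leaf 2065) (.leaf 2677)) (.node (.leaf 2343) (.leaf 3098))) (.node (.node (.leaf 140) (.leaf 2878)) (.node (.leaf 450) (.leaf 1358)))) (.node (.node (.node (.leaf 2130) (.leaf 718)) (.node (.leaf 363) (.leaf 3244))) (.node (.node (.leaf 2268) (.leaf 930)) (.node (.leaf 534)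 (.leaf 1578))))) (.node (.node (.node (.node (.leaf 40) (.leaf 2725)) (.node (.leaf 324) (.leaf 3169))) (.node (.node (.leaf 174) (.leaf 875)) (.node (.leaf 491) (.leaf 3501)))) (.node (.node (.node (.leaf 106) (.leaf 770)) (.node (.leaf 406) (.leaf 1272))) (.node (.node (.leaf 2305) (.leaf 3042)) (.node (.leaf 575) (.leaf 1737)))))) (.node (.node (.node (.node (.node (.leaf 2081) (.leaf 644)) (.node (.leaf 2364) (.leaf 1078))) (.node (.node (.leaf 2215) (.leaf 2906)) (.node (.leaf 471) (.leaf 3455)))) (.node (.node (.node (.leaf 89) (.leaf 2805)) (.node (.leaf 385) (.leaf 3290))) (.node (.node (.leaf 2287) (.leaf 3018)) (.node (.leaf 2613) (.leaf 3712))))) (.node (.node (.node (.node (.leaf 56) (.leaf 690)) (.node (.leaf 2399) (.leaf 1147))) (.node (.node (.leaf 193) (.leaf 901)) (.node (.leaf 2571) (.leaf 1502)))) (.node (.node (.node (.leaf 124) (.leaf 795)) (.node (.leaf 2485) (.leaf 1322))) (.node (.node (.leaf 267) (.leaf 1014)) (.node (.leaf 597)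 (.leaf 1836)))))))) (.node (.node (.node (.node (.node (.node (.node (.node (.leaf 2061) (.leaf 4040)) (.leaf 2670)) (.node (.leaf 2339) (.leaf 3091))) (.node (.node (.leaf 136) (.leaf 816)) (.node (.leaf 2500) (.leaf 3407)))) (.node (.node (.node (.leaf 68) (.leaf 2768)) (.node (.leaf 2415) (.leaf 1176))) (.node (.node (.leaf 2263) (.leaf 919)) (.node (.leaf 2586) (.leaf 3623))))) (.node (.node (.node (.node (.leaf 36) (.leaf 2719)) (.node (.leaf 320) (.leaf 1103))) (.node (.node (.leaf 170) (.leaf 869)) (.node (.leaf 485) (.leaf 3488)))) (.node (.node (.node (.leaf 102) (.leaf 763)) (.node (.leaf 2457) (.leaf 1264))) (.node (.node (.leaf 243) (.leaf 3035)) (.node (.leaf 568) (.leaf 3771)))))) (.node (.node (.node (.node (.node (.leaf 2077) (.leaf 2696)) (.node (.leaf 301) (.leaf 1072))) (.node (.node (.leaf 2211) (.leaf 2898)) (.node (.leaf 2524) (.leaf 1390)))) (.node (.node (.node (.leaf 85) (.leaf 2800)) (.node (.leaf 2437) (.leaf 3281))) (.node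 (.node (.leaf 2283) (.leaf 952)) (.node (.leaf 550) (.leaf 1634))))) (.node (.node (.node (.node (.leaf 52) (.leaf 2741)) (.node (.leaf 2395) (.leaf 1139))) (.node (.node (.leaf 188) (.leaf 2951)) (.node (.leaf 507) (.leaf 1490)))) (.node (.node (.node (.leaf 2177) (.leaf 789)) (.node (.leaf 2481) (.leaf 3365))) (.node (.node (.leaf 2319) (.leaf 3066)) (.node (.leaf 2648) (.leaf 3858))))))) (.node (.node (.node (.node (.node (.node (.leaf 2069) (.leaf 2683)) (.node (.leaf 292) (.leaf 1051))) (.node (.node (.leaf 145) (.leaf 2885)) (.node (.leaf 455) (.leaf 1365)))) (.node (.node (.node (.leaf 2134) (.leaf 725)) (.node (.leaf 2427) (.leaf 1195))) (.node (.node (.leaf 217) (.leaf 2993)) (.node (.leaf 539) (.leaf 1599))))) (.node (.node (.node (.node (.leaf 44) (.leaf 674)) (.node (.leaf 328) (.leaf 3176))) (.node (.node (.leaf 179) (.leaf 882)) (.node (.leaf 2553) (.leaf 1457)))) (.node (.node (.node (.leaf 2168) (.leaf 2832)) (.node (.leaf 2468) (.leaf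 1283))) (.node (.node (.leaf 2310) (.leaf 995)) (.node (.leaf 580) (.leaf 3814)))))) (.node (.node (.node (.node (.node (.leaf 2085) (.leaf 649)) (.node (.leaf 311) (.leaf 3144))) (.node (.node (.leaf 2219) (.leaf 2914)) (.node (.leaf 476) (.leaf 3470)))) (.node (.node (.node (.leaf 2151) (.leaf 2811)) (.node (.leaf 389) (.leaf 3301))) (.node (.node (.leaf 234) (.leaf 966)) (.node (.leaf 560) (.leaf 3732))))) (.node (.node (.node (.node (.leaf 60) (.leaf 2752)) (.node (.leaf 2404) (.leaf 3213))) (.node (.node (.leaf 2255) (.leaf 906)) (.node (.leaf 2577) (.leaf 3577)))) (.node (.node (.node (.leaf 128) (.leaf 2858)) (.node (.leaf 2490) (.leaf 1331))) (.node (.node (.leaf 272) (.leaf 3078)) (.node (.leaf 2659) (.leaf 1874))))))))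

/-- Part of `topPar`. -/
def topPar_p001 : Tr := .node (.node (.node (.node (.node (.node (.node (.node (.node (.leaf 2059) (.leaf 3991)) (.leaf 610)) (.node (.leaf 2337) (.leaf 1030))) (.node (.node (.leaf 134) (.leaf 2870)) (.node (.leaf 2498) (.leaf 3404)))) (.node (.node (.node (.leaf 66) (.leaf 705)) (.node (.leaf 2412) (.leaf 3227))) (.node (.node (.leaf 2261) (.leaf 2973)) (.node (.leaf 526) (.leaf 3613))))) (.node (.node (.node (.node (.leaf 2091) (.leaf 658)) (.node (.leaf 318) (.leaf 3157))) (.node (.node (.leaf 168) (.leaf 2922)) (.node (.leaf 2540) (.leaf 3483)))) (.node (.node (.node (.leaf 2157) (.leaf 761)) (.node (.leaf 397) (.leaf 3316))) (.node (.node (.leaf 2298) (.leaf 974)) (.node (.leaf 566) (.leaf 1702)))))) (.node (.node (.node (.node (.node (.leaf 2075) (.leaf 636)) (.node (.leaf 299) (.leaf 3123))) (.node (.node (.leaf 2209) (.leaf 2895)) (.node (.leaf 2522) (.leaf 1382)))) (.node (.node (.node (.leaf 83) (.leaf 2796)) (.node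 (.leaf 2435) (.leaf 3274))) (.node (.node (.leaf 223) (.leaf 3004)) (.node (.leaf 548) (.leaf 3684))))) (.node (.node (.node (.node (.leaf 50) (.leaf 2739)) (.node (.leaf 335) (.leaf 3190))) (.node (.node (.leaf 2243) (.leaf 891)) (.node (.leaf 2562) (.leaf 1482)))) (.node (.node (.node (.leaf 2175) (.leaf 786)) (.node (.leaf 421) (.leaf 1302))) (.node (.node (.leaf 259) (.leaf 1006)) (.node (.leaf 588) (.leaf 3855))))))) (.node (.node (.node (.node (.node (.node (.leaf 2067) (.leaf 622)) (.node (.leaf 290) (.leaf 3102))) (.node (.node (.leaf 2200) (.leaf 2882)) (.node (.leaf 453) (.leaf 3419)))) (.node (.node (.node (.leaf 2132) (.leaf 721)) (.node (.leaf 2424) (.leaf 3248))) (.node (.node (.leaf 215) (.leaf 2990)) (.node (.leaf 537) (.leaf 1589))))) (.node (.node (.node (.node (.leaf 42) (.leaf 2729)) (.node (.leaf 326) (.leaf 3174))) (.node (.node (.leaf 2234) (.leaf 2935)) (.node (.leaf 493) (.leaf 1448)))) (.node (.node (.node (.leaf 108) (.leaf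 2830)) (.node (.leaf 2466) (.leaf 1279))) (.node (.node (.leaf 2308) (.leaf 3049)) (.node (.leaf 2635) (.leaf 3803)))))) (.node (.node (.node (.node (.node (.leaf 2083) (.leaf 647)) (.node (.leaf 2366) (.leaf 3140))) (.node (.node (.leaf 2217) (.leaf 852)) (.node (.leaf 474) (.leaf 1408)))) (.node (.node (.node (.leaf 2149) (.leaf 751)) (.node (.leaf 387) (.leaf 1237))) (.node (.node (.leaf 2289) (.leaf 3021)) (.node (.leaf 558) (.leaf 3725))))) (.node (.node (.node (.node (.leaf 58) (.leaf 2750)) (.node (.leaf 344) (.leaf 1151))) (.node (.node (.leaf 195) (.leaf 2961)) (.node (.leaf 2575) (.leaf 3569)))) (.node (.node (.node (.leaf 126) (.leaf 2855)) (.node (.leaf 2488) (.leaf 3385))) (.node (.node (.leaf 2327) (.leaf 1018)) (.node (.leaf 2657) (.leaf 3903)))))))) (.node (.node (.node (.node (.node (.node (.node (.leaf 2063) (.leaf 2674)) (.node (.leaf 2341) (.leaf 1037))) (.node (.node (.leaf 138) (.leaf 2876)) (.node (.leaf 2503) (.leaf 3412)))) (.node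 (.node (.node (.leaf 2128) (.leaf 2772)) (.node (.leaf 2418) (.leaf 1183))) (.node (.node (.leaf 208) (.leaf 2982)) (.node (.leaf 2589) (.leaf 1573))))) (.node (.node (.node (.node (.leaf 38) (.leaf 2722)) (.node (.leaf 322) (.leaf 3165))) (.node (.node (.leaf 172) (.leaf 872)) (.node (.leaf 2546) (.leaf 1440)))) (.node (.node (.node (.leaf 104) (.leaf 767)) (.node (.leaf 403) (.leaf 1267))) (.node (.node (.leaf 245) (.leaf 3039)) (.node (.leaf 2629) (.leaf 3783)))))) (.node (.node (.node (.node (.node (.leaf 2079) (.leaf 2699)) (.node (.leaf 2361) (.leaf 1075))) (.node (.node (.leaf 2213) (.leaf 2902)) (.node (.leaf 2526) (.leaf 1395)))) (.node (.node (.node (.leaf 87) (.leaf 2803)) (.node (.leaf 2440) (.leaf 1227))) (.node (.node (.leaf 2285) (.leaf 3014)) (.node (.leaf 2610) (.leaf 3700))))) (.node (.node (.node (.node (.leaf 54) (.leaf 687)) (.node (.leaf 2397) (.leaf 3201))) (.node (.node (.leaf 2248) (.leaf 898)) (.node (.leaf 510) (.leaf 1494))))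 (.node (.node (.node (.leaf 2179) (.leaf 792)) (.node (.leaf 2483) (.leaf 3374))) (.node (.node (.leaf 2322) (.leaf 1012)) (.node (.leaf 594) (.leaf 1812))))))) (.node (.node (.node (.node (.node (.node (.leaf 2071) (.leaf 2689)) (.node (.leaf 294) (.leaf 3113))) (.node (.node (.leaf 147) (.leaf 2889)) (.node (.leaf 457) (.leaf 3427)))) (.node (.node (.node (.leaf 2136) (.leaf 2789)) (.node (.leaf 2430) (.leaf 3257))) (.node (.node (.leaf 219) (.leaf 2998)) (.node (.leaf 2599) (.leaf 1605))))) (.node (.node (.node (.node (.leaf 46) (.leaf 676)) (.node (.leaf 330) (.leaf 3178))) (.node (.node (.leaf 181) (.leaf 2942)) (.node (.leaf 2555) (.leaf 1469)))) (.node (.node (.node (.leaf 2170) (.leaf 777)) (.node (.leaf 2471) (.leaf 3349))) (.node (.node (.leaf 2312) (.leaf 3057)) (.node (.leaf 583) (.leaf 1761)))))) (.node (.node (.node (.node (.node (.leaf 2087) (.leaf 653)) (.node (.leaf 2371) (.leaf 3148))) (.node (.node (.leaf 2221) (.leaf 2917)) (.node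 (.leaf 478) (.leaf 3475)))) (.node (.node (.node (.leaf 2153) (.leaf 756)) (.node (.leaf 2449) (.leaf 1248))) (.node (.node (.leaf 236) (.leaf 3026)) (.node (.leaf 562) (.leaf 1683))))) (.node (.node (.node (.node (.leaf 62) (.leaf 2754)) (.node (.leaf 2407) (.leaf 1158))) (.node (.node (.leaf 2257) (.leaf 2966)) (.node (.leaf 522) (.leaf 3595)))) (.node (.node (.node (.leaf 130) (.leaf 805)) (.node (.leaf 435) (.leaf 3392))) (.node (.node (.leaf 274) (.leaf 1024)) (.node (.leaf 2662) (.leaf 3941))))))))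

/-- Part of `topPar`. -/
def topPar_p010 : Tr := .node (.node (.node (.node (.node (.node (.node (.node (.node (.leaf 2058) (.leaf 3972)) (.leaf 609)) (.node (.leaf 278) (.leaf 1029))) (.node (.node (.leaf 133) (.leaf 811)) (.node (.leaf 439) (.leaf 1345)))) (.node (.node (.node (.leaf 65) (.leaf 701)) (.node (.leaf 353) (.leaf 3225))) (.node (.node (.leaf 2260) (.leaf 913)) (.node (.leaf 525) (.leaf 1552))))) (.node (.node (.node (.node (.leaf 2090) (.leaf 657)) (.node (.leaf 2374) (.leaf 1098))) (.node (.node (.leaf 2224) (.leaf 2921)) (.node (.leaf 2539) (.leaf 3482)))) (.node (.node (.node (.leaf 2156) (.leaf 2817)) (.node (.leaf 2453) (.leaf 3314))) (.node (.node (.leaf 2297) (.leaf 3030)) (.node (.leaf 565) (.leaf 1701)))))) (.node (.node (.node (.node (.node (.leaf 2074) (.leaf 2692)) (.node (.leaf 298) (.leaf 3121))) (.node (.node (.leaf 2208) (.leaf 2893)) (.node (.leaf 463) (.leaf 3436)))) (.node (.node (.node (.leaf 82) (.leaf 2794)) (.node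 (.leaf 2433) (.leaf 1214))) (.node (.node (.leaf 222) (.leaf 945)) (.node (.leaf 546) (.leaf 3674))))) (.node (.node (.node (.node (.leaf 49) (.leaf 680)) (.node (.leaf 2391) (.leaf 1130))) (.node (.node (.leaf 2242) (.leaf 890)) (.node (.leaf 2561) (.leaf 3537)))) (.node (.node (.node (.leaf 116) (.leaf 784)) (.node (.leaf 2476) (.leaf 3354))) (.node (.node (.leaf 258) (.leaf 3062)) (.node (.leaf 587) (.leaf 1794))))))) (.node (.node (.node (.node (.node (.node (.leaf 2066) (.leaf 621)) (.node (.leaf 288) (.leaf 1043))) (.node (.node (.leaf 141) (.leaf 2880)) (.node (.leaf 2509) (.leaf 3418)))) (.node (.node (.node (.leaf 2131) (.leaf 720)) (.node (.leaf 364) (.leaf 1189))) (.node (.node (.leaf 2269) (.leaf 2989)) (.node (.leaf 2593) (.leaf 3644))))) (.node (.node (.node (.node (.leaf 41) (.leaf 2727)) (.node (.leaf 325) (.leaf 1115))) (.node (.node (.leaf 175) (.leaf 2934)) (.node (.leaf 492) (.leaf 3502)))) (.node (.node (.node (.leaf 107) (.leaf 771))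 (.node (.leaf 407) (.leaf 1274))) (.node (.node (.leaf 2307) (.leaf 3045)) (.node (.leaf 576) (.leaf 3799)))))) (.node (.node (.node (.node (.node (.leaf 2082) (.leaf 646)) (.node (.leaf 2365) (.leaf 1080))) (.node (.node (.leaf 2216) (.leaf 2907)) (.node (.leaf 2530) (.leaf 3462)))) (.node (.node (.node (.leaf 90) (.leaf 750)) (.node (.leaf 386) (.leaf 1235))) (.node (.node (.leaf 2288) (.leaf 962)) (.node (.leaf 557) (.leaf 1663))))) (.node (.node (.node (.node (.leaf 57) (.leaf 691)) (.node (.leaf 2400) (.leaf 3206))) (.node (.node (.leaf 194) (.leaf 2960)) (.node (.leaf 2572) (.leaf 3568)))) (.node (.node (.node (.leaf 125) (.leaf 2854)) (.node (.leaf 2487) (.leaf 1324))) (.node (.node (.leaf 2326) (.leaf 3073)) (.node (.leaf 598) (.leaf 3898)))))))) (.node (.node (.node (.node (.node (.node (.node (.leaf 2062) (.leaf 2672)) (.node (.leaf 2340) (.leaf 3093))) (.node (.node (.leaf 137) (.leaf 817)) (.node (.leaf 2501) (.leaf 1351)))) (.node (.node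 (.node (.leaf 2127) (.leaf 2770)) (.node (.leaf 359) (.leaf 1180))) (.node (.node (.leaf 207) (.leaf 2980)) (.node (.leaf 530) (.leaf 1567))))) (.node (.node (.node (.node (.leaf 37) (.leaf 2720)) (.node (.leaf 321) (.leaf 1106))) (.node (.node (.leaf 171) (.leaf 870)) (.node (.leaf 486) (.leaf 3495)))) (.node (.node (.node (.leaf 103) (.leaf 765)) (.node (.leaf 2458) (.leaf 3323))) (.node (.node (.leaf 244) (.leaf 980)) (.node (.leaf 2627) (.leaf 3779)))))) (.node (.node (.node (.node (.node (.leaf 2078) (.leaf 2697)) (.node (.leaf 2360) (.leaf 3131))) (.node (.node (.leaf 2212) (.leaf 2899)) (.node (.leaf 2525) (.leaf 1393)))) (.node (.node (.node (.leaf 86) (.leaf 744)) (.node (.leaf 2438) (.leaf 3283))) (.node (.node (.leaf 2284) (.leaf 3013)) (.node (.leaf 2609) (.leaf 1641))))) (.node (.node (.node (.node (.leaf 53) (.leaf 2743)) (.node (.leaf 2396) (.leaf 1140))) (.node (.node (.leaf 2247) (.leaf 2952)) (.node (.leaf 2566) (.leaf 3549)))) (.node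 (.node (.node (.leaf 2178) (.leaf 2848)) (.node (.leaf 2482) (.leaf 1310))) (.node (.node (.leaf 263) (.leaf 1010)) (.node (.leaf 592) (.leaf 3866))))))) (.node (.node (.node (.node (.node (.node (.leaf 2070) (.leaf 2686)) (.node (.leaf 293) (.leaf 3112))) (.node (.node (.leaf 146) (.leaf 2887)) (.node (.leaf 456) (.leaf 3425)))) (.node (.node (.node (.leaf 2135) (.leaf 2785)) (.node (.leaf 371) (.leaf 3255))) (.node (.node (.leaf 218) (.leaf 938)) (.node (.leaf 540) (.leaf 1603))))) (.node (.node (.node (.node (.leaf 45) (.leaf 675)) (.node (.leaf 329) (.leaf 3177))) (.node (.node (.leaf 180) (.leaf 2941)) (.node (.leaf 2554) (.leaf 3524)))) (.node (.node (.node (.leaf 2169) (.leaf 776)) (.node (.leaf 2470) (.leaf 3343))) (.node (.node (.leaf 2311) (.leaf 998)) (.node (.leaf 2639) (.leaf 3815)))))) (.node (.node (.node (.node (.node (.leaf 2086) (.leaf 650)) (.node (.leaf 2370) (.leaf 1088))) (.node (.node (.leaf 2220) (.leaf 2916)) (.node (.leaf 477)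 (.leaf 3473)))) (.node (.node (.node (.leaf 2152) (.leaf 755)) (.node (.leaf 390) (.leaf 1245))) (.node (.node (.leaf 235) (.leaf 3025)) (.node (.leaf 561) (.leaf 1677))))) (.node (.node (.node (.node (.leaf 61) (.leaf 2753)) (.node (.leaf 348) (.leaf 3214))) (.node (.node (.leaf 2256) (.leaf 2965)) (.node (.leaf 521) (.leaf 3584)))) (.node (.node (.node (.leaf 129) (.leaf 804)) (.node (.leaf 434) (.leaf 1332))) (.node (.node (.leaf 273) (.leaf 3080)) (.node (.leaf 2660) (.leaf 3935))))))))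

/-- Part of `topPar`. -/
def topPar_p011 : Tr := .node (.node (.node (.node (.node (.node (.node (.node (.node (.leaf 2060) (.leaf 3998)) (.leaf 2669)) (.node (.leaf 2338) (.leaf 1032))) (.node (.node (.leaf 135) (.leaf 2872)) (.node (.leaf 2499) (.leaf 1348)))) (.node (.node (.node (.leaf 67) (.leaf 2764)) (.node (.leaf 2414) (.leaf 1174))) (.node (.node (.leaf 2262) (.leaf 2975)) (.node (.leaf 527) (.leaf 1560))))) (.node (.node (.node (.node (.leaf 2092) (.leaf 659)) (.node (.leaf 319) (.leaf 1101))) (.node (.node (.leaf 169) (.leaf 2924)) (.node (.leaf 2541) (.leaf 3485)))) (.node (.node (.node (.leaf 101) (.leaf 762)) (.node (.leaf 2456) (.leaf 1261))) (.node (.node (.leaf 2299) (.leaf 3033)) (.node (.leaf 567) (.leaf 3762)))))) (.node (.node (.node (.node (.node (.leaf 2076) (.leaf 637)) (.node (.leaf 300) (.leaf 3125))) (.node (.node (.leaf 2210) (.leaf 839)) (.node (.leaf 2523) (.leaf 1388)))) (.node (.node (.node (.leaf 84) (.leaf 2797)) (.node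 (.leaf 2436) (.leaf 3279))) (.node (.node (.leaf 2282) (.leaf 3005)) (.node (.leaf 549) (.leaf 3687))))) (.node (.node (.node (.node (.leaf 51) (.leaf 2740)) (.node (.leaf 336) (.leaf 1134))) (.node (.node (.leaf 2244) (.leaf 892)) (.node (.leaf 2563) (.leaf 1483)))) (.node (.node (.node (.leaf 2176) (.leaf 2845)) (.node (.leaf 2480) (.leaf 1306))) (.node (.node (.leaf 260) (.leaf 3065)) (.node (.leaf 2647) (.leaf 3856))))))) (.node (.node (.node (.node (.node (.node (.leaf 2068) (.leaf 2681)) (.node (.leaf 291) (.leaf 3106))) (.node (.node (.leaf 2201) (.leaf 2883)) (.node (.leaf 454) (.leaf 3421)))) (.node (.node (.node (.leaf 2133) (.leaf 2781)) (.node (.leaf 2426) (.leaf 3250))) (.node (.node (.leaf 216) (.leaf 934)) (.node (.leaf 538) (.leaf 3652))))) (.node (.node (.node (.node (.leaf 43) (.leaf 673)) (.node (.leaf 327) (.leaf 3175))) (.node (.node (.leaf 2235) (.leaf 880)) (.node (.leaf 494) (.leaf 1454)))) (.node (.node (.node (.leaf 2167) (.leaf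 2831)) (.node (.leaf 2467) (.leaf 1282))) (.node (.node (.leaf 2309) (.leaf 3050)) (.node (.leaf 2636) (.leaf 3810)))))) (.node (.node (.node (.node (.node (.leaf 2084) (.leaf 648)) (.node (.leaf 310) (.leaf 3143))) (.node (.node (.leaf 2218) (.leaf 853)) (.node (.leaf 475) (.leaf 3467)))) (.node (.node (.node (.leaf 2150) (.leaf 752)) (.node (.leaf 388) (.leaf 1240))) (.node (.node (.leaf 2290) (.leaf 3022)) (.node (.leaf 559) (.leaf 3730))))) (.node (.node (.node (.node (.leaf 59) (.leaf 2751)) (.node (.leaf 345) (.leaf 3212))) (.node (.node (.leaf 2254) (.leaf 2962)) (.node (.leaf 2576) (.leaf 3572)))) (.node (.node (.node (.leaf 127) (.leaf 2857)) (.node (.leaf 2489) (.leaf 1330))) (.node (.node (.leaf 271) (.leaf 3077)) (.node (.leaf 2658) (.leaf 1852)))))))) (.node (.node (.node (.node (.node (.node (.node (.leaf 2064) (.leaf 618)) (.node (.leaf 2342) (.leaf 1038))) (.node (.node (.leaf 139) (.leaf 2877)) (.node (.leaf 447) (.leaf 1357)))) (.node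 (.node (.node (.leaf 2129) (.leaf 2773)) (.node (.leaf 362) (.leaf 1185))) (.node (.node (.leaf 209) (.leaf 2986)) (.node (.leaf 533) (.leaf 3632))))) (.node (.node (.node (.node (.leaf 39) (.leaf 2723)) (.node (.leaf 323) (.leaf 3166))) (.node (.node (.leaf 173) (.leaf 874)) (.node (.leaf 490) (.leaf 1441)))) (.node (.node (.node (.leaf 105) (.leaf 768)) (.node (.leaf 404) (.leaf 1268))) (.node (.node (.leaf 2304) (.leaf 3040)) (.node (.leaf 2631) (.leaf 3788)))))) (.node (.node (.node (.node (.node (.leaf 2080) (.leaf 2700)) (.node (.leaf 305) (.leaf 1076))) (.node (.node (.leaf 2214) (.leaf 2904)) (.node (.leaf 470) (.leaf 1396)))) (.node (.node (.node (.leaf 88) (.leaf 2804)) (.node (.leaf 384) (.leaf 3289))) (.node (.node (.leaf 2286) (.leaf 3015)) (.node (.leaf 2611) (.leaf 3704))))) (.node (.node (.node (.node (.leaf 55) (.leaf 689)) (.node (.leaf 2398) (.leaf 1146))) (.node (.node (.leaf 2249) (.leaf 899)) (.node (.leaf 511) (.leaf 3558)))) (.node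 (.node (.node (.leaf 2180) (.leaf 794)) (.node (.leaf 2484) (.leaf 3376))) (.node (.node (.leaf 266) (.leaf 1013)) (.node (.leaf 2653) (.leaf 1831))))))) (.node (.node (.node (.node (.node (.node (.leaf 2072) (.leaf 2690)) (.node (.leaf 295) (.leaf 1060))) (.node (.node (.leaf 2206) (.leaf 2890)) (.node (.leaf 458) (.leaf 3431)))) (.node (.node (.node (.leaf 2137) (.leaf 2790)) (.node (.leaf 2431) (.leaf 1203))) (.node (.node (.leaf 220) (.leaf 3000)) (.node (.leaf 2600) (.leaf 3666))))) (.node (.node (.node (.node (.leaf 47) (.leaf 677)) (.node (.leaf 331) (.leaf 3180))) (.node (.node (.leaf 182) (.leaf 2944)) (.node (.leaf 500) (.leaf 1473)))) (.node (.node (.node (.leaf 114) (.leaf 2838)) (.node (.leaf 2472) (.leaf 3351))) (.node (.node (.leaf 2313) (.leaf 1001)) (.node (.leaf 584) (.leaf 1768)))))) (.node (.node (.node (.node (.node (.leaf 2088) (.leaf 654)) (.node (.leaf 2372) (.leaf 3150))) (.node (.node (.leaf 2222) (.leaf 861)) (.node (.leaf 2537)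 (.leaf 1421)))) (.node (.node (.node (.leaf 2154) (.leaf 757)) (.node (.leaf 393) (.leaf 3310))) (.node (.node (.leaf 237) (.leaf 970)) (.node (.leaf 563) (.leaf 1695))))) (.node (.node (.node (.node (.leaf 63) (.leaf 698)) (.node (.leaf 351) (.leaf 3217))) (.node (.node (.leaf 2258) (.leaf 2967)) (.node (.leaf 523) (.leaf 3597)))) (.node (.node (.node (.leaf 131) (.leaf 807)) (.node (.leaf 436) (.leaf 3395))) (.node (.node (.leaf 2333) (.leaf 3084)) (.node (.leaf 606) (.leaf 1886))))))))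

/-- Part of `topPar`. -/
def topPar_p100 : Tr := .node (.node (.node (.node (.node (.node (.node (.node (.node (.leaf 0) (.leaf 1913)) (.leaf 608)) (.node (.leaf 2335) (.leaf 3086))) (.node (.node (.leaf 2190) (.leaf 2868)) (.node (.leaf 2495) (.leaf 3397)))) (.node (.node (.node (.leaf 2122) (.leaf 2758)) (.node (.leaf 2410) (.leaf 1166))) (.node (.node (.leaf 202) (.leaf 2970)) (.node (.leaf 2582) (.leaf 3608))))) (.node (.node (.node (.node (.leaf 32) (.leaf 2714)) (.node (.leaf 316) (.leaf 1095))) (.node (.node (.leaf 166) (.leaf 863)) (.node (.leaf 481) (.leaf 3481)))) (.node (.node (.node (.leaf 98) (.leaf 759)) (.node (.leaf 395) (.leaf 3313))) (.node (.node (.leaf 239) (.leaf 972)) (.node (.leaf 2622) (.leaf 3758)))))) (.node (.node (.node (.node (.node (.leaf 16) (.leaf 634)) (.node (.leaf 2355) (.leaf 3120))) (.node (.node (.leaf 150) (.leaf 835)) (.node (.leaf 461) (.leaf 1377)))) (.node (.node (.node (.leaf 81) (.leaf 2792)) (.node (.leaf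 375) (.leaf 3266))) (.node (.node (.leaf 2279) (.leaf 3002)) (.node (.leaf 545) (.leaf 3672))))) (.node (.node (.node (.node (.leaf 2106) (.leaf 2737)) (.node (.leaf 333) (.leaf 3185))) (.node (.node (.leaf 184) (.leaf 2947)) (.node (.leaf 502) (.leaf 1478)))) (.node (.node (.node (.leaf 2173) (.leaf 783)) (.node (.leaf 2475) (.leaf 3353))) (.node (.node (.leaf 2315) (.leaf 1004)) (.node (.leaf 2644) (.leaf 1780))))))) (.node (.node (.node (.node (.node (.node (.leaf 8) (.leaf 2678)) (.node (.leaf 287) (.leaf 1041))) (.node (.node (.leaf 2198) (.leaf 821)) (.node (.leaf 2508) (.leaf 1359)))) (.node (.node (.node (.leaf 73) (.leaf 2776)) (.node (.leaf 2421) (.leaf 3245))) (.node (.node (.leaf 211) (.leaf 931)) (.node (.leaf 535) (.leaf 1585))))) (.node (.node (.node (.node (.leaf 2098) (.leaf 2726)) (.node (.leaf 2382) (.leaf 1112))) (.node (.node (.leaf 2232) (.leaf 2933)) (.node (.leaf 2549) (.leaf 1444)))) (.node (.node (.node (.leaf 2164) (.leaf 2828))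 (.node (.leaf 2464) (.leaf 3331))) (.node (.node (.leaf 248) (.leaf 987)) (.node (.leaf 2633) (.leaf 3798)))))) (.node (.node (.node (.node (.node (.leaf 24) (.leaf 645)) (.node (.leaf 307) (.leaf 1079))) (.node (.node (.leaf 158) (.leaf 849)) (.node (.leaf 472) (.leaf 1402)))) (.node (.node (.node (.leaf 2147) (.leaf 2807)) (.node (.leaf 2443) (.leaf 3292))) (.node (.node (.leaf 230) (.leaf 961)) (.node (.leaf 2614) (.leaf 1661))))) (.node (.node (.node (.node (.leaf 2114) (.leaf 2748)) (.node (.leaf 342) (.leaf 3205))) (.node (.node (.leaf 2251) (.leaf 902)) (.node (.leaf 514) (.leaf 3560)))) (.node (.node (.node (.leaf 2182) (.leaf 2853)) (.node (.leaf 428) (.leaf 1323))) (.node (.node (.leaf 268) (.leaf 3072)) (.node (.leaf 2655) (.leaf 1838)))))))) (.node (.node (.node (.node (.node (.node (.node (.node (.leaf 4) (.leaf 4073)) (.leaf 2671)) (.node (.leaf 282) (.leaf 1034))) (.node (.node (.leaf 2194) (.leaf 2874)) (.node (.leaf 443) (.leaf 1350))))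 (.node (.node (.node (.leaf 69) (.leaf 2769)) (.node (.leaf 358) (.leaf 3235))) (.node (.node (.leaf 206) (.leaf 921)) (.node (.leaf 2587) (.leaf 3624))))) (.node (.node (.node (.node (.leaf 2094) (.leaf 662)) (.node (.leaf 2378) (.leaf 3162))) (.node (.node (.leaf 2228) (.leaf 2927)) (.node (.leaf 2543) (.leaf 3490)))) (.node (.node (.node (.leaf 2160) (.leaf 2822)) (.node (.leaf 400) (.leaf 3322))) (.node (.node (.leaf 2301) (.leaf 979)) (.node (.leaf 569) (.leaf 3772)))))) (.node (.node (.node (.node (.node (.leaf 20) (.leaf 639)) (.node (.leaf 2359) (.leaf 3130))) (.node (.node (.leaf 154) (.leaf 841)) (.node (.leaf 467) (.leaf 3448)))) (.node (.node (.node (.leaf 2143) (.leaf 2801)) (.node (.leaf 380) (.leaf 3282))) (.node (.node (.leaf 226) (.leaf 955)) (.node (.leaf 551) (.leaf 3694))))) (.node (.node (.node (.node (.leaf 2110) (.leaf 684)) (.node (.leaf 338) (.leaf 3197))) (.node (.node (.leaf 2246) (.leaf 894)) (.node (.leaf 508) (.leaf 3548))))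 (.node (.node (.node (.leaf 120) (.leaf 790)) (.node (.leaf 424) (.leaf 3367))) (.node (.node (.leaf 2320) (.leaf 3067)) (.node (.leaf 591) (.leaf 3860))))))) (.node (.node (.node (.node (.node (.node (.leaf 12) (.leaf 627)) (.node (.leaf 2350) (.leaf 1054))) (.node (.node (.leaf 2203) (.leaf 829)) (.node (.leaf 2513) (.leaf 3424)))) (.node (.node (.node (.leaf 77) (.leaf 727)) (.node (.leaf 2428) (.leaf 1196))) (.node (.node (.leaf 2275) (.leaf 936)) (.node (.leaf 2597) (.leaf 3658))))) (.node (.node (.node (.node (.leaf 2102) (.leaf 2732)) (.node (.leaf 2386) (.leaf 1119))) (.node (.node (.leaf 2237) (.leaf 883)) (.node (.leaf 496) (.leaf 3520)))) (.node (.node (.node (.leaf 111) (.leaf 775)) (.node (.leaf 412) (.leaf 3341))) (.node (.node (.leaf 253) (.leaf 996)) (.node (.leaf 581) (.leaf 1757)))))) (.node (.node (.node (.node (.node (.leaf 28) (.leaf 2707)) (.node (.leaf 2369) (.leaf 1087))) (.node (.node (.leaf 162) (.leaf 2915)) (.node (.leaf 2534)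 (.leaf 1415)))) (.node (.node (.node (.leaf 94) (.leaf 754)) (.node (.leaf 2447) (.leaf 3302))) (.node (.node (.leaf 2292) (.leaf 3024)) (.node (.leaf 2618) (.leaf 3734))))) (.node (.node (.node (.node (.leaf 2118) (.leaf 695)) (.node (.leaf 347) (.leaf 1156))) (.node (.node (.leaf 198) (.leaf 907)) (.node (.leaf 2578) (.leaf 1525)))) (.node (.node (.node (.leaf 2186) (.leaf 803)) (.node (.leaf 433) (.leaf 3389))) (.node (.node (.leaf 2330) (.leaf 3079)) (.node (.leaf 602) (.leaf 3934))))))))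

/-- Part of `topPar`. -/
def topPar_p101 : Tr := .node (.node (.node (.node (.node (.node (.node (.node (.node (.leaf 2) (.leaf 1937)) (.leaf 611)) (.node (.leaf 280) (.leaf 1031))) (.node (.node (.leaf 2192) (.leaf 814)) (.node (.leaf 441) (.leaf 1347)))) (.node (.node (.node (.leaf 2124) (.leaf 706)) (.node (.leaf 356) (.leaf 1170))) (.node (.node (.leaf 204) (.leaf 2974)) (.node (.leaf 2584) (.leaf 1558))))) (.node (.node (.node (.node (.leaf 34) (.leaf 2716)) (.node (.leaf 2376) (.leaf 1100))) (.node (.node (.leaf 2226) (.leaf 866)) (.node (.leaf 483) (.leaf 3484)))) (.node (.node (.node (.leaf 100) (.leaf 2819)) (.node (.leaf 2455) (.leaf 1260))) (.node (.node (.leaf 241) (.leaf 3032)) (.node (.leaf 2624) (.leaf 1704)))))) (.node (.node (.node (.node (.node (.leaf 18) (.leaf 2694)) (.node (.leaf 2357) (.leaf 1067))) (.node (.node (.leaf 152) (.leaf 838)) (.node (.leaf 465) (.leaf 3445)))) (.node (.node (.node (.leaf 2141) (.leaf 739)) (.node (.leaf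 378) (.leaf 1219))) (.node (.node (.leaf 2281) (.leaf 947)) (.node (.leaf 2606) (.leaf 1629))))) (.node (.node (.node (.node (.leaf 2108) (.leaf 682)) (.node (.leaf 2393) (.leaf 1133))) (.node (.node (.leaf 186) (.leaf 2949)) (.node (.leaf 505) (.leaf 3540)))) (.node (.node (.node (.leaf 118) (.leaf 2844)) (.node (.leaf 422) (.leaf 3362))) (.node (.node (.leaf 2317) (.leaf 1007)) (.node (.leaf 2646) (.leaf 1798))))))) (.node (.node (.node (.node (.node (.node (.leaf 10) (.leaf 2680)) (.node (.leaf 2348) (.leaf 1046))) (.node (.node (.leaf 143) (.leaf 825)) (.node (.leaf 2511) (.leaf 1363)))) (.node (.node (.node (.leaf 75) (.leaf 2779)) (.node (.leaf 2425) (.leaf 1191))) (.node (.node (.leaf 2273) (.leaf 2991)) (.node (.leaf 2595) (.leaf 1591))))) (.node (.node (.node (.node (.leaf 2100) (.leaf 672)) (.node (.leaf 2384) (.leaf 1117))) (.node (.node (.leaf 177) (.leaf 878)) (.node (.leaf 2551) (.leaf 3508)))) (.node (.node (.node (.leaf 2166) (.leaf 773))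 (.node (.leaf 409) (.leaf 3339))) (.node (.node (.leaf 251) (.leaf 992)) (.node (.leaf 578) (.leaf 1752)))))) (.node (.node (.node (.node (.node (.leaf 26) (.leaf 2705)) (.node (.leaf 2367) (.leaf 3142))) (.node (.node (.leaf 160) (.leaf 2910)) (.node (.leaf 2532) (.leaf 3466)))) (.node (.node (.node (.leaf 92) (.leaf 2809)) (.node (.leaf 2445) (.leaf 3295))) (.node (.node (.leaf 232) (.leaf 964)) (.node (.leaf 2616) (.leaf 1671))))) (.node (.node (.node (.node (.leaf 2116) (.leaf 693)) (.node (.leaf 2402) (.leaf 3209))) (.node (.node (.leaf 2253) (.leaf 904)) (.node (.leaf 518) (.leaf 3570)))) (.node (.node (.node (.leaf 2184) (.leaf 799)) (.node (.leaf 431) (.leaf 3387))) (.node (.node (.leaf 2328) (.leaf 1019)) (.node (.leaf 600) (.leaf 1851)))))))) (.node (.node (.node (.node (.node (.node (.node (.leaf 6) (.leaf 617)) (.node (.leaf 284) (.leaf 3095))) (.node (.node (.leaf 2196) (.leaf 819)) (.node (.leaf 2504) (.leaf 1356)))) (.node (.node (.node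 (.leaf 71) (.leaf 715)) (.node (.leaf 2419) (.leaf 1184))) (.node (.node (.leaf 2266) (.leaf 2984)) (.node (.leaf 532) (.leaf 3631))))) (.node (.node (.node (.node (.leaf 2096) (.leaf 665)) (.node (.leaf 2380) (.leaf 1108))) (.node (.node (.leaf 2230) (.leaf 2930)) (.node (.leaf 2547) (.leaf 3498)))) (.node (.node (.node (.leaf 2162) (.leaf 2825)) (.node (.leaf 2461) (.leaf 3325))) (.node (.node (.leaf 246) (.leaf 982)) (.node (.leaf 572) (.leaf 3787)))))) (.node (.node (.node (.node (.node (.leaf 22) (.leaf 642)) (.node (.leaf 304) (.leaf 3133))) (.node (.node (.leaf 156) (.leaf 846)) (.node (.leaf 2527) (.leaf 3453)))) (.node (.node (.node (.leaf 2145) (.leaf 746)) (.node (.leaf 383) (.leaf 1228))) (.node (.node (.leaf 228) (.leaf 957)) (.node (.leaf 553) (.leaf 1645))))) (.node (.node (.node (.node (.leaf 2112) (.leaf 2745)) (.node (.leaf 340) (.leaf 3203))) (.node (.node (.leaf 191) (.leaf 2956)) (.node (.leaf 2568) (.leaf 1500)))) (.node (.node (.node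 (.leaf 122) (.leaf 2850)) (.node (.leaf 426) (.leaf 1317))) (.node (.node (.leaf 2323) (.leaf 3070)) (.node (.leaf 595) (.leaf 1830))))))) (.node (.node (.node (.node (.node (.node (.leaf 14) (.leaf 632)) (.node (.leaf 2352) (.leaf 3116))) (.node (.node (.leaf 148) (.leaf 832)) (.node (.leaf 2515) (.leaf 3429)))) (.node (.node (.node (.leaf 79) (.leaf 732)) (.node (.leaf 373) (.leaf 3260))) (.node (.node (.leaf 2277) (.leaf 941)) (.node (.leaf 542) (.leaf 3664))))) (.node (.node (.node (.node (.leaf 2104) (.leaf 2734)) (.node (.leaf 2388) (.leaf 3179))) (.node (.node (.leaf 2239) (.leaf 2943)) (.node (.leaf 498) (.leaf 3528)))) (.node (.node (.node (.leaf 2171) (.leaf 2837)) (.node (.leaf 414) (.leaf 1293))) (.node (.node (.leaf 255) (.leaf 1000)) (.node (.leaf 2641) (.leaf 1764)))))) (.node (.node (.node (.node (.node (.leaf 30) (.leaf 2711)) (.node (.leaf 314) (.leaf 1091))) (.node (.node (.leaf 164) (.leaf 2918)) (.node (.leaf 2536) (.leaf 1419))))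 (.node (.node (.node (.leaf 96) (.leaf 2814)) (.node (.leaf 2450) (.leaf 3308))) (.node (.node (.leaf 2294) (.leaf 3027)) (.node (.leaf 2620) (.leaf 1689))))) (.node (.node (.node (.node (.leaf 2120) (.leaf 697)) (.node (.leaf 2408) (.leaf 3216))) (.node (.node (.leaf 200) (.leaf 909)) (.node (.leaf 2580) (.leaf 1539)))) (.node (.node (.node (.leaf 2188) (.leaf 2863)) (.node (.leaf 2493) (.leaf 3393))) (.node (.node (.leaf 2332) (.leaf 1026)) (.node (.leaf 2663) (.leaf 1884))))))))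

/-- Part of `topPar`. -/
def topPar_p110 : Tr := .node (.node (.node (.node (.node (.node (.node (.node (.node (.leaf 1) (.leaf 1933)) (.leaf 2667)) (.node (.leaf 279) (.leaf 3087))) (.node (.node (.leaf 2191) (.leaf 2869)) (.node (.leaf 2497) (.leaf 1346)))) (.node (.node (.node (.leaf 2123) (.leaf 2760)) (.node (.leaf 2411) (.leaf 3226))) (.node (.node (.leaf 203) (.leaf 915)) (.node (.leaf 2583) (.leaf 3611))))) (.node (.node (.node (.node (.leaf 33) (.leaf 2715)) (.node (.leaf 317) (.leaf 3156))) (.node (.node (.leaf 2225) (.leaf 864)) (.node (.leaf 482) (.leaf 1425)))) (.node (.node (.node (.leaf 99) (.leaf 760)) (.node (.leaf 396) (.leaf 3315))) (.node (.node (.leaf 240) (.leaf 3031)) (.node (.leaf 2623) (.leaf 3759)))))) (.node (.node (.node (.node (.node (.leaf 17) (.leaf 2693)) (.node (.leaf 2356) (.leaf 1065))) (.node (.node (.leaf 151) (.leaf 837)) (.node (.leaf 2521) (.leaf 3439)))) (.node (.node (.node (.leaf 2140) (.leaf 737)) (.node (.leaf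 376) (.leaf 1216))) (.node (.node (.leaf 2280) (.leaf 3003)) (.node (.leaf 2605) (.leaf 1617))))) (.node (.node (.node (.node (.leaf 2107) (.leaf 681)) (.node (.leaf 2392) (.leaf 1131))) (.node (.node (.leaf 185) (.leaf 2948)) (.node (.leaf 504) (.leaf 1480)))) (.node (.node (.node (.leaf 2174) (.leaf 2842)) (.node (.leaf 419) (.leaf 1297))) (.node (.node (.leaf 2316) (.leaf 3063)) (.node (.leaf 2645) (.leaf 1796))))))) (.node (.node (.node (.node (.node (.node (.leaf 9) (.leaf 2679)) (.node (.leaf 2347) (.leaf 3101))) (.node (.node (.leaf 2199) (.leaf 2881)) (.node (.leaf 452) (.leaf 1361)))) (.node (.node (.node (.leaf 74) (.leaf 2778)) (.node (.leaf 2423) (.leaf 3247))) (.node (.node (.leaf 2271) (.leaf 932)) (.node (.leaf 536) (.leaf 1588))))) (.node (.node (.node (.node (.leaf 2099) (.leaf 671)) (.node (.leaf 2383) (.leaf 1116))) (.node (.node (.leaf 176) (.leaf 877)) (.node (.leaf 2550) (.leaf 1445)))) (.node (.node (.node (.leaf 2165) (.leaf 2829))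 (.node (.leaf 408) (.leaf 1276))) (.node (.node (.leaf 250) (.leaf 989)) (.node (.leaf 577) (.leaf 1745)))))) (.node (.node (.node (.node (.node (.leaf 25) (.leaf 2704)) (.node (.leaf 308) (.leaf 3139))) (.node (.node (.leaf 159) (.leaf 851)) (.node (.leaf 2531) (.leaf 3465)))) (.node (.node (.node (.leaf 2148) (.leaf 2808)) (.node (.leaf 2444) (.leaf 3293))) (.node (.node (.leaf 231) (.leaf 963)) (.node (.leaf 2615) (.leaf 1666))))) (.node (.node (.node (.node (.leaf 2115) (.leaf 2749)) (.node (.leaf 2401) (.leaf 3208))) (.node (.node (.leaf 2252) (.leaf 903)) (.node (.leaf 516) (.leaf 1511)))) (.node (.node (.node (.leaf 2183) (.leaf 797)) (.node (.leaf 430) (.leaf 1326))) (.node (.node (.leaf 269) (.leaf 1016)) (.node (.leaf 599) (.leaf 3901)))))))) (.node (.node (.node (.node (.node (.node (.node (.leaf 5) (.leaf 2673)) (.node (.leaf 283) (.leaf 3094))) (.node (.node (.leaf 2195) (.leaf 2875)) (.node (.leaf 2502) (.leaf 1352)))) (.node (.node (.node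 (.leaf 70) (.leaf 714)) (.node (.leaf 2417) (.leaf 1181))) (.node (.node (.leaf 2265) (.leaf 924)) (.node (.leaf 2588) (.leaf 1569))))) (.node (.node (.node (.node (.leaf 2095) (.leaf 663)) (.node (.leaf 2379) (.leaf 1107))) (.node (.node (.leaf 2229) (.leaf 871)) (.node (.leaf 487) (.leaf 1438)))) (.node (.node (.node (.leaf 2161) (.leaf 766)) (.node (.leaf 401) (.leaf 1266))) (.node (.node (.leaf 2302) (.leaf 3038)) (.node (.leaf 570) (.leaf 3782)))))) (.node (.node (.node (.node (.node (.leaf 21) (.leaf 640)) (.node (.leaf 303) (.leaf 1074))) (.node (.node (.leaf 155) (.leaf 843)) (.node (.leaf 468) (.leaf 1394)))) (.node (.node (.node (.leaf 2144) (.leaf 2802)) (.node (.leaf 382) (.leaf 3284))) (.node (.node (.leaf 227) (.leaf 956)) (.node (.leaf 552) (.leaf 3699))))) (.node (.node (.node (.node (.leaf 2111) (.leaf 686)) (.node (.leaf 339) (.leaf 3198))) (.node (.node (.leaf 190) (.leaf 895)) (.node (.leaf 509) (.leaf 3551)))) (.node (.node (.node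 (.leaf 121) (.leaf 791)) (.node (.leaf 425) (.leaf 1312))) (.node (.node (.leaf 264) (.leaf 1011)) (.node (.leaf 2650) (.leaf 1809))))))) (.node (.node (.node (.node (.node (.node (.leaf 13) (.leaf 631)) (.node (.leaf 2351) (.leaf 1055))) (.node (.node (.leaf 2204) (.leaf 2888)) (.node (.leaf 2514) (.leaf 3426)))) (.node (.node (.node (.leaf 78) (.leaf 729)) (.node (.leaf 372) (.leaf 1199))) (.node (.node (.leaf 2276) (.leaf 939)) (.node (.leaf 2598) (.leaf 1604))))) (.node (.node (.node (.node (.leaf 2103) (.leaf 2733)) (.node (.leaf 2387) (.leaf 1120))) (.node (.node (.leaf 2238) (.leaf 884)) (.node (.leaf 497) (.leaf 1468)))) (.node (.node (.node (.leaf 112) (.leaf 2834)) (.node (.leaf 413) (.leaf 1288))) (.node (.node (.leaf 254) (.leaf 3056)) (.node (.leaf 2640) (.leaf 3817)))))) (.node (.node (.node (.node (.node (.leaf 29) (.leaf 2709)) (.node (.leaf 313) (.leaf 1090))) (.node (.node (.leaf 163) (.leaf 859)) (.node (.leaf 2535) (.leaf 3474))))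 (.node (.node (.node (.leaf 95) (.leaf 2813)) (.node (.leaf 391) (.leaf 1247))) (.node (.node (.leaf 2293) (.leaf 968)) (.node (.leaf 2619) (.leaf 1682))))) (.node (.node (.node (.node (.leaf 2119) (.leaf 696)) (.node (.leaf 349) (.leaf 1157))) (.node (.node (.leaf 199) (.leaf 908)) (.node (.leaf 2579) (.leaf 1529)))) (.node (.node (.node (.leaf 2187) (.leaf 2862)) (.node (.leaf 2492) (.leaf 3390))) (.node (.node (.leaf 2331) (.leaf 1023)) (.node (.leaf 2661) (.leaf 1883))))))))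

/-- Part of `topPar`. -/
def topPar_p111 : Tr := .node (.node (.node (.node (.node (.node (.node (.node (.node (.leaf 3) (.leaf 1960)) (.leaf 612)) (.node (.leaf 281) (.leaf 1033))) (.node (.node (.leaf 2193) (.leaf 2873)) (.node (.leaf 442) (.leaf 1349)))) (.node (.node (.node (.leaf 2125) (.leaf 710)) (.node (.leaf 357) (.leaf 3233))) (.node (.node (.leaf 205) (.leaf 918)) (.node (.leaf 2585) (.leaf 3619))))) (.node (.node (.node (.node (.leaf 2093) (.leaf 2717)) (.node (.leaf 2377) (.leaf 3159))) (.node (.node (.leaf 2227) (.leaf 2925)) (.node (.leaf 484) (.leaf 1430)))) (.node (.node (.node (.leaf 2159) (.leaf 2820)) (.node (.leaf 399) (.leaf 3319))) (.node (.node (.leaf 242) (.leaf 977)) (.node (.leaf 2625) (.leaf 3767)))))) (.node (.node (.node (.node (.node (.leaf 19) (.leaf 2695)) (.node (.leaf 2358) (.leaf 1070))) (.node (.node (.leaf 153) (.leaf 840)) (.node (.leaf 466) (.leaf 3446)))) (.node (.node (.node (.leaf 2142) (.leaf 2799)) (.node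 (.leaf 379) (.leaf 1223))) (.node (.node (.leaf 225) (.leaf 3009)) (.node (.leaf 2607) (.leaf 1631))))) (.node (.node (.node (.node (.leaf 2109) (.leaf 683)) (.node (.leaf 2394) (.leaf 1135))) (.node (.node (.leaf 187) (.leaf 2950)) (.node (.leaf 2564) (.leaf 1484)))) (.node (.node (.node (.leaf 119) (.leaf 788)) (.node (.leaf 423) (.leaf 3364))) (.node (.node (.leaf 2318) (.leaf 1008)) (.node (.leaf 590) (.leaf 1800))))))) (.node (.node (.node (.node (.node (.node (.leaf 11) (.leaf 624)) (.node (.leaf 2349) (.leaf 3108))) (.node (.node (.leaf 2202) (.leaf 827)) (.node (.leaf 2512) (.leaf 1364)))) (.node (.node (.node (.leaf 76) (.leaf 2782)) (.node (.leaf 369) (.leaf 3251))) (.node (.node (.leaf 2274) (.leaf 935)) (.node (.leaf 2596) (.leaf 3654))))) (.node (.node (.node (.node (.leaf 2101) (.leaf 2731)) (.node (.leaf 2385) (.leaf 1118))) (.node (.node (.leaf 178) (.leaf 2939)) (.node (.leaf 495) (.leaf 3512)))) (.node (.node (.node (.leaf 110) (.leaf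 774)) (.node (.leaf 410) (.leaf 3340))) (.node (.node (.leaf 252) (.leaf 3051)) (.node (.leaf 579) (.leaf 3811)))))) (.node (.node (.node (.node (.node (.leaf 27) (.leaf 2706)) (.node (.leaf 2368) (.leaf 1086))) (.node (.node (.leaf 161) (.leaf 2913)) (.node (.leaf 2533) (.leaf 3468)))) (.node (.node (.node (.leaf 93) (.leaf 753)) (.node (.leaf 2446) (.leaf 1241))) (.node (.node (.leaf 233) (.leaf 965)) (.node (.leaf 2617) (.leaf 1673))))) (.node (.node (.node (.node (.leaf 2117) (.leaf 694)) (.node (.leaf 346) (.leaf 1155))) (.node (.node (.leaf 197) (.leaf 905)) (.node (.leaf 519) (.leaf 1519)))) (.node (.node (.node (.leaf 2185) (.leaf 800)) (.node (.leaf 432) (.leaf 3388))) (.node (.node (.leaf 2329) (.leaf 1020)) (.node (.leaf 601) (.leaf 1865)))))))) (.node (.node (.node (.node (.node (.node (.node (.leaf 7) (.leaf 619)) (.node (.leaf 285) (.leaf 1039))) (.node (.node (.leaf 2197) (.leaf 820)) (.node (.leaf 2506) (.leaf 3415)))) (.node (.node (.node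 (.leaf 72) (.leaf 716)) (.node (.leaf 2420) (.leaf 1186))) (.node (.node (.leaf 2267) (.leaf 2987)) (.node (.leaf 2591) (.leaf 3635))))) (.node (.node (.node (.node (.leaf 2097) (.leaf 667)) (.node (.leaf 2381) (.leaf 1110))) (.node (.node (.leaf 2231) (.leaf 2932)) (.node (.leaf 2548) (.leaf 3500)))) (.node (.node (.node (.leaf 2163) (.leaf 2826)) (.node (.leaf 2463) (.leaf 3328))) (.node (.node (.leaf 247) (.leaf 3041)) (.node (.leaf 574) (.leaf 1735)))))) (.node (.node (.node (.node (.node (.leaf 23) (.leaf 643)) (.node (.leaf 2363) (.leaf 3134))) (.node (.node (.leaf 157) (.leaf 2905)) (.node (.leaf 2528) (.leaf 3454)))) (.node (.node (.node (.leaf 2146) (.leaf 747)) (.node (.leaf 2442) (.leaf 1232))) (.node (.node (.leaf 229) (.leaf 959)) (.node (.leaf 2612) (.leaf 3710))))) (.node (.node (.node (.node (.leaf 2113) (.leaf 2747)) (.node (.leaf 341) (.leaf 3204))) (.node (.node (.leaf 2250) (.leaf 2958)) (.node (.leaf 2569) (.leaf 1501)))) (.node (.node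 (.node (.leaf 2181) (.leaf 2852)) (.node (.leaf 427) (.leaf 3378))) (.node (.node (.leaf 2324) (.leaf 3071)) (.node (.leaf 596) (.leaf 3889))))))) (.node (.node (.node (.node (.node (.node (.leaf 15) (.leaf 633)) (.node (.leaf 2353) (.leaf 3118))) (.node (.node (.leaf 149) (.leaf 833)) (.node (.leaf 459) (.leaf 1374)))) (.node (.node (.node (.leaf 80) (.leaf 733)) (.node (.leaf 374) (.leaf 3263))) (.node (.node (.leaf 2278) (.leaf 943)) (.node (.leaf 543) (.leaf 3668))))) (.node (.node (.node (.node (.leaf 2105) (.leaf 2736)) (.node (.leaf 2389) (.leaf 3181))) (.node (.node (.leaf 2240) (.leaf 887)) (.node (.leaf 2558) (.leaf 1477)))) (.node (.node (.node (.leaf 2172) (.leaf 2839)) (.node (.leaf 2474) (.leaf 3352))) (.node (.node (.leaf 2314) (.leaf 3060)) (.node (.leaf 2642) (.leaf 1773)))))) (.node (.node (.node (.node (.node (.leaf 31) (.leaf 655)) (.node (.leaf 315) (.leaf 3151))) (.node (.node (.leaf 165) (.leaf 2919)) (.node (.leaf 480) (.leaf 3479))))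 (.node (.node (.node (.leaf 97) (.leaf 758)) (.node (.leaf 394) (.leaf 1254))) (.node (.node (.leaf 238) (.leaf 971)) (.node (.leaf 2621) (.leaf 3753))))) (.node (.node (.node (.node (.leaf 2121) (.leaf 699)) (.node (.leaf 2409) (.leaf 3221))) (.node (.node (.leaf 201) (.leaf 911)) (.node (.leaf 2581) (.leaf 1547)))) (.node (.node (.node (.leaf 2189) (.leaf 809)) (.node (.leaf 2494) (.leaf 1338))) (.node (.node (.leaf 2334) (.leaf 1027)) (.node (.leaf 607) (.leaf 1899))))))))

/-- Parents. -/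
def topPar : Tr := .node (.node (.node (topPar_p000) (topPar_p001)) (.node (topPar_p010) (topPar_p011))) (.node (.node (topPar_p100) (topPar_p101)) (.node (topPar_p110) (topPar_p111)))

/-- Part of `topFac`. -/
def topFac_p0000 : Tr := .node (.node (.node (.node (.node (.node (.node (.node (.node (.leaf 1) (.leaf 458771390)) (.leaf 0x9798035b)) (.node (.leaf 1532) (.leaf 1521))) (.node (.node (.leaf 0xc979a1d7) (.leaf 0x41633164)) (.node (.leaf 0xaed0268c) (.leaf 1914)))) (.node (.node (.node (.leaf 0x612d7343) (.leaf 462)) (.node (.leaf 0x6f1c7d4f) (.leaf 1743))) (.node (.node (.leaf 1230) (.leaf 1216)) (.node (.leaf 795186639) (.leaf 0x758df393))))) (.node (.node (.node (.node (.leaf 248) (.leaf 230)) (.node (.leaf 0xee0751b0) (.leaf 86830586))) (.node (.node (.leaf 1067) (.leaf 41133257)) (.node (.leaf 0xb73ff6b0) (.leaf 1968)))) (.node (.node (.node (.leaf 686) (.leaf 672)) (.node (.leaf 1844) (.leaf 0xd96686ec))) (.node (.node (.leaf 0x8135fe53)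 (.leaf 1374)) (.node (.leaf 0xe93fedfa) (.leaf 921807410)))))) (.node (.node (.node (.node (.node (.leaf 128) (.leaf 109)) (.node (.leaf 1594) (.leaf 9089))) (.node (.node (.leaf 978) (.leaf 965)) (.node (.leaf 0xee3e5ab2) (.leaf 0xee5919b5)))) (.node (.node (.node (.leaf 584) (.leaf 567)) (.node (.leaf 0xb4699eff) (.leaf 1788))) (.node (.node (.leaf 1309) (.leaf 1298)) (.node (.leaf 0x3eaa1b8d) (.leaf 0xd7224292))))) (.node (.node (.node (.node (.leaf 0xb0e533e3) (.leaf 351)) (.node (.leaf 1699) (.leaf 0xc7e7f683))) (.node (.node (.leaf 0x443898c4) (.leaf 1144)) (.node (.leaf 0x5c174b5c) (.leaf 0x76200004)))) (.node (.node (.node (.leaf 0xe5ed7bc9) (.leaf 0x3d1b4370)) (.node (.leaf 0xc819e06e) (.leaf 1881))) (.node (.node (.leaf 0xa7cffbc8) (.leaf 0x77c529a9)) (.node (.leaf 364113702) (.leaf 11988711))))))) (.node (.node (.node (.node (.node (.node (.leaf 65) (.leaf 46)) (.node (.leaf 0xd08d0110) (.leaf 0xa0a527ec))) (.node (.node (.leaf 0x557f2aa0)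 (.leaf 0x3cb7c081)) (.node (.leaf 518707806) (.leaf 801551595)))) (.node (.node (.node (.leaf 530) (.leaf 0x8ece6ccc)) (.node (.leaf 1771) (.leaf 827525263))) (.node (.node (.leaf 1271) (.leaf 1258)) (.node (.leaf 0xb9853538) (.leaf 0xda3e6049))))) (.node (.node (.node (.node (.leaf 309) (.leaf 290)) (.node (.leaf 1677) (.leaf 0x58227c97))) (.node (.node (.leaf 1109) (.leaf 1098)) (.node (.leaf 0xe7ae4a54) (.leaf 722027734)))) (.node (.node (.node (.leaf 0x9a0debdb) (.leaf 721)) (.node (.leaf 1868) (.leaf 1864))) (.node (.node (.leaf 0xe7f3a548) (.leaf 0x990318c0)) (.node (.leaf 874309128) (.leaf 155385010)))))) (.node (.node (.node (.node (.node (.leaf 189) (.leaf 171)) (.node (.leaf 1627) (.leaf 0x4f933f4c))) (.node (.node (.leaf 1025) (.leaf 0x91768203)) (.node (.leaf 0x9e3e9756) (.leaf 0xed382491)))) (.node (.node (.node (.leaf 640) (.leaf 626)) (.node (.leaf 0xd3075ef0) (.leaf 1817))) (.node (.node (.leaf 1347) (.leaf 0x48456923)) (.node (.leaf 821757153)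 (.leaf 0xdd12eee8))))) (.node (.node (.node (.node (.leaf 0x7f78fa1b) (.leaf 0x40173a8b)) (.node (.leaf 1724) (.leaf 517762977))) (.node (.node (.leaf 0xadac55db) (.leaf 0xb19fd7a5)) (.node (.leaf 0x616d368a) (.leaf 675558286)))) (.node (.node (.node (.leaf 831) (.leaf 815)) (.node (.leaf 0xae8b858f) (.leaf 0xa4cad7b2))) (.node (.node (.leaf 1493) (.leaf 1486)) (.node (.leaf 0xd0f9a3f8) (.leaf 0xd5bbf685)))))))) (.node (.node (.node (.node (.node (.node (.node (.node (.leaf 33) (.leaf 114033978)) (.leaf 14)) (.node (.leaf 0x9369fc05) (.leaf 0x4373d8e6))) (.node (.node (.leaf 0x4f266f30) (.leaf 886)) (.node (.leaf 1922) (.leaf 0x7390261d)))) (.node (.node (.node (.leaf 504) (.leaf 489)) (.node (.leaf 0x4229b96e) (.leaf 0x563b6cba))) (.node (.node (.leaf 1250) (.leaf 1240)) (.node (.leaf 0xc53c5593) (.leaf 2022))))) (.node (.node (.node (.node (.leaf 0x52faa943) (.leaf 261)) (.node (.leaf 0xdf9d21a5) (.leaf 1661))) (.node (.node (.leaf 0xd79b35c1) (.leaf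 1075)) (.node (.leaf 0x82283f67) (.leaf 0x3e784f28)))) (.node (.node (.node (.leaf 713) (.leaf 991172419)) (.node (.leaf 0xe41200f2) (.leaf 0xa967af9c))) (.node (.node (.leaf 0x633f0701) (.leaf 1394)) (.node (.leaf 0xadcda4a8) (.leaf 0xce20804b)))))) (.node (.node (.node (.node (.node (.leaf 159) (.leaf 140)) (.node (.leaf 960724983) (.leaf 0x954340ad))) (.node (.node (.leaf 1002) (.leaf 987)) (.node (.leaf 0xe5744eb9) (.leaf 1949)))) (.node (.node (.node (.leaf 614) (.leaf 597)) (.node (.leaf 0xd88dd53a) (.leaf 0x5e1db73f))) (.node (.node (.leaf 0xb7f372cd) (.leaf 0xd177439e)) (.node (.leaf 0xdd72c950) (.leaf 0x9e073d83))))) (.node (.node (.node (.node (.leaf 396) (.leaf 378)) (.node (.leaf 1711) (.leaf 141391890))) (.node (.node (.leaf 1170) (.leaf 1160)) (.node (.leaf 0x3bd08d02) (.leaf 0xaea7a5f1)))) (.node (.node (.node (.leaf 0x4e315552) (.leaf 791)) (.node (.leaf 0xa1a37ff6) (.leaf 0x46720303))) (.node (.node (.leaf 415662743) (.leaf 1465)) (.node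 (.leaf 0xd4689e65) (.leaf 639527247))))))) (.node (.node (.node (.node (.node (.node (.leaf 96) (.leaf 77)) (.node (.leaf 1576) (.leaf 1569))) (.node (.node (.leaf 952) (.leaf 0x4fe58571)) (.node (.leaf 0x764ab752) (.leaf 1934)))) (.node (.node (.node (.leaf 557) (.leaf 541)) (.node (.leaf 111026043) (.leaf 1774))) (.node (.node (.leaf 1288) (.leaf 0x9ab07620)) (.node (.leaf 0x450d0a35) (.leaf 981539895))))) (.node (.node (.node (.node (.leaf 339) (.leaf 322)) (.node (.leaf 0x85081852) (.leaf 1684))) (.node (.node (.leaf 0xdb4ff283) (.leaf 1119)) (.node (.leaf 0x85b78abe) (.leaf 278564486)))) (.node (.node (.node (.leaf 759) (.leaf 742)) (.node (.leaf 0xe51d35b0) (.leaf 923456420))) (.node (.node (.leaf 1440) (.leaf 796463623)) (.node (.leaf 0x8aa26f22) (.leaf 0xcd6a7cf7)))))) (.node (.node (.node (.node (.node (.leaf 219) (.leaf 201)) (.node (.leaf 0x49305f45) (.leaf 561029766))) (.node (.node (.leaf 1047) (.leaf 1034)) (.node (.leaf 0x587039dc) (.leaf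 459641151)))) (.node (.node (.node (.leaf 0x82d0d31c) (.leaf 0xee259690)) (.node (.leaf 0x58caa679) (.leaf 0x64fbaaec))) (.node (.node (.leaf 1366) (.leaf 0x792bb73b)) (.node (.leaf 0x682bf7f0) (.leaf 0x6e8f26fc))))) (.node (.node (.node (.node (.leaf 451) (.leaf 434)) (.node (.leaf 1736) (.leaf 1728))) (.node (.node (.leaf 1206) (.leaf 1192)) (.node (.leaf 131993839) (.leaf 0x9f7a8a26)))) (.node (.node (.node (.leaf 857) (.leaf 0xe689d104)) (.node (.leaf 0x5bb9fe9d) (.leaf 1906))) (.node (.node (.leaf 1511) (.leaf 1499)) (.node (.leaf 0xda5781d4) (.leaf 673529418))))))))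

/-- Part of `topFac`. -/
def topFac_p0001 : Tr := .node (.node (.node (.node (.node (.node (.node (.node (.node (.leaf 17) (.leaf 0xb01611c5)) (.leaf 0x847c6404)) (.node (.leaf 1542) (.leaf 1530))) (.node (.node (.leaf 406440952) (.leaf 877)) (.node (.leaf 0x718de3a6) (.leaf 0x97490833)))) (.node (.node (.node (.leaf 491) (.leaf 476)) (.node (.leaf 1755) (.leaf 686771529))) (.node (.node (.leaf 1242) (.leaf 0xbe39526c)) (.node (.leaf 2023) (.leaf 0xa293023e))))) (.node (.node (.node (.node (.leaf 264) (.leaf 245)) (.node (.leaf 0x6b12222b) (.leaf 1651))) (.node (.node (.leaf 1078) (.leaf 1064)) (.node (.leaf 954679177) (.leaf 769851917)))) (.node (.node (.node (.leaf 0x8c90a36c) (.leaf 684)) (.node (.leaf 820577417) (.leaf 0xda5047b0))) (.node (.node (.leaf 1397) (.leaf 1386)) (.node (.leaf 448092188) (.leaf 0xa71ae59c)))))) (.node (.node (.node (.node (.node (.leaf 143) (.leaf 125)) (.node (.leaf 0xd609e156) (.leaf 1592))) (.node (.node (.leaf 990)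 (.leaf 0xabaaf658)) (.node (.leaf 0xa3450ce0) (.leaf 0xd8b14b33)))) (.node (.node (.node (.leaf 600) (.leaf 581)) (.node (.leaf 1803) (.leaf 639189591))) (.node (.node (.leaf 1319) (.leaf 1307)) (.node (.leaf 0x6fda5918) (.leaf 0x3f2dbd94))))) (.node (.node (.node (.node (.leaf 381) (.leaf 364)) (.node (.leaf 0x61eb82c8) (.leaf 705290418))) (.node (.node (.leaf 0x8f63c922) (.leaf 1155)) (.node (.leaf 54222590) (.leaf 0x3c16132c)))) (.node (.node (.node (.leaf 794) (.leaf 781)) (.node (.leaf 1891) (.leaf 1885))) (.node (.node (.leaf 1467) (.leaf 0x7208657f)) (.node (.leaf 0xe086cb28) (.leaf 2056))))))) (.node (.node (.node (.node (.node (.node (.leaf 80) (.leaf 62)) (.node (.leaf 0x72784ca4) (.leaf 1562))) (.node (.node (.leaf 939) (.leaf 926)) (.node (.leaf 0x66e4b32d) (.leaf 1929)))) (.node (.node (.node (.leaf 544) (.leaf 0x5834c9e9)) (.node (.leaf 62798870) (.leaf 0x875bd0f6))) (.node (.node (.leaf 0xb43fd8e5) (.leaf 541961057)) (.node (.leaf 0xad16a5f5)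 (.leaf 0xcc33e1e0))))) (.node (.node (.node (.node (.leaf 324) (.leaf 306)) (.node (.leaf 931592167) (.leaf 0xe3a9d38e))) (.node (.node (.leaf 1122) (.leaf 127893146)) (.node (.leaf 1989) (.leaf 539053533)))) (.node (.node (.node (.leaf 745) (.leaf 734)) (.node (.leaf 1876) (.leaf 0xe9c8cd78))) (.node (.node (.leaf 1433) (.leaf 1421)) (.node (.leaf 2055) (.leaf 0x4dc67600)))))) (.node (.node (.node (.node (.node (.leaf 204) (.leaf 186)) (.node (.leaf 0xba3c34f3) (.leaf 1624))) (.node (.node (.leaf 0xc4ca9eaa) (.leaf 0x744744ee)) (.node (.leaf 0x85247dcf) (.leaf 0x48269200)))) (.node (.node (.node (.leaf 728071513) (.leaf 637)) (.node (.leaf 0x61cbb75d) (.leaf 0x6acbedfa))) (.node (.node (.leaf 1356) (.leaf 1344)) (.node (.leaf 333976334) (.leaf 0x7dc46e30))))) (.node (.node (.node (.node (.leaf 437) (.leaf 419)) (.node (.leaf 0x65fcf9ae) (.leaf 319713773))) (.node (.node (.leaf 1194) (.leaf 1185)) (.node (.leaf 2014) (.leaf 398226560)))) (.node (.node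 (.node (.leaf 970382061) (.leaf 829)) (.node (.leaf 0xe7171086) (.leaf 1905))) (.node (.node (.leaf 1501) (.leaf 0xac70045d)) (.node (.leaf 0x8529144b) (.leaf 329335494)))))))) (.node (.node (.node (.node (.node (.node (.node (.leaf 49) (.leaf 30)) (.node (.leaf 0xef4e00b1) (.leaf 0x9a5922c9))) (.node (.node (.leaf 915) (.leaf 901)) (.node (.leaf 1926) (.leaf 1921)))) (.node (.node (.node (.leaf 517) (.leaf 501)) (.node (.leaf 0xe71a8f32) (.leaf 1759))) (.node (.node (.leaf 1260) (.leaf 0x53c53683)) (.node (.leaf 0xc86f23a9) (.leaf 0xb45b86bd))))) (.node (.node (.node (.node (.leaf 293) (.leaf 276)) (.node (.leaf 1672) (.leaf 0x9934a494))) (.node (.node (.leaf 0xbab59bb1) (.leaf 0xa52f2539)) (.node (.leaf 0x7f3f1fd3) (.leaf 0x7008d815)))) (.node (.node (.node (.leaf 723) (.leaf 710)) (.node (.leaf 0x69fdf5ae) (.leaf 0x6969a057))) (.node (.node (.leaf 0x448f35e7) (.leaf 0x4461d9d7)) (.node (.leaf 0xb3b846b7) (.leaf 0xb9b2385c)))))) (.node (.node (.node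 (.node (.node (.leaf 174) (.leaf 156)) (.node (.leaf 1617) (.leaf 0x47c5c481))) (.node (.node (.leaf 1013) (.leaf 1000)) (.node (.leaf 0xeb9e412f) (.leaf 1953)))) (.node (.node (.node (.leaf 628) (.leaf 611)) (.node (.leaf 0x4141220d) (.leaf 0x4aa5e69a))) (.node (.node (.leaf 524295182) (.leaf 1326)) (.node (.leaf 0xb0904973) (.leaf 0x90d63537))))) (.node (.node (.node (.node (.leaf 406) (.leaf 455262763)) (.node (.leaf 1718) (.leaf 0x8d140e8b))) (.node (.node (.leaf 0xe4837591) (.leaf 1169)) (.node (.leaf 2005) (.leaf 0xb76e8ede)))) (.node (.node (.node (.leaf 817) (.leaf 0x819f4fe2)) (.node (.leaf 0xd8907958) (.leaf 0x41043c57))) (.node (.node (.leaf 0x555be3e8) (.leaf 1477)) (.node (.leaf 0xadcbb84f) (.leaf 739931759))))))) (.node (.node (.node (.node (.node (.node (.leaf 112) (.leaf 93)) (.node (.leaf 1586) (.leaf 0x8d4c36c0))) (.node (.node (.leaf 968) (.leaf 949)) (.node (.leaf 0x80e48964) (.leaf 0x90b167c0)))) (.node (.node (.node (.leaf 573756401)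 (.leaf 554)) (.node (.leaf 0x6cb90d1c) (.leaf 0xac6226b9))) (.node (.node (.leaf 0xe2755b7e) (.leaf 1286)) (.node (.leaf 0x7d4c5b29) (.leaf 288605328))))) (.node (.node (.node (.node (.leaf 353) (.leaf 337)) (.node (.leaf 1696) (.leaf 194857838))) (.node (.node (.leaf 1147) (.leaf 0x73f5e2a2)) (.node (.leaf 0x6abac3cd) (.leaf 185666447)))) (.node (.node (.node (.leaf 0xa1dc013b) (.leaf 756)) (.node (.leaf 0xe571c785) (.leaf 1879))) (.node (.node (.leaf 1448) (.leaf 1438)) (.node (.leaf 0xbc243a42) (.leaf 0x4cf385ff)))))) (.node (.node (.node (.node (.node (.leaf 233) (.leaf 216)) (.node (.leaf 0x65567479) (.leaf 0xd998a69a))) (.node (.node (.leaf 1053) (.leaf 1045)) (.node (.leaf 0xdceca3bd) (.leaf 1966)))) (.node (.node (.node (.leaf 675) (.leaf 660)) (.node (.leaf 0x5179bd69) (.leaf 1833))) (.node (.node (.leaf 0x88fe310b) (.leaf 77619702)) (.node (.leaf 0xd1223d23) (.leaf 91293758))))) (.node (.node (.node (.node (.leaf 465) (.leaf 448)) (.node (.leaf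 1744) (.leaf 0xd259abf3))) (.node (.node (.leaf 1219) (.leaf 1203)) (.node (.leaf 0xa438522e) (.leaf 0x79cbe666)))) (.node (.node (.node (.leaf 867) (.leaf 0x6a2ba239)) (.node (.leaf 0xa82d9a60) (.leaf 0xc4ce88b1))) (.node (.node (.leaf 1523) (.leaf 595752018)) (.node (.leaf 0x789c1f8d) (.leaf 0x509236e4))))))))

/-- Part of `topFac`. -/
def topFac_p0010 : Tr := .node (.node (.node (.node (.node (.node (.node (.node (.node (.leaf 9) (.leaf 0x58503084)) (.leaf 0x96e84f19)) (.node (.leaf 1536) (.leaf 0x726bda1b))) (.node (.node (.leaf 883) (.leaf 871)) (.node (.leaf 0x5942a337) (.leaf 978330312)))) (.node (.node (.node (.leaf 486) (.leaf 468)) (.node (.leaf 0xb24c36bf) (.leaf 0x8073995f))) (.node (.node (.leaf 651594561) (.leaf 1223)) (.node (.leaf 2019) (.leaf 0xed7a3f8f))))) (.node (.node (.node (.node (.leaf 256) (.leaf 238)) (.node (.leaf 1657) (.leaf 1647))) (.node (.node (.leaf 1072) (.leaf 1058)) (.node (.leaf 728088522) (.leaf 0x73d9d744)))) (.node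 (.node (.node (.leaf 694) (.leaf 678)) (.node (.leaf 537942980) (.leaf 309512591))) (.node (.node (.leaf 0xd40e1156) (.leaf 1379)) (.node (.leaf 0xda90e4e0) (.leaf 2050)))))) (.node (.node (.node (.node (.node (.leaf 136) (.leaf 117)) (.node (.leaf 0x66d51f9e) (.leaf 1588))) (.node (.node (.leaf 984) (.leaf 41312698)) (.node (.leaf 1947) (.leaf 1942)))) (.node (.node (.node (.leaf 592) (.leaf 574)) (.node (.leaf 1798) (.leaf 1792))) (.node (.node (.leaf 0xdfd31ce7) (.leaf 0x8d522cff)) (.node (.leaf 0x75daedd1) (.leaf 0xcbc0f124))))) (.node (.node (.node (.node (.leaf 144276144) (.leaf 358)) (.node (.leaf 0xe4781fc0) (.leaf 0xbdc12f66))) (.node (.node (.leaf 0x3f3420cf) (.leaf 0x56e38689)) (.node (.leaf 0x5f33f849) (.leaf 0x3e8008a6)))) (.node (.node (.node (.leaf 787) (.leaf 776)) (.node (.leaf 677825881) (.leaf 1882))) (.node (.node (.leaf 1461) (.leaf 0xe21a0304)) (.node (.leaf 0x6249126c) (.leaf 0x96288ce8))))))) (.node (.node (.node (.node (.node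 (.node (.leaf 72) (.leaf 54)) (.node (.leaf 1566) (.leaf 1559))) (.node (.node (.leaf 932) (.leaf 919)) (.node (.leaf 0xac551363) (.leaf 0xc3ef34f1)))) (.node (.node (.node (.leaf 536) (.leaf 522)) (.node (.leaf 0xb8c79cc9) (.leaf 1767))) (.node (.node (.leaf 1274) (.leaf 1263)) (.node (.leaf 985864260) (.leaf 0x8d487465))))) (.node (.node (.node (.node (.leaf 317) (.leaf 298)) (.node (.leaf 0xc55173c2) (.leaf 0xaa54c6f9))) (.node (.node (.leaf 1116) (.leaf 0x80d56e93)) (.node (.leaf 0x51c10f8e) (.leaf 0x5166483a)))) (.node (.node (.node (.leaf 0xbf8fcbc5) (.leaf 728)) (.node (.leaf 1873) (.leaf 0xdc524749))) (.node (.node (.leaf 1427) (.leaf 1418)) (.node (.leaf 0x57a3832c) (.leaf 0xc7b92012)))))) (.node (.node (.node (.node (.node (.leaf 197) (.leaf 179)) (.node (.leaf 0x3f4f760b) (.leaf 42920978))) (.node (.node (.leaf 1031) (.leaf 1018)) (.node (.leaf 0x777c390b) (.leaf 1956)))) (.node (.node (.node (.leaf 645) (.leaf 632)) (.node (.leaf 0xe8b30b26)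 (.leaf 0xb0828ef7))) (.node (.node (.leaf 0x6313b833) (.leaf 1338)) (.node (.leaf 0x67c245a6) (.leaf 201584988))))) (.node (.node (.node (.node (.leaf 429) (.leaf 411)) (.node (.leaf 0x5f12b6be) (.leaf 617545389))) (.node (.node (.leaf 0x880abb00) (.leaf 0xa684b5ed)) (.node (.leaf 2013) (.leaf 0x7b3f0305)))) (.node (.node (.node (.leaf 839) (.leaf 821)) (.node (.leaf 0x409da273) (.leaf 0x98e1549a))) (.node (.node (.leaf 1497) (.leaf 93390262)) (.node (.leaf 0xed16924c) (.leaf 0x54b48b48)))))))) (.node (.node (.node (.node (.node (.node (.node (.leaf 41) (.leaf 22)) (.node (.leaf 0x9089a83d) (.leaf 401794251))) (.node (.node (.leaf 909) (.leaf 893)) (.node (.leaf 0x9f6a77af) (.leaf 0x9eb35d41)))) (.node (.node (.node (.leaf 0xccddb001) (.leaf 495)) (.node (.leaf 560651506) (.leaf 0x4c29f8cd))) (.node (.node (.leaf 1255) (.leaf 0x936cf552)) (.node (.leaf 2028) (.leaf 2025))))) (.node (.node (.node (.node (.leaf 285) (.leaf 269)) (.node (.leaf 515713745)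 (.leaf 0x76e15c34))) (.node (.node (.leaf 0x6b23b8b8) (.leaf 0xb91c1689)) (.node (.leaf 0xe1f6fd76) (.leaf 1976)))) (.node (.node (.node (.leaf 718) (.leaf 704)) (.node (.leaf 0x91d8ced4) (.leaf 0x7c60a5dd))) (.node (.node (.leaf 540941658) (.leaf 0x7ed8b65e)) (.node (.leaf 550819133) (.leaf 0x9048bf4e)))))) (.node (.node (.node (.node (.node (.leaf 166) (.leaf 148)) (.node (.leaf 1613) (.leaf 1603))) (.node (.node (.leaf 1007) (.leaf 993)) (.node (.leaf 0x536460a3) (.leaf 1951)))) (.node (.node (.node (.leaf 621) (.leaf 605)) (.node (.leaf 1815) (.leaf 1804))) (.node (.node (.leaf 1332) (.leaf 169353111)) (.node (.leaf 0xd348f77e) (.leaf 0x9dd5e4c0))))) (.node (.node (.node (.node (.leaf 0xcf94bf32) (.leaf 386)) (.node (.leaf 0x620ea478) (.leaf 1707))) (.node (.node (.leaf 0xc7a00ca3) (.leaf 1164)) (.node (.leaf 0x3be59266) (.leaf 0x9f6d1a3f)))) (.node (.node (.node (.leaf 811) (.leaf 0xac45cd0d)) (.node (.leaf 409182242) (.leaf 1893))) (.node (.node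 (.leaf 1482) (.leaf 0x5526383a)) (.node (.leaf 0xda83f922) (.leaf 0x46b88b98))))))) (.node (.node (.node (.node (.node (.node (.leaf 104) (.leaf 85)) (.node (.leaf 1582) (.leaf 0xb7db61b6))) (.node (.node (.leaf 960) (.leaf 943)) (.node (.leaf 1939) (.leaf 0x4a459053)))) (.node (.node (.node (.leaf 563) (.leaf 547)) (.node (.leaf 1786) (.leaf 0xaaf20857))) (.node (.node (.leaf 1295) (.leaf 1281)) (.node (.leaf 0x7641892b) (.leaf 0xe2633249))))) (.node (.node (.node (.node (.leaf 346) (.leaf 329)) (.node (.leaf 0xcd9d72fb) (.leaf 0xe85fcbf6))) (.node (.node (.leaf 0x8e882ffa) (.leaf 1126)) (.node (.leaf 0x4e21eab8) (.leaf 0xefa97ee9)))) (.node (.node (.node (.leaf 766) (.leaf 750)) (.node (.leaf 0x62759834) (.leaf 1877))) (.node (.node (.leaf 0xa5a29520) (.leaf 165417259)) (.node (.leaf 0x6a356479) (.leaf 0x859d1a86)))))) (.node (.node (.node (.node (.node (.leaf 226) (.leaf 209)) (.node (.leaf 1642) (.leaf 0xb18ec4a3))) (.node (.node (.leaf 0x77e1cb25)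 (.leaf 0x551466eb)) (.node (.leaf 0xacc9d5a8) (.leaf 1964)))) (.node (.node (.node (.leaf 667) (.leaf 655)) (.node (.leaf 1838) (.leaf 0x4f49bc58))) (.node (.node (.leaf 1371) (.leaf 1359)) (.node (.leaf 232122741) (.leaf 0xc6082dfb))))) (.node (.node (.node (.node (.leaf 458) (.leaf 441)) (.node (.leaf 1742) (.leaf 1732))) (.node (.node (.leaf 1212) (.leaf 1198)) (.node (.leaf 2017) (.leaf 207511448)))) (.node (.node (.node (.leaf 862) (.leaf 847)) (.node (.leaf 0xde08170d) (.leaf 1910))) (.node (.node (.leaf 1516) (.leaf 1503)) (.node (.leaf 0x7c50c499) (.leaf 0x426e749d))))))))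

/-- Part of `topFac`. -/
def topFac_p0011 : Tr := .node (.node (.node (.node (.node (.node (.node (.node (.node (.leaf 25) (.leaf 0xb5ca4221)) (.leaf 6)) (.node (.leaf 0xd164511d) (.leaf 1534))) (.node (.node (.leaf 896) (.leaf 882)) (.node (.leaf 0x5bdee037) (.leaf 0x4570b62f)))) (.node (.node (.node (.leaf 497) (.leaf 483)) (.node (.leaf 559691074) (.leaf 1751))) (.node (.node (.leaf 0x4f76ad62) (.leaf 1233)) (.node (.leaf 0xcb5f0f81) (.leaf 0xa4cedb44))))) (.node (.node (.node (.node (.leaf 272) (.leaf 253)) (.node (.leaf 308103969) (.leaf 1654))) (.node (.node (.leaf 0x62306c6e) (.leaf 1070)) (.node (.leaf 0xcba40f1e) (.leaf 0x715d0cd6)))) (.node (.node (.node (.leaf 707) (.leaf 691)) (.node (.leaf 0x70e06247) (.leaf 1847))) (.node (.node (.leaf 1403) (.leaf 1389)) (.node (.leaf 0x91b80522) (.leaf 0xcdaea1ae)))))) (.node (.node (.node (.node (.node (.leaf 151) (.leaf 133)) (.node (.leaf 1605) (.leaf 1596))) (.node (.node (.leaf 996) (.leaf 982))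 (.node (.leaf 0xa069f43c) (.leaf 0x780b8d68)))) (.node (.node (.node (.leaf 608) (.leaf 589)) (.node (.leaf 1805) (.leaf 1796))) (.node (.node (.leaf 339788190) (.leaf 0x57d9c8d9)) (.node (.leaf 0x614c0623) (.leaf 70587287))))) (.node (.node (.node (.node (.leaf 389) (.leaf 371)) (.node (.leaf 1709) (.leaf 0xe1fd0b50))) (.node (.node (.leaf 1167) (.leaf 1158)) (.node (.leaf 167776290) (.leaf 1998)))) (.node (.node (.node (.leaf 800) (.leaf 785)) (.node (.leaf 1895) (.leaf 0xef350992))) (.node (.node (.leaf 1473) (.leaf 0x6d4adda5)) (.node (.leaf 0xe1679031) (.leaf 0xa8f19cdd))))))) (.node (.node (.node (.node (.node (.node (.leaf 88) (.leaf 70)) (.node (.leaf 0xe8f1b3f6) (.leaf 1565))) (.node (.node (.leaf 0xa30b30ef) (.leaf 0x3fc4c47d)) (.node (.leaf 422376414) (.leaf 0x75fd8079)))) (.node (.node (.node (.leaf 550) (.leaf 533)) (.node (.leaf 1778) (.leaf 0x8fe442b7))) (.node (.node (.leaf 0xbc7896ab) (.leaf 0xbd52b322)) (.node (.leaf 2032) (.leaf 0xb0110d49)))))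 (.node (.node (.node (.node (.leaf 332) (.leaf 314)) (.node (.leaf 1689) (.leaf 1680))) (.node (.node (.leaf 1129) (.leaf 1113)) (.node (.leaf 564990897) (.leaf 0xc539aa57)))) (.node (.node (.node (.leaf 753) (.leaf 738)) (.node (.leaf 0xaf3ff1dc) (.leaf 1871))) (.node (.node (.leaf 0xa55dd96c) (.leaf 0x8127bcc9)) (.node (.leaf 0xcc894c4e) (.leaf 528157337)))))) (.node (.node (.node (.node (.node (.leaf 212) (.leaf 194)) (.node (.leaf 0x3df5c7e5) (.leaf 1630))) (.node (.node (.leaf 0x98787aba) (.leaf 0x8f5bf6d4)) (.node (.leaf 0x4527cc59) (.leaf 0x3bb87500)))) (.node (.node (.node (.leaf 658) (.leaf 644)) (.node (.leaf 1830) (.leaf 1826))) (.node (.node (.leaf 0x71e20b41) (.leaf 1350)) (.node (.leaf 0x9810debc) (.leaf 0xa488ba02))))) (.node (.node (.node (.node (.leaf 444) (.leaf 426)) (.node (.leaf 1733) (.leaf 1725))) (.node (.node (.leaf 874072099) (.leaf 1188)) (.node (.leaf 0xe3d32261) (.leaf 0xd26ff671)))) (.node (.node (.node (.leaf 850) (.leaf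 836)) (.node (.leaf 0x7cfccc61) (.leaf 0xe14bd55b))) (.node (.node (.leaf 1505) (.leaf 0x767d4ce2)) (.node (.leaf 752227726) (.leaf 0x61798b05)))))))) (.node (.node (.node (.node (.node (.node (.node (.leaf 57) (.leaf 38)) (.node (.leaf 0x84ca02f5) (.leaf 2459))) (.node (.node (.leaf 922) (.leaf 907)) (.node (.leaf 0x59dbd2f0) (.leaf 0x89ac80da)))) (.node (.node (.node (.leaf 525) (.leaf 509)) (.node (.leaf 0xa26f6872) (.leaf 377293669))) (.node (.node (.leaf 0x5e72ef62) (.leaf 1253)) (.node (.leaf 0x4eaf29c0) (.leaf 597846855))))) (.node (.node (.node (.node (.leaf 301) (.leaf 283)) (.node (.leaf 1674) (.leaf 0x69798a3f))) (.node (.node (.leaf 895201803) (.leaf 1093)) (.node (.leaf 0xbab87f20) (.leaf 0xa2fbca80)))) (.node (.node (.node (.leaf 729) (.leaf 0x6ebc485d)) (.node (.leaf 0xb2232e2b) (.leaf 1861))) (.node (.node (.leaf 1419) (.leaf 0x99da7e92)) (.node (.leaf 0xa892a801) (.leaf 0x42f24eb0)))))) (.node (.node (.node (.node (.node (.leaf 181) (.leaf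 163)) (.node (.leaf 1619) (.leaf 891968600))) (.node (.node (.leaf 0x7d95ab26) (.leaf 0xda517b14)) (.node (.leaf 0xe3390b06) (.leaf 676683532)))) (.node (.node (.node (.leaf 634) (.leaf 618)) (.node (.leaf 0xefbdbed8) (.leaf 0x798d641a))) (.node (.node (.leaf 92524379) (.leaf 0xb5cdf88c)) (.node (.leaf 2045) (.leaf 0xe08d1ee7))))) (.node (.node (.node (.node (.leaf 414) (.leaf 400)) (.node (.leaf 0xa8ecdeaf) (.leaf 1713))) (.node (.node (.leaf 1181) (.leaf 399820450)) (.node (.leaf 0xae307b9a) (.leaf 0xea80742f)))) (.node (.node (.node (.leaf 824) (.leaf 808)) (.node (.leaf 1901) (.leaf 1897))) (.node (.node (.leaf 0x8b07fe46) (.leaf 0x4b5bd5e6)) (.node (.leaf 0x97428972) (.leaf 0x7969fe31))))))) (.node (.node (.node (.node (.node (.node (.leaf 120) (.leaf 101)) (.node (.leaf 570512106) (.leaf 0x8993d87e))) (.node (.node (.leaf 973) (.leaf 957)) (.node (.leaf 0xe9c08f48) (.leaf 1938)))) (.node (.node (.node (.leaf 577) (.leaf 560)) (.node (.leaf 929003361)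 (.leaf 1783))) (.node (.node (.leaf 0x90906fd3) (.leaf 1292)) (.node (.leaf 2038) (.leaf 0x67545fcf))))) (.node (.node (.node (.node (.leaf 360) (.leaf 0xdc9cace5)) (.node (.leaf 0x861d1546) (.leaf 1693))) (.node (.node (.leaf 1152) (.leaf 1137)) (.node (.leaf 0xbd4e53e1) (.leaf 1993)))) (.node (.node (.node (.leaf 339776544) (.leaf 763)) (.node (.leaf 1883) (.leaf 0x615d7335))) (.node (.node (.leaf 1451) (.leaf 1444)) (.node (.leaf 0xd502a105) (.leaf 0x9d3ad43a)))))) (.node (.node (.node (.node (.node (.leaf 240) (.leaf 223)) (.node (.leaf 0xb6184f7b) (.leaf 660254710))) (.node (.node (.leaf 1060) (.leaf 0xd292a85c)) (.node (.leaf 0x6cc948e9) (.leaf 0xcffeb1c9)))) (.node (.node (.node (.leaf 681) (.leaf 665)) (.node (.leaf 0xdf32475a) (.leaf 0x4721fdb7))) (.node (.node (.leaf 1382) (.leaf 189931730)) (.node (.leaf 0x63a7d84d) (.leaf 422177653))))) (.node (.node (.node (.node (.leaf 471) (.leaf 0x99678b9b)) (.node (.leaf 1747) (.leaf 0x8e144a7c))) (.node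 (.node (.leaf 0x80999c05) (.leaf 0xbac584bd)) (.node (.leaf 0x85f3dc1d) (.leaf 0x910320f0)))) (.node (.node (.node (.leaf 873) (.leaf 0x5d01f4e8)) (.node (.leaf 0x65487a13) (.leaf 0x6ab19721))) (.node (.node (.leaf 1527) (.leaf 889968870)) (.node (.leaf 149165841) (.leaf 0xb9859a89))))))))

/-- Part of `topFac`. -/
def topFac_p0100 : Tr := .node (.node (.node (.node (.node (.node (.node (.node (.node (.leaf 5) (.leaf 0xe4efdf2a)) (.leaf 0x54d9cb64)) (.node (.leaf 1533) (.leaf 0xb3c197d5))) (.node (.node (.leaf 881) (.leaf 868)) (.node (.leaf 0xc669ddfd) (.leaf 0xc3f38ee5)))) (.node (.node (.node (.leaf 482) (.leaf 0x914a1332)) (.node (.leaf 1750) (.leaf 0x86ca4e21))) (.node (.node (.leaf 1232) (.leaf 0xd3728fc2)) (.node (.leaf 2018) (.leaf 417194546))))) (.node (.node (.node (.node (.leaf 252) (.leaf 234)) (.node (.leaf 981398910) (.leaf 0x84c645c9))) (.node (.node (.leaf 1069) (.leaf 1054)) (.node (.leaf 1971) (.leaf 324729669)))) (.node (.node (.node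 (.leaf 690) (.leaf 923011052)) (.node (.leaf 0x8348578a) (.leaf 434255443))) (.node (.node (.leaf 1388) (.leaf 0x7956780b)) (.node (.leaf 0x7678b94c) (.leaf 592446731)))))) (.node (.node (.node (.node (.node (.leaf 132) (.leaf 113)) (.node (.leaf 1595) (.leaf 0x3e8f2c1d))) (.node (.node (.leaf 981) (.leaf 0x6af4ec42)) (.node (.leaf 0xe2560e31) (.leaf 423093339)))) (.node (.node (.node (.leaf 588) (.leaf 570)) (.node (.leaf 1795) (.leaf 0x8a11b3ec))) (.node (.node (.leaf 0x9c54b104) (.leaf 1300)) (.node (.leaf 0x83866886) (.leaf 0x4d17c41f))))) (.node (.node (.node (.node (.leaf 370) (.leaf 354)) (.node (.leaf 466601129) (.leaf 1697))) (.node (.node (.leaf 1157) (.leaf 1148)) (.node (.leaf 0xb76ae610) (.leaf 0xc83e9cd3)))) (.node (.node (.node (.leaf 784) (.leaf 772)) (.node (.leaf 0xcc5e4498) (.leaf 0x87dd1a55))) (.node (.node (.leaf 1458) (.leaf 485914757)) (.node (.leaf 0xa0af1bbd) (.leaf 0x9e59eee2))))))) (.node (.node (.node (.node (.node (.node (.leaf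 69) (.leaf 50)) (.node (.leaf 0xe90c8301) (.leaf 1558))) (.node (.node (.leaf 930) (.leaf 301071879)) (.node (.leaf 0xcf2389b0) (.leaf 0x6d76d9d4)))) (.node (.node (.node (.leaf 532) (.leaf 518)) (.node (.leaf 0x6f912a64) (.leaf 1765))) (.node (.node (.leaf 0xa7ff2567) (.leaf 1261)) (.node (.leaf 0x3ddd3052) (.leaf 0x820bbf70))))) (.node (.node (.node (.node (.leaf 313) (.leaf 294)) (.node (.leaf 1679) (.leaf 267547384))) (.node (.node (.leaf 1112) (.leaf 1100)) (.node (.leaf 0x68085b37) (.leaf 62457325)))) (.node (.node (.node (.leaf 0xc3671b99) (.leaf 724)) (.node (.leaf 0xe6e3a39c) (.leaf 1865))) (.node (.node (.leaf 1424) (.leaf 253480996)) (.node (.leaf 0x3f52891a) (.leaf 91676780)))))) (.node (.node (.node (.node (.node (.leaf 193) (.leaf 175)) (.node (.leaf 0xc4a08431) (.leaf 0xd1314321))) (.node (.node (.leaf 1028) (.leaf 1014)) (.node (.leaf 1960) (.leaf 919258947)))) (.node (.node (.node (.leaf 0xed69d3f8) (.leaf 629)) (.node (.leaf 0xae55f6bb)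 (.leaf 1819))) (.node (.node (.leaf 1349) (.leaf 1336)) (.node (.leaf 99266378) (.leaf 0x4fc92fa9))))) (.node (.node (.node (.node (.leaf 425) (.leaf 407)) (.node (.leaf 0x4e79614e) (.leaf 0xdf038569))) (.node (.node (.leaf 0xa237d584) (.leaf 0x7a5ee8d0)) (.node (.leaf 0xb1b06fe4) (.leaf 2006)))) (.node (.node (.node (.leaf 835) (.leaf 818)) (.node (.leaf 0xe81750cf) (.leaf 374126199))) (.node (.node (.leaf 0xbf56502c) (.leaf 1488)) (.node (.leaf 0xa752a90f) (.leaf 0x7888100d)))))))) (.node (.node (.node (.node (.node (.node (.node (.node (.leaf 37) (.leaf 978263720)) (.leaf 18)) (.node (.leaf 0xee1b4194) (.leaf 0xc2fdc649))) (.node (.node (.leaf 906) (.leaf 889)) (.node (.leaf 716020305) (.leaf 0xa601046c)))) (.node (.node (.node (.leaf 508) (.leaf 492)) (.node (.leaf 0xa226511f) (.leaf 0x41c41211))) (.node (.node (.leaf 1252) (.leaf 1243)) (.node (.leaf 0xb51c111e) (.leaf 2024))))) (.node (.node (.node (.node (.leaf 282) (.leaf 265)) (.node (.leaf 1669)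 (.leaf 0x6e370e05))) (.node (.node (.leaf 1092) (.leaf 1079)) (.node (.leaf 1979) (.leaf 1974)))) (.node (.node (.node (.leaf 0xc47ca274) (.leaf 701)) (.node (.leaf 0xc46665ce) (.leaf 1851))) (.node (.node (.leaf 0x79160c5c) (.leaf 1398)) (.node (.leaf 746248276) (.leaf 0xac561898)))))) (.node (.node (.node (.node (.node (.leaf 162) (.leaf 144)) (.node (.leaf 1610) (.leaf 0x60876b7a))) (.node (.node (.leaf 1004) (.leaf 991)) (.node (.leaf 0xefcc18fb) (.leaf 1950)))) (.node (.node (.node (.leaf 617) (.leaf 601)) (.node (.leaf 0xa4f020e8) (.leaf 0x43bcd8d9))) (.node (.node (.leaf 0x7a57d314) (.leaf 1320)) (.node (.leaf 2040) (.leaf 785322091))))) (.node (.node (.node (.node (.leaf 0xa7f3dcc2) (.leaf 382)) (.node (.leaf 0xd3b7d263) (.leaf 1705))) (.node (.node (.leaf 0xbc2f6184) (.leaf 1162)) (.node (.leaf 29576425) (.leaf 405713219)))) (.node (.node (.node (.leaf 807) (.leaf 795)) (.node (.leaf 1896) (.leaf 0x73b646a3))) (.node (.node (.leaf 0xa1704d67)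 (.leaf 1468)) (.node (.leaf 802888169) (.leaf 0x9ce1522b))))))) (.node (.node (.node (.node (.node (.node (.leaf 100) (.leaf 81)) (.node (.leaf 1579) (.leaf 0xae528419))) (.node (.node (.leaf 956) (.leaf 940)) (.node (.leaf 0x7730f1a1) (.leaf 0x5b22b0d2)))) (.node (.node (.node (.leaf 0xe7fa2a0a) (.leaf 0xeec8382b)) (.node (.leaf 1782) (.leaf 1775))) (.node (.node (.leaf 228533502) (.leaf 0x4fb355b0)) (.node (.leaf 0x42e81d22) (.leaf 0xdeb561c1))))) (.node (.node (.node (.node (.leaf 343) (.leaf 325)) (.node (.leaf 0xba072372) (.leaf 1686))) (.node (.node (.leaf 1136) (.leaf 0xea48f734)) (.node (.leaf 0xd0b082d5) (.leaf 1990)))) (.node (.node (.node (.leaf 762) (.leaf 746)) (.node (.leaf 0x51c23285) (.leaf 0x5eb20a0e))) (.node (.node (.leaf 0xe4aff3bd) (.leaf 0xe5bedd52)) (.node (.leaf 0xe6ff3c50) (.leaf 0x549a5e21)))))) (.node (.node (.node (.node (.node (.leaf 222) (.leaf 205)) (.node (.leaf 0x5feff45c) (.leaf 0x69d37fe0))) (.node (.node (.leaf 0x9e6b3b80)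 (.leaf 1036)) (.node (.leaf 0xcff3f9ba) (.leaf 4388569)))) (.node (.node (.node (.leaf 0x89f0366d) (.leaf 652)) (.node (.leaf 1835) (.leaf 907585698))) (.node (.node (.leaf 1368) (.leaf 1357)) (.node (.leaf 0xd3407dff) (.leaf 643840363))))) (.node (.node (.node (.node (.leaf 455) (.leaf 438)) (.node (.leaf 1739) (.leaf 1730))) (.node (.node (.leaf 1209) (.leaf 1195)) (.node (.leaf 0xd1521534) (.leaf 398998504)))) (.node (.node (.node (.leaf 861) (.leaf 844)) (.node (.leaf 0x6b15bb0b) (.leaf 1909))) (.node (.node (.leaf 1514) (.leaf 278794400)) (.node (.leaf 0xd166882b) (.leaf 0xdf91c65b))))))))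

/-- Part of `topFac`. -/
def topFac_p0101 : Tr := .node (.node (.node (.node (.node (.node (.node (.node (.node (.leaf 21) (.leaf 778888366)) (.leaf 2)) (.node (.leaf 1545) (.leaf 749114691))) (.node (.node (.leaf 892) (.leaf 0x97d4c6a1)) (.node (.leaf 549647764) (.leaf 0xef88b90d)))) (.node (.node (.node (.leaf 494) (.leaf 479)) (.node (.leaf 0x48d5a54b) (.leaf 0x678ab69d))) (.node (.node (.leaf 0x3e6e95be) (.leaf 1231)) (.node (.leaf 0xc4938578) (.leaf 0x940d9aa3))))) (.node (.node (.node (.node (.leaf 268) (.leaf 249)) (.node (.leaf 0x6df0f45b) (.leaf 0x41f8635b))) (.node (.node (.leaf 1082) (.leaf 81256587)) (.node (.leaf 498668980) (.leaf 877382585)))) (.node (.node (.node (.leaf 703) (.leaf 687)) (.node (.leaf 0x5066614b) (.leaf 1845))) (.node (.node (.leaf 1400) (.leaf 149829871)) (.node (.leaf 0x3e4eb22d) (.leaf 0xd479bfb7)))))) (.node (.node (.node (.node (.node (.leaf 147) (.leaf 129)) (.node (.leaf 1602) (.leaf 0x5417e025))) (.node (.node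 (.leaf 0x66796c1a) (.leaf 769054069)) (.node (.leaf 0xdb05ba9a) (.leaf 1945)))) (.node (.node (.node (.leaf 604) (.leaf 585)) (.node (.leaf 796758057) (.leaf 0x5fb631e8))) (.node (.node (.leaf 215148708) (.leaf 1310)) (.node (.leaf 0x64520a5a) (.leaf 568876004))))) (.node (.node (.node (.node (.leaf 385) (.leaf 367)) (.node (.leaf 0xa5bd9607) (.leaf 1700))) (.node (.node (.leaf 1163) (.leaf 0x3ddeea9d)) (.node (.leaf 0xb940a811) (.leaf 0xb0f2314c)))) (.node (.node (.node (.leaf 798) (.leaf 783)) (.node (.leaf 1892) (.leaf 0x56314ed1))) (.node (.node (.leaf 1470) (.leaf 1456)) (.node (.leaf 0x723e13c6) (.leaf 0x867ba7a8))))))) (.node (.node (.node (.node (.node (.node (.leaf 84) (.leaf 66)) (.node (.leaf 502198241) (.leaf 399344759))) (.node (.node (.leaf 495875832) (.leaf 0xb26f210a)) (.node (.leaf 1936) (.leaf 0x6f72f088)))) (.node (.node (.node (.leaf 546) (.leaf 0x5726baab)) (.node (.leaf 1776) (.leaf 269800600))) (.node (.node (.leaf 1280) (.leaf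 1272)) (.node (.leaf 878591540) (.leaf 0xb13b4a36))))) (.node (.node (.node (.node (.leaf 328) (.leaf 310)) (.node (.leaf 0x8a8dfd46) (.leaf 0xc2559dc8))) (.node (.node (.leaf 1125) (.leaf 0x4b897a52)) (.node (.leaf 0xb27d9e91) (.leaf 0xabcb2401)))) (.node (.node (.node (.leaf 749) (.leaf 735)) (.node (.leaf 0x3c450ba5) (.leaf 1869))) (.node (.node (.leaf 1434) (.leaf 1422)) (.node (.leaf 903941876) (.leaf 0x700031b3)))))) (.node (.node (.node (.node (.node (.leaf 208) (.leaf 190)) (.node (.leaf 1634) (.leaf 1628))) (.node (.node (.leaf 1038) (.leaf 0xd6e65c8b)) (.node (.leaf 0x6c1ff025) (.leaf 0x6820b3be)))) (.node (.node (.node (.leaf 654) (.leaf 641)) (.node (.leaf 0x67187bab) (.leaf 0x7b6d10af))) (.node (.node (.leaf 1358) (.leaf 1348)) (.node (.leaf 0x7959a9ba) (.leaf 0xd1cae517))))) (.node (.node (.node (.node (.leaf 440) (.leaf 422)) (.node (.leaf 192092029) (.leaf 684117338))) (.node (.node (.leaf 1197) (.leaf 1186)) (.node (.leaf 0xa8c9a513)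 (.leaf 0x4adf1226)))) (.node (.node (.node (.leaf 846) (.leaf 832)) (.node (.leaf 0xea09414d) (.leaf 0xc9559df3))) (.node (.node (.leaf 769402924) (.leaf 1494)) (.node (.leaf 123744808) (.leaf 0x9861f2ed)))))))) (.node (.node (.node (.node (.node (.node (.node (.leaf 53) (.leaf 34)) (.node (.leaf 0x545fda55) (.leaf 1552))) (.node (.node (.leaf 918) (.leaf 904)) (.node (.leaf 0x7b4fa040) (.leaf 0x6b3e550d)))) (.node (.node (.node (.leaf 521) (.leaf 505)) (.node (.leaf 1766) (.leaf 1762))) (.node (.node (.leaf 1262) (.leaf 1251)) (.node (.leaf 90689375) (.leaf 2026))))) (.node (.node (.node (.node (.leaf 297) (.leaf 279)) (.node (.leaf 0xe2c4aaba) (.leaf 1667))) (.node (.node (.leaf 932297470) (.leaf 1089)) (.node (.leaf 39795815) (.leaf 0xa7cdb5e1)))) (.node (.node (.node (.leaf 727) (.leaf 714)) (.node (.leaf 486583011) (.leaf 1858))) (.node (.node (.leaf 0xe6a79772) (.leaf 1409)) (.node (.leaf 0xbef5c6dd) (.leaf 0x8aab0b1f)))))) (.node (.node (.node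 (.node (.node (.leaf 178) (.leaf 160)) (.node (.leaf 0x61bae6ea) (.leaf 1609))) (.node (.node (.leaf 1017) (.leaf 1003)) (.node (.leaf 906812295) (.leaf 1954)))) (.node (.node (.node (.leaf 631) (.leaf 615)) (.node (.leaf 0x9509c523) (.leaf 1810))) (.node (.node (.leaf 0xb3caaf85) (.leaf 1328)) (.node (.leaf 0xb11f0a7f) (.leaf 0x403d302b))))) (.node (.node (.node (.node (.leaf 410) (.leaf 397)) (.node (.leaf 0xdf08ee21) (.leaf 1712))) (.node (.node (.leaf 0x726751d8) (.leaf 1171)) (.node (.leaf 0xb293eafa) (.leaf 0x5a6e881c)))) (.node (.node (.node (.leaf 820) (.leaf 804)) (.node (.leaf 0x8514fc93) (.leaf 0x8d4028f8))) (.node (.node (.leaf 0xad0fc800) (.leaf 0xec0ec0fb)) (.node (.leaf 0xe087d527) (.leaf 0xb15ad524))))))) (.node (.node (.node (.node (.node (.node (.leaf 116) (.leaf 97)) (.node (.leaf 0x8166242c) (.leaf 1577))) (.node (.node (.leaf 971) (.leaf 953)) (.node (.leaf 0xe63553d3) (.leaf 0xdf61dab2)))) (.node (.node (.node (.leaf 573) (.leaf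 0xcccb517e)) (.node (.leaf 1791) (.leaf 0x3e3b6187))) (.node (.node (.leaf 0xcb98f31d) (.leaf 1289)) (.node (.leaf 50402207) (.leaf 2034))))) (.node (.node (.node (.node (.leaf 357) (.leaf 340)) (.node (.leaf 0xd549f9d1) (.leaf 0x83b5af4c))) (.node (.node (.leaf 1150) (.leaf 0x605b9f00)) (.node (.leaf 0xa7637148) (.leaf 0xaa085867)))) (.node (.node (.node (.leaf 775) (.leaf 760)) (.node (.leaf 0x54e5da5f) (.leaf 0xa221ac4d))) (.node (.node (.leaf 0xb340c4be) (.leaf 1441)) (.node (.leaf 0x555877cc) (.leaf 0xa974abf2)))))) (.node (.node (.node (.node (.node (.leaf 237) (.leaf 220)) (.node (.leaf 1646) (.leaf 0x5eec65da))) (.node (.node (.leaf 1057) (.leaf 776343469)) (.node (.leaf 137817793) (.leaf 235089495)))) (.node (.node (.node (.leaf 677) (.leaf 662)) (.node (.leaf 1841) (.leaf 0xa09e5327))) (.node (.node (.leaf 1378) (.leaf 0x5921e88b)) (.node (.leaf 135721282) (.leaf 271765986))))) (.node (.node (.node (.node (.leaf 467) (.leaf 452)) (.node (.leaf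 1746) (.leaf 1737))) (.node (.node (.leaf 1222) (.leaf 0x5641cda9)) (.node (.leaf 0xd5a8ef14) (.leaf 0x457b8691)))) (.node (.node (.node (.leaf 0xdb14d7c3) (.leaf 858)) (.node (.leaf 0x7555ac10) (.leaf 0x7054df0e))) (.node (.node (.leaf 1524) (.leaf 1512)) (.node (.leaf 0xaa6466d1) (.leaf 0xb540768f))))))))

/-- Part of `topFac`. -/
def topFac_p0110 : Tr := .node (.node (.node (.node (.node (.node (.node (.node (.node (.leaf 13) (.leaf 0x671a530f)) (.leaf 0x9357ffeb)) (.node (.leaf 1540) (.leaf 1528))) (.node (.node (.leaf 885) (.leaf 874)) (.node (.leaf 396646306) (.leaf 0x8b38bd26)))) (.node (.node (.node (.leaf 193760756) (.leaf 472)) (.node (.leaf 521658562) (.leaf 0x6e25c169))) (.node (.node (.leaf 1239) (.leaf 1225)) (.node (.leaf 2021) (.leaf 0xbdd99239))))) (.node (.node (.node (.node (.leaf 260) (.leaf 241)) (.node (.leaf 1660) (.leaf 1650))) (.node (.node (.leaf 1074) (.leaf 1061)) (.node (.leaf 0xda2ab43d) (.leaf 0x61c2adae)))) (.node (.node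 (.node (.leaf 698) (.leaf 682)) (.node (.leaf 0xd6875e1f) (.leaf 1842))) (.node (.node (.leaf 1393) (.leaf 1383)) (.node (.leaf 0x95462f28) (.leaf 0xe3df900d)))))) (.node (.node (.node (.node (.node (.leaf 139) (.leaf 121)) (.node (.leaf 1600) (.leaf 1589))) (.node (.node (.leaf 0x82242dec) (.leaf 0xae188aff)) (.node (.leaf 0xb3c8c158) (.leaf 1943)))) (.node (.node (.node (.leaf 596) (.leaf 578)) (.node (.leaf 1801) (.leaf 0x992c4f72))) (.node (.node (.leaf 1317) (.leaf 0xa7106a3b)) (.node (.leaf 0x4b8ab42e) (.leaf 0xc2021c88))))) (.node (.node (.node (.node (.leaf 377) (.leaf 361)) (.node (.leaf 0x9c074f29) (.leaf 0x56ee4067))) (.node (.node (.leaf 1159) (.leaf 1153)) (.node (.leaf 0x5c518e15) (.leaf 1995)))) (.node (.node (.node (.leaf 790) (.leaf 779)) (.node (.leaf 1889) (.leaf 0xcf1d0b44))) (.node (.node (.leaf 1464) (.leaf 1452)) (.node (.leaf 0xd327eaa1) (.leaf 0xe9073db0))))))) (.node (.node (.node (.node (.node (.node (.leaf 76) (.leaf 58)) (.node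 (.leaf 0xa9f55f77) (.leaf 0xba8fbabb))) (.node (.node (.leaf 936) (.leaf 923)) (.node (.leaf 0x4fcee284) (.leaf 0x86efd013)))) (.node (.node (.node (.leaf 540) (.leaf 526)) (.node (.leaf 0x89783166) (.leaf 0x8022c234))) (.node (.node (.leaf 745739397) (.leaf 1266)) (.node (.leaf 2029) (.leaf 0xe97b1233))))) (.node (.node (.node (.node (.leaf 321) (.leaf 302)) (.node (.leaf 0x42d2bcdb) (.leaf 0x4ed5aa98))) (.node (.node (.leaf 309412364) (.leaf 1105)) (.node (.leaf 1988) (.leaf 0x5235e055)))) (.node (.node (.node (.leaf 741) (.leaf 730)) (.node (.leaf 0x6c5d0f7a) (.leaf 0x44017cb3))) (.node (.node (.leaf 1430) (.leaf 1420)) (.node (.leaf 0x5f2b5a02) (.leaf 0x6b05a88b)))))) (.node (.node (.node (.node (.node (.leaf 200) (.leaf 182)) (.node (.leaf 0x6ae54967) (.leaf 1620))) (.node (.node (.leaf 0xd3029346) (.leaf 1020)) (.node (.leaf 0xb22cf0a7) (.leaf 946622052)))) (.node (.node (.node (.leaf 649) (.leaf 0xd45e6dc8)) (.node (.leaf 1828) (.leaf 0x60d81bfa)))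 (.node (.node (.leaf 1354) (.leaf 1341)) (.node (.leaf 0xdd996c69) (.leaf 0xb0881ad1))))) (.node (.node (.node (.node (.leaf 433) (.leaf 415)) (.node (.leaf 1727) (.leaf 1721))) (.node (.node (.leaf 0xcf711687) (.leaf 1182)) (.node (.leaf 58403560) (.leaf 2008)))) (.node (.node (.node (.leaf 842) (.leaf 825)) (.node (.leaf 0x78fca5bc) (.leaf 1902))) (.node (.node (.leaf 1498) (.leaf 951708282)) (.node (.leaf 0xcfb7e039) (.leaf 0x5abeb616)))))))) (.node (.node (.node (.node (.node (.node (.node (.leaf 45) (.leaf 26)) (.node (.leaf 1557) (.leaf 1547))) (.node (.node (.leaf 912) (.leaf 897)) (.node (.leaf 1925) (.leaf 446731275)))) (.node (.node (.node (.leaf 514) (.leaf 498)) (.node (.leaf 1764) (.leaf 0x675f014c))) (.node (.node (.leaf 1257) (.leaf 1246)) (.node (.leaf 0xe0c21ca4) (.leaf 178452175))))) (.node (.node (.node (.node (.leaf 289) (.leaf 273)) (.node (.leaf 1670) (.leaf 1664))) (.node (.node (.leaf 1097) (.leaf 0x5f5455dc)) (.node (.leaf 0x531d3408)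 (.leaf 1977)))) (.node (.node (.node (.leaf 720) (.leaf 0x85969ea4)) (.node (.leaf 1863) (.leaf 0x410314d1))) (.node (.node (.leaf 1415) (.leaf 1404)) (.node (.leaf 0x4837cd34) (.leaf 0xa6112af1)))))) (.node (.node (.node (.node (.node (.leaf 170) (.leaf 152)) (.node (.leaf 1615) (.leaf 0xd2c4f38d))) (.node (.node (.leaf 1010) (.leaf 997)) (.node (.leaf 0x80fdbe87) (.leaf 98169541)))) (.node (.node (.node (.leaf 625) (.leaf 563487114)) (.node (.leaf 0x72d17039) (.leaf 642191468))) (.node (.node (.leaf 0x572b7ae0) (.leaf 1324)) (.node (.leaf 0x5a9be843) (.leaf 0xdcd1f76e))))) (.node (.node (.node (.node (.leaf 0x605bf593) (.leaf 390)) (.node (.leaf 487464082) (.leaf 0x6c6faf87))) (.node (.node (.leaf 0x620f9dea) (.leaf 0x7d70d456)) (.node (.leaf 0x7fa19244) (.leaf 2001)))) (.node (.node (.node (.leaf 814) (.leaf 285698426)) (.node (.leaf 1900) (.leaf 0x92bb0204))) (.node (.node (.leaf 1485) (.leaf 1474)) (.node (.leaf 545830675) (.leaf 0x4d904397)))))))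 (.node (.node (.node (.node (.node (.node (.leaf 108) (.leaf 89)) (.node (.leaf 1584) (.leaf 0x4330a7f6))) (.node (.node (.leaf 964) (.leaf 945)) (.node (.leaf 0xe1b24430) (.leaf 0x401b5d93)))) (.node (.node (.node (.leaf 566) (.leaf 551)) (.node (.leaf 172070485) (.leaf 0x8c4a889a))) (.node (.node (.leaf 646130384) (.leaf 1284)) (.node (.leaf 0xdcb51b0a) (.leaf 0x3c75c2c0))))) (.node (.node (.node (.node (.leaf 350) (.leaf 333)) (.node (.leaf 203237123) (.leaf 0x3fd40be6))) (.node (.node (.leaf 1143) (.leaf 0x84551e44)) (.node (.leaf 124384468) (.leaf 0xae6ef99e)))) (.node (.node (.node (.leaf 0xa5c0908d) (.leaf 0x912038f0)) (.node (.leaf 0x5c4d5f49) (.leaf 0x6c6042b9))) (.node (.node (.leaf 0x9be2011f) (.leaf 1436)) (.node (.leaf 0xb47773ce) (.leaf 0x98c88794)))))) (.node (.node (.node (.node (.node (.leaf 229) (.leaf 213)) (.node (.leaf 0x9357e515) (.leaf 1636))) (.node (.node (.leaf 0x654372b1) (.leaf 1041)) (.node (.leaf 875108593) (.leaf 536567831))))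 (.node (.node (.node (.leaf 671) (.leaf 0x727a678d)) (.node (.leaf 0x8e93bbdb) (.leaf 1831))) (.node (.node (.leaf 0xdeb8272d) (.leaf 1362)) (.node (.leaf 0x3cdb215f) (.leaf 913897591))))) (.node (.node (.node (.node (.leaf 461) (.leaf 445)) (.node (.leaf 522372633) (.leaf 0x4d9fc94e))) (.node (.node (.leaf 1215) (.leaf 0xa0cb169f)) (.node (.leaf 0x98b6653b) (.leaf 0xc4657941)))) (.node (.node (.node (.leaf 865) (.leaf 851)) (.node (.leaf 0xe3876480) (.leaf 0x5e481527))) (.node (.node (.leaf 1520) (.leaf 1506)) (.node (.leaf 0x6141c96d) (.leaf 0x9d0bd23d))))))))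

/-- Part of `topFac`. -/
def topFac_p0111 : Tr := .node (.node (.node (.node (.node (.node (.node (.node (.node (.leaf 29) (.leaf 0xe3ffb4c9)) (.leaf 10)) (.node (.leaf 1550) (.leaf 1537))) (.node (.node (.leaf 900) (.leaf 0x47debf71)) (.node (.leaf 0xb06e64d9) (.leaf 0xba8e565f)))) (.node (.node (.node (.leaf 0x40437226) (.leaf 487)) (.node (.leaf 899556469) (.leaf 0x4141d2eb))) (.node (.node (.leaf 1248) (.leaf 1236)) (.node (.leaf 0xc7159a98) (.leaf 675059252))))) (.node (.node (.node (.node (.leaf 0x9709e20c) (.leaf 257)) (.node (.leaf 1665) (.leaf 1658))) (.node (.node (.leaf 1086) (.leaf 754768422)) (.node (.leaf 513988282) (.leaf 0x7d4ab885)))) (.node (.node (.node (.leaf 0x9f71f6dd) (.leaf 695)) (.node (.leaf 1856) (.leaf 1848))) (.node (.node (.leaf 0x6cf29307) (.leaf 1391)) (.node (.leaf 0x4cb47188) (.leaf 0x4917bd5e)))))) (.node (.node (.node (.node (.node (.leaf 155) (.leaf 0xcc12f287)) (.node (.leaf 0xd70fa924) (.leaf 1598))) (.node (.node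 (.leaf 999) (.leaf 0xca990fdd)) (.node (.leaf 0xd7d9a7c2) (.leaf 0xb26760c8)))) (.node (.node (.node (.leaf 0x72a92a31) (.leaf 593)) (.node (.leaf 1808) (.leaf 502520033))) (.node (.node (.leaf 1325) (.leaf 0x673b6635)) (.node (.leaf 0x731ef1f6) (.leaf 0xd4c15ec9))))) (.node (.node (.node (.node (.leaf 393) (.leaf 374)) (.node (.leaf 127296368) (.leaf 0x6773a55f))) (.node (.node (.leaf 1168) (.leaf 0x98841b17)) (.node (.leaf 710289728) (.leaf 0xbc7fbabf)))) (.node (.node (.node (.leaf 0x6e878fb9) (.leaf 0xdb067ce6)) (.node (.leaf 0x98fd14a4) (.leaf 0xaa019ef2))) (.node (.node (.leaf 1476) (.leaf 1462)) (.node (.leaf 669978817) (.leaf 9590158))))))) (.node (.node (.node (.node (.node (.node (.leaf 92) (.leaf 73)) (.node (.leaf 1575) (.leaf 1567))) (.node (.node (.leaf 948) (.leaf 933)) (.node (.leaf 0x4708879c) (.leaf 0x88b24cb0)))) (.node (.node (.node (.leaf 0xbbd8f3d4) (.leaf 537)) (.node (.leaf 1779) (.leaf 1772))) (.node (.node (.leaf 1285) (.leaf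 1275)) (.node (.leaf 2033) (.leaf 0xc5d678ca))))) (.node (.node (.node (.node (.leaf 336) (.leaf 318)) (.node (.leaf 0x5e553227) (.leaf 0xb1bb6258))) (.node (.node (.leaf 1131) (.leaf 1117)) (.node (.leaf 0xb973b41d) (.leaf 1985)))) (.node (.node (.node (.leaf 755) (.leaf 0xceb74600)) (.node (.leaf 1878) (.leaf 1874))) (.node (.node (.leaf 0xbfefe57b) (.leaf 1428)) (.node (.leaf 0x82dffc33) (.leaf 0x4a6d9361)))))) (.node (.node (.node (.node (.node (.leaf 215) (.leaf 0x56728155)) (.node (.leaf 1638) (.leaf 0x43ba7321))) (.node (.node (.leaf 1044) (.leaf 1032)) (.node (.leaf 0x66edbb8e) (.leaf 1961)))) (.node (.node (.node (.leaf 0xaf495596) (.leaf 646)) (.node (.leaf 1832) (.leaf 0x45c27565))) (.node (.node (.leaf 1365) (.leaf 788233843)) (.node (.leaf 0x4e7c1a5f) (.leaf 0x51796905))))) (.node (.node (.node (.node (.leaf 447) (.leaf 430)) (.node (.leaf 0x8ef3ceaf) (.leaf 1726))) (.node (.node (.leaf 1202) (.leaf 0xad75f8a3)) (.node (.leaf 797657237) (.leaf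 0x9322a60a)))) (.node (.node (.node (.leaf 854) (.leaf 0x89e8f795)) (.node (.leaf 0x72655d6c) (.leaf 0x8ba7b2ac))) (.node (.node (.leaf 1508) (.leaf 0x8086ab11)) (.node (.leaf 0x6c19a4d5) (.leaf 0x9bd66987)))))))) (.node (.node (.node (.node (.node (.node (.node (.leaf 61) (.leaf 42)) (.node (.leaf 1561) (.leaf 1556))) (.node (.node (.leaf 925) (.leaf 0xc380d45e)) (.node (.leaf 481562845) (.leaf 0x6c965e2e)))) (.node (.node (.node (.leaf 0x847991fe) (.leaf 511)) (.node (.leaf 1770) (.leaf 0x42109479))) (.node (.node (.leaf 642891060) (.leaf 0x9025a8f0)) (.node (.leaf 0xaa3564c1) (.leaf 0xead1f973))))) (.node (.node (.node (.node (.leaf 305) (.leaf 286)) (.node (.leaf 938216607) (.leaf 0xc2a3d772))) (.node (.node (.leaf 823844701) (.leaf 39067203)) (.node (.leaf 0x4247970c) (.leaf 0x460672b9)))) (.node (.node (.node (.leaf 733) (.leaf 0x80901d93)) (.node (.leaf 1867) (.leaf 0x5fbaca74))) (.node (.node (.leaf 10902226) (.leaf 1413)) (.node (.leaf 0xa080bf38)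 (.leaf 2054)))))) (.node (.node (.node (.node (.node (.leaf 185) (.leaf 167)) (.node (.leaf 1623) (.leaf 1614))) (.node (.node (.leaf 1022) (.leaf 0x7fea294a)) (.node (.leaf 0xe5e88ffe) (.leaf 0x3c885bab)))) (.node (.node (.node (.leaf 0xe69d67d0) (.leaf 622)) (.node (.leaf 1823) (.leaf 0x606df5e1))) (.node (.node (.leaf 826532650) (.leaf 1333)) (.node (.leaf 2046) (.leaf 2041))))) (.node (.node (.node (.node (.leaf 418) (.leaf 0xba25d65c)) (.node (.leaf 0xd021f458) (.leaf 0xec8b624f))) (.node (.node (.leaf 0xc95e44d2) (.leaf 1175)) (.node (.leaf 0x45a51bc2) (.leaf 0x62f3640c)))) (.node (.node (.node (.leaf 828) (.leaf 812)) (.node (.leaf 1904) (.leaf 0xe34fec4d))) (.node (.node (.leaf 0x681f9113) (.leaf 1483)) (.node (.leaf 463286662) (.leaf 0x664d1f3a))))))) (.node (.node (.node (.node (.node (.node (.leaf 124) (.leaf 105)) (.node (.leaf 1591) (.leaf 1583))) (.node (.node (.leaf 975) (.leaf 961)) (.node (.leaf 757674883) (.leaf 702995396)))) (.node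 (.node (.node (.leaf 580) (.leaf 564)) (.node (.leaf 0x71f0cfdf) (.leaf 1787))) (.node (.node (.leaf 989697547) (.leaf 1296)) (.node (.leaf 0xbcee5ea1) (.leaf 0xcc820804))))) (.node (.node (.node (.node (.leaf 363) (.leaf 347)) (.node (.leaf 1698) (.leaf 0x3cdba14b))) (.node (.node (.leaf 0x3d8854ee) (.leaf 1140)) (.node (.leaf 210143800) (.leaf 0x83ad0a94)))) (.node (.node (.node (.leaf 0x5fb8b374) (.leaf 767)) (.node (.leaf 0xca0217ca) (.leaf 0x820dc8a9))) (.node (.node (.leaf 0x83a22fba) (.leaf 0xa294b8ed)) (.node (.leaf 0x6ac69a18) (.leaf 0x660445da)))))) (.node (.node (.node (.node (.node (.leaf 244) (.leaf 227)) (.node (.leaf 580032200) (.leaf 1643))) (.node (.node (.leaf 0xd8422449) (.leaf 1050)) (.node (.leaf 0xa0176a04) (.leaf 1967)))) (.node (.node (.node (.leaf 683) (.leaf 668)) (.node (.leaf 0x562b0002) (.leaf 1839))) (.node (.node (.leaf 1385) (.leaf 1372)) (.node (.leaf 0xa4fa7019) (.leaf 0x7df7e0dd))))) (.node (.node (.node (.node (.leaf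 475) (.leaf 459)) (.node (.leaf 0x80145760) (.leaf 0x780b3a0c))) (.node (.node (.leaf 1227) (.leaf 1213)) (.node (.leaf 338044441) (.leaf 939495272)))) (.node (.node (.node (.leaf 876) (.leaf 863)) (.node (.leaf 0x71668013) (.leaf 527182499))) (.node (.node (.leaf 836106154) (.leaf 1517)) (.node (.leaf 0xb8692eb5) (.leaf 0x97025676))))))))

/-- Part of `topFac`. -/
def topFac_p1000 : Tr := .node (.node (.node (.node (.node (.node (.node (.node (.node (.leaf 3) (.leaf 0x8d0f1f6a)) (.leaf 0xa4a049ff)) (.node (.leaf 0x43082518) (.leaf 1522))) (.node (.node (.leaf 739883934) (.leaf 866)) (.node (.leaf 0xd24d529b) (.leaf 0xcbdbc0f5)))) (.node (.node (.node (.leaf 480) (.leaf 464)) (.node (.leaf 0x9d708512) (.leaf 0x6085b683))) (.node (.node (.leaf 0xd6f64eed) (.leaf 1218)) (.node (.leaf 0xdeb27c99) (.leaf 0x6e4d4cf3))))) (.node (.node (.node (.node (.leaf 250) (.leaf 232)) (.node (.leaf 0x9b74f17d) (.leaf 1644))) (.node (.node (.leaf 270615162) (.leaf 1052))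 (.node (.leaf 0x741d7a7c) (.leaf 0xda3625e4)))) (.node (.node (.node (.leaf 688) (.leaf 674)) (.node (.leaf 901129025) (.leaf 0x54bf73f0))) (.node (.node (.leaf 0xef5e8b0e) (.leaf 1376)) (.node (.leaf 0x5fe5936d) (.leaf 0x9133f4cd)))))) (.node (.node (.node (.node (.node (.leaf 130) (.leaf 111)) (.node (.leaf 140413725) (.leaf 591182179))) (.node (.node (.leaf 979) (.leaf 967)) (.node (.leaf 0xd3d7781f) (.leaf 0xbf4005c8)))) (.node (.node (.node (.leaf 586) (.leaf 569)) (.node (.leaf 1794) (.leaf 1789))) (.node (.node (.leaf 1311) (.leaf 1299)) (.node (.leaf 0x4cb21f0c) (.leaf 0x71a34b37))))) (.node (.node (.node (.node (.leaf 368) (.leaf 352)) (.node (.leaf 824716262) (.leaf 768715322))) (.node (.node (.leaf 1156) (.leaf 1146)) (.node (.leaf 0xa856c9aa) (.leaf 0x7e827dc5)))) (.node (.node (.node (.leaf 0x51492520) (.leaf 771)) (.node (.leaf 1886) (.leaf 0x532b1ab4))) (.node (.node (.leaf 1457) (.leaf 1447)) (.node (.leaf 375515133) (.leaf 0x3d2d07ee)))))))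 (.node (.node (.node (.node (.node (.node (.leaf 67) (.leaf 48)) (.node (.leaf 796644994) (.leaf 0xdd774847))) (.node (.node (.leaf 929) (.leaf 914)) (.node (.leaf 1931) (.leaf 0x45312e60)))) (.node (.node (.node (.leaf 0x6c04ef39) (.leaf 516)) (.node (.leaf 522751094) (.leaf 0x62ee4234))) (.node (.node (.leaf 0xe6fa5e25) (.leaf 0xd2047349)) (.node (.leaf 0xad42cf67) (.leaf 0xdd530631))))) (.node (.node (.node (.node (.leaf 311) (.leaf 292)) (.node (.leaf 1678) (.leaf 1671))) (.node (.node (.leaf 1110) (.leaf 0xefaf3874)) (.node (.leaf 26226652) (.leaf 562831316)))) (.node (.node (.node (.leaf 736) (.leaf 0x77373654)) (.node (.leaf 1870) (.leaf 909218907))) (.node (.node (.leaf 151385692) (.leaf 0x3bf5da1f)) (.node (.leaf 318830539) (.leaf 0xbbb419a3)))))) (.node (.node (.node (.node (.node (.leaf 191) (.leaf 173)) (.node (.leaf 0x70482c1b) (.leaf 1616))) (.node (.node (.leaf 1026) (.leaf 1012)) (.node (.leaf 0xbc5d41ff) (.leaf 0x8d055c88)))) (.node (.node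 (.node (.leaf 642) (.leaf 627)) (.node (.leaf 1825) (.leaf 1818))) (.node (.node (.leaf 0xbf5581bf) (.leaf 1335)) (.node (.leaf 244366950) (.leaf 0x8753d34f))))) (.node (.node (.node (.node (.leaf 423) (.leaf 405)) (.node (.leaf 0x4aa54305) (.leaf 0x8e159a6e))) (.node (.node (.leaf 1187) (.leaf 1178)) (.node (.leaf 2012) (.leaf 0x82a4b96e)))) (.node (.node (.node (.leaf 833) (.leaf 0x6b034063)) (.node (.leaf 853217791) (.leaf 0x53fd6f4f))) (.node (.node (.leaf 0xd19418d4) (.leaf 1487)) (.node (.leaf 0xcadcec57) (.leaf 0xb549b0ba)))))))) (.node (.node (.node (.node (.node (.node (.node (.node (.leaf 35) (.leaf 0xa3d8e040)) (.leaf 16)) (.node (.leaf 1553) (.leaf 0x5c2b8a6c))) (.node (.node (.leaf 405146722) (.leaf 888)) (.node (.leaf 31075270) (.leaf 701442810)))) (.node (.node (.node (.leaf 506) (.leaf 0xa7b5c693)) (.node (.leaf 1763) (.leaf 872659335))) (.node (.node (.leaf 0xc49645e5) (.leaf 0x8493b3ff)) (.node (.leaf 2027) (.leaf 0x718a8b25))))) (.node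 (.node (.node (.node (.leaf 280) (.leaf 263)) (.node (.leaf 0x750d02d2) (.leaf 1662))) (.node (.node (.leaf 1090) (.leaf 1077)) (.node (.leaf 0xe284d579) (.leaf 0x7dd8f21f)))) (.node (.node (.node (.leaf 715) (.leaf 700)) (.node (.leaf 1859) (.leaf 1850))) (.node (.node (.leaf 1410) (.leaf 1396)) (.node (.leaf 2053) (.leaf 0x8107d7c9)))))) (.node (.node (.node (.node (.node (.leaf 161) (.leaf 142)) (.node (.leaf 0xe3848539) (.leaf 0x97fd0d4f))) (.node (.node (.leaf 0xe35146a3) (.leaf 989)) (.node (.leaf 1955) (.leaf 0x6ea4cd00)))) (.node (.node (.node (.leaf 0xd42d5105) (.leaf 599)) (.node (.leaf 1811) (.leaf 515166359))) (.node (.node (.leaf 1329) (.leaf 0xcecf0b67)) (.node (.leaf 0x739333c0) (.leaf 0x64292447))))) (.node (.node (.node (.node (.leaf 398) (.leaf 380)) (.node (.leaf 0x7a9487bd) (.leaf 1704))) (.node (.node (.leaf 1172) (.leaf 1161)) (.node (.leaf 2003) (.leaf 0x8e2042b8)))) (.node (.node (.node (.leaf 805) (.leaf 793)) (.node (.leaf 0x6075eb10)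 (.leaf 1890))) (.node (.node (.leaf 1479) (.leaf 1466)) (.node (.leaf 0xb021f6ca) (.leaf 0xb9b559c9))))))) (.node (.node (.node (.node (.node (.node (.leaf 98) (.leaf 79)) (.node (.leaf 0xa3fd5012) (.leaf 1570))) (.node (.node (.leaf 954) (.leaf 938)) (.node (.leaf 1937) (.leaf 0xe6b7c09f)))) (.node (.node (.node (.leaf 558) (.leaf 543)) (.node (.leaf 0x7548ad95) (.leaf 376112490))) (.node (.node (.leaf 1290) (.leaf 579438349)) (.node (.leaf 532498190) (.leaf 2031))))) (.node (.node (.node (.node (.leaf 341) (.leaf 323)) (.node (.leaf 582046609) (.leaf 0x468f299a))) (.node (.node (.leaf 1134) (.leaf 1121)) (.node (.leaf 826347803) (.leaf 0x3c39112e)))) (.node (.node (.node (.leaf 761) (.leaf 744)) (.node (.leaf 1880) (.leaf 388419182))) (.node (.node (.leaf 1442) (.leaf 1432)) (.node (.leaf 0xbbe51f4e) (.leaf 0x3c6c06eb)))))) (.node (.node (.node (.node (.node (.leaf 0xa133ee50) (.leaf 203)) (.node (.leaf 0x3e1a449d) (.leaf 1633))) (.node (.node (.leaf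 27433480) (.leaf 1035)) (.node (.leaf 340918718) (.leaf 0xedcb5532)))) (.node (.node (.node (.leaf 663) (.leaf 651)) (.node (.leaf 1834) (.leaf 912866775))) (.node (.node (.leaf 0xc611d3bd) (.leaf 0x78494ab0)) (.node (.leaf 0x834a806a) (.leaf 0xe7fedcf8))))) (.node (.node (.node (.node (.leaf 453) (.leaf 436)) (.node (.leaf 0x6b88519f) (.leaf 1729))) (.node (.node (.leaf 1207) (.leaf 1193)) (.node (.leaf 0x6de8d030) (.leaf 0x4828c5e5)))) (.node (.node (.node (.leaf 859) (.leaf 0xa1351888)) (.node (.leaf 9722885) (.leaf 1908))) (.node (.node (.leaf 0xec72719b) (.leaf 1500)) (.node (.leaf 66070344) (.leaf 72775548))))))))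

/-- Part of `topFac`. -/
def topFac_p1001 : Tr := .node (.node (.node (.node (.node (.node (.node (.node (.node (.leaf 19) (.leaf 0x44d3f105)) (.leaf 0x8d9a13bb)) (.node (.leaf 1543) (.leaf 0xd1319d5d))) (.node (.node (.leaf 890) (.leaf 879)) (.node (.leaf 0xd4f4b583) (.leaf 0x517fb234)))) (.node (.node (.node (.leaf 0x8ab1f7b0) (.leaf 478)) (.node (.leaf 0xdff7fe11) (.leaf 0x881fef1b))) (.node (.node (.leaf 1244) (.leaf 1229)) (.node (.leaf 0x9ad31ba3) (.leaf 0xc2fc30b7))))) (.node (.node (.node (.node (.leaf 266) (.leaf 247)) (.node (.leaf 581859241) (.leaf 1653))) (.node (.node (.leaf 1080) (.leaf 1066)) (.node (.leaf 1975) (.leaf 0xdc9784d5)))) (.node (.node (.node (.leaf 702) (.leaf 0x6cc13181)) (.node (.leaf 544494602) (.leaf 1843))) (.node (.node (.leaf 1399) (.leaf 0x73a16af4)) (.node (.leaf 0xb4856b8a) (.leaf 0x8327436d)))))) (.node (.node (.node (.node (.node (.leaf 145) (.leaf 127)) (.node (.leaf 0x548f2fdd) (.leaf 0x46098453))) (.node (.node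 (.leaf 0xc13df3f3) (.leaf 977)) (.node (.leaf 0x442065f3) (.leaf 0x5e1ff519)))) (.node (.node (.node (.leaf 602) (.leaf 583)) (.node (.leaf 37025069) (.leaf 0xc9b65e2a))) (.node (.node (.leaf 1321) (.leaf 1308)) (.node (.leaf 2039) (.leaf 0x3be5faef))))) (.node (.node (.node (.node (.leaf 383) (.leaf 366)) (.node (.leaf 739190614) (.leaf 0xed06c94d))) (.node (.node (.leaf 0x89086068) (.leaf 0xb66d0faa)) (.node (.leaf 2000) (.leaf 0x61c5198e)))) (.node (.node (.node (.leaf 796) (.leaf 0x77ce1235)) (.node (.leaf 0xb5888a6e) (.leaf 868140028))) (.node (.node (.leaf 0x5a3bd826) (.leaf 0x895997f9)) (.node (.leaf 0xe6763568) (.leaf 0xc3277042))))))) (.node (.node (.node (.node (.node (.node (.leaf 82) (.leaf 64)) (.node (.leaf 1571) (.leaf 1564))) (.node (.node (.leaf 941) (.leaf 928)) (.node (.leaf 0x4b2899d9) (.leaf 0xb70cd64b)))) (.node (.node (.node (.leaf 0xc3e0d22b) (.leaf 0x53572487)) (.node (.leaf 998373876) (.leaf 0xe058adeb))) (.node (.node (.leaf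 1279) (.leaf 1270)) (.node (.leaf 476292658) (.leaf 0x5906b117))))) (.node (.node (.node (.node (.leaf 326) (.leaf 308)) (.node (.leaf 0x77dbf903) (.leaf 337469984))) (.node (.node (.leaf 1123) (.leaf 1108)) (.node (.leaf 0x505204f3) (.leaf 1983)))) (.node (.node (.node (.leaf 747) (.leaf 659842363)) (.node (.leaf 0xc3aaaaa8) (.leaf 0xb44b40ad))) (.node (.node (.leaf 0xa4097a1e) (.leaf 345621921)) (.node (.leaf 0x9692b3fb) (.leaf 0x438dd5f1)))))) (.node (.node (.node (.node (.node (.leaf 206) (.leaf 188)) (.node (.leaf 885241989) (.leaf 1626))) (.node (.node (.leaf 1037) (.leaf 1024)) (.node (.leaf 1962) (.leaf 264616566)))) (.node (.node (.node (.leaf 0xcbc49b28) (.leaf 639)) (.node (.leaf 0xc912d1a4) (.leaf 1824))) (.node (.node (.leaf 905146271) (.leaf 1346)) (.node (.leaf 34010862) (.leaf 0x740b6c3a))))) (.node (.node (.node (.node (.leaf 439) (.leaf 421)) (.node (.leaf 487082956) (.leaf 228753568))) (.node (.node (.leaf 0xa7bf1d70) (.leaf 0xeb07cf21))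 (.node (.leaf 0x66297d26) (.leaf 2011)))) (.node (.node (.node (.leaf 0xdb1a7575) (.leaf 830)) (.node (.leaf 317766816) (.leaf 0x857f25f2))) (.node (.node (.leaf 1502) (.leaf 1492)) (.node (.leaf 564288998) (.leaf 2057)))))))) (.node (.node (.node (.node (.node (.node (.node (.leaf 51) (.leaf 32)) (.node (.leaf 0x58ebb261) (.leaf 802361741))) (.node (.node (.leaf 916) (.leaf 903)) (.node (.leaf 0x84ff7fe7) (.leaf 0xead6cf75)))) (.node (.node (.node (.leaf 519) (.leaf 503)) (.node (.leaf 0xa2396e1d) (.leaf 1761))) (.node (.node (.leaf 0x4a55d140) (.leaf 0xd883544a)) (.node (.leaf 0xa0ae675f) (.leaf 406765295))))) (.node (.node (.node (.node (.leaf 295) (.leaf 278)) (.node (.leaf 0x70299714) (.leaf 1666))) (.node (.node (.leaf 1101) (.leaf 1088)) (.node (.leaf 1981) (.leaf 0x63fae4ee)))) (.node (.node (.node (.leaf 725) (.leaf 712)) (.node (.leaf 924911757) (.leaf 1857))) (.node (.node (.leaf 1417) (.leaf 1408)) (.node (.leaf 0x8e0b5862) (.leaf 537018693))))))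 (.node (.node (.node (.node (.node (.leaf 176) (.leaf 158)) (.node (.leaf 0x7c735b20) (.leaf 231872914))) (.node (.node (.leaf 1015) (.leaf 0xd44b04d9)) (.node (.leaf 813323293) (.leaf 0x929dd663)))) (.node (.node (.node (.leaf 630) (.leaf 613)) (.node (.leaf 643890180) (.leaf 0x3e46aa61))) (.node (.node (.leaf 846287063) (.leaf 1327)) (.node (.leaf 0x9c7c08dc) (.leaf 0x9545bdea))))) (.node (.node (.node (.node (.leaf 408) (.leaf 395)) (.node (.leaf 1719) (.leaf 1710))) (.node (.node (.leaf 1179) (.leaf 0x8ef8a9e7)) (.node (.leaf 0x7d2338f8) (.leaf 0xb7fd8e36)))) (.node (.node (.node (.leaf 259039195) (.leaf 803)) (.node (.leaf 0xa4aa0f93) (.leaf 0x8f644d3a))) (.node (.node (.leaf 775749368) (.leaf 1478)) (.node (.leaf 0x986bd194) (.leaf 0x51fc157e))))))) (.node (.node (.node (.node (.node (.node (.leaf 114) (.leaf 95)) (.node (.leaf 806318844) (.leaf 0x4be61cf3))) (.node (.node (.leaf 969) (.leaf 951)) (.node (.leaf 0xdfdc614a) (.leaf 0x460c41ba))))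 (.node (.node (.node (.leaf 571) (.leaf 556)) (.node (.leaf 0xcf0bfbb3) (.leaf 1780))) (.node (.node (.leaf 1301) (.leaf 1287)) (.node (.leaf 0x536edba3) (.leaf 0xb170ccd6))))) (.node (.node (.node (.node (.leaf 355) (.leaf 982814626)) (.node (.leaf 0x92e57df8) (.leaf 1692))) (.node (.node (.leaf 1149) (.leaf 1133)) (.node (.leaf 482220154) (.leaf 0xbd450f2f)))) (.node (.node (.node (.leaf 773) (.leaf 758)) (.node (.leaf 150002370) (.leaf 0xbc569e57))) (.node (.node (.leaf 619269759) (.leaf 0x7ee38b76)) (.node (.leaf 0xd0b75048) (.leaf 0x9354e344)))))) (.node (.node (.node (.node (.node (.leaf 235) (.leaf 218)) (.node (.leaf 0xb4823cd1) (.leaf 28145788))) (.node (.node (.leaf 1055) (.leaf 1046)) (.node (.leaf 0x9a3336d9) (.leaf 0x7198d92e)))) (.node (.node (.node (.leaf 0xe9af51ce) (.leaf 661)) (.node (.leaf 17132382) (.leaf 0xa971909c))) (.node (.node (.leaf 0xb306e537) (.leaf 0xa02dfccd)) (.node (.leaf 2049) (.leaf 612504409))))) (.node (.node (.node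 (.node (.leaf 0xcdca1d51) (.leaf 450)) (.node (.leaf 0xa71b4b46) (.leaf 0x7fe53be7))) (.node (.node (.leaf 1220) (.leaf 1205)) (.node (.leaf 0xd169aa7c) (.leaf 0x6a957090)))) (.node (.node (.node (.leaf 869) (.leaf 856)) (.node (.leaf 1915) (.leaf 1912))) (.node (.node (.leaf 0xe4f10ed0) (.leaf 1510)) (.node (.leaf 0xa45e5707) (.leaf 0xa73a2a3f))))))))

/-- Part of `topFac`. -/
def topFac_p1010 : Tr := .node (.node (.node (.node (.node (.node (.node (.node (.node (.leaf 11) (.leaf 894935424)) (.leaf 417505013)) (.node (.leaf 1538) (.leaf 1526))) (.node (.node (.leaf 0xc2d97238) (.leaf 0x9d09203e)) (.node (.leaf 891086962) (.leaf 0x84209998)))) (.node (.node (.node (.leaf 0xe2b73ccc) (.leaf 470)) (.node (.leaf 493580730) (.leaf 839563250))) (.node (.node (.leaf 1237) (.leaf 239795002)) (.node (.leaf 830413028) (.leaf 0xb2ad5d0c))))) (.node (.node (.node (.node (.leaf 258) (.leaf 239)) (.node (.leaf 1659) (.leaf 1649))) (.node (.node (.leaf 1073) (.leaf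 1059)) (.node (.leaf 0x934e2b25) (.leaf 0x5e2b8946)))) (.node (.node (.node (.leaf 696) (.leaf 680)) (.node (.leaf 0x609f37d2) (.leaf 0x66705188))) (.node (.node (.leaf 1392) (.leaf 1381)) (.node (.leaf 0xe621a315) (.leaf 980948736)))))) (.node (.node (.node (.node (.node (.leaf 137) (.leaf 119)) (.node (.leaf 0x820546cf) (.leaf 140401507))) (.node (.node (.leaf 985) (.leaf 972)) (.node (.leaf 1948) (.leaf 0xea2f242f)))) (.node (.node (.node (.leaf 594) (.leaf 576)) (.node (.leaf 1799) (.leaf 1793))) (.node (.node (.leaf 1315) (.leaf 1304)) (.node (.leaf 0xd5b322e9) (.leaf 0xeb06e1d7))))) (.node (.node (.node (.node (.leaf 375) (.leaf 0x7085712b)) (.node (.leaf 0x52c10298) (.leaf 0xa26da9d3))) (.node (.node (.leaf 0x741e3c30) (.leaf 0xa7ecdb15)) (.node (.leaf 0x82833932) (.leaf 0xa35b93cc)))) (.node (.node (.node (.leaf 788) (.leaf 778)) (.node (.leaf 1887) (.leaf 0x4044a2be))) (.node (.node (.leaf 1463) (.leaf 1450)) (.node (.leaf 0x765f8c12) (.leaf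 0xd5135bc4))))))) (.node (.node (.node (.node (.node (.node (.leaf 74) (.leaf 56)) (.node (.leaf 0xe17c2e46) (.leaf 0xa6e42596))) (.node (.node (.leaf 934) (.leaf 921)) (.node (.leaf 1932) (.leaf 0x4c281b21)))) (.node (.node (.node (.leaf 538) (.leaf 524)) (.node (.leaf 1773) (.leaf 1768))) (.node (.node (.leaf 1276) (.leaf 1265)) (.node (.leaf 0xd8c2b0d1) (.leaf 0xacc0161d))))) (.node (.node (.node (.node (.leaf 319) (.leaf 300)) (.node (.leaf 1682) (.leaf 448568964))) (.node (.node (.leaf 1118) (.leaf 1104)) (.node (.leaf 1986) (.leaf 0xaa70661b)))) (.node (.node (.node (.leaf 740) (.leaf 840123380)) (.node (.leaf 1875) (.leaf 0x8f324d75))) (.node (.node (.leaf 0xdf0d023d) (.leaf 253138479)) (.node (.leaf 0x934f2c5c) (.leaf 423713894)))))) (.node (.node (.node (.node (.node (.leaf 198) (.leaf 180)) (.node (.leaf 1632) (.leaf 0x45801688))) (.node (.node (.leaf 0x8f8967da) (.leaf 1019)) (.node (.leaf 0xa37a90ff) (.leaf 0xe75769db)))) (.node (.node (.node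 (.leaf 647) (.leaf 0xbca26f8d)) (.node (.leaf 0xb464f3ce) (.leaf 1821))) (.node (.node (.leaf 1352) (.leaf 1340)) (.node (.leaf 0xda34e7b0) (.leaf 2044))))) (.node (.node (.node (.node (.leaf 431) (.leaf 413)) (.node (.leaf 10535253) (.leaf 1720))) (.node (.node (.leaf 0xde3218ed) (.leaf 1180)) (.node (.leaf 0xefad6136) (.leaf 0xac171d88)))) (.node (.node (.node (.leaf 840) (.leaf 823)) (.node (.leaf 0xdd3e16dd) (.leaf 0xcbf9d43b))) (.node (.node (.leaf 0x7757cd6a) (.leaf 1490)) (.node (.leaf 64849576) (.leaf 0x4bde439e)))))))) (.node (.node (.node (.node (.node (.node (.node (.leaf 43) (.leaf 24)) (.node (.leaf 0xb4f2a1c4) (.leaf 1546))) (.node (.node (.leaf 910) (.leaf 895)) (.node (.leaf 0x4683e328) (.leaf 0xcabbd55d)))) (.node (.node (.node (.leaf 512) (.leaf 430171395)) (.node (.leaf 968097666) (.leaf 1756))) (.node (.node (.leaf 1256) (.leaf 1245)) (.node (.leaf 0xc09eaf9d) (.leaf 0x7b44bb6c))))) (.node (.node (.node (.node (.leaf 287) (.leaf 271))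 (.node (.leaf 148569094) (.leaf 1663))) (.node (.node (.leaf 0xe758694e) (.leaf 1083)) (.node (.leaf 0xb44374d1) (.leaf 0xb38425ac)))) (.node (.node (.node (.leaf 0x8716ec8c) (.leaf 706)) (.node (.leaf 0x5620898f) (.leaf 0xd181b22e))) (.node (.node (.leaf 878774441) (.leaf 1402)) (.node (.leaf 558695487) (.leaf 289245359)))))) (.node (.node (.node (.node (.node (.leaf 168) (.leaf 150)) (.node (.leaf 0x4ee45fcc) (.leaf 1604))) (.node (.node (.leaf 1008) (.leaf 995)) (.node (.leaf 0xbbaaae12) (.leaf 0x607a8feb)))) (.node (.node (.node (.leaf 623) (.leaf 607)) (.node (.leaf 1816) (.leaf 0x9a483f83))) (.node (.node (.leaf 1334) (.leaf 0x6a30633e)) (.node (.leaf 0xe6270e1c) (.leaf 77703461))))) (.node (.node (.node (.node (.leaf 0xa0eccea9) (.leaf 388)) (.node (.leaf 1716) (.leaf 0x8d5139cc))) (.node (.node (.leaf 1176) (.leaf 1166)) (.node (.leaf 0x47b47fd3) (.leaf 0xbe5a83b4)))) (.node (.node (.node (.leaf 889425030) (.leaf 0xeefb8738)) (.node (.leaf 900254397)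 (.leaf 0x7e61e36d))) (.node (.node (.leaf 0xc2b03869) (.leaf 1472)) (.node (.leaf 0x76ef5e27) (.leaf 0x9bb45498))))))) (.node (.node (.node (.node (.node (.node (.leaf 106) (.leaf 87)) (.node (.leaf 0x54c8bfe1) (.leaf 1574))) (.node (.node (.leaf 962) (.leaf 944)) (.node (.leaf 1940) (.leaf 0x3feba1d8)))) (.node (.node (.node (.leaf 726953800) (.leaf 549)) (.node (.leaf 0x7563df70) (.leaf 0xea818b5d))) (.node (.node (.leaf 1297) (.leaf 1283)) (.node (.leaf 0x51eb1508) (.leaf 36576724))))) (.node (.node (.node (.node (.leaf 348) (.leaf 331)) (.node (.leaf 0x718691a0) (.leaf 0xe836d651))) (.node (.node (.leaf 1141) (.leaf 1128)) (.node (.leaf 746969551) (.leaf 0xa1e4d31c)))) (.node (.node (.node (.leaf 768) (.leaf 752)) (.node (.leaf 0xab6efc66) (.leaf 529445708))) (.node (.node (.leaf 0xa53cdc1d) (.leaf 578389250)) (.node (.leaf 786981225) (.leaf 604585451)))))) (.node (.node (.node (.node (.node (.leaf 0xcfad8ee3) (.leaf 211)) (.node (.leaf 0xd153476c)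 (.leaf 0x93941cd1))) (.node (.node (.leaf 0x5f5132e3) (.leaf 1040)) (.node (.leaf 633363560) (.leaf 0x9d134b6c)))) (.node (.node (.node (.leaf 669) (.leaf 657)) (.node (.leaf 0x6d85f6dc) (.leaf 1829))) (.node (.node (.leaf 379156025) (.leaf 1361)) (.node (.leaf 0x99fe450f) (.leaf 0x3e3dae08))))) (.node (.node (.node (.node (.leaf 460) (.leaf 443)) (.node (.leaf 457830549) (.leaf 0x58754f7a))) (.node (.node (.leaf 1214) (.leaf 1200)) (.node (.leaf 210355547) (.leaf 0x8a142bca)))) (.node (.node (.node (.leaf 0x47dc2e47) (.leaf 849)) (.node (.leaf 1913) (.leaf 0xd6b13d31))) (.node (.node (.leaf 1518) (.leaf 1504)) (.node (.leaf 341843815) (.leaf 0x5ecf73ad))))))))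

/-- Part of `topFac`. -/
def topFac_p1011 : Tr := .node (.node (.node (.node (.node (.node (.node (.node (.node (.leaf 27) (.leaf 0xa2fe9817)) (.leaf 8)) (.node (.leaf 1548) (.leaf 0xdd6fd3b3))) (.node (.node (.leaf 898) (.leaf 0xc9010396)) (.node (.leaf 1920) (.leaf 1918)))) (.node (.node (.node (.leaf 499) (.leaf 485)) (.node (.leaf 1757) (.leaf 1753))) (.node (.node (.leaf 0xcfe7391a) (.leaf 1235)) (.node (.leaf 0x5625b873) (.leaf 0xa022dae8))))) (.node (.node (.node (.node (.leaf 274) (.leaf 255)) (.node (.leaf 0x69c2cd7c) (.leaf 1656))) (.node (.node (.leaf 1084) (.leaf 0x5d4a3715)) (.node (.leaf 1978) (.leaf 1972)))) (.node (.node (.node (.leaf 708) (.leaf 693)) (.node (.leaf 1854) (.leaf 0x49f13ec4))) (.node (.node (.leaf 1405) (.leaf 0x3c8604b1)) (.node (.leaf 2051) (.leaf 0x72864bb9)))))) (.node (.node (.node (.node (.node (.leaf 153) (.leaf 135)) (.node (.leaf 1606) (.leaf 639839648))) (.node (.node (.leaf 0xb906288e) (.leaf 0xebde6949)) (.node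 (.leaf 0x605d9e58) (.leaf 0x496ee980)))) (.node (.node (.node (.leaf 609) (.leaf 591)) (.node (.leaf 1806) (.leaf 0x6ad93a06))) (.node (.node (.leaf 174401681) (.leaf 1314)) (.node (.leaf 0x7d20b5d1) (.leaf 883023817))))) (.node (.node (.node (.node (.leaf 391) (.leaf 373)) (.node (.leaf 0x90239900) (.leaf 781688770))) (.node (.node (.leaf 0x9deb9532) (.leaf 0x70fcf629)) (.node (.leaf 0xed30d87d) (.leaf 0xcaefba0d)))) (.node (.node (.node (.leaf 801) (.leaf 786)) (.node (.leaf 0x90790cf8) (.leaf 604274436))) (.node (.node (.leaf 0xae0b8396) (.leaf 1460)) (.node (.leaf 0x9ddd1362) (.leaf 0x968fe736))))))) (.node (.node (.node (.node (.node (.node (.leaf 90) (.leaf 71)) (.node (.leaf 0xd26a5fdb) (.leaf 0x78596231))) (.node (.node (.leaf 946) (.leaf 931)) (.node (.leaf 399352296) (.leaf 0xd10578dd)))) (.node (.node (.node (.leaf 552) (.leaf 535)) (.node (.leaf 528438530) (.leaf 774833353))) (.node (.node (.leaf 77254457) (.leaf 0xc1c63f33)) (.node (.leaf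 0x46a4f770) (.leaf 0xd013c16b))))) (.node (.node (.node (.node (.leaf 334) (.leaf 316)) (.node (.leaf 314962836) (.leaf 1681))) (.node (.node (.leaf 624187507) (.leaf 1115)) (.node (.leaf 320903486) (.leaf 0xcc4e2ce8)))) (.node (.node (.node (.leaf 0x67904e3c) (.leaf 0x442ffb8e)) (.node (.leaf 823925942) (.leaf 1872))) (.node (.node (.leaf 1437) (.leaf 1426)) (.node (.leaf 977874798) (.leaf 0x4c655589)))))) (.node (.node (.node (.node (.node (.leaf 0x4e135f9d) (.leaf 196)) (.node (.leaf 1637) (.leaf 1631))) (.node (.node (.leaf 1042) (.leaf 1030)) (.node (.leaf 1965) (.leaf 0x9ae39841)))) (.node (.node (.node (.leaf 0x596bc462) (.leaf 524777681)) (.node (.leaf 0xba822efb) (.leaf 0x73b19d45))) (.node (.node (.leaf 1363) (.leaf 1351)) (.node (.leaf 918579924) (.leaf 0xbb191894))))) (.node (.node (.node (.node (.leaf 446) (.leaf 428)) (.node (.leaf 1734) (.leaf 0xc8f7d6be))) (.node (.node (.leaf 0x833f4b6d) (.leaf 1190)) (.node (.leaf 2015) (.leaf 12959081))))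 (.node (.node (.node (.leaf 852) (.leaf 838)) (.node (.leaf 0xa7ff8832) (.leaf 0xda5d100e))) (.node (.node (.leaf 0x5b5286fe) (.leaf 0xa54e898e)) (.node (.leaf 241049637) (.leaf 0x3f38faff)))))))) (.node (.node (.node (.node (.node (.node (.node (.leaf 59) (.leaf 40)) (.node (.leaf 0x782f3b14) (.leaf 1555))) (.node (.node (.leaf 0xd0c210c9) (.leaf 908)) (.node (.leaf 281522440) (.leaf 1924)))) (.node (.node (.node (.leaf 527) (.leaf 510)) (.node (.leaf 0xc82c9eb6) (.leaf 0xa1859524))) (.node (.node (.leaf 1267) (.leaf 1254)) (.node (.leaf 47901033) (.leaf 0x4053eaf0))))) (.node (.node (.node (.node (.leaf 303) (.leaf 0xeaad44aa)) (.node (.leaf 1675) (.leaf 226162816))) (.node (.node (.leaf 0x509d27b2) (.leaf 1095)) (.node (.leaf 0x3cc71ce1) (.leaf 0x75bcf9f9)))) (.node (.node (.node (.leaf 731) (.leaf 717)) (.node (.leaf 0xb11f52af) (.leaf 1862))) (.node (.node (.leaf 0xd5bb560a) (.leaf 1412)) (.node (.leaf 944405845) (.leaf 0x7bdd52bc)))))) (.node (.node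 (.node (.node (.node (.leaf 183) (.leaf 165)) (.node (.leaf 1621) (.leaf 1612))) (.node (.node (.leaf 696900848) (.leaf 1006)) (.node (.leaf 1957) (.leaf 0xe655796f)))) (.node (.node (.node (.leaf 635) (.leaf 620)) (.node (.leaf 0xd85473f0) (.leaf 1814))) (.node (.node (.leaf 1342) (.leaf 704042851)) (.node (.leaf 0x48e8d184) (.leaf 0x3ff3745d))))) (.node (.node (.node (.node (.leaf 416) (.leaf 402)) (.node (.leaf 1722) (.leaf 1715))) (.node (.node (.leaf 1183) (.leaf 1174)) (.node (.leaf 2009) (.leaf 0x90271f8c)))) (.node (.node (.node (.leaf 826) (.leaf 810)) (.node (.leaf 1903) (.leaf 1898))) (.node (.node (.leaf 1491) (.leaf 0x5c8bf396)) (.node (.leaf 0x79bfff94) (.leaf 175105746))))))) (.node (.node (.node (.node (.node (.node (.leaf 122) (.leaf 103)) (.node (.leaf 0x4ab6709c) (.leaf 1581))) (.node (.node (.leaf 0xa375f75f) (.leaf 959)) (.node (.leaf 0x79527972) (.leaf 0xe8296590)))) (.node (.node (.node (.leaf 579) (.leaf 562)) (.node (.leaf 598177133)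 (.leaf 1785))) (.node (.node (.leaf 1305) (.leaf 1294)) (.node (.leaf 0x89e0178f) (.leaf 2035))))) (.node (.node (.node (.node (.leaf 0xe403b29e) (.leaf 345)) (.node (.leaf 0xbe7aadb9) (.leaf 599538716))) (.node (.node (.leaf 1154) (.leaf 1139)) (.node (.leaf 860066116) (.leaf 0xa897df39)))) (.node (.node (.node (.leaf 871409191) (.leaf 765)) (.node (.leaf 1884) (.leaf 0xdec135aa))) (.node (.node (.leaf 1453) (.leaf 1446)) (.node (.leaf 0x8e604e00) (.leaf 0x90b87164)))))) (.node (.node (.node (.node (.node (.leaf 242) (.leaf 225)) (.node (.leaf 0x677969ff) (.leaf 1641))) (.node (.node (.leaf 1062) (.leaf 0x7ab4e6ce)) (.node (.leaf 1969) (.leaf 0xbdc4ddec)))) (.node (.node (.node (.leaf 0x74dcc711) (.leaf 0x4dffc8e1)) (.node (.leaf 0x9bc02caa) (.leaf 1837))) (.node (.node (.leaf 0xc032f802) (.leaf 1370)) (.node (.leaf 0x7c9fa761) (.leaf 0xd1477edb))))) (.node (.node (.node (.node (.leaf 473) (.leaf 457)) (.node (.leaf 0xcd38ce60) (.leaf 1741))) (.node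 (.node (.leaf 1226) (.leaf 1211)) (.node (.leaf 0xd3117cae) (.leaf 559392969)))) (.node (.node (.node (.leaf 875) (.leaf 0xcf247def)) (.node (.leaf 162865544) (.leaf 0xba0e0642))) (.node (.node (.leaf 0xab9014a3) (.leaf 0x983e9a02)) (.node (.leaf 0xd00eccbe) (.leaf 980947095))))))))

/-- Part of `topFac`. -/
def topFac_p1100 : Tr := .node (.node (.node (.node (.node (.node (.node (.node (.node (.leaf 7) (.leaf 0x3e251db7)) (.leaf 0x6a2f5541)) (.node (.leaf 1535) (.leaf 0xe26d5677))) (.node (.node (.leaf 0x8c48e14f) (.leaf 870)) (.node (.leaf 1917) (.leaf 0xa8cb53e0)))) (.node (.node (.node (.leaf 484) (.leaf 466)) (.node (.leaf 1752) (.leaf 1745))) (.node (.node (.leaf 1234) (.leaf 1221)) (.node (.leaf 0xc62296ab) (.leaf 0xe2fa6abb))))) (.node (.node (.node (.node (.leaf 254) (.leaf 236)) (.node (.leaf 1655) (.leaf 1645))) (.node (.node (.leaf 1071) (.leaf 1056)) (.node (.leaf 944164699) (.leaf 0x7f31de87)))) (.node (.node (.node (.leaf 692) (.leaf 676))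 (.node (.leaf 0xb4a338c7) (.leaf 0x53e659a1))) (.node (.node (.leaf 1390) (.leaf 1377)) (.node (.leaf 0x44d59680) (.leaf 0xe2259561)))))) (.node (.node (.node (.node (.node (.leaf 134) (.leaf 115)) (.node (.leaf 1597) (.leaf 1587))) (.node (.node (.leaf 983) (.leaf 970)) (.node (.leaf 1946) (.leaf 0x646c228f)))) (.node (.node (.node (.leaf 590) (.leaf 572)) (.node (.leaf 1797) (.leaf 1790))) (.node (.node (.leaf 1313) (.leaf 1302)) (.node (.leaf 0x62c16709) (.leaf 668788122))))) (.node (.node (.node (.node (.leaf 372) (.leaf 356)) (.node (.leaf 1701) (.leaf 0xe8f0bc14))) (.node (.node (.leaf 0xa39f090d) (.leaf 0x86f53928)) (.node (.leaf 0x92bd1e93) (.leaf 1994)))) (.node (.node (.node (.leaf 0x6d2df046) (.leaf 774)) (.node (.leaf 0x6db0cc1e) (.leaf 0xb41a7788))) (.node (.node (.leaf 1459) (.leaf 0x630b4818)) (.node (.leaf 0xdc5d14e4) (.leaf 0x6b67d1c5))))))) (.node (.node (.node (.node (.node (.node (.leaf 0xd5883e68) (.leaf 52)) (.node (.leaf 0xacf205ec)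 (.leaf 0xeceee64f))) (.node (.node (.leaf 799922561) (.leaf 917)) (.node (.leaf 0x86d0d093) (.leaf 1927)))) (.node (.node (.node (.leaf 534) (.leaf 520)) (.node (.leaf 936671502) (.leaf 0x4d11942b))) (.node (.node (.leaf 1273) (.leaf 238268137)) (.node (.leaf 0x588554e6) (.leaf 0xaf04816a))))) (.node (.node (.node (.node (.leaf 315) (.leaf 296)) (.node (.leaf 0x6b7e5c42) (.leaf 1673))) (.node (.node (.leaf 1114) (.leaf 1102)) (.node (.leaf 1984) (.leaf 0xcd4f2c95)))) (.node (.node (.node (.leaf 739) (.leaf 726)) (.node (.leaf 0x7ac1ca49) (.leaf 0x7014c1e4))) (.node (.node (.leaf 1425) (.leaf 737334648)) (.node (.leaf 805497407) (.leaf 0xe2033bf7)))))) (.node (.node (.node (.node (.node (.leaf 195) (.leaf 177)) (.node (.leaf 197836677) (.leaf 0x8f00d5ce))) (.node (.node (.leaf 1029) (.leaf 1016)) (.node (.leaf 0x8a301802) (.leaf 332146284)))) (.node (.node (.node (.leaf 0xd1cbf238) (.leaf 0x448a32aa)) (.node (.leaf 0x790a97a6) (.leaf 1820))) (.node (.node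 (.leaf 0x90a0aa1a) (.leaf 1337)) (.node (.leaf 87633366) (.leaf 704505427))))) (.node (.node (.node (.node (.leaf 427) (.leaf 409)) (.node (.leaf 413144978) (.leaf 0xbb8c01c4))) (.node (.node (.leaf 1189) (.leaf 0xc3542d27)) (.node (.leaf 0xace76c94) (.leaf 2007)))) (.node (.node (.node (.leaf 837) (.leaf 819)) (.node (.leaf 0xb4550d13) (.leaf 0x62af36ca))) (.node (.node (.leaf 1496) (.leaf 0x60b245be)) (.node (.leaf 0xcdbed262) (.leaf 0xa7f74ed1)))))))) (.node (.node (.node (.node (.node (.node (.node (.node (.leaf 39) (.leaf 0x9257315d)) (.leaf 20)) (.node (.leaf 1554) (.leaf 1544))) (.node (.node (.leaf 162724897) (.leaf 891)) (.node (.leaf 710027216) (.leaf 0x48530e73)))) (.node (.node (.node (.leaf 535148152) (.leaf 493)) (.node (.leaf 0xa9e0e39c) (.leaf 0x8302fc38))) (.node (.node (.leaf 11658760) (.leaf 316572798)) (.node (.leaf 0xb90b8a99) (.leaf 937775910))))) (.node (.node (.node (.node (.leaf 284) (.leaf 267)) (.node (.leaf 888069654) (.leaf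 111619893))) (.node (.node (.leaf 1094) (.leaf 1081)) (.node (.leaf 1980) (.leaf 252941981)))) (.node (.node (.node (.leaf 716) (.leaf 0xa48dba5c)) (.node (.leaf 231105515) (.leaf 1852))) (.node (.node (.leaf 1411) (.leaf 272906087)) (.node (.leaf 0xca38b9e4) (.leaf 201591351)))))) (.node (.node (.node (.node (.node (.leaf 164) (.leaf 146)) (.node (.leaf 1611) (.leaf 0xe72856ed))) (.node (.node (.leaf 1005) (.leaf 992)) (.node (.leaf 0x564cdf61) (.leaf 0x91d6a0db)))) (.node (.node (.node (.leaf 619) (.leaf 603)) (.node (.leaf 1813) (.leaf 0xe0f5957e))) (.node (.node (.leaf 1331) (.leaf 1322)) (.node (.leaf 0xca28099b) (.leaf 0x59fcaf5d))))) (.node (.node (.node (.node (.leaf 401) (.leaf 384)) (.node (.leaf 1714) (.leaf 1706))) (.node (.node (.leaf 0x833b9a93) (.leaf 0x49702b90)) (.node (.leaf 753948364) (.leaf 0xef992f77)))) (.node (.node (.node (.leaf 809) (.leaf 797)) (.node (.leaf 0x8e09a670) (.leaf 0x3efad2dd))) (.node (.node (.leaf 1481) (.leaf 1469))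 (.node (.leaf 498645820) (.leaf 0xeeaf7fbe))))))) (.node (.node (.node (.node (.node (.node (.leaf 102) (.leaf 83)) (.node (.leaf 1580) (.leaf 1572))) (.node (.node (.leaf 958) (.leaf 942)) (.node (.leaf 0xd596eaa1) (.leaf 1935)))) (.node (.node (.node (.leaf 561) (.leaf 545)) (.node (.leaf 1784) (.leaf 0x7562a0ed))) (.node (.node (.leaf 1293) (.leaf 0x55f9233f)) (.node (.leaf 0xa31055b2) (.leaf 0xdcc81456))))) (.node (.node (.node (.node (.leaf 344) (.leaf 327)) (.node (.leaf 1694) (.leaf 1687))) (.node (.node (.leaf 1138) (.leaf 1124)) (.node (.leaf 0xaad50ab4) (.leaf 945582323)))) (.node (.node (.node (.leaf 764) (.leaf 748)) (.node (.leaf 0x403e3834) (.leaf 0xb2120c2f))) (.node (.node (.leaf 1445) (.leaf 0xe428e104)) (.node (.leaf 0xa11f63f6) (.leaf 0x604578c3)))))) (.node (.node (.node (.node (.node (.leaf 224) (.leaf 207)) (.node (.leaf 1640) (.leaf 0x5a1c250f))) (.node (.node (.leaf 1049) (.leaf 483571093)) (.node (.leaf 0xc5a375cf) (.leaf 1963))))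 (.node (.node (.node (.leaf 666) (.leaf 653)) (.node (.leaf 1836) (.leaf 171136338))) (.node (.node (.leaf 1369) (.leaf 0xcd80bc53)) (.node (.leaf 0xae95535e) (.leaf 0x4ee2b918))))) (.node (.node (.node (.node (.leaf 456) (.leaf 0x729ffe7d)) (.node (.leaf 1740) (.leaf 1731))) (.node (.node (.leaf 1210) (.leaf 1196)) (.node (.leaf 525843583) (.leaf 0x3fd9feaf)))) (.node (.node (.node (.leaf 0x88922c46) (.leaf 845)) (.node (.leaf 117537321) (.leaf 728741674))) (.node (.node (.leaf 1515) (.leaf 0x62ab720f)) (.node (.leaf 0xe1561d88) (.leaf 0x5b981742))))))))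

/-- Part of `topFac`. -/
def topFac_p1101 : Tr := .node (.node (.node (.node (.node (.node (.node (.node (.node (.leaf 23) (.leaf 465748963)) (.leaf 4)) (.node (.leaf 0x6b1934af) (.leaf 0x8aa83b3f))) (.node (.node (.leaf 894) (.leaf 880)) (.node (.leaf 1919) (.leaf 1916)))) (.node (.node (.node (.leaf 496) (.leaf 481)) (.node (.leaf 0x69ebc8be) (.leaf 1749))) (.node (.node (.leaf 929702624) (.leaf 334845550)) (.node (.leaf 0x43312152) (.leaf 0x9b9a7e5b))))) (.node (.node (.node (.node (.leaf 270) (.leaf 251)) (.node (.leaf 0x5d32b444) (.leaf 962124840))) (.node (.node (.leaf 284410115) (.leaf 1068)) (.node (.leaf 0xbe888016) (.leaf 0xd56fae98)))) (.node (.node (.node (.leaf 705) (.leaf 689)) (.node (.leaf 1853) (.leaf 1846))) (.node (.node (.leaf 1401) (.leaf 0x490af6cc)) (.node (.leaf 591100143) (.leaf 438591154)))))) (.node (.node (.node (.node (.node (.leaf 149) (.leaf 131)) (.node (.leaf 236000521) (.leaf 0xd27fbad2))) (.node (.node (.leaf 994) (.leaf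 980)) (.node (.leaf 1952) (.leaf 0x52cfd025)))) (.node (.node (.node (.leaf 606) (.leaf 587)) (.node (.leaf 0x72a7e0f9) (.leaf 0xabfc9eb8))) (.node (.node (.leaf 1323) (.leaf 1312)) (.node (.leaf 0xcb743083) (.leaf 0x63361ec2))))) (.node (.node (.node (.node (.leaf 387) (.leaf 369)) (.node (.leaf 1708) (.leaf 0x80172e26))) (.node (.node (.leaf 1165) (.leaf 0x54380754)) (.node (.leaf 0xce8a532d) (.leaf 1997)))) (.node (.node (.node (.leaf 799) (.leaf 0xc7485e86)) (.node (.leaf 1894) (.leaf 884497274))) (.node (.node (.leaf 1471) (.leaf 0xdeed39a2)) (.node (.leaf 0x86e0e672) (.leaf 0xb057e799))))))) (.node (.node (.node (.node (.node (.node (.leaf 86) (.leaf 68)) (.node (.leaf 1573) (.leaf 0x85ccee1d))) (.node (.node (.leaf 202108057) (.leaf 0xae68c6e0)) (.node (.leaf 608004796) (.leaf 0x8a6978c7)))) (.node (.node (.node (.leaf 548) (.leaf 531)) (.node (.leaf 1777) (.leaf 0xaf888036))) (.node (.node (.leaf 1282) (.leaf 0xc8a2fffe)) (.node (.leaf 0xefba5798)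 (.leaf 0x3badacd5))))) (.node (.node (.node (.node (.leaf 330) (.leaf 312)) (.node (.leaf 1688) (.leaf 0xdfb58305))) (.node (.node (.leaf 1127) (.leaf 1111)) (.node (.leaf 0xb7af5d46) (.leaf 0x94d572c7)))) (.node (.node (.node (.leaf 751) (.leaf 737)) (.node (.leaf 720138078) (.leaf 0x5dd92a8f))) (.node (.node (.leaf 1435) (.leaf 1423)) (.node (.leaf 0xad68fd96) (.leaf 0xcbb503bb)))))) (.node (.node (.node (.node (.node (.leaf 210) (.leaf 192)) (.node (.leaf 1635) (.leaf 1629))) (.node (.node (.leaf 1039) (.leaf 1027)) (.node (.leaf 0xa7877869) (.leaf 0x78f36284)))) (.node (.node (.node (.leaf 656) (.leaf 643)) (.node (.leaf 0x62bfd537) (.leaf 0x8f0e9111))) (.node (.node (.leaf 1360) (.leaf 135452583)) (.node (.leaf 2047) (.leaf 563718793))))) (.node (.node (.node (.node (.leaf 442) (.leaf 424)) (.node (.leaf 0x4d56483c) (.leaf 0xc2595432))) (.node (.node (.leaf 1199) (.leaf 0x92fa0d73)) (.node (.leaf 94577498) (.leaf 0x9f735fbd)))) (.node (.node (.node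 (.leaf 848) (.leaf 834)) (.node (.leaf 0xd5243087) (.leaf 241782894))) (.node (.node (.leaf 312466737) (.leaf 1495)) (.node (.leaf 0x46f2de0b) (.leaf 0x40497fcc)))))))) (.node (.node (.node (.node (.node (.node (.node (.leaf 55) (.leaf 36)) (.node (.leaf 1560) (.leaf 0x7be6fc92))) (.node (.node (.leaf 920) (.leaf 905)) (.node (.leaf 0x6fca80dc) (.leaf 1923)))) (.node (.node (.node (.leaf 523) (.leaf 507)) (.node (.leaf 0xd0577d64) (.leaf 0x6480ff6a))) (.node (.node (.leaf 1264) (.leaf 0xd1d5c671)) (.node (.leaf 0x5cf2558f) (.leaf 0x5ee2099f))))) (.node (.node (.node (.node (.leaf 299) (.leaf 281)) (.node (.leaf 0xb6e4cdd7) (.leaf 1668))) (.node (.node (.leaf 1103) (.leaf 1091)) (.node (.leaf 0xc5a93ed8) (.leaf 0xb27e6aee)))) (.node (.node (.node (.leaf 0x55719b4b) (.leaf 565841109)) (.node (.leaf 0xde0d79df) (.leaf 1860))) (.node (.node (.leaf 786846752) (.leaf 0x57936ce0)) (.node (.leaf 0x51608fc8) (.leaf 0x570d8672)))))) (.node (.node (.node (.node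 (.node (.leaf 351483810) (.leaf 0x4a4b9b1f)) (.node (.leaf 1618) (.leaf 0xf01fb032))) (.node (.node (.leaf 0xcd80515b) (.leaf 0x99fa3a81)) (.node (.leaf 0xe9a7b30a) (.leaf 0xa7eddb84)))) (.node (.node (.node (.leaf 633) (.leaf 616)) (.node (.leaf 0x5938ac1e) (.leaf 1812))) (.node (.node (.leaf 1339) (.leaf 1330)) (.node (.leaf 2043) (.leaf 871634629))))) (.node (.node (.node (.node (.leaf 412) (.leaf 399)) (.node (.leaf 0xddcb3a03) (.leaf 400871064))) (.node (.node (.leaf 352198839) (.leaf 1173)) (.node (.leaf 0x6b411a33) (.leaf 2004)))) (.node (.node (.node (.leaf 822) (.leaf 806)) (.node (.leaf 0x9abe7f90) (.leaf 268096973))) (.node (.node (.leaf 1489) (.leaf 1480)) (.node (.leaf 0x688a8e61) (.leaf 406037687))))))) (.node (.node (.node (.node (.node (.node (.leaf 118) (.leaf 99)) (.node (.leaf 0x9d03e632) (.leaf 1578))) (.node (.node (.leaf 0xe3150373) (.leaf 955)) (.node (.leaf 0x3f0ce4b5) (.leaf 835155281)))) (.node (.node (.node (.leaf 575) (.leaf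 559)) (.node (.leaf 0x7557825c) (.leaf 1781))) (.node (.node (.leaf 1303) (.leaf 1291)) (.node (.leaf 2037) (.leaf 0xe665452c))))) (.node (.node (.node (.node (.leaf 359) (.leaf 342)) (.node (.leaf 0x8e0de22e) (.leaf 283186604))) (.node (.node (.leaf 1151) (.leaf 1135)) (.node (.leaf 0xa1e36747) (.leaf 1992)))) (.node (.node (.node (.leaf 777) (.leaf 0x6794b1ef)) (.node (.leaf 0x53c6c1a2) (.leaf 0x4c3d98ba))) (.node (.node (.leaf 1449) (.leaf 1443)) (.node (.leaf 0x6aa1021c) (.leaf 0xd0333194)))))) (.node (.node (.node (.node (.node (.leaf 0x8aaaeeb3) (.leaf 221)) (.node (.leaf 1648) (.leaf 665845703))) (.node (.node (.leaf 0x7a889c85) (.leaf 1048)) (.node (.leaf 0x5cdeccf1) (.leaf 0x726f0ec3)))) (.node (.node (.node (.leaf 679) (.leaf 664)) (.node (.leaf 865842353) (.leaf 0x6a873889))) (.node (.node (.leaf 1380) (.leaf 1367)) (.node (.leaf 0x564d195b) (.leaf 0xdff9344c))))) (.node (.node (.node (.node (.leaf 469) (.leaf 454)) (.node (.leaf 0xc981c50c)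 (.leaf 1738))) (.node (.node (.leaf 1224) (.leaf 1208)) (.node (.leaf 0x72550678) (.leaf 2016)))) (.node (.node (.node (.leaf 872) (.leaf 860)) (.node (.leaf 0xce278668) (.leaf 0xb4d138ea))) (.node (.node (.leaf 1525) (.leaf 1513)) (.node (.leaf 582444119) (.leaf 0xb6d8ab7e))))))))

/-- Part of `topFac`. -/
def topFac_p1110 : Tr := .node (.node (.node (.node (.node (.node (.node (.node (.node (.leaf 15) (.leaf 224440891)) (.leaf 0xbf5ff390)) (.node (.leaf 1541) (.leaf 1529))) (.node (.node (.leaf 887) (.leaf 0x9a5076af)) (.node (.leaf 402950963) (.leaf 0x5598e266)))) (.node (.node (.node (.leaf 490) (.leaf 474)) (.node (.leaf 0x5680bd73) (.leaf 0x4de7a90d))) (.node (.node (.leaf 1241) (.leaf 0x3c1d12b6)) (.node (.leaf 0xd79e271f) (.leaf 446625033))))) (.node (.node (.node (.node (.leaf 262) (.leaf 243)) (.node (.leaf 44898405) (.leaf 0xa5486753))) (.node (.node (.leaf 1076) (.leaf 1063)) (.node (.leaf 1973) (.leaf 195047703)))) (.node (.node (.node (.leaf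 699) (.leaf 382080698)) (.node (.leaf 1849) (.leaf 0x5aadc7d7))) (.node (.node (.leaf 1395) (.leaf 1384)) (.node (.leaf 0x5f2fa367) (.leaf 0xaaff2d1f)))))) (.node (.node (.node (.node (.node (.leaf 141) (.leaf 123)) (.node (.leaf 1601) (.leaf 1590))) (.node (.node (.leaf 988) (.leaf 974)) (.node (.leaf 0x7e733236) (.leaf 0x3bab62c0)))) (.node (.node (.node (.leaf 598) (.leaf 0x4b62158f)) (.node (.leaf 1802) (.leaf 0x7cf7e14c))) (.node (.node (.leaf 1318) (.leaf 1306)) (.node (.leaf 0xa4745118) (.leaf 303850713))))) (.node (.node (.node (.node (.leaf 379) (.leaf 362)) (.node (.leaf 1703) (.leaf 0x93de5dcf))) (.node (.node (.leaf 0xb50435f9) (.leaf 0x5f874ed5)) (.node (.leaf 1999) (.leaf 1996)))) (.node (.node (.node (.leaf 792) (.leaf 780)) (.node (.leaf 0xc4739acd) (.leaf 505037141))) (.node (.node (.leaf 0x486a007c) (.leaf 1454)) (.node (.leaf 0xa707cc6f) (.leaf 0x5e9cd8e7))))))) (.node (.node (.node (.node (.node (.node (.leaf 78) (.leaf 60)) (.node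 (.leaf 0x4d190557) (.leaf 0xb659a83e))) (.node (.node (.leaf 937) (.leaf 924)) (.node (.leaf 0x5881a610) (.leaf 1928)))) (.node (.node (.node (.leaf 542) (.leaf 528)) (.node (.leaf 0x8c686630) (.leaf 1769))) (.node (.node (.leaf 1278) (.leaf 1268)) (.node (.leaf 2030) (.leaf 0x3ca954c9))))) (.node (.node (.node (.node (.leaf 915157717) (.leaf 304)) (.node (.leaf 1685) (.leaf 0xea4efa4a))) (.node (.node (.leaf 1120) (.leaf 1106)) (.node (.leaf 0xdbfa1613) (.leaf 0x81178454)))) (.node (.node (.node (.leaf 743) (.leaf 732)) (.node (.leaf 0x3db468a3) (.leaf 1866))) (.node (.node (.leaf 1431) (.leaf 0x47fdf012)) (.node (.leaf 0xe70a59c8) (.leaf 0xd23fbdbe)))))) (.node (.node (.node (.node (.node (.leaf 202) (.leaf 184)) (.node (.leaf 0x3edd5944) (.leaf 1622))) (.node (.node (.leaf 0xdbb7e276) (.leaf 1021)) (.node (.leaf 0x9ddbc4e1) (.leaf 1958)))) (.node (.node (.node (.leaf 650) (.leaf 636)) (.node (.leaf 0xb9108dd4) (.leaf 1822))) (.node (.node (.leaf 1355)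 (.leaf 1343)) (.node (.leaf 0x82db86ac) (.leaf 718003196))))) (.node (.node (.node (.node (.leaf 435) (.leaf 417)) (.node (.leaf 0xeda7eb16) (.leaf 0x9ed46727))) (.node (.node (.leaf 0xa491e225) (.leaf 1184)) (.node (.leaf 805872840) (.leaf 2010)))) (.node (.node (.node (.leaf 843) (.leaf 827)) (.node (.leaf 1907) (.leaf 0x46caed36))) (.node (.node (.leaf 0x5d8b5ed5) (.leaf 0x42be382f)) (.node (.leaf 494953016) (.leaf 0xbd79b980)))))))) (.node (.node (.node (.node (.node (.node (.node (.leaf 47) (.leaf 28)) (.node (.leaf 971238790) (.leaf 1549))) (.node (.node (.leaf 913) (.leaf 899)) (.node (.leaf 0x6ef71723) (.leaf 0xb0e2a63e)))) (.node (.node (.node (.leaf 515) (.leaf 500)) (.node (.leaf 0x3c15ff0d) (.leaf 1758))) (.node (.node (.leaf 1259) (.leaf 1247)) (.node (.leaf 0x475b6545) (.leaf 102753838))))) (.node (.node (.node (.node (.leaf 291) (.leaf 275)) (.node (.leaf 893773353) (.leaf 666229134))) (.node (.node (.leaf 1099) (.leaf 1085)) (.node (.leaf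 0xe9f453bc) (.leaf 0xbc6a9f6a)))) (.node (.node (.node (.leaf 722) (.leaf 709)) (.node (.leaf 531364378) (.leaf 1855))) (.node (.node (.leaf 1416) (.leaf 1406)) (.node (.leaf 0x6971af14) (.leaf 2052)))))) (.node (.node (.node (.node (.node (.leaf 172) (.leaf 154)) (.node (.leaf 0x988bfaf6) (.leaf 1607))) (.node (.node (.leaf 1011) (.leaf 998)) (.node (.leaf 0x8db072a4) (.leaf 0xbcaded16)))) (.node (.node (.node (.leaf 471807004) (.leaf 610)) (.node (.leaf 761560246) (.leaf 1807))) (.node (.node (.leaf 0x46a6ccfd) (.leaf 0x93a291d8)) (.node (.leaf 0xe8c8e7b5) (.leaf 0xe32b15df))))) (.node (.node (.node (.node (.leaf 404) (.leaf 392)) (.node (.leaf 0xda59d566) (.leaf 0x8224064c))) (.node (.node (.leaf 1177) (.leaf 518064687)) (.node (.leaf 0x9f8f5a6e) (.leaf 2002)))) (.node (.node (.node (.leaf 816) (.leaf 125984666)) (.node (.leaf 137194226) (.leaf 0xe47bf4cb))) (.node (.node (.leaf 0x42273dd3) (.leaf 1475)) (.node (.leaf 181280036) (.leaf 0xa7d0bff7)))))))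 (.node (.node (.node (.node (.node (.node (.leaf 110) (.leaf 91)) (.node (.leaf 1585) (.leaf 0xa52543ae))) (.node (.node (.leaf 966) (.leaf 947)) (.node (.leaf 1941) (.leaf 0x690379a5)))) (.node (.node (.node (.leaf 568) (.leaf 553)) (.node (.leaf 120085179) (.leaf 0x999742d0))) (.node (.node (.leaf 0x63c52c27) (.leaf 935676019)) (.node (.leaf 0x730eef81) (.leaf 306818275))))) (.node (.node (.node (.node (.leaf 0x4f8e6658) (.leaf 335)) (.node (.leaf 0x63e6b1b7) (.leaf 1690))) (.node (.node (.leaf 1145) (.leaf 1130)) (.node (.leaf 0x73c3fec6) (.leaf 1991)))) (.node (.node (.node (.leaf 770) (.leaf 754)) (.node (.leaf 0x66e7662a) (.leaf 783180185))) (.node (.node (.leaf 522607562) (.leaf 0x9af7a913)) (.node (.leaf 0xd11e9646) (.leaf 0xe9c60c0d)))))) (.node (.node (.node (.node (.node (.leaf 231) (.leaf 214)) (.node (.leaf 0xda331e93) (.leaf 0xaa3bad6c))) (.node (.node (.leaf 1051) (.leaf 1043)) (.node (.leaf 0x8677b88f) (.leaf 0x5d2c1523)))) (.node (.node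 (.node (.leaf 673) (.leaf 659)) (.node (.leaf 0x78a9e52d) (.leaf 0x77674c1a))) (.node (.node (.leaf 1375) (.leaf 1364)) (.node (.leaf 2048) (.leaf 0xcbe5c741))))) (.node (.node (.node (.node (.leaf 463) (.leaf 0x910251f2)) (.node (.leaf 884274682) (.leaf 1735))) (.node (.node (.leaf 1217) (.leaf 1201)) (.node (.leaf 0x744ed720) (.leaf 0xa4777f65)))) (.node (.node (.node (.leaf 0xbd1e6160) (.leaf 853)) (.node (.leaf 0xeef0f0c9) (.leaf 0x7f36fbae))) (.node (.node (.leaf 0x96365c95) (.leaf 1507)) (.node (.leaf 0xbfe0ed32) (.leaf 999924300))))))))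

/-- Part of `topFac`. -/
def topFac_p1111 : Tr := .node (.node (.node (.node (.node (.node (.node (.node (.node (.leaf 31) (.leaf 0x9fd9ff88)) (.leaf 12)) (.node (.leaf 1551) (.leaf 1539))) (.node (.node (.leaf 902) (.leaf 884)) (.node (.leaf 700555659) (.leaf 0x6d224823)))) (.node (.node (.node (.leaf 502) (.leaf 488)) (.node (.leaf 1760) (.leaf 1754))) (.node (.node (.leaf 1249) (.leaf 1238)) (.node (.leaf 718733193) (.leaf 2020))))) (.node (.node (.node (.node (.leaf 277) (.leaf 259)) (.node (.leaf 0xa8000007) (.leaf 0x88524117))) (.node (.node (.leaf 1087) (.leaf 0x5100628d)) (.node (.leaf 423659488) (.leaf 0x59a1bd69)))) (.node (.node (.node (.leaf 711) (.leaf 697)) (.node (.leaf 0x6c887835) (.leaf 0x5ce3ce5d))) (.node (.node (.leaf 1407) (.leaf 720765755)) (.node (.leaf 0x8401ac42) (.leaf 723310795)))))) (.node (.node (.node (.node (.node (.leaf 157) (.leaf 138)) (.node (.leaf 1608) (.leaf 1599))) (.node (.node (.leaf 1001) (.leaf 986)) (.node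 (.leaf 574105712) (.leaf 0xd99aadbb)))) (.node (.node (.node (.leaf 612) (.leaf 595)) (.node (.leaf 1809) (.leaf 1800))) (.node (.node (.leaf 0xafae994e) (.leaf 1316)) (.node (.leaf 0xd6e119de) (.leaf 0xabd809f1))))) (.node (.node (.node (.node (.leaf 394) (.leaf 376)) (.node (.leaf 484087697) (.leaf 1702))) (.node (.node (.leaf 0x58267abf) (.leaf 0xe60e9e2a)) (.node (.leaf 607634637) (.leaf 0x65317ce1)))) (.node (.node (.node (.leaf 802) (.leaf 789)) (.node (.leaf 0xe30b9f50) (.leaf 1888))) (.node (.node (.leaf 0xa80c3c8f) (.leaf 0xeb1e51e2)) (.node (.leaf 0x9dfa937d) (.leaf 0x96cab7e7))))))) (.node (.node (.node (.node (.node (.node (.leaf 94) (.leaf 75)) (.node (.leaf 0x721f9ab9) (.leaf 1568))) (.node (.node (.leaf 950) (.leaf 935)) (.node (.leaf 0x4863622d) (.leaf 1933)))) (.node (.node (.node (.leaf 555) (.leaf 539)) (.node (.leaf 0x9cbf00ac) (.leaf 0xd9d83c79))) (.node (.node (.leaf 0x41e4d371) (.leaf 1277)) (.node (.leaf 0xadf95086) (.leaf 0x43135995)))))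 (.node (.node (.node (.node (.leaf 338) (.leaf 320)) (.node (.leaf 1691) (.leaf 1683))) (.node (.node (.leaf 1132) (.leaf 233324752)) (.node (.leaf 0xaa6fc1a2) (.leaf 1987)))) (.node (.node (.node (.leaf 757) (.leaf 410789518)) (.node (.leaf 0x74c7287c) (.leaf 429470387))) (.node (.node (.leaf 1439) (.leaf 1429)) (.node (.leaf 0xae51f012) (.leaf 0x4b794611)))))) (.node (.node (.node (.node (.node (.leaf 217) (.leaf 199)) (.node (.leaf 1639) (.leaf 598881102))) (.node (.node (.leaf 0x9a31ca6e) (.leaf 1033)) (.node (.leaf 0x563be261) (.leaf 0xbb1018a7)))) (.node (.node (.node (.leaf 677174707) (.leaf 648)) (.node (.leaf 258216909) (.leaf 1827))) (.node (.node (.leaf 332664175) (.leaf 1353)) (.node (.leaf 0x4c135933) (.leaf 0xe8fd7a44))))) (.node (.node (.node (.node (.leaf 449) (.leaf 432)) (.node (.leaf 0x951c2531) (.leaf 289611224))) (.node (.node (.leaf 1204) (.leaf 1191)) (.node (.leaf 0x88619bff) (.leaf 0xe806dec5)))) (.node (.node (.node (.leaf 855)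 (.leaf 841)) (.node (.leaf 1911) (.leaf 0xe1858bce))) (.node (.node (.leaf 1509) (.leaf 0xa70ff1f7)) (.node (.leaf 0x61f44f4b) (.leaf 85619529)))))))) (.node (.node (.node (.node (.node (.node (.node (.leaf 63) (.leaf 44)) (.node (.leaf 1563) (.leaf 0x3d347c0e))) (.node (.node (.leaf 927) (.leaf 911)) (.node (.leaf 1930) (.leaf 0xe058ea65)))) (.node (.node (.node (.leaf 529) (.leaf 513)) (.node (.leaf 0x8d4b3021) (.leaf 0xbfb6b836))) (.node (.node (.leaf 1269) (.leaf 0x5b9db1f8)) (.node (.leaf 0xb86690db) (.leaf 0xa159e421))))) (.node (.node (.node (.node (.leaf 307) (.leaf 288)) (.node (.leaf 1676) (.leaf 284725771))) (.node (.node (.leaf 1107) (.leaf 1096)) (.node (.leaf 1982) (.leaf 0xb4bed520)))) (.node (.node (.node (.leaf 0xcda61248) (.leaf 719)) (.node (.leaf 0x9da62ed9) (.leaf 0x52904b37))) (.node (.node (.leaf 0xa8bdbf1d) (.leaf 1414)) (.node (.leaf 0x8f26e756) (.leaf 0x819553cd)))))) (.node (.node (.node (.node (.node (.leaf 187) (.leaf 169))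 (.node (.leaf 1625) (.leaf 0xba617250))) (.node (.node (.leaf 1023) (.leaf 1009)) (.node (.leaf 1959) (.leaf 0xadf5a0a5)))) (.node (.node (.node (.leaf 638) (.leaf 624)) (.node (.leaf 978257350) (.leaf 383636060))) (.node (.node (.leaf 1345) (.leaf 424689895)) (.node (.leaf 352905432) (.leaf 2042))))) (.node (.node (.node (.node (.leaf 420) (.leaf 403)) (.node (.leaf 1723) (.leaf 1717))) (.node (.node (.leaf 625634853) (.leaf 279197215)) (.node (.leaf 0xe92d6576) (.leaf 0x4d7de678)))) (.node (.node (.node (.leaf 0x60a1f547) (.leaf 813)) (.node (.leaf 445785209) (.leaf 1899))) (.node (.node (.leaf 0x8b5ce400) (.leaf 1484)) (.node (.leaf 0x5f38d2c5) (.leaf 0x573a593c))))))) (.node (.node (.node (.node (.node (.node (.leaf 126) (.leaf 107)) (.node (.leaf 1593) (.leaf 0x813f4c1d))) (.node (.node (.leaf 976) (.leaf 963)) (.node (.leaf 1944) (.leaf 0x845358cb)))) (.node (.node (.node (.leaf 582) (.leaf 565)) (.node (.leaf 0x95b7cb36) (.leaf 0xcc341c10))) (.node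 (.node (.leaf 0xec563e28) (.leaf 0x99ef2ba3)) (.node (.leaf 0xbb6bd2f0) (.leaf 2036))))) (.node (.node (.node (.node (.leaf 365) (.leaf 349)) (.node (.leaf 0x8376933e) (.leaf 1695))) (.node (.node (.leaf 203407665) (.leaf 1142)) (.node (.leaf 0x66671ece) (.leaf 0x7e8d4686)))) (.node (.node (.node (.leaf 782) (.leaf 769)) (.node (.leaf 0x47776859) (.leaf 0xdc0f8400))) (.node (.node (.leaf 1455) (.leaf 0x9752774a)) (.node (.leaf 0x42c44504) (.leaf 853738588)))))) (.node (.node (.node (.node (.node (.leaf 246) (.leaf 228)) (.node (.leaf 1652) (.leaf 0xbf30a906))) (.node (.node (.leaf 1065) (.leaf 363117918)) (.node (.leaf 1970) (.leaf 0xde4f2e0c)))) (.node (.node (.node (.leaf 685) (.leaf 670)) (.node (.leaf 0x41b386dc) (.leaf 1840))) (.node (.node (.leaf 1387) (.leaf 1373)) (.node (.leaf 0xca3099f6) (.leaf 0x47baa188))))) (.node (.node (.node (.node (.leaf 477) (.leaf 939111000)) (.node (.leaf 1748) (.leaf 564456828))) (.node (.node (.leaf 1228) (.leaf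 0xb800e65b)) (.node (.leaf 0x984fc9f0) (.leaf 0x53b0e260)))) (.node (.node (.node (.leaf 878) (.leaf 864)) (.node (.leaf 433613563) (.leaf 0xa51d0949))) (.node (.node (.leaf 1531) (.leaf 1519)) (.node (.leaf 0xdb9f95d8) (.leaf 0xde0e1ed4))))))))

/-- Factorisations. -/
def topFac : Tr := .node (.node (.node (.node (topFac_p0000) (topFac_p0001)) (.node (topFac_p0010) (topFac_p0011))) (.node (.node (topFac_p0100) (topFac_p0101)) (.node (topFac_p0110) (topFac_p0111)))) (.node (.node (.node (topFac_p1000) (topFac_p1001)) (.node (topFac_p1010) (topFac_p1011))) (.node (.node (topFac_p1100) (topFac_p1101)) (.node (topFac_p1110) (topFac_p1111))))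

/-- Part of `colT`. -/
def colT_p000 : Tr := .node (.node (.node (.node (.node (.node (.node (.node (.node (.leaf 1) (.leaf 0x5d2f26f437283)) (.leaf 0x746d202732e91)) (.node (.leaf 0x52bab5754fa1f) (.leaf 0x4000b3a34b011))) (.node (.node (.leaf 0x63415696525e7) (.leaf 0x5db125bdfbc9d)) (.node (.leaf 0x5f75b84c64081) (.leaf 0x5141e3c9d68d9)))) (.node (.node (.node (.leaf 0x446d0a042dcda) (.leaf 0x11de11d1b614b)) (.node (.leaf 0x701814f84062d) (.leaf 0x454cf3c845cfb))) (.node (.node (.leaf 0x574a4f36521d5) (.leaf 0x681a6d5efb96a)) (.node (.leaf 0x57d207d294a07) (.leaf 0x57479cd233ce1))))) (.node (.node (.node (.node (.leaf 0x7090458ffb8b1) (.leaf 0x37b0623f396dd)) (.node (.leaf 0x3891e2c3c7027) (.leaf 0x5ae7282d3ad12))) (.node (.node (.leaf 52385699) (.leaf 0x532c15f23bad7)) (.node (.leaf 0x4cbf0088d06a8) (.leaf 0x62396ebd289fa)))) (.node (.node (.node (.leaf 0x7415796e48be6) (.leaf 0x57424482e2de5)) (.node (.leaf 0x441488e720ca5) (.leaf 0x4000acad6eb43)))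 (.node (.node (.leaf 0x27b216ee72a77) (.leaf 0x53ab46a29be57)) (.node (.leaf 0x4000a4a54c779) (.leaf 0x6b88e333dbcda)))))) (.node (.node (.node (.node (.node (.leaf 0x508b897bdb5b1) (.leaf 0x301d33be00c04)) (.node (.leaf 0x400b740c0e592) (.leaf 0x5f62aff198b6d))) (.node (.node (.leaf 0x18008726622fc) (.leaf 0x7e6fbe9236dd5)) (.node (.leaf 0x43b280ccb34bf) (.leaf 65688871)))) (.node (.node (.node (.leaf 0x486501aea4ea9) (.leaf 0x5bce62f5b1a15)) (.node (.leaf 0x4125b5c981b03) (.leaf 0x74905f4e6eef3))) (.node (.node (.leaf 0x42a20e464d421) (.leaf 0x388406fbfee21)) (.node (.leaf 0x22bb8d88d5c1f) (.leaf 0x6a2b5f7a02305))))) (.node (.node (.node (.node (.leaf 0x5ed8d20080212) (.leaf 0x4360859f03090)) (.node (.leaf 0x655a160416d3f) (.leaf 0x6238d4f36d699))) (.node (.node (.leaf 0x44b4d3995858) (.leaf 0x21622c90b64e0)) (.node (.leaf 34421478) (.leaf 0x769eed461bfdc)))) (.node (.node (.node (.leaf 0x588f8965b7531) (.leaf 0x17df43bf41a47)) (.node (.leaf 0x603808820e0a2)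 (.leaf 0x4cd4e1d12c7a1))) (.node (.node (.leaf 0x6083615baa39d) (.leaf 0x665ce5d509ee9)) (.node (.leaf 0x79917047c4f6d) (.leaf 0x6427849255809))))))) (.node (.node (.node (.node (.node (.node (.leaf 0x7c15bfda21387) (.leaf 0x42cc6082196e9)) (.node (.leaf 0x1dbc565921a47) (.leaf 0x62195a4ab551f))) (.node (.node (.leaf 0x6ed0676d3220d) (.leaf 0x3e70943b7f117)) (.node (.leaf 45958655) (.leaf 0x5009edb7560b9)))) (.node (.node (.node (.leaf 0x40009a2eeb3d5) (.leaf 0x453d12b4205e5)) (.node (.leaf 0x7ba54ddfc2b25) (.leaf 0x22255999a8b3d))) (.node (.node (.leaf 0x7c908fde0e039) (.leaf 0x40008051c4cb0)) (.node (.leaf 0x4c6a4c579c3f9) (.leaf 0x4000000000001))))) (.node (.node (.node (.node (.leaf 48233970) (.leaf 0x40008520d1b9f)) (.node (.leaf 0x4000a00a26ef5) (.leaf 0x6d1aaa9c262ff))) (.node (.node (.leaf 0x44b4d39962d8) (.leaf 0x7379a40386d87)) (.node (.leaf 0x5b8addd3504e6) (.leaf 0x709fca8fc4d35)))) (.node (.node (.node (.leaf 0x4cfcc41070b65) (.leaf 0x6420ff270a321))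 (.node (.leaf 0x6a8ddd6975128) (.leaf 0x4479c9ed462f1))) (.node (.node (.leaf 0x4aa737c6d70b6) (.leaf 0x678af5a121bf8)) (.node (.leaf 0x452fa6adf442b) (.leaf 0x4087779f5d723)))))) (.node (.node (.node (.node (.node (.leaf 0x3ac1b0be1bc77) (.leaf 0x17da9b366ed06)) (.node (.leaf 0x42857f5d9e90a) (.leaf 0x6b9fc153b8fbf))) (.node (.node (.leaf 0x5b95f65a4ca42) (.leaf 0x401f55692c4bf)) (.node (.leaf 0x6018206f937c5) (.leaf 0x1cec554002b)))) (.node (.node (.node (.leaf 0x72de981e2220e) (.leaf 0x518ea708c91c3)) (.node (.leaf 0x78eae6a672990) (.leaf 0x6f5fc192c57))) (.node (.node (.leaf 0x504d79f28329f) (.leaf 0x7d64596f48821)) (.node (.leaf 0x3ef1384b9ce91) (.leaf 0x40008b35161fc))))) (.node (.node (.node (.node (.leaf 0x413641dd0cc8e) (.leaf 0x5e0ef5c01089c)) (.node (.leaf 0x447035576d883) (.leaf 0x15dfdc01c802))) (.node (.node (.leaf 0x8f6a61e7f49) (.leaf 0x42a636406ba1d)) (.node (.leaf 0x7482f4f2f2673) (.leaf 0x4565df480f96d)))) (.node (.node (.node (.leaf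 0x5c8f85db86bb0) (.leaf 0x86f9215173f6)) (.node (.leaf 0x4c2af5a0abe13) (.leaf 0x62059201801ac))) (.node (.node (.leaf 0x40009f4d2c8b5) (.leaf 0x77274fff103eb)) (.node (.leaf 0x5d2e592dca59b) (.leaf 0x667ede4e31de3)))))))) (.node (.node (.node (.node (.node (.node (.node (.node (.leaf 0x409d31b484fe5) (.leaf 0x1bd80fe766f5f)) (.leaf 0x400097782ee63)) (.node (.leaf 0x47a9225a9d7f) (.leaf 0x6142ff5850849))) (.node (.node (.leaf 0x3a58f6931519b) (.leaf 0x66426642a3c9d)) (.node (.leaf 0x40616e8d19e74) (.leaf 0x7c9a84dfdbee8)))) (.node (.node (.node (.leaf 0x82ed9f1414f9) (.leaf 0x443ebbd89619b)) (.node (.leaf 0x4c0fd89f232fb) (.leaf 45702649))) (.node (.node (.leaf 0x11094fc973b17) (.leaf 0x3ef1384b85945)) (.node (.leaf 36810756) (.leaf 0x400088a5d60bf))))) (.node (.node (.node (.node (.leaf 0x4225fb5450042) (.leaf 0x2bba52fef6dc1)) (.node (.leaf 0x4000831af845a) (.leaf 0x7e11095504e17))) (.node (.node (.leaf 0x6f5fc193603) (.leaf 0xaa32b85c4ef7)) (.node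 (.leaf 0x5c9c59c6ae3a5) (.leaf 0x114541c9f90f7)))) (.node (.node (.node (.leaf 0x5e9c6d3d9e511) (.leaf 0x741f405547409)) (.node (.leaf 0x6e6cbac882b8a) (.leaf 0x4cb1af880a848))) (.node (.node (.leaf 0x58c666f38cab7) (.leaf 0x3494adc3a362b)) (.node (.leaf 0x3087e87698e97) (.leaf 0x799bb3defa55d)))))) (.node (.node (.node (.node (.node (.leaf 0x68ae6ea2ec16b) (.leaf 0x59686c5577091)) (.node (.leaf 0x7ff09f1e48cf3) (.leaf 0x4c66eb19646bd))) (.node (.node (.leaf 0x7fff101e77963) (.leaf 0x6739f2617aca2)) (.node (.leaf 0x2eec9001f732) (.leaf 0x2215dd4f2941)))) (.node (.node (.node (.leaf 0x480e2087bd219) (.leaf 0x4ac00d5a7ae42)) (.node (.leaf 0x50501012bf2cb) (.leaf 0x2bba52fef6ec9))) (.node (.node (.leaf 0x5a289ca01ca23) (.leaf 0x6a08c9733c62e)) (.node (.leaf 0x37a7fabaed48f) (.leaf 0x43ddd54dbf23a))))) (.node (.node (.node (.node (.leaf 0x2727f8672c4af) (.leaf 0x6d862f381d268)) (.node (.leaf 0x16548b0c7a15) (.leaf 0x4520207c80a40))) (.node (.node (.leaf 0x7d649ef62cc8e)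 (.leaf 45464838)) (.node (.leaf 0x5b459e36c980f) (.leaf 0x6b2a46fe83a0d)))) (.node (.node (.node (.leaf 0xf0aca5060001) (.leaf 0x11de11d1bb415)) (.node (.leaf 0x5a7ed0bc59a02) (.leaf 0x7748d79367617))) (.node (.node (.leaf 0x4000b21b46ee7) (.leaf 0x7fee1555e0b39)) (.node (.leaf 0x72a2264d169c1) (.leaf 0x2164863d9f733))))))) (.node (.node (.node (.node (.node (.node (.leaf 0x447bdfa782aee) (.leaf 0x2797711ab9f35)) (.node (.leaf 60739418) (.leaf 0x3de04d3244b7d))) (.node (.node (.leaf 0x673be43d082d2) (.leaf 0x66ed1ff2daab5)) (.node (.leaf 0x7a36e325a0de4) (.leaf 0x3bd0a936342c7)))) (.node (.node (.node (.leaf 0x6da461f0b32ac) (.leaf 0x545bf16325832)) (.node (.leaf 0x400bbf0a62136) (.leaf 48077395))) (.node (.node (.leaf 0x6039b2dd9dfcc) (.leaf 0x42c9cd4599ad4)) (.node (.leaf 0x401fb3a8e4fee) (.leaf 0x406e3a42bb9dd))))) (.node (.node (.node (.node (.leaf 0x388406fbeda5b) (.leaf 0x7f0a578f03478)) (.node (.leaf 0x5f3da18e73008) (.leaf 0x2bbf537ef6fc1))) (.node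 (.node (.leaf 0x240706920f40f) (.leaf 0x4081dd382a185)) (.node (.leaf 0x40009e7d15799) (.leaf 0x1f786187f45)))) (.node (.node (.node (.leaf 0x5ff84891f9ece) (.leaf 0x446501aedb6f7)) (.node (.leaf 0x400288bc00001) (.leaf 0x70f044cfc460a))) (.node (.node (.leaf 0x641f483cd02f3) (.leaf 0x3de04d32502fd)) (.node (.leaf 0x71a9b6eb32ff7) (.leaf 0x44062b3002526)))))) (.node (.node (.node (.node (.node (.leaf 0x3bd0a93629267) (.leaf 0x2a736c936961)) (.node (.leaf 0x78133d960a93d) (.leaf 0x40009424d48e2))) (.node (.node (.leaf 0x5f34f7918def7) (.leaf 0x52ee677fffd87)) (.node (.leaf 0x3b5d28baed1db) (.leaf 57934082)))) (.node (.node (.node (.leaf 0x74868ae2b0017) (.leaf 0x5647ba564ac82)) (.node (.leaf 0x452c2091fef55) (.leaf 0x713c586d40cb3))) (.node (.node (.leaf 51515807) (.leaf 0x40973abdbd71a)) (.node (.leaf 0x5b9d455b4c32e) (.leaf 0x641f2d277212c))))) (.node (.node (.node (.node (.leaf 0x4a23bd91770ad) (.leaf 0x4132a218faed3)) (.node (.leaf 0x4164fe2494567)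 (.leaf 0x5b826ec97e301))) (.node (.node (.leaf 0x42ea2ac5e956f) (.leaf 0x59f4c4fbaed45)) (.node (.leaf 0x7c856412b084b) (.leaf 0x82ed9f151b31)))) (.node (.node (.node (.leaf 0x4000a9d3c6ee1) (.leaf 53818192)) (.node (.leaf 0x755e4edcf9465) (.leaf 0x7dffcefdfbadf))) (.node (.node (.leaf 0x4fb6a5ec6adc7) (.leaf 0x40008bcea3d69)) (.node (.leaf 37979668) (.leaf 0x4025a3a60b435))))))))

/-- Part of `colT`. -/
def colT_p001 : Tr := .node (.node (.node (.node (.node (.node (.node (.node (.node (.leaf 0x657d7af3cfce7) (.leaf 0x42eac093dc2ed)) (.leaf 0x570700ca20767)) (.node (.leaf 0x5b1a3ea83ac5d) (.leaf 0x4a4bc06c58b11))) (.node (.node (.leaf 0x4000a73db0735) (.leaf 0x66f22002e431f)) (.node (.leaf 0x4a04eec8c2110) (.leaf 0x4000a8bfca1a8)))) (.node (.node (.node (.leaf 0x501c3752b76df) (.leaf 0x5c19605890e81)) (.node (.leaf 0x42cd535f2857d) (.leaf 0x6c93d40722d2b))) (.node (.node (.leaf 62895071) (.leaf 0x7a47d05e345eb)) (.node (.leaf 64251428) (.leaf 0x55abef90e0c3)))))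 (.node (.node (.node (.node (.leaf 0x3de04d32582d1) (.leaf 0x2797711aaae59)) (.node (.leaf 0x61f8a43545e7d) (.leaf 0x75de94ab90f33))) (.node (.node (.leaf 47867187) (.leaf 0x4f90461ea2e75)) (.node (.leaf 0x73f50bd73bfce) (.leaf 49772170)))) (.node (.node (.node (.leaf 0x59f8fbca64c7c) (.leaf 0x6a9b3af54daf3)) (.node (.leaf 0x4141d75291711) (.leaf 0x5df87c6d298ff))) (.node (.node (.leaf 0x5ae7b0a3cb3f0) (.leaf 0x57cecf54179c9)) (.node (.leaf 0x454287004a637) (.leaf 0x7d7092472febe)))))) (.node (.node (.node (.node (.node (.leaf 0x66c9ab7b34a31) (.leaf 0x7bbbc298221b9)) (.node (.leaf 0x3df4774bfa30f) (.leaf 0x40009460226f3))) (.node (.node (.leaf 0x409b1e90d57a1) (.leaf 0x4011a56bcee4b)) (.node (.leaf 0x40164f12ce59c) (.leaf 48342671)))) (.node (.node (.node (.leaf 49639006) (.leaf 0x41009cae74ccd)) (.node (.leaf 0x2bba52feed933) (.leaf 0x37b0623f2289b))) (.node (.node (.leaf 0x48ee5af7b1389) (.leaf 0x7ad102a26d7fa)) (.node (.leaf 0x5b1ab1e5f4005) (.leaf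 0x6b3ea45c47f6e))))) (.node (.node (.node (.node (.leaf 0x747a2cf6408e3) (.leaf 0x7258549e31acd)) (.node (.leaf 0x635d9ed877bbc) (.leaf 0x2215dd4f2841))) (.node (.node (.leaf 0x35a2ec02bdcc7) (.leaf 0x4000b4a72eb83)) (.node (.leaf 0x51597beb642f4) (.leaf 0x5d23bd482cc1d)))) (.node (.node (.node (.leaf 0x7407f603987d3) (.leaf 0x4000a34f78af0)) (.node (.leaf 0x6abdd91effb23) (.leaf 63256831))) (.node (.node (.leaf 0x401dcf152f41b) (.leaf 0x24005f7617609)) (.node (.leaf 0x709a4c5e536b5) (.leaf 0xf94c8e18d5))))))) (.node (.node (.node (.node (.node (.node (.leaf 0x621b399063d86) (.leaf 0x70e335509fee7)) (.node (.leaf 0x6207d51175987) (.leaf 0x6fc7634fecafd))) (.node (.node (.leaf 0x1dbc565932641) (.leaf 0x45975b57868f)) (.node (.leaf 0x42456f580cd4b) (.leaf 0x5e1979311bd53)))) (.node (.node (.node (.leaf 0x3ac1b0be12a31) (.leaf 0x597b984cbc6a1)) (.node (.leaf 0x4133eedb5c37f) (.leaf 0x2eec9001b6fc))) (.node (.node (.leaf 0x82ed9f152771) (.leaf 0x7ee08a1769e0b))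 (.node (.leaf 0x7bce6edf5b78d) (.leaf 0x6c0915b0950dd))))) (.node (.node (.node (.node (.leaf 0x45311251f244d) (.leaf 41792046)) (.node (.leaf 0x8ea5225f8e81) (.leaf 0x4acb08d13f5e1))) (.node (.node (.leaf 0x4000887310409) (.leaf 0x2727f8673a3db)) (.node (.leaf 0x5ecff0b917e14) (.leaf 0x5a61733f9abb1)))) (.node (.node (.node (.leaf 0x533cf942a9b79) (.leaf 0x22255999beb3d)) (.node (.leaf 0x6808e23e52916) (.leaf 0x400093c3ab034))) (.node (.node (.leaf 0x48a5b3d0ea688) (.leaf 0x67077436bb3b3)) (.node (.leaf 0x739a5c875a7e3) (.leaf 0x4020ede7a7b69)))))) (.node (.node (.node (.node (.node (.leaf 0x40123886ef691) (.leaf 0x457bf9316afb0)) (.node (.leaf 0x4064e853be78b) (.leaf 0x63dd606029e8f))) (.node (.node (.leaf 0x404dd5535ecc3) (.leaf 55195829)) (.node (.leaf 0x707327490a01f) (.leaf 0x559b6ae50cd4d)))) (.node (.node (.node (.leaf 0x57cb330c7a71b) (.leaf 0x7c90541e579cb)) (.node (.leaf 0x27b216ee6a349) (.leaf 0x575b705b8d87f))) (.node (.node (.leaf 0x404026eef4d7f)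 (.leaf 0x31397023b63c9)) (.node (.leaf 0x7c744c676769f) (.leaf 0x555a157214cb9))))) (.node (.node (.node (.node (.leaf 0x40008ca9055b3) (.leaf 0x544fe077a5612)) (.node (.leaf 0x648fe39c40001) (.leaf 0x6145f4e43166b))) (.node (.node (.leaf 0x6828a23ea7558) (.leaf 0x60066a26ff645)) (.node (.leaf 0x6abb2c5381a36) (.leaf 0x5df91da4898e5)))) (.node (.node (.node (.leaf 62632351) (.leaf 0x43b79b489cca1)) (.node (.leaf 0x6c0e58c5c09c8) (.leaf 0x7effdf6505a93))) (.node (.node (.leaf 0x747017159af70) (.leaf 0x7e70f93ce9220)) (.node (.leaf 0x400ef00a423a4) (.leaf 0x6ec3bd7ff32cd)))))))) (.node (.node (.node (.node (.node (.node (.node (.leaf 0x724e2492d8bdb) (.leaf 0x60216235549e6)) (.node (.leaf 0x6b8af5df7c13d) (.leaf 0x55c6c142b6fb))) (.node (.node (.leaf 0x3de04d3244435) (.leaf 0x509e5a8f776cb)) (.node (.leaf 0x1f78618f691) (.leaf 45196756)))) (.node (.node (.node (.leaf 0x48e8f050c47af) (.leaf 51645406)) (.node (.leaf 0x63c3bed35b8a1) (.leaf 0x7a485687cf6ec)))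 (.node (.node (.leaf 0x2206db01df6bf) (.leaf 0x6001223fca41d)) (.node (.leaf 0x52fb7790947f9) (.leaf 0x8f6a61e7f57))))) (.node (.node (.node (.node (.leaf 0x665cb617d9a13) (.leaf 0x5338f68d3f0a1)) (.node (.leaf 0x7aaaf819ad3e4) (.leaf 0x8ea5225fdee5))) (.node (.node (.leaf 0x73870aa77aafd) (.leaf 0x4861a82ccc71f)) (.node (.leaf 0x7388636e03b74) (.leaf 45079611)))) (.node (.node (.node (.leaf 0x77bfbd0dc55e0) (.leaf 0x75bb11ea0484e)) (.node (.leaf 0x5d633d5909f1d) (.leaf 0x6e4bdd24e6471))) (.node (.node (.leaf 0x3fe1f213f4832) (.leaf 0x74746351eff33)) (.node (.leaf 0x75c63065200f8) (.leaf 0x47a9225a5b39)))))) (.node (.node (.node (.node (.node (.leaf 0x692d7897c8c85) (.leaf 0x40934df568b78)) (.node (.leaf 0x60bf5eaaf749b) (.leaf 0x42a337c29d7c5))) (.node (.node (.leaf 0x180087266a1a8) (.leaf 0x2bbf537ee9d13)) (.node (.leaf 0x40004e8780001) (.leaf 0x40187d14ebbd1)))) (.node (.node (.node (.leaf 0x4c9879190a7e9) (.leaf 0x1dbc565929329)) (.node (.leaf 0x32c6f6eb1e0e9)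 (.leaf 0x40008f0cbc02d))) (.node (.node (.leaf 0x34118b3a69619) (.leaf 0x622781810120b)) (.node (.leaf 0x7f9a954e17f92) (.leaf 0x40008d25c6d1c))))) (.node (.node (.node (.node (.leaf 0x564e42ba2db79) (.leaf 0x2ed7e1d111067)) (.node (.leaf 0x41214d04d6a53) (.leaf 0x7bbaf21c136d4))) (.node (.node (.leaf 0x47a9225a8d59) (.leaf 0x62260408bc487)) (.node (.leaf 0x6d299909d5ad7) (.leaf 0x4001239981a47)))) (.node (.node (.node (.leaf 0x53af407960393) (.leaf 0x180dc7cb0b9d5)) (.node (.leaf 0x55d7d0d64599a) (.leaf 0x6fd74dfefe213))) (.node (.node (.leaf 0x71bb1d4e677a1) (.leaf 0x52beb3b54be2b)) (.node (.leaf 0x457a2ea1af1d7) (.leaf 0x2215dd4f2d41))))))) (.node (.node (.node (.node (.node (.node (.leaf 0x5bd82de7623c6) (.leaf 0x51da9e11972b6)) (.node (.leaf 0x7f8abbf5f48c9) (.leaf 0x63e77004144ce))) (.node (.node (.leaf 0x7c8f591bc4599) (.leaf 0x4395761194d7e)) (.node (.leaf 0x4825bc006f97d) (.leaf 0x73e350ca8a32c)))) (.node (.node (.node (.leaf 0x706a5dce9cb09)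 (.leaf 0x4c69add19455a)) (.node (.leaf 0x51d62751b06a7) (.leaf 0xaa32b85c770f))) (.node (.node (.leaf 0x40808fe6239c8) (.leaf 0x4a444f64e9b1d)) (.node (.leaf 0xf0aca507f345) (.leaf 0x114541c9e2c7b))))) (.node (.node (.node (.node (.leaf 0x6407d013d4cc9) (.leaf 0x4aae783af159e)) (.node (.leaf 0x1b05996f29d7f) (.leaf 0x4000bad984eb7))) (.node (.node (.leaf 0x788eb148fb28e) (.leaf 0x42a39958d917e)) (.node (.leaf 0x5c9d380f0e27f) (.leaf 0x8ea5225ffc6d)))) (.node (.node (.node (.leaf 0x55abef9097fb) (.leaf 0x4f2f70e712e06)) (.node (.leaf 0xf0f85507ad23) (.leaf 0x603ec38cae33b))) (.node (.node (.leaf 0x17df43bf505d5) (.leaf 0x446eeb87c4fd3)) (.node (.leaf 0x4f02fbe7f0769) (.leaf 0x4224535b803ad)))))) (.node (.node (.node (.node (.node (.leaf 0x453e9d40ac1b6) (.leaf 0x64905c52aee49)) (.node (.leaf 0x7f951a4e71203) (.leaf 0x6fd194e9f0c63))) (.node (.node (.leaf 44471218) (.leaf 0x4530cc0328094)) (.node (.leaf 0x5797ce6700a38) (.leaf 0x6a9df1fbe8f78)))) (.node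 (.node (.node (.leaf 0x6c97325f5eec5) (.leaf 0x6c1f54434e599)) (.node (.leaf 0x4000b88f3567f) (.leaf 0x4acf8b9a49565))) (.node (.node (.leaf 0x6661e1b6a30d2) (.leaf 0x555fdf6be8b60)) (.node (.leaf 0xf94c8e0007) (.leaf 0x22bb8d88d37f5))))) (.node (.node (.node (.node (.leaf 0x44b4d3996858) (.leaf 0x791dfdca84605)) (.node (.leaf 0x40009a47c8711) (.leaf 0x5221c42c8462c))) (.node (.node (.leaf 0x451cf431d8750) (.leaf 0x7ac007fa1acd7)) (.node (.leaf 0x7f74ce9594f47) (.leaf 0x580dd013fe2df)))) (.node (.node (.node (.leaf 0x400097ac78bfd) (.leaf 0x24005f7605733)) (.node (.leaf 0x4115ac0498b00) (.leaf 0x2206db01cb87f))) (.node (.node (.leaf 0x32c6f6eb02983) (.leaf 0x4000aeba60e9f)) (.node (.leaf 0x551e813f4d25d) (.leaf 0x581fe89512efb))))))))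

/-- Part of `colT`. -/
def colT_p010 : Tr := .node (.node (.node (.node (.node (.node (.node (.node (.node (.leaf 0x579a1d83cd4cf) (.leaf 0x1f786187f7b)) (.leaf 0x5320311a52a66)) (.node (.leaf 0x41440fdc3fb81) (.leaf 0x82ed9f1535f1))) (.node (.node (.leaf 0x655cf8890580c) (.leaf 50078431)) (.node (.leaf 0x71a7f1d69fe81) (.leaf 0x5e479158d3426)))) (.node (.node (.node (.leaf 0x637db87b231bf) (.leaf 53555478)) (.node (.leaf 0x7ef16a8c0f73c) (.leaf 0x4000ac7ba8fd3))) (.node (.node (.leaf 0x7bde47c157a5f) (.leaf 0x7ad02b6273b34)) (.node (.leaf 34827027) (.leaf 0x715305747ddee))))) (.node (.node (.node (.node (.leaf 0x8ea5225ff44d) (.leaf 0x57537bedbcd53)) (.node (.leaf 0x78ffd6b4e27f7) (.leaf 0x44b4d3994e98))) (.node (.node (.leaf 0x4000bdbc348c7) (.leaf 0x63434063a9931)) (.node (.leaf 0x5492d85a7c7ff) (.leaf 0x635f88e89209e)))) (.node (.node (.node (.leaf 0x4000a6d0b2731) (.leaf 0x7ab487e386d67)) (.node (.leaf 0x66d7213dd68e4) (.leaf 0x6d2d515886fa6)))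 (.node (.node (.leaf 0x61fe3890cb011) (.leaf 0x144c91c73d8f)) (.node (.leaf 0x31397023aeae1) (.leaf 0x4a256f6d53e6b)))))) (.node (.node (.node (.node (.node (.leaf 0x42eeb4c604963) (.leaf 0x752257debda7b)) (.node (.leaf 0x270588f7f0603) (.leaf 0x12683e90af69b))) (.node (.node (.leaf 0x5407fa27d5a73) (.leaf 0x6d3ffae967f75)) (.node (.leaf 0x17b5dc8a1f27) (.leaf 0x554e13e2b5851)))) (.node (.node (.node (.leaf 0x445a0c2cc2009) (.leaf 0x4000aec1c8c9a)) (.node (.leaf 0x4000bf8a8c494) (.leaf 53253353))) (.node (.node (.leaf 0x486ba5deb6cdf) (.leaf 0x64183c10730f1)) (.node (.leaf 0x6ff251988538d) (.leaf 0x6ef1b6c931b55))))) (.node (.node (.node (.node (.leaf 0x2ed31ac1d0a60) (.leaf 0x453f4ac31a375)) (.node (.leaf 0x4220fad166f93) (.leaf 0x400891b520001))) (.node (.node (.leaf 0x24005f760af3f) (.leaf 0x40009d1531e25)) (.node (.leaf 0x2bbf537ef6dc9) (.leaf 0x5e94de3c494da)))) (.node (.node (.node (.leaf 0x5d71120d0fa25) (.leaf 0x54d2feb60efb3)) (.node (.leaf 0x5e9d02a5f3a91)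 (.leaf 0x17b5dc8a9647))) (.node (.node (.leaf 0x3e70943b622ef) (.leaf 0x72d5a579c1b0e)) (.node (.leaf 50393857) (.leaf 0x52657324987f9))))))) (.node (.node (.node (.node (.node (.node (.leaf 0x836a9dd6ce1) (.leaf 0x2bbf537ef6ed9)) (.node (.leaf 0x7082dd30c1c47) (.leaf 0x65f2d978c4f6a))) (.node (.node (.leaf 0x229f11ad498e1) (.leaf 0x74e2dd1ea9e34)) (.node (.leaf 0x6fc3ab1ebffce) (.leaf 35741392)))) (.node (.node (.node (.leaf 0x4000be24c92cd) (.leaf 0x415cccc954723)) (.node (.leaf 0x7e61dc3f7f374) (.leaf 0x4400957791879))) (.node (.node (.leaf 0x144c91c73a0f) (.leaf 0x24005f7616495)) (.node (.leaf 0x44722309efc8e) (.leaf 0x4000b4fda2c0f))))) (.node (.node (.node (.node (.leaf 0x4140711d5ab29) (.leaf 0x3df4774bf767f)) (.node (.leaf 0x6db20b09e4299) (.leaf 0x22255999aa4f5))) (.node (.node (.leaf 0x47a9225aed07) (.leaf 0x415914457b2b9)) (.node (.leaf 0x5dae70d679500) (.leaf 0x4f9a9dd603673)))) (.node (.node (.node (.leaf 0x2ed31ac1c1a46) (.leaf 0x4f0d66f6d590f))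 (.node (.leaf 0x73ffc916f60c1) (.leaf 0x4204353501da7))) (.node (.node (.leaf 0x4c9f08566eeb9) (.leaf 0x6d93f2fc09399)) (.node (.leaf 0x37b0623f299d7) (.leaf 0x1dbd3b40d7827)))))) (.node (.node (.node (.node (.node (.leaf 0x400091f5105bd) (.leaf 0x17da9b3675bb2)) (.node (.leaf 0x4449d039c95ff) (.leaf 0x40009b0f2bc1b))) (.node (.node (.leaf 0x63fa6e7637ec1) (.leaf 0x761552362b355)) (.node (.leaf 0x5977a76498a95) (.leaf 0x4089dbda4ffc9)))) (.node (.node (.node (.leaf 0x51cea46728f30) (.leaf 0x42009cae17421)) (.node (.leaf 0x11094fc9681e9) (.leaf 0x3087e8768aaed))) (.node (.node (.leaf 0x7137b29578343) (.leaf 0x17da9b366efca)) (.node (.leaf 43885975) (.leaf 0x270588f7eca29))))) (.node (.node (.node (.node (.leaf 0x428597d358155) (.leaf 0x752dd10746968)) (.node (.leaf 0x409a9547e9aeb) (.leaf 0x574fb3bf674f1))) (.node (.node (.leaf 0x4a4ce819b8d8c) (.leaf 0x6a3ab49365c6b)) (.node (.leaf 0x440b6edecf355) (.leaf 0x772320afdbb41)))) (.node (.node (.node (.leaf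 0x77a80840a89b0) (.leaf 51124255)) (.node (.leaf 0x7ce137a687eef) (.leaf 0x693fe0258780e))) (.node (.node (.leaf 56677794) (.leaf 58419205)) (.node (.leaf 0x623b3337117e5) (.leaf 54135758)))))))) (.node (.node (.node (.node (.node (.node (.node (.leaf 0x16548b0cf231) (.leaf 0x43909556087b3)) (.node (.leaf 0x180dc7cb08361) (.leaf 0x444a252b798eb))) (.node (.node (.leaf 0x1dbd3b40c896b) (.leaf 0x401e643806ee8)) (.node (.leaf 0x4c9a4597fa992) (.leaf 0x443767ef9a672)))) (.node (.node (.node (.leaf 0x77a302ae40082) (.leaf 0x4261a0bc6a77f)) (.node (.leaf 0x4f4af5afcb2ad) (.leaf 0x5a688bae99e20))) (.node (.node (.leaf 59260916) (.leaf 0x4a2c3b4024303)) (.node (.leaf 0x2bbf537ee0001) (.leaf 0x6795a0dbe5fe1))))) (.node (.node (.node (.node (.leaf 0x66ed75649851b) (.leaf 0x78e1ec51b86e7)) (.node (.leaf 0x4a21dba5429c8) (.leaf 0x7b53eb4d8e94d))) (.node (.node (.leaf 0x417a4fd137aa9) (.leaf 0x2bba52fee0001)) (.node (.leaf 0x4f922031dfed6) (.leaf 0x544a0337a1cd9))))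 (.node (.node (.node (.leaf 0x642095afb76ad) (.leaf 0x42616722f61d1)) (.node (.leaf 0x7690599f3cddf) (.leaf 0x22bb8d88cbe1f))) (.node (.node (.leaf 0x3bd0a9362e6c1) (.leaf 0x12683e90a20dd)) (.node (.leaf 0x7f0a9c97a886a) (.leaf 48473309)))))) (.node (.node (.node (.node (.node (.leaf 0x4000a7a45eae3) (.leaf 0x388406fbf5499)) (.node (.leaf 0x3e70943b66d23) (.leaf 0x597b14d98ead8))) (.node (.node (.leaf 0x5d3cfaee5b36d) (.leaf 40825434)) (.node (.leaf 0x3f74bd138860d) (.leaf 0x7017923855839)))) (.node (.node (.node (.leaf 47624375) (.leaf 0x5aee6c3a70d9d)) (.node (.leaf 0x40008bb66e927) (.leaf 0x62ba9f48af276))) (.node (.node (.leaf 0x3ac1b0be19749) (.leaf 0x5882f6406dd5f)) (.node (.leaf 0x748cb3cf78ae4) (.leaf 0x1bd80fe77b311))))) (.node (.node (.node (.node (.leaf 0x86f92150035e) (.leaf 0x789a53ed97cd1)) (.node (.leaf 0x52ff7cd08c9f3) (.leaf 0x666232c8b1562))) (.node (.node (.leaf 0x2215dd4f2a41) (.leaf 0x73909e46cf8ed)) (.node (.leaf 37293738) (.leaf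 0x4867029597c37)))) (.node (.node (.node (.leaf 0x7065d2cefbe68) (.leaf 0xf0f855061a53)) (.node (.leaf 0x5e51efa9fab35) (.leaf 0x584d550a801db))) (.node (.node (.leaf 0x37a7fabaf9f87) (.leaf 0x3494adc3bf84b)) (.node (.leaf 39280377) (.leaf 0x270588f7f11df))))))) (.node (.node (.node (.node (.node (.node (.leaf 0x61e6ecfaa0001) (.leaf 0x270588f7e3765)) (.node (.leaf 0x51c21d3b80fa0) (.leaf 0x408b7eba9d72d))) (.node (.node (.leaf 0x31b072ffa7d67) (.leaf 0x6bac2de4954f5)) (.node (.leaf 0x4a4854416aaa1) (.leaf 0x408f71695cd7d)))) (.node (.node (.node (.leaf 0x74fba860d5c95) (.leaf 0x4000856185598)) (.node (.leaf 0x559eada518e05) (.leaf 0xf0f855061815))) (.node (.node (.leaf 0x75cddaf9216d3) (.leaf 0x16548b0cf371)) (.node (.leaf 0x4220624447c14) (.leaf 0x445830af382ad))))) (.node (.node (.node (.node (.leaf 0x4201fff019e75) (.leaf 0x4401633d1c76a)) (.node (.leaf 0x72cd710decd1f) (.leaf 0x82ed9f1515f1))) (.node (.node (.leaf 63391006) (.leaf 0x1bd80fe76207d))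 (.node (.leaf 0x70e908567158c) (.leaf 0x5bd02a3f0a29b)))) (.node (.node (.node (.leaf 0x60263eacca01b) (.leaf 0x4019c9d283b4f)) (.node (.leaf 0x7551c81c93743) (.leaf 40130364))) (.node (.node (.leaf 0x37a7fabae1317) (.leaf 0x601ed522ea1de)) (.node (.leaf 0x77cc5736481d5) (.leaf 0x680fbea7cd26b)))))) (.node (.node (.node (.node (.node (.leaf 0x8a6ea74b836f) (.leaf 0x69bb9d05bca27)) (.node (.leaf 0x7145d2ef82481) (.leaf 0x1cec5540017))) (.node (.node (.leaf 0x7d9a9ce2dbb34) (.leaf 0x5f7db688789d5)) (.node (.leaf 0x40009910aea7f) (.leaf 0x5daf30c734bc7)))) (.node (.node (.node (.leaf 0x6342cbadeb4cf) (.leaf 0x40009ca5c5f41)) (.node (.leaf 0x3f74bd1388ea1) (.leaf 0x455bffab639f6))) (.node (.node (.leaf 0x4cf0555629d02) (.leaf 0x68bf66a669e73)) (.node (.leaf 0x7d847d8a6deab) (.leaf 0x180087267c3f6))))) (.node (.node (.node (.node (.leaf 0x2164863d9ff1b) (.leaf 0x4001b415c0000)) (.node (.leaf 0x3de04d325d78f) (.leaf 0x4c2657edfc483))) (.node (.node (.leaf 0x2a736c9247a1)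 (.leaf 0x3fe1f213e86de)) (.node (.leaf 59017903) (.leaf 0x6b0f293f454eb)))) (.node (.node (.node (.leaf 0x4c4a3ea9b90d0) (.leaf 0x450b78c0c57c1)) (.node (.leaf 0x3a58f69316263) (.leaf 0x40009574d76b3))) (.node (.node (.leaf 0x484029895dba4) (.leaf 0x54cb9bebe5149)) (.node (.leaf 0x400098b2c1dbc) (.leaf 0x4c4230650d917))))))))

/-- Part of `colT`. -/
def colT_p011 : Tr := .node (.node (.node (.node (.node (.node (.node (.node (.node (.leaf 0x5e0f889865e62) (.leaf 0x6439f0faf48ce)) (.leaf 0x32d0b9f6afe0f)) (.node (.leaf 0x400085f18d471) (.leaf 0x11094fc978197))) (.node (.node (.leaf 0x5890ced2867cf) (.leaf 0x40009a8048e1d)) (.node (.leaf 0x67272c677bbef) (.leaf 0x7f65cbc7cd291)))) (.node (.node (.node (.leaf 0x401da59f4559b) (.leaf 0x11094fc97420b)) (.node (.leaf 0x48ad94858f281) (.leaf 0x6019863bd6024))) (.node (.node (.leaf 0x7f15c9f37a377) (.leaf 0x65629a360cafb)) (.node (.leaf 0x401c115c2d509) (.leaf 0x655cb48565949))))) (.node (.node (.node (.node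 (.leaf 42923674) (.leaf 0x400084a8c15b6)) (.node (.leaf 0x4c2fab317f545) (.leaf 0x4a65ced0ae32b))) (.node (.node (.leaf 0x617bf8be18a85) (.leaf 0x70e6874750d51)) (.node (.leaf 0x3087e8769745b) (.leaf 0xf0f855061a87)))) (.node (.node (.node (.leaf 0x7bd10473217cf) (.leaf 0x43214af46b75e)) (.node (.leaf 0x6f7f94347c62f) (.leaf 0x408b8a7cedec7))) (.node (.node (.leaf 39430155) (.leaf 0x55c6c142e0cb)) (.node (.leaf 0x401459312bbfb) (.leaf 0x5fbcf7ae46384)))))) (.node (.node (.node (.node (.node (.leaf 0x44210413efcd1) (.leaf 0x571a3f8f2b75f)) (.node (.leaf 0x600084b27bc9f) (.leaf 0x40008019debe1))) (.node (.node (.leaf 0x40008ead74701) (.leaf 0x4aa1e5237cb73)) (.node (.leaf 0x4a2ae9bc00df3) (.leaf 0x4aa8aadf5ae4f)))) (.node (.node (.node (.leaf 0x4501b05063904) (.leaf 59647347)) (.node (.leaf 0x6439be7259601) (.leaf 0x692bc7ea33bd8))) (.node (.node (.leaf 0x5c0bd45d507cb) (.leaf 0x6aafcef346a4d)) (.node (.leaf 0x409e9a99ad51e) (.leaf 0x7ade847b964cb)))))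 (.node (.node (.node (.node (.leaf 0x3f74bd139406f) (.leaf 0x1bd80fe7690c3)) (.node (.leaf 0x63fbf97c614db) (.leaf 0x7e1fa425d412f))) (.node (.node (.leaf 0x53e773724e71b) (.leaf 0x301d33be16c5a)) (.node (.leaf 0x5086cbfa137f5) (.leaf 0x50df87a3997e2)))) (.node (.node (.node (.leaf 0x689a629218f49) (.leaf 0x7120903733594)) (.node (.leaf 0x21622c90b4e40) (.leaf 0x749a427575e7d))) (.node (.node (.leaf 0x5ff04f4c0020d) (.leaf 0x724080f6d22e5)) (.node (.leaf 0x40009df5e27a5) (.leaf 0x45329da57e018))))))) (.node (.node (.node (.node (.node (.node (.leaf 0x4fd74674c146f) (.leaf 0x4000bbc2a6ee7)) (.node (.leaf 0x40082b3609ae8) (.leaf 0x4cdf01d1f6981))) (.node (.node (.leaf 0x712ef3dbd204f) (.leaf 0x61dab7b4ca0d2)) (.node (.leaf 0x65840973451) (.leaf 65328385)))) (.node (.node (.node (.leaf 0x26558713d62f) (.leaf 0x6fe19085a1ba3)) (.node (.leaf 0x301d33be0ba64) (.leaf 0x4acc1fbfd7044))) (.node (.node (.leaf 0x7d6f655aa4cb4) (.leaf 0x6c1b84db3a456)) (.node (.leaf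 0x51055bc9777f1) (.leaf 0x409dbd30646b1))))) (.node (.node (.node (.node (.leaf 0x63defd4ad6209) (.leaf 0x6a9e347df028e)) (.node (.leaf 0x4145f8ccc560d) (.leaf 0x59eb39dccaf68))) (.node (.node (.leaf 0x4000be8058548) (.leaf 0xaa32b85c0001)) (.node (.leaf 0x486d0f79c38f1) (.leaf 0x73fa5f177a45f)))) (.node (.node (.node (.leaf 0x615d42a914a47) (.leaf 0x48009577ef827)) (.node (.leaf 0x4240e69f9ca23) (.leaf 0x3494adc3a58cd))) (.node (.node (.leaf 0x4517f1b018761) (.leaf 0x2a736c932869)) (.node (.leaf 0x6bbdf1da9d497) (.leaf 0x5375b9623a2d5)))))) (.node (.node (.node (.node (.node (.leaf 0x43dc73c8a6a09) (.leaf 43206399)) (.node (.leaf 0x48aacd75b3634) (.leaf 0x52a78a38ecaac))) (.node (.node (.leaf 0x772c73cada24b) (.leaf 0x67979c52477b9)) (.node (.leaf 0x4522551859ee3) (.leaf 0x410479388a72d)))) (.node (.node (.node (.leaf 0x63c1a82e0c0fe) (.leaf 0x5d304c50e524e)) (.node (.leaf 0x52e7bfd3093f3) (.leaf 0x4000893b8daf7))) (.node (.node (.leaf 0x67253afe1726b)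 (.leaf 44208434)) (.node (.leaf 0x5597fbabfdba5) (.leaf 0x1261c234e817b))))) (.node (.node (.node (.node (.leaf 0x74ffc72c01fdb) (.leaf 0x4000965c61da9)) (.node (.leaf 0x4000b95974341) (.leaf 0x7abb013a03bb6))) (.node (.node (.leaf 0x5aa323d553a1a) (.leaf 0x4a85474db33ed)) (.node (.leaf 0x617ccc19fed77) (.leaf 0x4084056debbe9)))) (.node (.node (.node (.leaf 0x6ba91a6498379) (.leaf 0x7b33c2a7e8e64)) (.node (.leaf 0x58d86d82494eb) (.leaf 0x4000b7d8cfc82))) (.node (.node (.leaf 0xf0aca5060255) (.leaf 0x70eca8494a0cd)) (.node (.leaf 0x5ed9b1597e3a3) (.leaf 0x1f786187f7f)))))))) (.node (.node (.node (.node (.node (.node (.node (.leaf 0x7eff0832a1fb2) (.leaf 0x2a736c932961)) (.node (.leaf 0x12683e90a30c7) (.leaf 0x417b22cf3e98f))) (.node (.node (.leaf 0x6b9adcda8a319) (.leaf 0x45444e3491fde)) (.node (.leaf 0x7aabd285f228d) (.leaf 0x6027bb334523f)))) (.node (.node (.node (.leaf 0x4082d79940001) (.leaf 0x6e5f3bce08b61)) (.node (.leaf 0x66f1d76a218c0) (.leaf 0x4090ef01a1183)))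 (.node (.node (.leaf 0x408bf2311ec69) (.leaf 0x6f5fc192c91)) (.node (.leaf 0x2ed31ac1d0a3e) (.leaf 0x4fbfc65968581))))) (.node (.node (.node (.node (.leaf 0x7adfb66ab8841) (.leaf 0x570f2bfeaf8bc)) (.node (.leaf 0x434416ad0d889) (.leaf 0x6788f6fe3d7f5))) (.node (.node (.leaf 0x17da9b3660000) (.leaf 0x44671729a99a9)) (.node (.leaf 0x7ce1d16716d7f) (.leaf 0x70791a4748fe9)))) (.node (.node (.node (.leaf 0x406bae94a9c54) (.leaf 0x52e39040dc06a)) (.node (.leaf 0x77b4812321ad5) (.leaf 0x452e55fd8bf41))) (.node (.node (.leaf 0x7b52d8816dcf4) (.leaf 0x1b05996f2ebab)) (.node (.leaf 0x79904807dd79e) (.leaf 0x5186074a82390)))))) (.node (.node (.node (.node (.node (.leaf 0x42c8b018ba336) (.leaf 0x5fbd94f7b82b5)) (.node (.leaf 0x6c86370898211) (.leaf 0x67ac4d6eb8dc1))) (.node (.node (.leaf 0x17b5dc8ad4d3) (.leaf 0x43004e9631cc0)) (.node (.leaf 0x402145fcb13ef) (.leaf 0x66d7443f0ee23)))) (.node (.node (.node (.leaf 0x50cb8785f0131) (.leaf 0xf94c8e0025)) (.node (.leaf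 0x4f284bca3e17e) (.leaf 0x79f4e4979b874))) (.node (.node (.leaf 0x60a0c0d31130c) (.leaf 0x75262ac75b400)) (.node (.leaf 62182678) (.leaf 0x446cfd14f0ca3))))) (.node (.node (.node (.node (.leaf 0x66ee90d0ee597) (.leaf 0x58409c6766da7)) (.node (.leaf 39139660) (.leaf 0x180dc7cb1266b))) (.node (.node (.leaf 0x4aeaec600b162) (.leaf 0x548a6ec60543d)) (.node (.leaf 0x5bc6fdae30b66) (.leaf 0x67072aee507e9)))) (.node (.node (.node (.leaf 0x457d1c5dcbe2a) (.leaf 0x4087d61c76cc8)) (.node (.leaf 0x5442b03eded8b) (.leaf 0x7542864e22e91))) (.node (.node (.leaf 0x71db11c9dae2a) (.leaf 0x119fc16c9e85f)) (.node (.leaf 0x76fb79963b525) (.leaf 0x7a28871751a14))))))) (.node (.node (.node (.node (.node (.node (.leaf 0x77348ee2bb0bf) (.leaf 0x46f82d4a2ccf)) (.node (.leaf 0x4456978ef870b) (.leaf 0x71c60bf3daf6a))) (.node (.node (.leaf 0x40009eb0af69a) (.leaf 0x44265894361b1)) (.node (.leaf 0x4027a0989c6f5) (.leaf 0x6ee763605f327)))) (.node (.node (.node (.leaf 0x66f2585953a5c)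 (.leaf 0x40008c75e11b8)) (.node (.leaf 0x3e70943b7e4cd) (.leaf 0x5110bfe7c9ac7))) (.node (.node (.leaf 0x715d4adb7aa91) (.leaf 0x4000a04811763)) (.node (.leaf 0x1bd80fe7651c5) (.leaf 0x7b3d85982ea09))))) (.node (.node (.node (.node (.leaf 0x4000a9595c267) (.leaf 0x56ca1ae51b716)) (.node (.leaf 0x79fe270edb5e4) (.leaf 0x4000a632e9685))) (.node (.node (.leaf 0x4000b14f6120f) (.leaf 0x62247499ce81e)) (.node (.leaf 0x7f8526ec20e37) (.leaf 0x6564246fbe618)))) (.node (.node (.node (.leaf 0x5e4e6d900a4fc) (.leaf 0x4439ca97e29f1)) (.node (.leaf 0x629ddaed917c7) (.leaf 0x7bdf66c50021b))) (.node (.node (.leaf 0x72b031a0ac8a1) (.leaf 0x6ef6913c73755)) (.node (.leaf 0x41650877405e3) (.leaf 0x7bc0217a99060)))))) (.node (.node (.node (.node (.node (.leaf 38838667) (.leaf 0x40902408d897c)) (.node (.leaf 0x8a6ea74bc999) (.leaf 0x549fb2c3e7265))) (.node (.node (.leaf 0x41654460890d8) (.leaf 0x58c6f17200e39)) (.node (.leaf 0x5aa3b789460cd) (.leaf 0x78fef7a163dbe)))) (.node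 (.node (.node (.leaf 0x422152dc56d7d) (.leaf 0x4320256958f6c)) (.node (.leaf 0x4000b5daf0667) (.leaf 0x35a2ec02abd47))) (.node (.node (.leaf 0x2727f86727f57) (.leaf 0x5193e3643ce86)) (.node (.leaf 0x2ed7e1d11103b) (.leaf 0x40108fe643b4f))))) (.node (.node (.node (.node (.leaf 0x3087e8768bab1) (.leaf 0x1261c234ea961)) (.node (.leaf 0x69af8c02a8b55) (.leaf 0xf0aca50600d3))) (.node (.node (.leaf 0x41402040ea39b) (.leaf 0x17da9b366ec9c)) (.node (.leaf 0x4000add9dbe50) (.leaf 0x4007b6270a1bd)))) (.node (.node (.node (.leaf 0x7b4cbe374ad50) (.leaf 0x5004bdfe2eb20)) (.node (.leaf 0x4a0a9b58439e9) (.leaf 0x4ac89cfc0d449))) (.node (.node (.leaf 0x401f09260fd4e) (.leaf 0x4000862c1fb46)) (.node (.leaf 0x5b537fa03e447) (.leaf 0x4000bc864951f))))))))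

/-- Part of `colT`. -/
def colT_p100 : Tr := .node (.node (.node (.node (.node (.node (.node (.node (.node (.leaf 0x43fbd909c07cd) (.leaf 0x52f680a59e395)) (.leaf 0x453cccee565a7)) (.node (.leaf 0x35343ee75310f) (.leaf 0xaaa6da00563f))) (.node (.node (.leaf 0x3494adc3b78c1) (.leaf 0x780dedcb0e6c7)) (.node (.leaf 0x4000a1a30b02f) (.leaf 0x579fc89b220db)))) (.node (.node (.node (.leaf 36197788) (.leaf 0x4cf390d89907b)) (.node (.leaf 0x4000ba00701d8) (.leaf 0x689f700245fbf))) (.node (.node (.leaf 0x401e387264d55) (.leaf 0x180dc7cb0b36f)) (.node (.leaf 0x788f88c4fd431) (.leaf 0x79ff150e23863))))) (.node (.node (.node (.node (.leaf 0x63c01cf3eaab1) (.leaf 0x35343ee74a18b)) (.node (.leaf 0x43d8900d4182e) (.leaf 0x682fea2791580))) (.node (.node (.leaf 0x753f407af02f1) (.leaf 0x7b3cbc0d52860)) (.node (.leaf 0x7e0fa2c3ac43e) (.leaf 0x700a859e9e6c1)))) (.node (.node (.node (.leaf 41329278) (.leaf 0x66ca5a4585499)) (.node (.leaf 0x6e4cfad9a55a9) (.leaf 0x1b05996f2e625)))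 (.node (.node (.leaf 0x72db010105c31) (.leaf 0x76942edf24f6a)) (.node (.leaf 0x4002f0fec987a) (.leaf 0x6739a336b533f)))))) (.node (.node (.node (.node (.node (.leaf 0x457cc214ee059) (.leaf 0x2bba52fef6fd9)) (.node (.leaf 0x6d970a3430ddf) (.leaf 0x6400bf37d29fc))) (.node (.node (.leaf 0x5df4f9c96f4a9) (.leaf 0x42ee3b81cc893)) (.node (.leaf 0x78672b2e74e30) (.leaf 0x55dea353bb8b1)))) (.node (.node (.node (.leaf 0x1dbc5659292ed) (.leaf 0x76f5dcded7302)) (.node (.leaf 42056342) (.leaf 0x1dbd3b40c88a1))) (.node (.node (.leaf 0x408d588847de9) (.leaf 50987212)) (.node (.leaf 0x7f65021eb2969) (.leaf 0x500085eb52a49))))) (.node (.node (.node (.node (.leaf 0x4281e9df602ad) (.leaf 0x4095138f0c4a1)) (.node (.leaf 65459463) (.leaf 0x144c91c73f4f))) (.node (.node (.leaf 0x400094dde9c4f) (.leaf 0x7e94fe5562613)) (.node (.leaf 0x41202ccfd875e) (.leaf 0x6e5bf61ec5727)))) (.node (.node (.node (.leaf 0x4300d6106829d) (.leaf 0x4364b900d1473)) (.node (.leaf 0x40008edcfdd85)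 (.leaf 0x7a263997d2ffa))) (.node (.node (.leaf 0x4ae38fd50a0ea) (.leaf 0x77ac7c1da7fb1)) (.node (.leaf 0x4a436ec8cdb17) (.leaf 0x3b5d28baf31d5))))))) (.node (.node (.node (.node (.node (.node (.leaf 0xaa32b85d043b) (.leaf 0x422563c6b11c4)) (.node (.leaf 0x5800bdf6387ed) (.leaf 0x180dc7cb00001))) (.node (.node (.leaf 0x7f6a44c7f2723) (.leaf 0x4a8b1fdd32b1a)) (.node (.leaf 0x48a90a8eecb05) (.leaf 0x6bab26521109c)))) (.node (.node (.node (.leaf 47716946) (.leaf 0x667d67b723e59)) (.node (.leaf 35509356) (.leaf 61533706))) (.node (.node (.leaf 0x768383821167d) (.leaf 0x4004fb15a0001)) (.node (.leaf 0x775594d6ee580) (.leaf 0x456eed40e360f))))) (.node (.node (.node (.node (.leaf 0x4000877c66ec5) (.leaf 0x444490caa501f)) (.node (.leaf 0x2206db01d7613) (.leaf 0x61db3cb54e667))) (.node (.node (.leaf 0x76e96e6f9af37) (.leaf 0x40009801c0ebb)) (.node (.leaf 41921262) (.leaf 0x7d707816e2b39)))) (.node (.node (.node (.leaf 0x48096df895c0d) (.leaf 0x417b7c1043155)) (.node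 (.leaf 0x408f85a88ded3) (.leaf 0x1b4d2a670b8c3))) (.node (.node (.leaf 0x114541c9feab1) (.leaf 0x40008db124021)) (.node (.leaf 64087159) (.leaf 0x3b5d28baefdc1)))))) (.node (.node (.node (.node (.node (.leaf 0x4471e6947d569) (.leaf 0x86f9215167b6)) (.node (.leaf 0x6ef277640f73b) (.leaf 0x4f08202f3077d))) (.node (.node (.leaf 0x6b3b9ac5ab96f) (.leaf 0x791cd74a85782)) (.node (.leaf 38143105) (.leaf 0x4f9daf280e641)))) (.node (.node (.node (.leaf 0x11094fc975791) (.leaf 0x47a9225aa565)) (.node (.leaf 0x6b0d00ca0ab25) (.leaf 43761430))) (.node (.node (.leaf 0x5d7da1a1e8550) (.leaf 51992420)) (.node (.leaf 0x4110b780a1cd6) (.leaf 0x5b05acb7ca633))))) (.node (.node (.node (.node (.leaf 0x77c32b5d7a40e) (.leaf 0x7e84d5731f6b3)) (.node (.leaf 0x5b82fa84bd8db) (.leaf 0x67b0f0aea6363))) (.node (.node (.leaf 0x4065da4f66d42) (.leaf 0x671a1dd37b2e3)) (.node (.leaf 0x400082ad74a5b) (.leaf 0xf0f855060001)))) (.node (.node (.node (.leaf 0x7e11e312ba5f9) (.leaf 0x5924fe7d818e3))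 (.node (.leaf 0x40008af7c625d) (.leaf 0x22bb8d88d7803))) (.node (.node (.leaf 0x588f3f2709689) (.leaf 0x1f786187f71)) (.node (.leaf 0x8ea5225eba2d) (.leaf 0x41016badfe5ff)))))))) (.node (.node (.node (.node (.node (.node (.node (.node (.leaf 0x4000838938f51) (.leaf 0x7a37d268cb8fb)) (.leaf 0x7bb491fa352b7)) (.node (.leaf 0x4000b40ebf023) (.leaf 0x6b98f5fe99339))) (.node (.node (.leaf 0x71a25c0fe4ca8) (.leaf 0x73950a8697b99)) (.node (.leaf 0x53bfacc9f222d) (.leaf 0x739fda471bc6e)))) (.node (.node (.node (.leaf 0x65429ca027063) (.leaf 0x42655ba9db71b)) (.node (.leaf 0x4000bff4935bb) (.leaf 0x5faa0000f2593))) (.node (.node (.leaf 0x657d2bb5d63b7) (.leaf 0x69be808c8e781)) (.node (.leaf 0x3891e2c3dd661) (.leaf 0x678aab742340d))))) (.node (.node (.node (.node (.leaf 66338036) (.leaf 0x404892cb139df)) (.node (.leaf 0x40016d1b40001) (.leaf 0x617a6fad34587))) (.node (.node (.leaf 0x62b978907c519) (.leaf 65556339)) (.node (.leaf 0x4a6f0f99ce8dd) (.leaf 0x614374802019f))))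 (.node (.node (.node (.leaf 0x26558713d06f) (.leaf 0x417a110b0b97f)) (.node (.leaf 0x56cfeb2cbc0f7) (.leaf 0x55abef90ae21))) (.node (.node (.leaf 0x617d641b964c9) (.leaf 0x6ee486c5d9493)) (.node (.leaf 0x6a8b046f61cd5) (.leaf 0xaa32b85c211d)))))) (.node (.node (.node (.node (.node (.leaf 0x700f0347e077f) (.leaf 0x637c10689d98c)) (.node (.leaf 0x75b49733ffb6b) (.leaf 0x5712306aec82b))) (.node (.node (.leaf 0x7aa454459996d) (.leaf 0x3bd0a9363d799)) (.node (.leaf 0x4000a86320bff) (.leaf 0x836a9dc0029)))) (.node (.node (.node (.leaf 0x35343ee758421) (.leaf 0x3891e2c3d005f)) (.node (.leaf 0x657bf2a2dc307) (.leaf 0x456f1e016e8dd))) (.node (.node (.leaf 0x4f425b0b8cf7c) (.leaf 0x2797711aadaf5)) (.node (.leaf 0x15dfdc016442) (.leaf 0x58d8d70b6d0ca))))) (.node (.node (.node (.node (.leaf 0x5368826f16db0) (.leaf 0x5d3133891855c)) (.node (.leaf 0x615cf6b178edb) (.leaf 0x240706921f529))) (.node (.node (.leaf 0x43dd5a11a3b4f) (.leaf 0x7de022f45ab41)) (.node (.leaf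 0x31397023bd827) (.leaf 0x2206db01cd6bf)))) (.node (.node (.node (.leaf 0x5182365f654a8) (.leaf 0x44574cd5a7efb)) (.node (.leaf 0x3494adc3b8a2d) (.leaf 0x4020be2ddff26))) (.node (.node (.leaf 0x2eec9000a686) (.leaf 0x404d630032856)) (.node (.leaf 0x5b12343fd61e5) (.leaf 0x41147fd65a287))))))) (.node (.node (.node (.node (.node (.node (.leaf 0x4261f36052e2b) (.leaf 0x629e1f6413c88)) (.node (.leaf 0x400084f48edbd) (.leaf 36002946))) (.node (.node (.leaf 0x37a7fabae65dd) (.leaf 0x6d0f41509302d)) (.node (.leaf 0x51c621bd2cbf7) (.leaf 55074176)))) (.node (.node (.node (.leaf 0x5d22ef91d5f31) (.leaf 0x78905e171d779)) (.node (.leaf 0x15dfdc012508) (.leaf 0x7d9a4ba4a9e98))) (.node (.node (.leaf 0x401edeb44c601) (.leaf 43343416)) (.node (.leaf 0x6f5ad9098462c) (.leaf 0x4000b83c3555e))))) (.node (.node (.node (.node (.leaf 55811784) (.leaf 0x8a6ea74bfb37)) (.node (.leaf 0x514d418154bdf) (.leaf 0x3f74bd1395035))) (.node (.node (.leaf 0x708d5bf0d4255) (.leaf 0x3f74bd13983b3))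 (.node (.leaf 0x44557048531f9) (.leaf 0x31b072ffbea73)))) (.node (.node (.node (.leaf 0x55db6993b3007) (.leaf 0x836a9dc0039)) (.node (.leaf 0x7a46f996e3180) (.leaf 0x8a6ea74be985))) (.node (.node (.leaf 0x4863ab1db743d) (.leaf 0x511820bc6ee93)) (.node (.leaf 0x34118b3a6a057) (.leaf 0x6f68ad303dc69)))))) (.node (.node (.node (.node (.node (.leaf 0x400086c464255) (.leaf 0x5417d32a8b8da)) (.node (.leaf 41203756) (.leaf 0x4849d555d2c18))) (.node (.node (.leaf 0x836a9dc0001) (.leaf 0x7ff044cf82b6d)) (.node (.leaf 0x415cb99bd98c1) (.leaf 0x65840973611)))) (.node (.node (.node (.leaf 0x48810db713790) (.leaf 0x53241a0ea1c94)) (.node (.leaf 58065348) (.leaf 0x4265087723dcf))) (.node (.node (.leaf 0x4000a3c8e18c1) (.leaf 0x3a58f69301351)) (.node (.leaf 0x144c91c73ecf) (.leaf 0x7a2701ced4ce1))))) (.node (.node (.node (.node (.leaf 0x4000b108f91b5) (.leaf 0x629c7ca5aa01a)) (.node (.leaf 0x55c6c142c1e1) (.leaf 0x66f199fbf608b))) (.node (.node (.leaf 0x3bd0a93632ae1)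 (.leaf 0x73f08fd6ae3a9)) (.node (.leaf 0x6e6f69ad0ce03) (.leaf 0x26558713d3af)))) (.node (.node (.node (.leaf 0x31397023abf79) (.leaf 0x400099fa5db42)) (.node (.leaf 0x5b0d2976c6974) (.leaf 0x4c4f60386d9c6))) (.node (.node (.leaf 0x59e72befa15ec) (.leaf 0x5bd0b2af45e0a)) (.node (.leaf 0x401798880653d) (.leaf 0x6bae2ec3581b8))))))))

/-- Part of `colT`. -/
def colT_p101 : Tr := .node (.node (.node (.node (.node (.node (.node (.node (.node (.leaf 0x59a3201efa2d2) (.leaf 0x53b7aa3043fd0)) (.leaf 0x593a4a8466ef3)) (.node (.leaf 38714021) (.leaf 0x48cb3d1072e8d))) (.node (.node (.leaf 0x68ba682ed440e) (.leaf 0x75a9894e567e7)) (.node (.leaf 0x5e8ab89c58dfa) (.leaf 0x11de11d1bdf2b)))) (.node (.node (.node (.leaf 0x55537d2e17171) (.leaf 0x4000930987c37)) (.node (.leaf 38356805) (.leaf 0x55c6c1428f35))) (.node (.node (.leaf 0x75b0f1f3e0de3) (.leaf 0x4fb4fd80cca66)) (.node (.leaf 0x40835c9dd4ddc) (.leaf 0x45975b57b6b5))))) (.node (.node (.node (.node (.leaf 0x31397023b6c47)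 (.leaf 0x58826d02d7ac9)) (.node (.leaf 0x4a617b48c27bf) (.leaf 0x409c09fc509d3))) (.node (.node (.leaf 0x5155d9bf6955d) (.leaf 0x799a904fb61de)) (.node (.leaf 0x7687efcaa87c5) (.leaf 0x1dbc565929267)))) (.node (.node (.node (.leaf 0x6d2bfac0124ef) (.leaf 0x5964dfe0cd447)) (.node (.leaf 0x7a397e3c536fd) (.leaf 0x43613fc838f47))) (.node (.node (.leaf 0x229f11ad59ddb) (.leaf 0x4345b0f1e0fd9)) (.node (.leaf 0x7f1aa03d550dd) (.leaf 0x59bd2b6d91057)))))) (.node (.node (.node (.node (.node (.leaf 0x6542c26c5f858) (.leaf 0x4082761dabbfb)) (.node (.leaf 0x1b9d6b8b10d85) (.leaf 0x62b8c2d171a42))) (.node (.node (.leaf 0x4ae705548e65f) (.leaf 0x409fc847ac4b3)) (.node (.leaf 0x70050a9ea1367) (.leaf 63102239)))) (.node (.node (.node (.leaf 0x4a0e265864d47) (.leaf 0x3df4774be7be9)) (.node (.leaf 0x43fa8597da9b7) (.leaf 0x240706921c7b5))) (.node (.node (.leaf 0x70009e4783487) (.leaf 0x7ab5bfb22caed)) (.node (.leaf 0x4f07bd3e1590f) (.leaf 0x3e70943b722d1))))) (.node (.node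 (.node (.node (.leaf 0x43b7c58c4c439) (.leaf 0x17b5dc8a970d)) (.node (.leaf 0x388406fbeee47) (.leaf 0x6641a1bc1a008))) (.node (.node (.leaf 0x2727f8673f655) (.leaf 0x1b4d2a670c257)) (.node (.leaf 0x5b53d137bcd4b) (.leaf 0x46f82d4a088f)))) (.node (.node (.node (.leaf 0x4000bc3f660f9) (.leaf 0x2ed7e1d10e267)) (.node (.leaf 0x76f1ba0f7baf3) (.leaf 0x7c74b8a6efdf0))) (.node (.node (.leaf 0x32c6f6eb1f5f5) (.leaf 0x48e2cbbc9d4d7)) (.node (.leaf 0x4000b66f422df) (.leaf 0x32d0b9f6b2269))))))) (.node (.node (.node (.node (.node (.node (.leaf 0x7e610b6793669) (.leaf 0x4000825b772d5)) (.node (.leaf 0x32c6f6eb06689) (.leaf 0x12683e90bf365))) (.node (.node (.leaf 0x35a2ec02a7f9f) (.leaf 0x77da29d4d792f)) (.node (.leaf 0x6165b974d2b69) (.leaf 0x6ef5665145906)))) (.node (.node (.node (.leaf 0x4000a1660dedd) (.leaf 0x4c028dd01af26)) (.node (.leaf 0x7885b33e7a801) (.leaf 0x40009e1439167))) (.node (.node (.leaf 0x72ac817d5ca8b) (.leaf 0x75bf6cfb2be90)) (.node (.leaf 0x4395add965433)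 (.leaf 0x7806d0bf6d65d))))) (.node (.node (.node (.node (.leaf 0x59647e775a789) (.leaf 0x45975b57bc01)) (.node (.leaf 0x58128570d4bc7) (.leaf 0x4ac713ed52960))) (.node (.node (.leaf 55704361) (.leaf 0x79f5cd4636983)) (.node (.leaf 0x741b3e48ad35c) (.leaf 0x504968a5fc376)))) (.node (.node (.node (.leaf 0x4026529012a28) (.leaf 0x4c6f139611ced)) (.node (.leaf 0x3ef1384b808b7) (.leaf 0x2215dd4e4791))) (.node (.node (.leaf 0x6b2f717e8ed91) (.leaf 0x1b4d2a671649d)) (.node (.leaf 0x6d0d1cc9b999b) (.leaf 60827507)))))) (.node (.node (.node (.node (.node (.leaf 0x408c2754ec4ad) (.leaf 0x4000b2a55f277)) (.node (.leaf 0x441eb30c52b99) (.leaf 0x2797711ab6247))) (.node (.node (.leaf 0x6fe765d149dbb) (.leaf 0x42a70fc19bae1)) (.node (.leaf 0x482db6950bceb) (.leaf 0x488faa8ff1473)))) (.node (.node (.node (.leaf 0x40037bf501a53) (.leaf 0x683ecf2314aa8)) (.node (.leaf 0x67186d51c959c) (.leaf 50215065))) (.node (.node (.leaf 0x2ed31ac1cbc00) (.leaf 0x2164863d87a23)) (.node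 (.leaf 0x5f3cfd1791c77) (.leaf 38591940))))) (.node (.node (.node (.node (.leaf 0x68b835bf56d27) (.leaf 0x455462b2ee709)) (.node (.leaf 0x4f4fbbee418c4) (.leaf 0x7e7eb68aebe3d))) (.node (.node (.leaf 0x37b0623f3fcbb) (.leaf 55556210)) (.node (.leaf 0x48043da5fe506) (.leaf 0x7555bf91cc62c)))) (.node (.node (.node (.leaf 0x482aef7b78f77) (.leaf 0x5c0691b9986aa)) (.node (.leaf 0x54dfbc37c5dcd) (.leaf 0x22255999aeb3d))) (.node (.node (.leaf 0x5197d27c53a1d) (.leaf 0x4a005a11055be)) (.node (.leaf 0x4438194d880cd) (.leaf 0x432537fc3a26e)))))))) (.node (.node (.node (.node (.node (.node (.node (.leaf 0x26558713d3ef) (.leaf 0xaaa6da002113)) (.node (.leaf 0x4000aaf485c83) (.leaf 39572972))) (.node (.node (.leaf 0x45334a2e64654) (.leaf 0x444826689b309)) (.node (.leaf 0x4340ee604b9bd) (.leaf 0x54da7b77d1c45)))) (.node (.node (.node (.leaf 0x6a1e0ae7bc62f) (.leaf 0x408f09266ffcf)) (.node (.leaf 0x56ded90cff05f) (.leaf 0x32d0b9f6ab13d))) (.node (.node (.leaf 0x455d249fa5cca)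 (.leaf 0x658409736d1)) (.node (.leaf 0x7d8f7fed67888) (.leaf 0x4204e27bdb8b6))))) (.node (.node (.node (.node (.leaf 0x3ac1b0be02cd7) (.leaf 0x61e0794e67f6f)) (.node (.leaf 0x667ea61d2a035) (.leaf 0x7d91a19491f8b))) (.node (.node (.leaf 0x6427d8dae0fb8) (.leaf 0x388406fbf3807)) (.node (.leaf 0x42eed1d058515) (.leaf 0x4000be47d8c52)))) (.node (.node (.node (.leaf 0x584dd983ad646) (.leaf 0x7d1188735cea0)) (.node (.leaf 0xaaa6da00001b) (.leaf 0x4000948d49504))) (.node (.node (.leaf 0x75c25c394b5e1) (.leaf 0x77bbd250c7463)) (.node (.leaf 61919042) (.leaf 0x4000ba6361307)))))) (.node (.node (.node (.node (.node (.leaf 0x6db6ee98b225b) (.leaf 0x589db1f75cf95)) (.node (.leaf 0x4000bef70b3f1) (.leaf 0x6718214c7f794))) (.node (.node (.leaf 0x43257bf8f2388) (.leaf 0x773bf047bb802)) (.node (.leaf 0x229f11ad5d62d) (.leaf 0x18008726612c8)))) (.node (.node (.node (.leaf 0x7312716e6ba13) (.leaf 0x522c3311a98ff)) (.node (.leaf 0x6b9dd76e43db6) (.leaf 0x406a5c87db3f9)))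 (.node (.node (.leaf 0x66618b284dbe3) (.leaf 0x34118b3a73693)) (.node (.leaf 0x70ffd9cfff517) (.leaf 0x63dcd4613fe03))))) (.node (.node (.node (.node (.leaf 0x4c28e33c73601) (.leaf 61796056)) (.node (.leaf 0x3df4774bff67d) (.leaf 0x37a7fabafb1cf))) (.node (.node (.leaf 0x71b57eb1416c6) (.leaf 0x21622c90a0000)) (.node (.leaf 0x7819067a0ba84) (.leaf 0x72a78b823e555)))) (.node (.node (.node (.leaf 0x17df43bf4f581) (.leaf 0x565681a741caf)) (.node (.leaf 0x5d6fa3fd460c7) (.leaf 0x725dfb86db16f))) (.node (.node (.leaf 0x5a61ddb1626ef) (.leaf 0x787814d617e95)) (.node (.leaf 0x6bb8cf437129e) (.leaf 0x6ff047dda94f0))))))) (.node (.node (.node (.node (.node (.node (.leaf 0x75a6065f2fffb) (.leaf 0x48e0f796ea0dd)) (.node (.leaf 0x400096fc000be) (.leaf 34957632))) (.node (.node (.leaf 0x5c1408b4f0f41) (.leaf 0x6fe5734539528)) (.node (.leaf 0x4000b6cf2e9a8) (.leaf 0x417af99ceed31)))) (.node (.node (.node (.leaf 0x75d1127214136) (.leaf 0x5a2813f4a83e7)) (.node (.leaf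 0x72c8de1a6e403) (.leaf 0x514950c05841f))) (.node (.node (.leaf 0x5968e0c8e9879) (.leaf 0x4c0a875eaed2f)) (.node (.leaf 0x229f11ad41867) (.leaf 61095861))))) (.node (.node (.node (.node (.leaf 0x2ed7e1d1113f9) (.leaf 0x48ae5374b8c85)) (.node (.leaf 0x11de11d1a27ad) (.leaf 0x4a8dfab91c7ec))) (.node (.node (.leaf 0x6360afd848b11) (.leaf 0x2164863d9ddbb)) (.node (.leaf 0x797dd9efab9f5) (.leaf 0x7f7b485581141)))) (.node (.node (.node (.leaf 0x15dfdc012484) (.leaf 0x769a81d75610b)) (.node (.leaf 0x35a2ec02bf7cf) (.leaf 0x119fc16c9b9ef))) (.node (.node (.leaf 0x79e0f91ba2eb3) (.leaf 0x46f82d4a04cf)) (.node (.leaf 0x4280b541725b7) (.leaf 0xf94c8e0013)))))) (.node (.node (.node (.node (.node (.leaf 0x7f05ca8f39f95) (.leaf 0x45975b5705e1)) (.node (.leaf 0x706fcbd66abc5) (.leaf 0x400095396fdb4))) (.node (.node (.leaf 0x62043498e3d8f) (.leaf 0x6281127a54991)) (.node (.leaf 0x5ed04d40fbc97) (.leaf 0x6f5fc196cd3)))) (.node (.node (.node (.leaf 0x5756876489861) (.leaf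 0x2727f8673c309)) (.node (.leaf 0x40008f602b57f) (.leaf 0x7eee2d22d08cd))) (.node (.node (.leaf 0x55c6c1423215) (.leaf 0x6ec4ac48d4637)) (.node (.leaf 42449477) (.leaf 0x4a28865979021))))) (.node (.node (.node (.node (.leaf 0x6fd3a86fa8291) (.leaf 0x4f2a3ea6986ef)) (.node (.leaf 0x5abd699497b2b) (.leaf 0x48e65d25f9a69))) (.node (.node (.leaf 0x31b072ffbbfc1) (.leaf 0x48e46105c6fd7)) (.node (.leaf 0x4000b58931cfd) (.leaf 0x50c2d18b11a45)))) (.node (.node (.node (.leaf 0x68980153771fa) (.leaf 0x4a270951ee52e)) (.node (.leaf 0x76e7d9efc60cd) (.leaf 0x53bbaa1aa5b68))) (.node (.node (.leaf 0x5f74c51411735) (.leaf 58290833)) (.node (.leaf 0x2797711aafdbd) (.leaf 0x62a7a864e5705))))))))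

/-- Part of `colT`. -/
def colT_p110 : Tr := .node (.node (.node (.node (.node (.node (.node (.node (.node (.leaf 0x27b216ee791a5) (.leaf 40259368)) (.leaf 0x4cbd16c554154)) (.node (.leaf 42529807) (.leaf 0x7acf88eb634cd))) (.node (.node (.leaf 0x4018179900001) (.leaf 0x4ac487c0608ce)) (.node (.leaf 48979960) (.leaf 0x7deb28123c7fb)))) (.node (.node (.node (.leaf 0x731d0aa70b363) (.leaf 0x484f6a2273331)) (.node (.leaf 0x693ac2b55d789) (.leaf 0x6f4ac87022305))) (.node (.node (.leaf 0xaaa6da006fd3) (.leaf 0x575ea80b5c977)) (.node (.leaf 0x4a47db49dba9b) (.leaf 0x452dda10e961f))))) (.node (.node (.node (.node (.leaf 0x4145a996f4639) (.leaf 0x7c9a4d1f9bfe5)) (.node (.leaf 0x4fbd97ec2e234) (.leaf 0x67b0a1f6404c7))) (.node (.node (.leaf 0x5b95621a468af) (.leaf 0x71be94908926d)) (.node (.leaf 0x119fc16c96ff1) (.leaf 0x7f95d15e76a8e)))) (.node (.node (.node (.leaf 55974985) (.leaf 0x4523a6408a11c)) (.node (.leaf 0x46f82d4afab5) (.leaf 0x4cf51897bdaef))) (.node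 (.node (.leaf 0x52ea6c35cea30) (.leaf 0x2ed7e1d100001)) (.node (.leaf 0x2eec9001b560) (.leaf 0x400087f1df453)))))) (.node (.node (.node (.node (.node (.leaf 0x565f5d9a6ebe1) (.leaf 0x53b3883875f9d)) (.node (.leaf 0x404409645fd4a) (.leaf 0x5360ad199dd8b))) (.node (.node (.leaf 0x4004221b61a47) (.leaf 0x4000bd429f0fc)) (.node (.leaf 57545095) (.leaf 0x3ef1384b98163)))) (.node (.node (.node (.leaf 0x406b75429b9cf) (.leaf 0x400fc84f646bb)) (.node (.leaf 0x401151a54bbfb) (.leaf 0x680df9bf42cfc))) (.node (.node (.leaf 0x1cec554000d) (.leaf 0x114541c9fbfed)) (.node (.leaf 0x4000ad596cc11) (.leaf 0x7256f9eb722eb))))) (.node (.node (.node (.node (.leaf 0x7cf51a4ffa59a) (.leaf 0x52a3a829a0e37)) (.node (.leaf 0x40904e8f4823f) (.leaf 0x229f11ad5b8c7))) (.node (.node (.leaf 0x519b433d790df) (.leaf 0x2407069204837)) (.node (.leaf 55861608) (.leaf 0x144c91c7d25f)))) (.node (.node (.node (.leaf 0x61632cc01540f) (.leaf 0x5e46cdc1318dd)) (.node (.leaf 0x4552b98628221)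 (.leaf 0x65645129b720b))) (.node (.node (.leaf 0x7095d15e30569) (.leaf 0x7b43fd939adef)) (.node (.leaf 0x597706fba3dc4) (.leaf 0x40008b5983cae))))))) (.node (.node (.node (.node (.node (.node (.leaf 0x1dbd3b40c0001) (.leaf 0x4f9774e08fcc0)) (.node (.leaf 0x6b2845dbaee49) (.leaf 0x3fe1f213e96a0))) (.node (.node (.leaf 60151586) (.leaf 0x46f82d4a3ccf)) (.node (.leaf 0x7d0f69cab64ed) (.leaf 0x2a736c932a79)))) (.node (.node (.node (.leaf 0x635e03f28871a) (.leaf 0x7a56d517251cf)) (.node (.leaf 0x636293f79fb4d) (.leaf 0x549a7803efb53))) (.node (.node (.leaf 0x7158e5d5825cf) (.leaf 0x27b216ee6d225)) (.node (.leaf 0x558b467f39392) (.leaf 0x17df43bf4f6cd))))) (.node (.node (.node (.node (.leaf 0x70fa4fdfa5144) (.leaf 0x3087e87697cf1)) (.node (.leaf 52822803) (.leaf 0x4060954f27542))) (.node (.node (.leaf 37878567) (.leaf 0x64971eb6a9acd)) (.node (.leaf 0x761125afc7e8f) (.leaf 0x79859bfee6a81)))) (.node (.node (.node (.leaf 0x749e3cb9c72da) (.leaf 0x4061a7539e78d))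 (.node (.leaf 0x65c9cef47e703) (.leaf 0x32c6f6eb0d60f))) (.node (.node (.leaf 44818031) (.leaf 0x409766f8e5e64)) (.node (.leaf 0x43001fd88032f) (.leaf 0x4c088418eae93)))))) (.node (.node (.node (.node (.node (.leaf 0x40009afd292c3) (.leaf 37555902)) (.node (.leaf 0x24005f7615627) (.leaf 0x1b4d2a670f7d9))) (.node (.node (.leaf 39736639) (.leaf 0x417b94804659e)) (.node (.leaf 0x4f98fbf95e445) (.leaf 0x22bb8d88c7839)))) (.node (.node (.node (.leaf 0x526cab519e2de) (.leaf 0x37b0623f25e7d)) (.node (.leaf 0x4365da5ed7743) (.leaf 48848696))) (.node (.node (.leaf 0x270588f7f7291) (.leaf 0x4158c78ee4209)) (.node (.leaf 0x4004b590e0001) (.leaf 0x406f13879abff))))) (.node (.node (.node (.node (.leaf 0xaaa6da016113) (.leaf 0x77de5709b3505)) (.node (.leaf 38484196) (.leaf 0x53e35cf04d78f))) (.node (.node (.leaf 37073092) (.leaf 0x5c8ec91a8eacb)) (.node (.leaf 0x540f656f0647b) (.leaf 0x4c9262d1e3ea3)))) (.node (.node (.node (.leaf 0x2206db01cb7b7) (.leaf 0x7ee06287352c1))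 (.node (.leaf 0x7c1f90d34c6aa) (.leaf 0x6a88e5e1c1af9))) (.node (.node (.leaf 0x72c3dc6461b10) (.leaf 0x44781a247f6bc)) (.node (.leaf 0x2eec9001b6be) (.leaf 0x59eb834e312ac)))))))) (.node (.node (.node (.node (.node (.node (.node (.leaf 0x48c2c11da16e3) (.leaf 0x5e070d5112d0d)) (.node (.leaf 0x52283cc0e09d7) (.leaf 0x40009ecdcde04))) (.node (.node (.leaf 0x712b7a0a15dac) (.leaf 0x6fc1a85053cfb)) (.node (.leaf 0x609bde864bb65) (.leaf 0x45975b57d47f)))) (.node (.node (.node (.leaf 62961726) (.leaf 0x61444025a9d94)) (.node (.leaf 0x58403de6e3a95) (.leaf 0x1b05996f25acb))) (.node (.node (.leaf 0x59f8415033539) (.leaf 0x6c814cbdc5925)) (.node (.leaf 0x4f9fc0d61f0ea) (.leaf 0x77d114aa35d2d))))) (.node (.node (.node (.node (.leaf 0x1dbd3b40c882f) (.leaf 0x7fffd9cfe18a3)) (.node (.leaf 0x4a40faed53e04) (.leaf 0x43ffc8561769d))) (.node (.node (.leaf 0x7fe19395f5539) (.leaf 0x11de11d1be165)) (.node (.leaf 40691932) (.leaf 0x301d33be17c22)))) (.node (.node (.node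 (.leaf 0x3df4774be309b) (.leaf 0x5402303e29c26)) (.node (.leaf 0x4000bbbcba7c8) (.leaf 0x7d7b72e302993))) (.node (.node (.leaf 66654710) (.leaf 0x4521daf53b78b)) (.node (.leaf 0x451e9bd477343) (.leaf 0x53a746887dac9)))))) (.node (.node (.node (.node (.node (.leaf 0x64900f8bc080b) (.leaf 0x6218fc0f263f3)) (.node (.leaf 0x43051157e4313) (.leaf 0x4049de08bdc59))) (.node (.node (.leaf 0x61f90c3d65677) (.leaf 0x5b5b7175d1a2b)) (.node (.leaf 0x4f951b1ebe8ea) (.leaf 0x780cdd536125c)))) (.node (.node (.node (.leaf 0x53fa657f62870) (.leaf 0x64888cb846528)) (.node (.leaf 0x4000a251d504c) (.leaf 0x401378950c481))) (.node (.node (.leaf 0x4464f6b42ff33) (.leaf 0x119fc16c9d551)) (.node (.leaf 0x7a49649e282d1) (.leaf 0x6ff6a950bce0b))))) (.node (.node (.node (.node (.leaf 0x59a3bb4d96649) (.leaf 47273297)) (.node (.leaf 0x40008f85e8617) (.leaf 0x3fe1f213e0132))) (.node (.node (.leaf 0x400089a54c777) (.leaf 0x74f5cac77ab4b)) (.node (.leaf 0x44b4d399db02) (.leaf 0x75daf82b0b0e9))))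 (.node (.node (.node (.leaf 0x754d0097a60b0) (.leaf 0x7debc24cf88c3)) (.node (.leaf 0x737c040203ab5) (.leaf 0x6f5fc192e05))) (.node (.node (.leaf 0x1261c234e5727) (.leaf 0x41596110775cb)) (.node (.leaf 0x4000aa8f2ce86) (.leaf 34290215))))))) (.node (.node (.node (.node (.node (.node (.leaf 47392930) (.leaf 38985470)) (.node (.leaf 0x7076955669720) (.leaf 0x53281a3501596))) (.node (.node (.leaf 0x527063dfb5195) (.leaf 0x40050187c0001)) (.node (.leaf 0x71321f432a953) (.leaf 0x65d7a3c4b9ad3)))) (.node (.node (.node (.leaf 0x4cd70604a75d1) (.leaf 0x240706921d51b)) (.node (.leaf 38035826) (.leaf 0x51d21bd81584f))) (.node (.node (.leaf 0x551226791d796) (.leaf 0x64b267d22ce35)) (.node (.leaf 0x707cba50dfe27) (.leaf 0x40923229cbbd2))))) (.node (.node (.node (.node (.leaf 0x42a698ddefeb7) (.leaf 0x654469f4c9991)) (.node (.leaf 0x1b05996f33f95) (.leaf 60020727))) (.node (.node (.leaf 0x59bd9d3655463) (.leaf 47502724)) (.node (.leaf 0x3891e2c3dbac7) (.leaf 0x416593383cdc2))))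 (.node (.node (.node (.leaf 0x7dff096b964cd) (.leaf 0x7f051397ce5df)) (.node (.leaf 0x59f4536358f89) (.leaf 0x79eb138213d06))) (.node (.node (.leaf 0x52f2af3c629ab) (.leaf 0x40008ffd29423)) (.node (.leaf 0x4420f318cd558) (.leaf 0x755a22883e5e1)))))) (.node (.node (.node (.node (.node (.leaf 0x4000923c3e0b1) (.leaf 0x65840972c51)) (.node (.leaf 0x7530cf6b89aff) (.leaf 0x67b2e6ee3a180))) (.node (.node (.leaf 0x1b4d2a6704777) (.leaf 0x17df43bf4f75b)) (.node (.leaf 0x450a8ac0e3ba9) (.leaf 0x57d7fb8af94cf)))) (.node (.node (.node (.leaf 0x4000b4406be8f) (.leaf 0x22255999b2d25)) (.node (.leaf 0x4ac3997fe4b71) (.leaf 0x3b5d28bae0087))) (.node (.node (.leaf 0x400a874f25e7d) (.leaf 0x43fe4dc130400)) (.node (.leaf 39596056) (.leaf 0x27b216ee6f6ed))))) (.node (.node (.node (.node (.leaf 58886830) (.leaf 0x682ad2af25c41)) (.node (.leaf 0x50443df4d31ab) (.leaf 0x75c9ad7cd2333))) (.node (.node (.leaf 0x4000a2adf8e1f) (.leaf 0x5d3da837a2045)) (.node (.leaf 0x511487ebcfc60)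 (.leaf 0x550218eb9913f)))) (.node (.node (.node (.leaf 0x7cf5d14e6e3bb) (.leaf 0x78f5cb9e09041)) (.node (.leaf 0x7984aaafb2776) (.leaf 0x3b5d28baf454d))) (.node (.node (.leaf 66783716) (.leaf 0x4000baaed5c4e)) (.node (.leaf 0x400092822443b) (.leaf 0x1b9d6b8b0d989))))))))

/-- Part of `colT`. -/
def colT_p111 : Tr := .node (.node (.node (.node (.node (.node (.node (.node (.node (.leaf 0x66eecc8464b84) (.leaf 0x8f6a61f6cef)) (.leaf 0x5a36426c91e17)) (.node (.leaf 0x5330ddaac0bc4) (.leaf 0x424400c537ddd))) (.node (.node (.leaf 0x4fd1a318624fd) (.leaf 0x15dfdc0127de)) (.node (.leaf 0x8f6a61e7f55) (.leaf 0x26558712c38b)))) (.node (.node (.node (.leaf 0x444765cc12bb1) (.leaf 0x400085a48d52c)) (.node (.leaf 0x55cabec313fd5) (.leaf 0x6e4f3d3c82905))) (.node (.node (.leaf 0x59e7bc7ffb3af) (.leaf 0x7b4d9f3ef4ebb)) (.node (.leaf 0x21622c90b4648) (.leaf 0x7f9a4c5e4c141))))) (.node (.node (.node (.node (.leaf 0x64186fc375586) (.leaf 0x4115464b8e055)) (.node (.leaf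 0x34118b3a616b9) (.leaf 0x50c6ed1c6be1f))) (.node (.node (.leaf 0x73e6e2cb16ce7) (.leaf 0x7a595a065c9c7)) (.node (.leaf 0x4164297bc18fc) (.leaf 0x40009f2d4803b)))) (.node (.node (.node (.leaf 0x17b5dc8a9789) (.leaf 0x3a58f6930ea17)) (.node (.leaf 0x5fef44f5f89c1) (.leaf 0x6ec04c50b0b5d))) (.node (.node (.leaf 0x7f153d2481631) (.leaf 0x4000a4f320fcf)) (.node (.leaf 0x63e573322b6bb) (.leaf 0x4098e9e14bbd5)))))) (.node (.node (.node (.node (.node (.leaf 0x4000b712e309b) (.leaf 33697967)) (.node (.leaf 0x40008a86406a3) (.leaf 0x4027c592ec087))) (.node (.node (.leaf 0x836a9dc0021) (.leaf 0x415d1f004ae8f)) (.node (.leaf 0x55abef90573d) (.leaf 0x482114c3a8651)))) (.node (.node (.node (.leaf 0x16548b0cf5f1) (.leaf 0x4822e5f053de6)) (.node (.leaf 0x31b072ffa36d5) (.leaf 0x400c2dfc20001))) (.node (.node (.leaf 0x797628a74f630) (.leaf 0x32d0b9f6a01ab)) (.node (.leaf 0x3ef1384b8ce95) (.leaf 0x35a2ec02a4c75))))) (.node (.node (.node (.node (.leaf 60347657) (.leaf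 0x400091acff9e0)) (.node (.leaf 0x7a3854a8a030f) (.leaf 0x4241c782b50c3))) (.node (.node (.leaf 0x301d33be0b2ea) (.leaf 54399388)) (.node (.leaf 0x6ed4aabdffe57) (.leaf 0x4101ac22edb1b)))) (.node (.node (.node (.leaf 0x589d07bfeb705) (.leaf 0x31b072ffa8d11)) (.node (.leaf 0x1b9d6b8b068f7) (.leaf 0x5082fafe22380))) (.node (.node (.leaf 0x40009b6f422ef) (.leaf 0x34118b3a7585f)) (.node (.leaf 0x7d84950c03649) (.leaf 0x53fe6e2c2984b))))))) (.node (.node (.node (.node (.node (.node (.leaf 0x35343ee7502c1) (.leaf 0x41379a9781393)) (.node (.leaf 0x754977cea1bbf) (.leaf 35378297))) (.node (.node (.leaf 0x5279bbaab34a8) (.leaf 0x6aaad57256cbf)) (.node (.leaf 0x445bd77d942df) (.leaf 0x1800872661846)))) (.node (.node (.node (.leaf 0x4000a12d7661d) (.leaf 0xf0aca5061a47)) (.node (.leaf 0x7529b7cf90757) (.leaf 0x4000b9adf1dbd))) (.node (.node (.leaf 0x5b4d3e67023e8) (.leaf 0x592865da65cd7)) (.node (.leaf 0x7a29a49f67959) (.leaf 0x456425d0627ab))))) (.node (.node (.node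 (.node (.leaf 0x635c2ad1cdfad) (.leaf 0x400e3b0c6fd41)) (.node (.leaf 0x7f6a9f1ed1a83) (.leaf 0x66626e9497ff2))) (.node (.node (.leaf 0x16548b0cf2b1) (.leaf 0x75d56523bfeba)) (.node (.leaf 0x5890559a35b7f) (.leaf 0x40865d1a0211c)))) (.node (.node (.node (.leaf 0x488b349de8b73) (.leaf 0x62a5d8e670d89)) (.node (.leaf 0x63df765860118) (.leaf 0x454bc13c06af5))) (.node (.node (.leaf 0x4aee6f386f7d7) (.leaf 0x6282f3e505885)) (.node (.leaf 52566791) (.leaf 0x6e482c0965e7d)))))) (.node (.node (.node (.node (.node (.leaf 0x6b2d4d4ae7f75) (.leaf 0x404568af59863)) (.node (.leaf 52991209) (.leaf 64193296))) (.node (.node (.leaf 0x537db2c5f9241) (.leaf 0x119fc16c86fb7)) (.node (.leaf 0x6aac3be6d5149) (.leaf 0x4a4f7c3c268bd)))) (.node (.node (.node (.leaf 0x21622c90a876c) (.leaf 0x32d0b9f6b735b)) (.node (.leaf 0x454d0808dd33e) (.leaf 0x3891e2c3c0001))) (.node (.node (.leaf 0x454a332dd21a5) (.leaf 0x3fe1f213f40ba)) (.node (.leaf 0x4088ea86f6cfb) (.leaf 0x6d91826523a1f)))))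 (.node (.node (.node (.node (.leaf 0x6d0ba2900bd78) (.leaf 0x64b21f9a892c7)) (.node (.leaf 0x1b9d6b8b0af71) (.leaf 0x400d6defcbbfb))) (.node (.node (.leaf 0x5ff927099400e) (.leaf 0x4543751916f47)) (.node (.leaf 0x688ddbbb0cfe7) (.leaf 0xf94c8e0001)))) (.node (.node (.node (.leaf 0x114541c9f6ab1) (.leaf 0x55abef90c1fd)) (.node (.leaf 0x4545b5fc8122f) (.leaf 0x442fa072726ed))) (.node (.node (.leaf 0x7bc112bb93e7c) (.leaf 0x4040bdb530945)) (.node (.leaf 0x2164863d8b97b) (.leaf 0x77c75559ea74b)))))))) (.node (.node (.node (.node (.node (.node (.node (.leaf 0x724bbd829774a) (.leaf 0x48cdbd7e3b385)) (.node (.leaf 0x740388c282a49) (.leaf 0x3a58f6930c10d))) (.node (.node (.leaf 0x7e7e5e15ff2cf) (.leaf 0x45004b89a5578)) (.node (.leaf 0x1b9d6b8b0902b) (.leaf 0x7f85c03b8390f)))) (.node (.node (.node (.leaf 0x4a83abf07df1b) (.leaf 0x5db065acb6254)) (.node (.leaf 0x434524a55d5bf) (.leaf 0x42659c30e6bb3))) (.node (.node (.leaf 0x12683e90a08fb) (.leaf 36460314)) (.node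 (.leaf 0x76ff0496c20b6) (.leaf 0x441f684e7742b))))) (.node (.node (.node (.node (.leaf 0x4084e3a336ce1) (.leaf 0x5a21ef3c73b3d)) (.node (.leaf 0x7aba22ba99c78) (.leaf 0x67ac3831cbd80))) (.node (.node (.leaf 64362883) (.leaf 0x4515978c57366)) (.node (.leaf 0x71d0ea682c5a9) (.leaf 0x62a62de2101b5)))) (.node (.node (.node (.leaf 0x7df4354dfce64) (.leaf 0x5bc6653117549)) (.node (.leaf 0x35343ee748aa7) (.leaf 0x41646569496c1))) (.node (.node (.leaf 0x515d6aa561789) (.leaf 0x4064218d784f5)) (.node (.leaf 0x72bb0d976e5f7) (.leaf 0x53a36488e7e1f)))))) (.node (.node (.node (.node (.node (.leaf 0x510dc489def97) (.leaf 0x4419e00145a77)) (.node (.leaf 0x5aaadfccd4d12) (.leaf 0x789b637870bf1))) (.node (.node (.leaf 50786644) (.leaf 55428487)) (.node (.leaf 0x7546eac6155da) (.leaf 0x72be845856236)))) (.node (.node (.node (.leaf 0x5b0da636c1c05) (.leaf 0x4886760833ba5)) (.node (.leaf 0x7cffd88e36287) (.leaf 0x44456691fedc1))) (.node (.node (.leaf 0x4a6bb3d842c49) (.leaf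 0x43b3fd91985f3)) (.node (.leaf 0x4cb85385d5660) (.leaf 0x61ffaf89afeaf))))) (.node (.node (.node (.node (.leaf 0x4fd93b7485b88) (.leaf 0x510163c8f92ed)) (.node (.leaf 0x3ac1b0be01f0b) (.leaf 0x4f2d0c5254983))) (.node (.node (.leaf 0x78e0df84215da) (.leaf 0x64977ba763a3b)) (.node (.leaf 33829416) (.leaf 0x7f1a46e25a378)))) (.node (.node (.node (.leaf 0x6795eccbba64c) (.leaf 0x63c23515b51c6)) (.node (.leaf 0x5f2a18b194216) (.leaf 0x406ee194c86c7))) (.node (.node (.leaf 0x6340e24318b39) (.leaf 0x7b5c973fe0da7)) (.node (.leaf 0x7225d2efeb282) (.leaf 0x667d292e5829b))))))) (.node (.node (.node (.node (.node (.node (.leaf 0x740995ef5effd) (.leaf 0x5334f6b69f9b5)) (.node (.leaf 0x7aa565005e8fb) (.leaf 0x67254fae4da05))) (.node (.node (.leaf 0x767e8e82264c1) (.leaf 0x5225ef2c857ab)) (.node (.leaf 0x4022820aa0fcf) (.leaf 0x8f6a61e7f7b)))) (.node (.node (.node (.leaf 0x78183ffb85f98) (.leaf 0x5df5b5086741c)) (.node (.leaf 0x4000a1fc2a9cf) (.leaf 0x42ea4fd175a85)))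 (.node (.node (.leaf 0x6705777f012a5) (.leaf 0x5936fc2b2aa68)) (.node (.leaf 0x7cff018fbbc59) (.leaf 56807394))))) (.node (.node (.node (.node (.leaf 0x69a90c66bbe29) (.leaf 0x4844801ae329f)) (.node (.leaf 0x70f5c0dfc2401) (.leaf 0x48c65797f7df9))) (.node (.node (.leaf 0x1cec554ee4b) (.leaf 0x767022d32f759)) (.node (.leaf 0x48a2ea3e99508) (.leaf 0x4c49cbb482b47)))) (.node (.node (.node (.leaf 0x67ae2eb4498ab) (.leaf 0x1261c234f16ed)) (.node (.leaf 0x4cd24344260b7) (.leaf 0x4a2e54add5ce5))) (.node (.node (.leaf 0x56db0c141070b) (.leaf 0x723946320bbfd)) (.node (.leaf 0x71de88c72b2d8) (.leaf 0x6ec76baf3391b)))))) (.node (.node (.node (.node (.node (.leaf 0x7730fab27df89) (.leaf 0x4000b37713bef)) (.node (.leaf 0x40009c1ce54fb) (.leaf 0x86f921514536))) (.node (.node (.leaf 0x8a6ea74ac8a3) (.leaf 57414037)) (.node (.leaf 0x65840973291) (.leaf 0x5b4530ae233ad)))) (.node (.node (.node (.leaf 0x2ed31ac1d09bc) (.leaf 0x6db04c19c3c85)) (.node (.leaf 0x4395d897c409f)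 (.leaf 0x5517c53919f8b))) (.node (.node (.leaf 0x4000d90960001) (.leaf 0x5fb4d0e0f743c)) (.node (.leaf 0x86f921514d36) (.leaf 0x7f8a4f2aa3914))))) (.node (.node (.node (.node (.leaf 66469556) (.leaf 0x7b221793522f2)) (.node (.leaf 0x57923faea7e83) (.leaf 0x1cec5540001))) (.node (.node (.leaf 0x6280b4ee9f48f) (.leaf 0x65eb95ec04dd5)) (.node (.leaf 0x4124438ba44bf) (.leaf 0x5af80128b9a03)))) (.node (.node (.node (.leaf 0x7e9a9dbbec2cb) (.leaf 0x7e9a5a3c57c94)) (.node (.leaf 0x1261c234e9147) (.leaf 0x4fdfd7c1c6b1a))) (.node (.node (.leaf 0x48264d39fc1e3) (.leaf 0x6abe3ec3dc9c0)) (.node (.leaf 0x4f471c93e6515) (.leaf 0x706056d6518fa))))))))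

/-- First columns. -/
def colT : Tr := .node (.node (.node (colT_p000) (colT_p001)) (.node (colT_p010) (colT_p011))) (.node (.node (colT_p100) (colT_p101)) (.node (colT_p110) (colT_p111)))

/-- Part of `colSrt`. -/
def colSrt_p000 : Tr := .node (.node (.node (.node (.node (.node (.node (.node (.node (.leaf 1) (.leaf 0x7f951a4e71203)) (.leaf 0x488b349de8b73)) (.node (.leaf 0x3a58f69301351) (.leaf 0x64b21f9a892c7))) (.node (.node (.leaf 0x8a6ea74bfb37) (.leaf 0x575b705b8d87f)) (.node (.leaf 0x406ee194c86c7) (.leaf 0x7379a40386d87)))) (.node (.node (.node (.leaf 64362883) (.leaf 0x504d79f28329f)) (.node (.leaf 0x4000a1a30b02f) (.leaf 0x6c1b84db3a456))) (.node (.node (.leaf 0x229f11ad59ddb) (.leaf 0x5e4e6d900a4fc)) (.node (.leaf 0x434524a55d5bf) (.leaf 0x79e0f91ba2eb3))))) (.node (.node (.node (.node (.leaf 48233970) (.leaf 0x4c0a875eaed2f)) (.node (.leaf 0x4000862c1fb46) (.leaf 0x67b0f0aea6363))) (.node (.node (.leaf 0x17df43bf4f75b) (.leaf 0x5aaadfccd4d12))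 (.node (.leaf 0x415cccc954723) (.leaf 0x767022d32f759)))) (.node (.node (.node (.leaf 0x2215dd4e4791) (.leaf 0x5375b9623a2d5)) (.node (.leaf 0x400288bc00001) (.leaf 0x706056d6518fa))) (.node (.node (.leaf 0x3087e8768bab1) (.leaf 0x6207d51175987)) (.node (.leaf 0x450a8ac0e3ba9) (.leaf 0x7ce137a687eef)))))) (.node (.node (.node (.node (.node (.leaf 39736639) (.leaf 0x4a444f64e9b1d)) (.node (.leaf 0x3e70943b722d1) (.leaf 0x66d7213dd68e4))) (.node (.node (.leaf 0x114541c9f6ab1) (.leaf 0x5936fc2b2aa68)) (.node (.leaf 0x409b1e90d57a1) (.leaf 0x74fba860d5c95)))) (.node (.node (.node (.leaf 0x6f5fc193603) (.leaf 0x51d62751b06a7)) (.node (.leaf 0x4000b4a72eb83) (.leaf 0x6ec4ac48d4637))) (.node (.node (.leaf 0x2797711ab9f35) (.leaf 0x60216235549e6)) (.node (.leaf 0x44265894361b1) (.leaf 0x7ade847b964cb))))) (.node (.node (.node (.node (.leaf 55974985) (.leaf 0x4f08202f3077d)) (.node (.leaf 0x4000948d49504) (.leaf 0x6a8ddd6975128))) (.node (.node (.leaf 0x1dbc565921a47)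 (.leaf 0x5c1408b4f0f41)) (.node (.leaf 0x42655ba9db71b) (.leaf 0x77da29d4d792f)))) (.node (.node (.node (.leaf 0x46f82d4a2ccf) (.leaf 0x5517c53919f8b)) (.node (.leaf 0x401e387264d55) (.leaf 0x71a25c0fe4ca8))) (.node (.node (.leaf 0x3494adc3b8a2d) (.leaf 0x637c10689d98c)) (.node (.leaf 0x455bffab639f6) (.leaf 0x7e6fbe9236dd5))))))) (.node (.node (.node (.node (.node (.node (.leaf 37555902) (.leaf 0x48e8f050c47af)) (.node (.leaf 0x3bd0a9362e6c1) (.leaf 0x65eb95ec04dd5))) (.node (.node (.leaf 0xf0aca5060001) (.leaf 0x584d550a801db)) (.node (.leaf 0x408bf2311ec69) (.leaf 0x740995ef5effd)))) (.node (.node (.node (.leaf 0x1cec5540017) (.leaf 0x5141e3c9d68d9)) (.node (.leaf 0x4000aa8f2ce86) (.leaf 0x6d93f2fc09399))) (.node (.node (.leaf 0x240706921d51b) (.leaf 0x5f75b84c64081)) (.node (.leaf 0x43dd5a11a3b4f) (.leaf 0x7a485687cf6ec))))) (.node (.node (.node (.node (.leaf 52385699) (.leaf 0x4c9a4597fa992)) (.node (.leaf 0x40008d25c6d1c) (.leaf 0x68ba682ed440e)))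 (.node (.node (.leaf 0x1b05996f33f95) (.leaf 0x5b53d137bcd4b)) (.node (.leaf 0x4204353501da7) (.leaf 0x772c73cada24b)))) (.node (.node (.node (.leaf 0x2eec9001b560) (.leaf 0x540f656f0647b)) (.node (.leaf 0x400ef00a423a4) (.leaf 0x70e908567158c))) (.node (.node (.leaf 0x32c6f6eb0d60f) (.leaf 0x62a5d8e670d89)) (.node (.leaf 0x45329da57e018) (.leaf 0x7d8f7fed67888)))))) (.node (.node (.node (.node (.node (.leaf 43885975) (.leaf 0x4aa8aadf5ae4f)) (.node (.leaf 0x3fe1f213f40ba) (.leaf 0x67253afe1726b))) (.node (.node (.leaf 0x1261c234e9147) (.leaf 0x59eb39dccaf68)) (.node (.leaf 0x4124438ba44bf) (.leaf 0x75a6065f2fffb)))) (.node (.node (.node (.leaf 0x144c91c7d25f) (.leaf 0x52ea6c35cea30)) (.node (.leaf 0x4000bbbcba7c8) (.leaf 0x6fc7634fecafd))) (.node (.node (.leaf 0x2ed31ac1c1a46) (.leaf 0x61632cc01540f)) (.node (.leaf 0x445a0c2cc2009) (.leaf 0x7bc0217a99060))))) (.node (.node (.node (.node (.leaf 60739418) (.leaf 0x4f9daf280e641)) (.node (.leaf 0x40009b0f2bc1b)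 (.leaf 0x6b3b9ac5ab96f))) (.node (.node (.leaf 0x2164863d8b97b) (.leaf 0x5d71120d0fa25)) (.node (.leaf 0x42ea2ac5e956f) (.leaf 0x78e0df84215da)))) (.node (.node (.node (.leaf 0x55c6c142c1e1) (.leaf 0x565681a741caf)) (.node (.leaf 0x404409645fd4a) (.leaf 0x7258549e31acd))) (.node (.node (.leaf 0x37a7fabafb1cf) (.leaf 0x64183c10730f1)) (.node (.leaf 0x4825bc006f97d) (.leaf 0x7f0a578f03478)))))))) (.node (.node (.node (.node (.node (.node (.node (.node (.leaf 35509356) (.leaf 0x7fff101e77963)) (.leaf 0x48c2c11da16e3)) (.node (.leaf 0x3ac1b0be19749) (.leaf 0x65629a360cafb))) (.node (.node (.leaf 0xaa32b85c4ef7) (.leaf 0x57d207d294a07)) (.node (.leaf 0x4084e3a336ce1) (.leaf 0x73e350ca8a32c)))) (.node (.node (.node (.leaf 66783716) (.leaf 0x50cb8785f0131)) (.node (.leaf 0x4000a632e9685) (.leaf 0x6d0f41509302d))) (.node (.node (.leaf 0x24005f7605733) (.leaf 0x5ed8d20080212)) (.node (.leaf 0x4395add965433) (.leaf 0x7a28871751a14))))) (.node (.node (.node (.node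 (.leaf 50215065) (.leaf 0x4c4a3ea9b90d0)) (.node (.leaf 0x40008a86406a3) (.leaf 0x682fea2791580))) (.node (.node (.leaf 0x180dc7cb08361) (.leaf 0x5b0da636c1c05)) (.node (.leaf 0x417a110b0b97f) (.leaf 0x76e7d9efc60cd)))) (.node (.node (.node (.leaf 0x26558713d3ef) (.leaf 0x53bbaa1aa5b68)) (.node (.leaf 0x40082b3609ae8) (.leaf 0x7082dd30c1c47))) (.node (.node (.leaf 0x31397023bd827) (.leaf 0x62396ebd289fa)) (.node (.leaf 0x4522551859ee3) (.leaf 0x7d64596f48821)))))) (.node (.node (.node (.node (.node (.leaf 41921262) (.leaf 0x4a6bb3d842c49)) (.node (.leaf 0x3f74bd138860d) (.leaf 0x66f22002e431f))) (.node (.node (.leaf 0x119fc16c9e85f) (.leaf 0x597b14d98ead8)) (.node (.leaf 0x4101ac22edb1b) (.leaf 0x7542864e22e91)))) (.node (.node (.node (.leaf 0x8f6a61e7f55) (.leaf 0x527063dfb5195)) (.node (.leaf 0x4000b83c3555e) (.leaf 0x6ef5665145906))) (.node (.node (.leaf 0x2bba52fef6dc1) (.leaf 0x60a0c0d31130c)) (.node (.leaf 0x444765cc12bb1) (.leaf 0x7b4d9f3ef4ebb)))))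 (.node (.node (.node (.node (.leaf 58419205) (.leaf 0x4f4af5afcb2ad)) (.node (.leaf 0x40009801c0ebb) (.leaf 0x6abdd91effb23))) (.node (.node (.leaf 0x1dbd3b40c896b) (.leaf 0x5d2e592dca59b)) (.node (.leaf 0x42a39958d917e) (.leaf 0x78672b2e74e30)))) (.node (.node (.node (.leaf 0x55abef90573d) (.leaf 0x559b6ae50cd4d)) (.node (.leaf 0x402145fcb13ef) (.leaf 0x71db11c9dae2a))) (.node (.node (.leaf 0x35a2ec02a7f9f) (.leaf 0x63defd4ad6209)) (.node (.leaf 0x457cc214ee059) (.leaf 0x7ee06287352c1))))))) (.node (.node (.node (.node (.node (.node (.leaf 38714021) (.leaf 0x4a256f6d53e6b)) (.node (.leaf 0x3de04d325d78f) (.leaf 0x666232c8b1562))) (.node (.node (.leaf 0xf0f855061a87) (.leaf 0x589d07bfeb705)) (.node (.leaf 0x4090ef01a1183) (.leaf 0x7482f4f2f2673)))) (.node (.node (.node (.leaf 0x65840972c51) (.leaf 0x518ea708c91c3)) (.node (.leaf 0x4000b108f91b5) (.leaf 0x6e4cfad9a55a9))) (.node (.node (.leaf 0x2727f8672c4af) (.leaf 0x5ff84891f9ece)) (.node (.leaf 0x44062b3002526)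 (.leaf 0x7ab487e386d67))))) (.node (.node (.node (.node (.leaf 54399388) (.leaf 0x4cd70604a75d1)) (.node (.leaf 0x400091acff9e0) (.leaf 0x69bb9d05bca27))) (.node (.node (.leaf 0x1b9d6b8b0af71) (.leaf 0x5bc6653117549)) (.node (.leaf 0x4240e69f9ca23) (.leaf 0x77ac7c1da7fb1)))) (.node (.node (.node (.leaf 0x44b4d399db02) (.leaf 0x549a7803efb53)) (.node (.leaf 0x40164f12ce59c) (.leaf 0x712ef3dbd204f))) (.node (.node (.leaf 0x34118b3a616b9) (.leaf 0x6342cbadeb4cf)) (.node (.leaf 0x45444e3491fde) (.leaf 0x7dff096b964cd)))))) (.node (.node (.node (.node (.node (.leaf 45958655) (.leaf 0x4acc1fbfd7044)) (.node (.leaf 0x4000831af845a) (.leaf 0x678af5a121bf8))) (.node (.node (.leaf 0x17da9b3660000) (.leaf 0x5a289ca01ca23)) (.node (.leaf 0x4141d75291711) (.leaf 0x75c9ad7cd2333)))) (.node (.node (.node (.leaf 0x16548b0cf2b1) (.leaf 0x53281a3501596)) (.node (.leaf 0x4000be8058548) (.leaf 0x6ff251988538d))) (.node (.node (.leaf 0x2ed7e1d111067) (.leaf 0x61e0794e67f6f))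 (.node (.leaf 0x447035576d883) (.leaf 0x7c744c676769f))))) (.node (.node (.node (.node (.leaf 62895071) (.leaf 0x4fd93b7485b88)) (.node (.leaf 0x40009eb0af69a) (.leaf 0x6ba91a6498379))) (.node (.node (.leaf 0x2206db01df6bf) (.leaf 0x5df87c6d298ff)) (.node (.leaf 0x4300d6106829d) (.leaf 0x797628a74f630)))) (.node (.node (.node (.leaf 0x86f921514536) (.leaf 0x5712306aec82b)) (.node (.leaf 0x4061a7539e78d) (.leaf 0x72c3dc6461b10))) (.node (.node (.leaf 0x388406fbf3807) (.leaf 0x6439be7259601)) (.node (.leaf 0x4861a82ccc71f) (.leaf 0x7f6a44c7f2723))))))))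

/-- Part of `colSrt`. -/
def colSrt_p001 : Tr := .node (.node (.node (.node (.node (.node (.node (.node (.node (.leaf 34421478) (.leaf 0x7fe19395f5539)) (.leaf 0x48a90a8eecb05)) (.node (.leaf 0x3a58f69316263) (.leaf 0x654469f4c9991))) (.node (.node (.leaf 0x8ea5225ff44d) (.leaf 0x579a1d83cd4cf)) (.node (.leaf 0x4082761dabbfb) (.leaf 0x73909e46cf8ed)))) (.node (.node (.node (.leaf 65688871) (.leaf 0x508b897bdb5b1)) (.node (.leaf 0x4000a34f78af0) (.leaf 0x6c93d40722d2b))) (.node (.node (.leaf 0x22bb8d88cbe1f) (.leaf 0x5e9c6d3d9e511)) (.node (.leaf 0x4364b900d1473) (.leaf 0x79fe270edb5e4))))) (.node (.node (.node (.node (.leaf 48979960) (.leaf 0x4c2af5a0abe13)) (.node (.leaf 0x4000887310409) (.leaf 0x680fbea7cd26b))) (.node (.node (.leaf 0x18008726622fc) (.leaf 0x5aee6c3a70d9d)) (.node (.leaf 0x4164fe2494567) (.leaf 0x7690599f3cddf)))) (.node (.node (.node (.leaf 0x2215dd4f2d41) (.leaf 0x53ab46a29be57)) (.node (.leaf 0x4004b590e0001) (.leaf 0x707327490a01f)))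 (.node (.node (.leaf 0x31397023abf79) (.leaf 0x62247499ce81e)) (.node (.leaf 0x451cf431d8750) (.leaf 0x7cff018fbbc59)))))) (.node (.node (.node (.node (.node (.leaf 40825434) (.leaf 0x4a4ce819b8d8c)) (.node (.leaf 0x3ef1384b85945) (.leaf 0x66ee90d0ee597))) (.node (.node (.leaf 0x119fc16c86fb7) (.leaf 0x59686c5577091)) (.node (.leaf 0x409e9a99ad51e) (.leaf 0x7529b7cf90757)))) (.node (.node (.node (.leaf 0x836a9dc0029) (.leaf 0x52283cc0e09d7)) (.node (.leaf 0x4000b66f422df) (.leaf 0x6ee486c5d9493))) (.node (.node (.leaf 0x27b216ee72a77) (.leaf 0x6039b2dd9dfcc)) (.node (.leaf 0x4439ca97e29f1) (.leaf 0x7b3cbc0d52860))))) (.node (.node (.node (.node (.leaf 57545095) (.leaf 0x4f2d0c5254983)) (.node (.leaf 0x4000965c61da9) (.leaf 0x6aaad57256cbf))) (.node (.node (.leaf 0x1dbc565932641) (.leaf 0x5c9c59c6ae3a5)) (.node (.leaf 0x42857f5d9e90a) (.leaf 0x780dedcb0e6c7)))) (.node (.node (.node (.leaf 0x47a9225a8d59) (.leaf 0x555a157214cb9)) (.node (.leaf 0x401f55692c4bf)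 (.leaf 0x71bb1d4e677a1))) (.node (.node (.leaf 0x35343ee7502c1) (.leaf 0x63c23515b51c6)) (.node (.leaf 0x456eed40e360f) (.leaf 0x7e84d5731f6b3))))))) (.node (.node (.node (.node (.node (.node (.leaf 38143105) (.leaf 0x4a0a9b58439e9)) (.node (.leaf 0x3de04d3244435) (.leaf 0x665cb617d9a13))) (.node (.node (.leaf 0xf0aca507f345) (.leaf 0x588f3f2709689)) (.node (.leaf 0x408f71695cd7d) (.leaf 0x746d202732e91)))) (.node (.node (.node (.leaf 0x1f786187f71) (.leaf 0x51597beb642f4)) (.node (.leaf 0x4000ad596cc11) (.leaf 0x6db20b09e4299))) (.node (.node (.leaf 0x270588f7f0603) (.leaf 0x5fbcf7ae46384)) (.node (.leaf 0x43fe4dc130400) (.leaf 0x7aa454459996d))))) (.node (.node (.node (.node (.leaf 53253353) (.leaf 0x4cbd16c554154)) (.node (.leaf 0x40008f0cbc02d) (.leaf 0x693ac2b55d789))) (.node (.node (.leaf 0x1b4d2a670f7d9) (.leaf 0x5b8addd3504e6)) (.node (.leaf 0x422152dc56d7d) (.leaf 0x7748d79367617)))) (.node (.node (.node (.leaf 0x44b4d3994e98) (.leaf 0x544fe077a5612))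 (.node (.leaf 0x4011a56bcee4b) (.leaf 0x70fa4fdfa5144))) (.node (.node (.leaf 0x32d0b9f6ab13d) (.leaf 0x62b978907c519)) (.node (.leaf 0x453e9d40ac1b6) (.leaf 0x7de022f45ab41)))))) (.node (.node (.node (.node (.node (.leaf 45079611) (.leaf 0x4ac487c0608ce)) (.node (.leaf 0x40008019debe1) (.leaf 0x6739f2617aca2))) (.node (.node (.leaf 0x12683e90a20dd) (.leaf 0x59f8415033539)) (.node (.leaf 0x413641dd0cc8e) (.leaf 0x75bb11ea0484e)))) (.node (.node (.node (.leaf 0x15dfdc016442) (.leaf 0x52fb7790947f9)) (.node (.leaf 0x4000bd429f0fc) (.leaf 0x6fe19085a1ba3))) (.node (.node (.leaf 0x2ed31ac1d0a60) (.leaf 0x617ccc19fed77)) (.node (.leaf 0x44671729a99a9) (.leaf 0x7bde47c157a5f))))) (.node (.node (.node (.node (.leaf 61796056) (.leaf 0x4fbd97ec2e234)) (.node (.leaf 0x40009d1531e25) (.leaf 0x6b98f5fe99339))) (.node (.node (.leaf 0x2206db01cb7b7) (.leaf 0x5db065acb6254)) (.node (.leaf 0x42eeb4c604963) (.leaf 0x78fef7a163dbe)))) (.node (.node (.node (.leaf 0x82ed9f151b31)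 (.leaf 0x56db0c141070b)) (.node (.leaf 0x404d630032856) (.leaf 0x72ac817d5ca8b))) (.node (.node (.leaf 0x37b0623f396dd) (.leaf 0x642095afb76ad)) (.node (.leaf 0x484029895dba4) (.leaf 0x7f1a46e25a378)))))))) (.node (.node (.node (.node (.node (.node (.node (.leaf 36460314) (.leaf 0x48e0f796ea0dd)) (.node (.leaf 0x3b5d28baefdc1) (.leaf 0x657d2bb5d63b7))) (.node (.node (.leaf 0xaaa6da002113) (.leaf 0x58128570d4bc7)) (.node (.leaf 0x4088ea86f6cfb) (.leaf 0x73fa5f177a45f)))) (.node (.node (.node (.leaf 0xf94c8e0025) (.leaf 0x510dc489def97)) (.node (.leaf 0x4000a86320bff) (.leaf 0x6d2d515886fa6))) (.node (.node (.leaf 0x24005f7617609) (.leaf 0x5f3cfd1791c77)) (.node (.leaf 0x43b79b489cca1) (.leaf 0x7a3854a8a030f))))) (.node (.node (.node (.node (.leaf 51124255) (.leaf 0x4c6a4c579c3f9)) (.node (.leaf 0x40008bb66e927) (.leaf 0x689a629218f49))) (.node (.node (.leaf 0x1b05996f25acb) (.leaf 0x5b4530ae233ad)) (.node (.leaf 0x417b7c1043155) (.leaf 0x76fb79963b525))))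 (.node (.node (.node (.leaf 0x2a736c932961) (.leaf 0x53fa657f62870)) (.node (.leaf 0x400bbf0a62136) (.leaf 0x709a4c5e536b5))) (.node (.node (.leaf 0x31b072ffbbfc1) (.leaf 0x6282f3e505885)) (.node (.leaf 0x452e55fd8bf41) (.leaf 0x7d7092472febe)))))) (.node (.node (.node (.node (.node (.leaf 42923674) (.leaf 0x4a8b1fdd32b1a)) (.node (.leaf 0x3f74bd13983b3) (.leaf 0x67077436bb3b3))) (.node (.node (.leaf 0x11de11d1bdf2b) (.leaf 0x59bd2b6d91057)) (.node (.leaf 0x4115464b8e055) (.leaf 0x7551c81c93743)))) (.node (.node (.node (.leaf 0x144c91c73a0f) (.leaf 0x52bab5754fa1f)) (.node (.leaf 0x4000ba00701d8) (.leaf 0x6f68ad303dc69))) (.node (.node (.leaf 0x2bbf537ee9d13) (.leaf 0x61444025a9d94)) (.node (.leaf 0x44557048531f9) (.leaf 0x7ba54ddfc2b25))))) (.node (.node (.node (.node (.leaf 59647347) (.leaf 0x4f951b1ebe8ea)) (.node (.leaf 0x40009a2eeb3d5) (.leaf 0x6b2845dbaee49))) (.node (.node (.leaf 0x21622c90b4648) (.leaf 0x5d3cfaee5b36d)) (.node (.leaf 0x42c8b018ba336)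 (.leaf 0x788f88c4fd431)))) (.node (.node (.node (.leaf 0x55abef90e0c3) (.leaf 0x55db6993b3007)) (.node (.leaf 0x4027a0989c6f5) (.leaf 0x724080f6d22e5))) (.node (.node (.leaf 0x37a7fabae1317) (.leaf 0x63fa6e7637ec1)) (.node (.leaf 0x48096df895c0d) (.leaf 0x7eff0832a1fb2))))))) (.node (.node (.node (.node (.node (.node (.leaf 39280377) (.leaf 0x4a2c3b4024303)) (.node (.leaf 0x3df4774bfa30f) (.leaf 0x667ea61d2a035))) (.node (.node (.leaf 0x11094fc97420b) (.leaf 0x58d86d82494eb)) (.node (.leaf 0x40973abdbd71a) (.leaf 0x749a427575e7d)))) (.node (.node (.node (.leaf 0x658409736d1) (.leaf 0x51c21d3b80fa0)) (.node (.leaf 0x4000b37713bef) (.leaf 0x6e6cbac882b8a))) (.node (.node (.leaf 0x2797711aaae59) (.leaf 0x60066a26ff645)) (.node (.leaf 0x441eb30c52b99) (.leaf 0x7ac007fa1acd7))))) (.node (.node (.node (.node (.leaf 55556210) (.leaf 0x4cf51897bdaef)) (.node (.leaf 0x4000930987c37) (.leaf 0x6a2b5f7a02305))) (.node (.node (.leaf 0x1bd80fe7651c5) (.leaf 0x5bd0b2af45e0a))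 (.node (.leaf 0x42616722f61d1) (.leaf 0x77c32b5d7a40e)))) (.node (.node (.node (.leaf 0x45975b57bc01) (.leaf 0x54da7b77d1c45)) (.node (.leaf 0x4019c9d283b4f) (.leaf 0x7145d2ef82481))) (.node (.node (.leaf 0x34118b3a7585f) (.leaf 0x635e03f28871a)) (.node (.leaf 0x454cf3c845cfb) (.leaf 0x7e11e312ba5f9)))))) (.node (.node (.node (.node (.node (.leaf 47624375) (.leaf 0x4aeaec600b162)) (.node (.leaf 0x40008520d1b9f) (.leaf 0x67ac3831cbd80))) (.node (.node (.leaf 0x17da9b3675bb2) (.leaf 0x5a688bae99e20)) (.node (.leaf 0x4158c78ee4209) (.leaf 0x75daf82b0b0e9)))) (.node (.node (.node (.leaf 0x17b5dc8a9647) (.leaf 0x5338f68d3f0a1)) (.node (.leaf 0x4000d90960001) (.leaf 0x700a859e9e6c1))) (.node (.node (.leaf 0x301d33be0ba64) (.leaf 0x61fe3890cb011)) (.node (.leaf 0x4479c9ed462f1) (.leaf 0x7c90541e579cb))))) (.node (.node (.node (.node (.leaf 63391006) (.leaf 0x5009edb7560b9)) (.node (.leaf 0x4000a00a26ef5) (.leaf 0x6bb8cf437129e))) (.node (.node (.leaf 0x22255999b2d25)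 (.leaf 0x5e0f889865e62)) (.node (.leaf 0x432537fc3a26e) (.leaf 0x79904807dd79e)))) (.node (.node (.node (.leaf 0x8a6ea74ac8a3) (.leaf 0x574a4f36521d5)) (.node (.leaf 0x406a5c87db3f9) (.leaf 0x72db010105c31))) (.node (.node (.leaf 0x3891e2c3c7027) (.leaf 0x64900f8bc080b)) (.node (.leaf 0x486ba5deb6cdf) (.leaf 0x7f8526ec20e37))))))))

/-- Part of `colSrt`. -/
def colSrt_p010 : Tr := .node (.node (.node (.node (.node (.node (.node (.node (.node (.leaf 33829416) (.leaf 0x7f9a4c5e4c141)) (.leaf 0x48a2ea3e99508)) (.node (.leaf 0x3a58f6930ea17) (.leaf 0x65429ca027063))) (.node (.node (.leaf 0x8ea5225f8e81) (.leaf 0x57923faea7e83)) (.node (.leaf 0x40808fe6239c8) (.leaf 0x73870aa77aafd)))) (.node (.node (.node (.leaf 65459463) (.leaf 0x5082fafe22380)) (.node (.leaf 0x4000a251d504c) (.leaf 0x6c814cbdc5925))) (.node (.node (.leaf 0x229f11ad5d62d) (.leaf 0x5e8ab89c58dfa)) (.node (.leaf 0x4360859f03090) (.leaf 0x79f4e4979b874))))) (.node (.node (.node (.node (.leaf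 48473309) (.leaf 0x4c2657edfc483)) (.node (.leaf 0x4000877c66ec5) (.leaf 0x6808e23e52916))) (.node (.node (.leaf 0x18008726612c8) (.leaf 0x5ae7282d3ad12)) (.node (.leaf 0x4164297bc18fc) (.leaf 0x768383821167d)))) (.node (.node (.node (.leaf 0x2215dd4f2941) (.leaf 0x53a36488e7e1f)) (.node (.leaf 0x40037bf501a53) (.leaf 0x706a5dce9cb09))) (.node (.node (.leaf 0x3087e87697cf1) (.leaf 0x62195a4ab551f)) (.node (.leaf 0x4515978c57366) (.leaf 0x7cf51a4ffa59a)))))) (.node (.node (.node (.node (.node (.leaf 40259368) (.leaf 0x4a4854416aaa1)) (.node (.leaf 0x3e70943b7f117) (.leaf 0x66ed1ff2daab5))) (.node (.node (.leaf 0x114541c9fbfed) (.leaf 0x59647e775a789)) (.node (.leaf 0x409d31b484fe5) (.leaf 0x752257debda7b)))) (.node (.node (.node (.leaf 0x836a9dc0001) (.leaf 0x5221c42c8462c)) (.node (.leaf 0x4000b58931cfd) (.leaf 0x6ed0676d3220d))) (.node (.node (.leaf 0x27b216ee6d225) (.leaf 0x6027bb334523f)) (.node (.leaf 0x443767ef9a672) (.leaf 0x7b221793522f2))))) (.node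 (.node (.node (.node (.leaf 56807394) (.leaf 0x4f284bca3e17e)) (.node (.leaf 0x400095396fdb4) (.leaf 0x6a9df1fbe8f78))) (.node (.node (.leaf 0x1dbc5659292ed) (.leaf 0x5c8ec91a8eacb)) (.node (.leaf 0x4280b541725b7) (.leaf 0x7806d0bf6d65d)))) (.node (.node (.node (.leaf 0x46f82d4afab5) (.leaf 0x554e13e2b5851)) (.node (.leaf 0x401edeb44c601) (.leaf 0x71a9b6eb32ff7))) (.node (.node (.leaf 0x35343ee748aa7) (.leaf 0x63c01cf3eaab1)) (.node (.leaf 0x456425d0627ab) (.leaf 0x7e7e5e15ff2cf))))))) (.node (.node (.node (.node (.node (.node (.leaf 37979668) (.leaf 0x4a005a11055be)) (.node (.leaf 0x3bd0a936342c7) (.leaf 0x6641a1bc1a008))) (.node (.node (.leaf 0xf0aca5060255) (.leaf 0x58826d02d7ac9)) (.node (.leaf 0x408d588847de9) (.leaf 0x741b3e48ad35c)))) (.node (.node (.node (.leaf 0x1cec554ee4b) (.leaf 0x514d418154bdf)) (.node (.leaf 0x4000ac7ba8fd3) (.leaf 0x6da461f0b32ac))) (.node (.node (.leaf 0x270588f7e3765) (.leaf 0x5faa0000f2593)) (.node (.leaf 0x43fa8597da9b7)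 (.leaf 0x7a56d517251cf))))) (.node (.node (.node (.node (.leaf 52822803) (.leaf 0x4cb1af880a848)) (.node (.leaf 0x40008ead74701) (.leaf 0x692bc7ea33bd8))) (.node (.node (.leaf 0x1b4d2a670b8c3) (.leaf 0x5b826ec97e301)) (.node (.leaf 0x4220624447c14) (.leaf 0x77348ee2bb0bf)))) (.node (.node (.node (.leaf 0x2eec9001b6fc) (.leaf 0x5442b03eded8b)) (.node (.leaf 0x40108fe643b4f) (.leaf 0x70f044cfc460a))) (.node (.node (.leaf 0x32c6f6eb1f5f5) (.leaf 0x62a7a864e5705)) (.node (.leaf 0x453cccee565a7) (.leaf 0x7d9a4ba4a9e98)))))) (.node (.node (.node (.node (.node (.leaf 44471218) (.leaf 0x4ac00d5a7ae42)) (.node (.leaf 0x4000000000001) (.leaf 0x67272c677bbef))) (.node (.node (.leaf 0x1261c234f16ed) (.leaf 0x59f4536358f89)) (.node (.leaf 0x4132a218faed3) (.leaf 0x75b0f1f3e0de3)))) (.node (.node (.node (.leaf 0x15dfdc012508) (.leaf 0x52f2af3c629ab)) (.node (.leaf 0x4000bc3f660f9) (.leaf 0x6fd3a86fa8291))) (.node (.node (.leaf 0x2ed31ac1d09bc) (.leaf 0x617a6fad34587))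 (.node (.leaf 0x4464f6b42ff33) (.leaf 0x7bce6edf5b78d))))) (.node (.node (.node (.node (.leaf 61095861) (.leaf 0x4fb4fd80cca66)) (.node (.leaf 0x40009c1ce54fb) (.leaf 0x6b88e333dbcda))) (.node (.node (.leaf 0x2164863d9f733) (.leaf 0x5dae70d679500)) (.node (.leaf 0x42eac093dc2ed) (.leaf 0x78eae6a672990)))) (.node (.node (.node (.leaf 0x82ed9f1414f9) (.leaf 0x56ca1ae51b716)) (.node (.leaf 0x404892cb139df) (.leaf 0x72a2264d169c1))) (.node (.node (.leaf 0x37b0623f25e7d) (.leaf 0x641f2d277212c)) (.node (.leaf 0x482aef7b78f77) (.leaf 0x7f153d2481631)))))))) (.node (.node (.node (.node (.node (.node (.node (.leaf 36002946) (.leaf 0x48cb3d1072e8d)) (.node (.leaf 0x3b5d28bae0087) (.leaf 0x65645129b720b))) (.node (.node (.leaf 0xaa32b85d043b) (.leaf 0x5800bdf6387ed)) (.node (.leaf 0x4087779f5d723) (.leaf 0x73f08fd6ae3a9)))) (.node (.node (.node (.leaf 0xf94c8e0007) (.leaf 0x510163c8f92ed)) (.node (.leaf 0x4000a73db0735) (.leaf 0x6d299909d5ad7))) (.node (.node (.leaf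 0x24005f7615627) (.leaf 0x5f2a18b194216)) (.node (.leaf 0x43b280ccb34bf) (.leaf 0x7a36e325a0de4))))) (.node (.node (.node (.node (.leaf 50786644) (.leaf 0x4c66eb19646bd)) (.node (.leaf 0x40008b35161fc) (.leaf 0x688ddbbb0cfe7))) (.node (.node (.leaf 0x180dc7cb0b9d5) (.leaf 0x5b1a3ea83ac5d)) (.node (.leaf 0x417af99ceed31) (.leaf 0x76f1ba0f7baf3)))) (.node (.node (.node (.leaf 0x2a736c9247a1) (.leaf 0x53e35cf04d78f)) (.node (.leaf 0x400a874f25e7d) (.leaf 0x7090458ffb8b1))) (.node (.node (.leaf 0x31b072ffa7d67) (.leaf 0x6280b4ee9f48f)) (.node (.leaf 0x452c2091fef55) (.leaf 0x7d6f655aa4cb4)))))) (.node (.node (.node (.node (.node (.leaf 42449477) (.leaf 0x4a83abf07df1b)) (.node (.leaf 0x3f74bd139406f) (.leaf 0x6705777f012a5))) (.node (.node (.leaf 0x11de11d1b614b) (.leaf 0x59a3201efa2d2)) (.node (.leaf 0x4110b780a1cd6) (.leaf 0x754977cea1bbf)))) (.node (.node (.node (.leaf 0x8f6a61e7f7b) (.leaf 0x52a3a829a0e37)) (.node (.leaf 0x4000b95974341) (.leaf 0x6f4ac87022305)))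 (.node (.node (.leaf 0x2bba52fef6fd9) (.leaf 0x6142ff5850849)) (.node (.leaf 0x4449d039c95ff) (.leaf 0x7b53eb4d8e94d))))) (.node (.node (.node (.node (.leaf 59017903) (.leaf 0x4f90461ea2e75)) (.node (.leaf 0x40009910aea7f) (.leaf 0x6b0d00ca0ab25))) (.node (.node (.leaf 0x21622c90a0000) (.leaf 0x5d304c50e524e)) (.node (.leaf 0x42a698ddefeb7) (.leaf 0x7885b33e7a801)))) (.node (.node (.node (.leaf 0x55abef90ae21) (.leaf 0x55cabec313fd5)) (.node (.leaf 0x4025a3a60b435) (.leaf 0x7225d2efeb282))) (.node (.node (.leaf 0x35a2ec02bdcc7) (.leaf 0x63e573322b6bb)) (.node (.leaf 0x48009577ef827) (.leaf 0x7eee2d22d08cd))))))) (.node (.node (.node (.node (.node (.node (.leaf 38985470) (.leaf 0x4a28865979021)) (.node (.leaf 0x3df4774be7be9) (.leaf 0x667d292e5829b))) (.node (.node (.leaf 0x11094fc9681e9) (.leaf 0x58c666f38cab7)) (.node (.leaf 0x40934df568b78) (.leaf 0x748cb3cf78ae4)))) (.node (.node (.node (.leaf 0x65840973451) (.leaf 0x5197d27c53a1d)) (.node (.leaf 0x4000b21b46ee7)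 (.leaf 0x6e5bf61ec5727))) (.node (.node (.leaf 0x2727f8673c309) (.leaf 0x600084b27bc9f)) (.node (.leaf 0x441488e720ca5) (.leaf 0x7aba22ba99c78))))) (.node (.node (.node (.node (.leaf 55195829) (.leaf 0x4cf0555629d02)) (.node (.leaf 0x4000923c3e0b1) (.leaf 0x6a08c9733c62e))) (.node (.node (.leaf 0x1b9d6b8b10d85) (.leaf 0x5bce62f5b1a15)) (.node (.leaf 0x424400c537ddd) (.leaf 0x77bbd250c7463)))) (.node (.node (.node (.leaf 0x45975b57868f) (.leaf 0x54cb9bebe5149)) (.node (.leaf 0x4018179900001) (.leaf 0x7137b29578343))) (.node (.node (.leaf 0x34118b3a6a057) (.leaf 0x635c2ad1cdfad)) (.node (.leaf 0x454a332dd21a5) (.leaf 0x7e0fa2c3ac43e)))))) (.node (.node (.node (.node (.node (.leaf 47392930) (.leaf 0x4ae38fd50a0ea)) (.node (.leaf 0x400084a8c15b6) (.leaf 0x6795eccbba64c))) (.node (.node (.leaf 0x17da9b366ed06) (.leaf 0x5a61733f9abb1)) (.node (.leaf 0x4145a996f4639) (.leaf 0x75d1127214136)))) (.node (.node (.node (.leaf 0x16548b0cf5f1) (.leaf 0x5330ddaac0bc4))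 (.node (.leaf 0x4000bf8a8c494) (.leaf 0x70009e4783487))) (.node (.node (.leaf 0x301d33be00c04) (.leaf 0x61f8a43545e7d)) (.node (.leaf 0x44722309efc8e) (.leaf 0x7c856412b084b))))) (.node (.node (.node (.node (.leaf 63102239) (.leaf 0x500085eb52a49)) (.node (.leaf 0x40009f2d4803b) (.leaf 0x6bac2de4954f5))) (.node (.node (.leaf 0x22255999aa4f5) (.leaf 0x5e070d5112d0d)) (.node (.leaf 0x4320256958f6c) (.leaf 0x7984aaafb2776)))) (.node (.node (.node (.leaf 0x86f9215167b6) (.leaf 0x57424482e2de5)) (.node (.leaf 0x4064e853be78b) (.leaf 0x72cd710decd1f))) (.node (.node (.leaf 0x388406fbfee21) (.leaf 0x64888cb846528)) (.node (.leaf 0x486501aea4ea9) (.leaf 0x7f74ce9594f47))))))))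

/-- Part of `colSrt`. -/
def colSrt_p011 : Tr := .node (.node (.node (.node (.node (.node (.node (.node (.node (.leaf 34957632) (.leaf 0x7ff044cf82b6d)) (.leaf 0x48ad94858f281)) (.node (.leaf 0x3ac1b0be02cd7) (.leaf 0x655cb48565949))) (.node (.node (.leaf 0xaa32b85c0001) (.leaf 0x57cb330c7a71b)) (.node (.leaf 0x40835c9dd4ddc) (.leaf 0x739a5c875a7e3)))) (.node (.node (.node (.leaf 66469556) (.leaf 0x50c2d18b11a45)) (.node (.leaf 0x4000a4a54c779) (.leaf 0x6d0ba2900bd78))) (.node (.node (.leaf 0x22bb8d88d5c1f) (.leaf 0x5ecff0b917e14)) (.node (.leaf 0x43909556087b3) (.leaf 0x7a263997d2ffa))))) (.node (.node (.node (.node (.leaf 49772170) (.leaf 0x4c4230650d917)) (.node (.leaf 0x4000893b8daf7) (.leaf 0x6828a23ea7558))) (.node (.node (.leaf 0x180087267c3f6) (.leaf 0x5b05acb7ca633)) (.node (.leaf 0x41654460890d8) (.leaf 0x769a81d75610b)))) (.node (.node (.node (.leaf 0x26558713d06f) (.leaf 0x53b3883875f9d)) (.node (.leaf 0x40050187c0001) (.leaf 0x70791a4748fe9)))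 (.node (.node (.leaf 0x31397023b63c9) (.leaf 0x622781810120b)) (.node (.leaf 0x4520207c80a40) (.leaf 0x7d0f69cab64ed)))))) (.node (.node (.node (.node (.node (.leaf 41329278) (.leaf 0x4a617b48c27bf)) (.node (.leaf 0x3ef1384b98163) (.leaf 0x66f199fbf608b))) (.node (.node (.leaf 0x119fc16c9b9ef) (.leaf 0x597706fba3dc4)) (.node (.leaf 0x41009cae74ccd) (.leaf 0x7530cf6b89aff)))) (.node (.node (.node (.leaf 0x836a9dd6ce1) (.leaf 0x52657324987f9)) (.node (.leaf 0x4000b712e309b) (.leaf 0x6ef1b6c931b55))) (.node (.node (.leaf 0x2bba52fee0001) (.leaf 0x6083615baa39d)) (.node (.leaf 0x444490caa501f) (.leaf 0x7b43fd939adef))))) (.node (.node (.node (.node (.leaf 58065348) (.leaf 0x4f425b0b8cf7c)) (.node (.leaf 0x400097782ee63) (.leaf 0x6aafcef346a4d))) (.node (.node (.leaf 0x1dbd3b40c882f) (.leaf 0x5d22ef91d5f31)) (.node (.leaf 0x42a20e464d421) (.leaf 0x78183ffb85f98)))) (.node (.node (.node (.leaf 0x47a9225aa565) (.leaf 0x558b467f39392)) (.node (.leaf 0x4020be2ddff26)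 (.leaf 0x71c60bf3daf6a))) (.node (.node (.leaf 0x35343ee758421) (.leaf 0x63dcd4613fe03)) (.node (.leaf 0x457a2ea1af1d7) (.leaf 0x7e9a5a3c57c94))))))) (.node (.node (.node (.node (.node (.node (.leaf 38484196) (.leaf 0x4a21dba5429c8)) (.node (.leaf 0x3de04d32502fd) (.leaf 0x66618b284dbe3))) (.node (.node (.leaf 0xf0f855061815) (.leaf 0x5890559a35b7f)) (.node (.leaf 0x40902408d897c) (.leaf 0x74746351eff33)))) (.node (.node (.node (.leaf 0x1f786187f7f) (.leaf 0x5182365f654a8)) (.node (.leaf 0x4000aeba60e9f) (.leaf 0x6e482c0965e7d))) (.node (.node (.leaf 0x270588f7f7291) (.leaf 0x5fef44f5f89c1)) (.node (.leaf 0x4400957791879) (.leaf 0x7aaaf819ad3e4))))) (.node (.node (.node (.node (.leaf 53818192) (.leaf 0x4cd24344260b7)) (.node (.leaf 0x40008f85e8617) (.leaf 0x69a90c66bbe29))) (.node (.node (.leaf 0x1b9d6b8b068f7) (.leaf 0x5b95f65a4ca42)) (.node (.leaf 0x422563c6b11c4) (.leaf 0x77a302ae40082)))) (.node (.node (.node (.leaf 0x44b4d39962d8) (.leaf 0x548a6ec60543d))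 (.node (.leaf 0x401378950c481) (.leaf 0x7120903733594))) (.node (.node (.leaf 0x32d0b9f6b2269) (.leaf 0x6340e24318b39)) (.node (.leaf 0x454287004a637) (.leaf 0x7debc24cf88c3)))))) (.node (.node (.node (.node (.node (.leaf 45464838) (.leaf 0x4ac89cfc0d449)) (.node (.leaf 0x4000825b772d5) (.leaf 0x6788f6fe3d7f5))) (.node (.node (.leaf 0x12683e90af69b) (.leaf 0x5a21ef3c73b3d)) (.node (.leaf 0x41402040ea39b) (.leaf 0x75c25c394b5e1)))) (.node (.node (.node (.leaf 0x16548b0c7a15) (.leaf 0x5320311a52a66)) (.node (.leaf 0x4000be24c92cd) (.leaf 0x6fe765d149dbb))) (.node (.node (.leaf 0x2ed7e1d10e267) (.leaf 0x61dab7b4ca0d2)) (.node (.leaf 0x446d0a042dcda) (.leaf 0x7c15bfda21387))))) (.node (.node (.node (.node (.leaf 62182678) (.leaf 0x4fd1a318624fd)) (.node (.leaf 0x40009e1439167) (.leaf 0x6b9dd76e43db6))) (.node (.node (.leaf 0x2206db01cd6bf) (.leaf 0x5df4f9c96f4a9)) (.node (.leaf 0x43001fd88032f) (.leaf 0x791cd74a85782)))) (.node (.node (.node (.leaf 0x82ed9f1535f1)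 (.leaf 0x570700ca20767)) (.node (.leaf 0x4060954f27542) (.leaf 0x72bb0d976e5f7))) (.node (.node (.leaf 0x388406fbeda5b) (.leaf 0x6427849255809)) (.node (.leaf 0x4849d555d2c18) (.leaf 0x7f65021eb2969)))))))) (.node (.node (.node (.node (.node (.node (.node (.leaf 37073092) (.leaf 0x48e46105c6fd7)) (.node (.leaf 0x3b5d28baf454d) (.leaf 0x65c9cef47e703))) (.node (.node (.leaf 0xaaa6da006fd3) (.leaf 0x58403de6e3a95)) (.node (.leaf 0x408b7eba9d72d) (.leaf 0x740388c282a49)))) (.node (.node (.node (.leaf 0x1cec5540001) (.leaf 0x511487ebcfc60)) (.node (.leaf 0x4000a9595c267) (.leaf 0x6d862f381d268))) (.node (.node (.leaf 0x240706920f40f) (.leaf 0x5f62aff198b6d)) (.node (.leaf 0x43d8900d4182e) (.leaf 0x7a46f996e3180))))) (.node (.node (.node (.node (.leaf 51645406) (.leaf 0x4c9262d1e3ea3)) (.node (.leaf 0x40008c75e11b8) (.leaf 0x68ae6ea2ec16b))) (.node (.node (.leaf 0x1b05996f2e625) (.leaf 0x5b4d3e67023e8)) (.node (.leaf 0x42009cae17421) (.leaf 0x772320afdbb41))))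 (.node (.node (.node (.leaf 0x2a736c936961) (.leaf 0x5402303e29c26)) (.node (.leaf 0x400d6defcbbfb) (.leaf 0x70e335509fee7))) (.node (.node (.leaf 0x32c6f6eb02983) (.leaf 0x629ddaed917c7)) (.node (.leaf 0x4530cc0328094) (.leaf 0x7d847d8a6deab)))))) (.node (.node (.node (.node (.node (.leaf 43343416) (.leaf 0x4aa1e5237cb73)) (.node (.leaf 0x3fe1f213e86de) (.leaf 0x67186d51c959c))) (.node (.node (.leaf 0x1261c234e5727) (.leaf 0x59e72befa15ec)) (.node (.leaf 0x41202ccfd875e) (.leaf 0x755a22883e5e1)))) (.node (.node (.node (.leaf 0x144c91c73ecf) (.leaf 0x52e39040dc06a)) (.node (.leaf 0x4000baaed5c4e) (.leaf 0x6fc1a85053cfb))) (.node (.node (.leaf 0x2bbf537ef6ed9) (.leaf 0x615cf6b178edb)) (.node (.leaf 0x44574cd5a7efb) (.leaf 0x7bbaf21c136d4))))) (.node (.node (.node (.node (.leaf 60151586) (.leaf 0x4f98fbf95e445)) (.node (.leaf 0x40009a8048e1d) (.leaf 0x6b2d4d4ae7f75))) (.node (.node (.leaf 0x21622c90b64e0) (.leaf 0x5d633d5909f1d)) (.node (.leaf 0x42cc6082196e9)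 (.leaf 0x789a53ed97cd1)))) (.node (.node (.node (.leaf 0x55c6c1428f35) (.leaf 0x5647ba564ac82)) (.node (.leaf 0x404026eef4d7f) (.leaf 0x724e2492d8bdb))) (.node (.node (.leaf 0x37a7fabaed48f) (.leaf 0x6400bf37d29fc)) (.node (.leaf 0x482114c3a8651) (.leaf 0x7f051397ce5df))))))) (.node (.node (.node (.node (.node (.node (.leaf 39572972) (.leaf 0x4a40faed53e04)) (.node (.leaf 0x3e70943b622ef) (.leaf 0x66c9ab7b34a31))) (.node (.node (.leaf 0x11094fc978197) (.leaf 0x5924fe7d818e3)) (.node (.leaf 0x4098e9e14bbd5) (.leaf 0x74e2dd1ea9e34)))) (.node (.node (.node (.leaf 0x6f5fc192c91) (.leaf 0x51cea46728f30)) (.node (.leaf 0x4000b40ebf023) (.leaf 0x6ec04c50b0b5d))) (.node (.node (.leaf 0x2797711aafdbd) (.leaf 0x6019863bd6024)) (.node (.leaf 0x4420f318cd558) (.leaf 0x7ad02b6273b34))))) (.node (.node (.node (.node (.leaf 55811784) (.leaf 0x4f02fbe7f0769)) (.node (.leaf 0x40009424d48e2) (.leaf 0x6a88e5e1c1af9))) (.node (.node (.leaf 0x1bd80fe7690c3) (.leaf 0x5c0691b9986aa))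 (.node (.leaf 0x4261f36052e2b) (.leaf 0x77cc5736481d5)))) (.node (.node (.node (.leaf 0x46f82d4a04cf) (.leaf 0x550218eb9913f)) (.node (.leaf 0x401da59f4559b) (.leaf 0x7158e5d5825cf))) (.node (.node (.leaf 0x3494adc3a58cd) (.leaf 0x6360afd848b11)) (.node (.leaf 0x4552b98628221) (.leaf 0x7e610b6793669)))))) (.node (.node (.node (.node (.node (.leaf 47867187) (.leaf 0x4c028dd01af26)) (.node (.leaf 0x400085a48d52c) (.leaf 0x67ae2eb4498ab))) (.node (.node (.leaf 0x17df43bf4f581) (.leaf 0x5aa323d553a1a)) (.node (.leaf 0x41596110775cb) (.leaf 0x761125afc7e8f)))) (.node (.node (.node (.leaf 0x17b5dc8a9789) (.leaf 0x5360ad199dd8b)) (.node (.leaf 0x40016d1b40001) (.leaf 0x7017923855839))) (.node (.node (.leaf 0x301d33be17c22) (.leaf 0x62043498e3d8f)) (.node (.leaf 0x45004b89a5578) (.leaf 0x7c9a4d1f9bfe5))))) (.node (.node (.node (.node (.leaf 64193296) (.leaf 0x50443df4d31ab)) (.node (.leaf 0x4000a12d7661d) (.leaf 0x6c0915b0950dd))) (.node (.node (.leaf 0x229f11ad41867)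 (.leaf 0x5e46cdc1318dd)) (.node (.leaf 0x4340ee604b9bd) (.leaf 0x799a904fb61de)))) (.node (.node (.node (.leaf 0x8a6ea74bc999) (.leaf 0x57537bedbcd53)) (.node (.leaf 0x406bae94a9c54) (.leaf 0x7312716e6ba13))) (.node (.node (.leaf 0x3891e2c3dbac7) (.leaf 0x64971eb6a9acd)) (.node (.leaf 0x48810db713790) (.leaf 0x7f8a4f2aa3914))))))))

/-- Part of `colSrt`. -/
def colSrt_p100 : Tr := .node (.node (.node (.node (.node (.node (.node (.node (.node (.leaf 33697967) (.leaf 0x7f95d15e76a8e)) (.leaf 0x488faa8ff1473)) (.node (.leaf 0x3a58f6930c10d) (.leaf 0x64b267d22ce35))) (.node (.node (.leaf 0x8ea5225eba2d) (.leaf 0x575ea80b5c977)) (.node (.leaf 0x406f13879abff) (.leaf 0x737c040203ab5)))) (.node (.node (.node (.leaf 65328385) (.leaf 0x50501012bf2cb)) (.node (.leaf 0x4000a1fc2a9cf) (.leaf 0x6c1f54434e599))) (.node (.node (.leaf 0x229f11ad5b8c7) (.leaf 0x5e51efa9fab35)) (.node (.leaf 0x4345b0f1e0fd9) (.leaf 0x79eb138213d06))))) (.node (.node (.node (.node (.leaf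 48342671) (.leaf 0x4c0fd89f232fb)) (.node (.leaf 0x400086c464255) (.leaf 0x67b2e6ee3a180))) (.node (.node (.leaf 0x17df43bf505d5) (.leaf 0x5abd699497b2b)) (.node (.leaf 0x415d1f004ae8f) (.leaf 0x767e8e82264c1)))) (.node (.node (.node (.leaf 0x2215dd4f2841) (.leaf 0x537db2c5f9241)) (.node (.leaf 0x4002f0fec987a) (.leaf 0x7065d2cefbe68))) (.node (.node (.leaf 0x3087e8769745b) (.leaf 0x6218fc0f263f3)) (.node (.leaf 0x450b78c0c57c1) (.leaf 0x7ce1d16716d7f)))))) (.node (.node (.node (.node (.node (.leaf 40130364) (.leaf 0x4a47db49dba9b)) (.node (.leaf 0x3e70943b7e4cd) (.leaf 0x66d7443f0ee23))) (.node (.node (.leaf 0x114541c9f90f7) (.leaf 0x593a4a8466ef3)) (.node (.leaf 0x409c09fc509d3) (.leaf 0x74ffc72c01fdb)))) (.node (.node (.node (.leaf 0x6f5fc196cd3) (.leaf 0x51da9e11972b6)) (.node (.leaf 0x4000b4fda2c0f) (.leaf 0x6ec76baf3391b))) (.node (.node (.leaf 0x27b216ee6a349) (.leaf 0x60263eacca01b)) (.node (.leaf 0x442fa072726ed) (.leaf 0x7adfb66ab8841))))) (.node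 (.node (.node (.node (.leaf 56677794) (.leaf 0x4f0d66f6d590f)) (.node (.leaf 0x400094dde9c4f) (.leaf 0x6a9b3af54daf3))) (.node (.node (.leaf 0x1dbc565929267) (.leaf 0x5c19605890e81)) (.node (.leaf 0x42659c30e6bb3) (.leaf 0x77de5709b3505)))) (.node (.node (.node (.leaf 0x46f82d4a3ccf) (.leaf 0x551e813f4d25d)) (.node (.leaf 0x401e643806ee8) (.leaf 0x71a7f1d69fe81))) (.node (.node (.leaf 0x3494adc3bf84b) (.leaf 0x637db87b231bf)) (.node (.leaf 0x455d249fa5cca) (.leaf 0x7e70f93ce9220))))))) (.node (.node (.node (.node (.node (.node (.leaf 37878567) (.leaf 0x48ee5af7b1389)) (.node (.leaf 0x3bd0a93632ae1) (.leaf 0x65f2d978c4f6a))) (.node (.node (.leaf 0xf0aca50600d3) (.leaf 0x584dd983ad646)) (.node (.leaf 0x408c2754ec4ad) (.leaf 0x7415796e48be6)))) (.node (.node (.node (.leaf 0x1cec554002b) (.leaf 0x514950c05841f)) (.node (.leaf 0x4000aaf485c83) (.leaf 0x6d970a3430ddf))) (.node (.node (.leaf 0x240706921f529) (.leaf 0x5f7db688789d5)) (.node (.leaf 0x43ddd54dbf23a)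 (.leaf 0x7a49649e282d1))))) (.node (.node (.node (.node (.leaf 52566791) (.leaf 0x4c9f08566eeb9)) (.node (.leaf 0x40008db124021) (.leaf 0x68bf66a669e73))) (.node (.node (.leaf 0x1b4d2a6704777) (.leaf 0x5b5b7175d1a2b)) (.node (.leaf 0x4204e27bdb8b6) (.leaf 0x7730fab27df89)))) (.node (.node (.node (.leaf 0x2eec9001b6be) (.leaf 0x5417d32a8b8da)) (.node (.leaf 0x400fc84f646bb) (.leaf 0x70eca8494a0cd))) (.node (.node (.leaf 0x32c6f6eb1e0e9) (.leaf 0x62a62de2101b5)) (.node (.leaf 0x45334a2e64654) (.leaf 0x7d91a19491f8b)))))) (.node (.node (.node (.node (.node (.leaf 44208434) (.leaf 0x4aae783af159e)) (.node (.leaf 0x3fe1f213f4832) (.leaf 0x67254fae4da05))) (.node (.node (.leaf 0x1261c234ea961) (.leaf 0x59eb834e312ac)) (.node (.leaf 0x4125b5c981b03) (.leaf 0x75a9894e567e7)))) (.node (.node (.node (.leaf 0x15dfdc012484) (.leaf 0x52ee677fffd87)) (.node (.leaf 0x4000bbc2a6ee7) (.leaf 0x6fd194e9f0c63))) (.node (.node (.leaf 0x2ed31ac1cbc00) (.leaf 0x6165b974d2b69))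 (.node (.leaf 0x445bd77d942df) (.leaf 0x7bc112bb93e7c))))) (.node (.node (.node (.node (.leaf 60827507) (.leaf 0x4f9fc0d61f0ea)) (.node (.leaf 0x40009b6f422ef) (.leaf 0x6b3ea45c47f6e))) (.node (.node (.leaf 0x2164863d9ddbb) (.leaf 0x5d7da1a1e8550)) (.node (.leaf 0x42ea4fd175a85) (.leaf 0x78e1ec51b86e7)))) (.node (.node (.node (.leaf 0x55c6c142e0cb) (.leaf 0x565f5d9a6ebe1)) (.node (.leaf 0x404568af59863) (.leaf 0x725dfb86db16f))) (.node (.node (.leaf 0x37b0623f2289b) (.leaf 0x64186fc375586)) (.node (.leaf 0x48264d39fc1e3) (.leaf 0x7f0a9c97a886a)))))))) (.node (.node (.node (.node (.node (.node (.node (.node (.leaf 35741392) (.leaf 0x7fffd9cfe18a3)) (.leaf 0x48c65797f7df9)) (.node (.leaf 0x3ac1b0be1bc77) (.leaf 0x6564246fbe618))) (.node (.node (.leaf 0xaa32b85c770f) (.leaf 0x57d7fb8af94cf)) (.node (.leaf 0x40865d1a0211c) (.leaf 0x73e6e2cb16ce7)))) (.node (.node (.node (.leaf 0xf94c8e0001) (.leaf 0x50df87a3997e2)) (.node (.leaf 0x4000a6d0b2731) (.leaf 0x6d1aaa9c262ff)))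 (.node (.node (.leaf 0x24005f760af3f) (.leaf 0x5ed9b1597e3a3)) (.node (.leaf 0x4395d897c409f) (.leaf 0x7a29a49f67959))))) (.node (.node (.node (.node (.leaf 50393857) (.leaf 0x4c4f60386d9c6)) (.node (.leaf 0x40008af7c625d) (.leaf 0x683ecf2314aa8))) (.node (.node (.leaf 0x180dc7cb0b36f) (.leaf 0x5b12343fd61e5)) (.node (.leaf 0x417a4fd137aa9) (.leaf 0x76e96e6f9af37)))) (.node (.node (.node (.leaf 0x26558713d62f) (.leaf 0x53bfacc9f222d)) (.node (.leaf 0x400891b520001) (.leaf 0x708d5bf0d4255))) (.node (.node (.leaf 0x31b072ffa36d5) (.leaf 0x623b3337117e5)) (.node (.leaf 0x4523a6408a11c) (.leaf 0x7d649ef62cc8e)))))) (.node (.node (.node (.node (.node (.leaf 42056342) (.leaf 0x4a6f0f99ce8dd)) (.node (.leaf 0x3f74bd1388ea1) (.leaf 0x66f2585953a5c))) (.node (.node (.leaf 0x11de11d1a27ad) (.leaf 0x597b984cbc6a1)) (.node (.leaf 0x410479388a72d) (.leaf 0x7546eac6155da)))) (.node (.node (.node (.leaf 0x8f6a61e7f57) (.leaf 0x5279bbaab34a8)) (.node (.leaf 0x4000b88f3567f)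 (.leaf 0x6ef6913c73755))) (.node (.node (.leaf 0x2bba52fef6ec9) (.leaf 0x60bf5eaaf749b)) (.node (.leaf 0x444826689b309) (.leaf 0x7b52d8816dcf4))))) (.node (.node (.node (.node (.leaf 58886830) (.leaf 0x4f4fbbee418c4)) (.node (.leaf 0x400098b2c1dbc) (.leaf 0x6abe3ec3dc9c0))) (.node (.node (.leaf 0x1dbd3b40d7827) (.leaf 0x5d2f26f437283)) (.node (.leaf 0x42a636406ba1d) (.leaf 0x787814d617e95)))) (.node (.node (.node (.leaf 0x55abef9097fb) (.leaf 0x559eada518e05)) (.node (.leaf 0x4022820aa0fcf) (.leaf 0x71de88c72b2d8))) (.node (.node (.leaf 0x35a2ec02abd47) (.leaf 0x63df765860118)) (.node (.leaf 0x457d1c5dcbe2a) (.leaf 0x7ee08a1769e0b))))))) (.node (.node (.node (.node (.node (.node (.leaf 38838667) (.leaf 0x4a270951ee52e)) (.node (.leaf 0x3df4774be309b) (.leaf 0x66626e9497ff2))) (.node (.node (.leaf 0xf0f85507ad23) (.leaf 0x589db1f75cf95)) (.node (.leaf 0x40923229cbbd2) (.leaf 0x74868ae2b0017)))) (.node (.node (.node (.leaf 0x65840973291) (.leaf 0x5193e3643ce86))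 (.node (.leaf 0x4000b14f6120f) (.leaf 0x6e4f3d3c82905))) (.node (.node (.leaf 0x2727f8673a3db) (.leaf 0x5ff927099400e)) (.node (.leaf 0x440b6edecf355) (.leaf 0x7ab5bfb22caed))))) (.node (.node (.node (.node (.leaf 55074176) (.leaf 0x4cdf01d1f6981)) (.node (.leaf 0x400091f5105bd) (.leaf 0x69be808c8e781))) (.node (.node (.leaf 0x1b9d6b8b0d989) (.leaf 0x5bc6fdae30b66)) (.node (.leaf 0x4241c782b50c3) (.leaf 0x77b4812321ad5)))) (.node (.node (.node (.leaf 0x45975b5705e1) (.leaf 0x549fb2c3e7265)) (.node (.leaf 0x401798880653d) (.leaf 0x71321f432a953))) (.node (.node (.leaf 0x34118b3a69619) (.leaf 0x63434063a9931)) (.node (.leaf 0x4545b5fc8122f) (.leaf 0x7dffcefdfbadf)))))) (.node (.node (.node (.node (.node (.leaf 47273297) (.leaf 0x4acf8b9a49565)) (.node (.leaf 0x4000838938f51) (.leaf 0x6795a0dbe5fe1))) (.node (.node (.leaf 0x17da9b366ec9c) (.leaf 0x5a36426c91e17)) (.node (.leaf 0x41440fdc3fb81) (.leaf 0x75cddaf9216d3)))) (.node (.node (.node (.leaf 0x16548b0cf371)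 (.leaf 0x532c15f23bad7)) (.node (.leaf 0x4000bef70b3f1) (.leaf 0x6ff6a950bce0b))) (.node (.node (.leaf 0x2ed7e1d1113f9) (.leaf 0x61e6ecfaa0001)) (.node (.leaf 0x4471e6947d569) (.leaf 0x7c74b8a6efdf0))))) (.node (.node (.node (.node (.leaf 62961726) (.leaf 0x4fdfd7c1c6b1a)) (.node (.leaf 0x40009ecdcde04) (.leaf 0x6bab26521109c))) (.node (.node (.leaf 0x22255999a8b3d) (.leaf 0x5df91da4898e5)) (.node (.leaf 0x43051157e4313) (.leaf 0x797dd9efab9f5)))) (.node (.node (.node (.leaf 0x86f921514d36) (.leaf 0x571a3f8f2b75f)) (.node (.leaf 0x4064218d784f5) (.leaf 0x72c8de1a6e403))) (.node (.node (.leaf 0x388406fbf5499) (.leaf 0x6439f0faf48ce)) (.node (.leaf 0x4863ab1db743d) (.leaf 0x7f6a9f1ed1a83))))))))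

/-- Part of `colSrt`. -/
def colSrt_p101 : Tr := .node (.node (.node (.node (.node (.node (.node (.node (.node (.leaf 34827027) (.leaf 0x7fee1555e0b39)) (.leaf 0x48aacd75b3634)) (.node (.leaf 0x3ac1b0be01f0b) (.leaf 0x655a160416d3f))) (.node (.node (.leaf 0x8ea5225ffc6d) (.leaf 0x579fc89b220db)) (.node (.leaf 0x4082d79940001) (.leaf 0x73950a8697b99)))) (.node (.node (.node (.leaf 66338036) (.leaf 0x509e5a8f776cb)) (.node (.leaf 0x4000a3c8e18c1) (.leaf 0x6c97325f5eec5))) (.node (.node (.leaf 0x22bb8d88d37f5) (.leaf 0x5e9d02a5f3a91)) (.node (.leaf 0x4365da5ed7743) (.leaf 0x79ff150e23863))))) (.node (.node (.node (.node (.leaf 49639006) (.leaf 0x4c2fab317f545)) (.node (.leaf 0x400088a5d60bf) (.leaf 0x681a6d5efb96a))) (.node (.node (.leaf 0x180087266a1a8) (.leaf 0x5af80128b9a03)) (.node (.leaf 0x41650877405e3) (.leaf 0x76942edf24f6a)))) (.node (.node (.node (.leaf 0x26558712c38b) (.leaf 0x53af407960393)) (.node (.leaf 0x4004fb15a0001) (.leaf 0x7076955669720)))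 (.node (.node (.leaf 0x31397023aeae1) (.leaf 0x62260408bc487)) (.node (.leaf 0x451e9bd477343) (.leaf 0x7cffd88e36287)))))) (.node (.node (.node (.node (.node (.leaf 41203756) (.leaf 0x4a4f7c3c268bd)) (.node (.leaf 0x3ef1384b8ce95) (.leaf 0x66eecc8464b84))) (.node (.node (.leaf 0x119fc16c96ff1) (.leaf 0x5968e0c8e9879)) (.node (.leaf 0x409fc847ac4b3) (.leaf 0x752dd10746968)))) (.node (.node (.node (.leaf 0x836a9dc0039) (.leaf 0x522c3311a98ff)) (.node (.leaf 0x4000b6cf2e9a8) (.leaf 0x6ee763605f327))) (.node (.node (.leaf 0x27b216ee791a5) (.leaf 0x603ec38cae33b)) (.node (.leaf 0x443ebbd89619b) (.leaf 0x7b3d85982ea09))))) (.node (.node (.node (.node (.leaf 57934082) (.leaf 0x4f2f70e712e06)) (.node (.leaf 0x400096fc000be) (.leaf 0x6aac3be6d5149))) (.node (.node (.leaf 0x1dbd3b40c0001) (.leaf 0x5c9d380f0e27f)) (.node (.leaf 0x428597d358155) (.leaf 0x78133d960a93d)))) (.node (.node (.node (.leaf 0x47a9225a9d7f) (.leaf 0x555fdf6be8b60)) (.node (.leaf 0x401fb3a8e4fee)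 (.leaf 0x71be94908926d))) (.node (.node (.leaf 0x35343ee75310f) (.leaf 0x63c3bed35b8a1)) (.node (.leaf 0x456f1e016e8dd) (.leaf 0x7e94fe5562613))))))) (.node (.node (.node (.node (.node (.node (.leaf 38356805) (.leaf 0x4a0e265864d47)) (.node (.leaf 0x3de04d3244b7d) (.leaf 0x665ce5d509ee9))) (.node (.node (.leaf 0xf0f855060001) (.leaf 0x588f8965b7531)) (.node (.leaf 0x408f85a88ded3) (.leaf 0x747017159af70)))) (.node (.node (.node (.leaf 0x1f786187f7b) (.leaf 0x515d6aa561789)) (.node (.leaf 0x4000add9dbe50) (.leaf 0x6db6ee98b225b))) (.node (.node (.leaf 0x270588f7f11df) (.leaf 0x5fbd94f7b82b5)) (.node (.leaf 0x43ffc8561769d) (.leaf 0x7aa565005e8fb))))) (.node (.node (.node (.node (.leaf 53555478) (.leaf 0x4cbf0088d06a8)) (.node (.leaf 0x40008f602b57f) (.leaf 0x693fe0258780e))) (.node (.node (.leaf 0x1b4d2a671649d) (.leaf 0x5b95621a468af)) (.node (.leaf 0x4224535b803ad) (.leaf 0x775594d6ee580)))) (.node (.node (.node (.leaf 0x44b4d3995858) (.leaf 0x545bf16325832))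 (.node (.leaf 0x40123886ef691) (.leaf 0x70ffd9cfff517))) (.node (.node (.leaf 0x32d0b9f6afe0f) (.leaf 0x62ba9f48af276)) (.node (.leaf 0x453f4ac31a375) (.leaf 0x7deb28123c7fb)))))) (.node (.node (.node (.node (.node (.leaf 45196756) (.leaf 0x4ac713ed52960)) (.node (.leaf 0x40008051c4cb0) (.leaf 0x673be43d082d2))) (.node (.node (.leaf 0x12683e90a30c7) (.leaf 0x59f8fbca64c7c)) (.node (.leaf 0x41379a9781393) (.leaf 0x75bf6cfb2be90)))) (.node (.node (.node (.leaf 0x15dfdc01c802) (.leaf 0x52ff7cd08c9f3)) (.node (.leaf 0x4000bdbc348c7) (.leaf 0x6fe5734539528))) (.node (.node (.leaf 0x2ed7e1d100001) (.leaf 0x617d641b964c9)) (.node (.leaf 0x446cfd14f0ca3) (.leaf 0x7bdf66c50021b))))) (.node (.node (.node (.node (.leaf 61919042) (.leaf 0x4fbfc65968581)) (.node (.leaf 0x40009df5e27a5) (.leaf 0x6b9adcda8a319))) (.node (.node (.leaf 0x2206db01cb87f) (.leaf 0x5db125bdfbc9d)) (.node (.leaf 0x42eed1d058515) (.leaf 0x78ffd6b4e27f7)))) (.node (.node (.node (.leaf 0x82ed9f152771)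 (.leaf 0x56ded90cff05f)) (.node (.leaf 0x404dd5535ecc3) (.leaf 0x72b031a0ac8a1))) (.node (.node (.leaf 0x37b0623f3fcbb) (.leaf 0x6420ff270a321)) (.node (.leaf 0x4844801ae329f) (.leaf 0x7f1aa03d550dd)))))))) (.node (.node (.node (.node (.node (.node (.node (.leaf 36810756) (.leaf 0x48e2cbbc9d4d7)) (.node (.leaf 0x3b5d28baf31d5) (.leaf 0x657d7af3cfce7))) (.node (.node (.leaf 0xaaa6da00563f) (.leaf 0x581fe89512efb)) (.node (.leaf 0x4089dbda4ffc9) (.leaf 0x73ffc916f60c1)))) (.node (.node (.node (.leaf 0xf94c8e18d5) (.leaf 0x5110bfe7c9ac7)) (.node (.leaf 0x4000a8bfca1a8) (.leaf 0x6d3ffae967f75))) (.node (.node (.leaf 0x2407069204837) (.leaf 0x5f3da18e73008)) (.node (.leaf 0x43b7c58c4c439) (.leaf 0x7a397e3c536fd))))) (.node (.node (.node (.node (.leaf 51515807) (.leaf 0x4c6f139611ced)) (.node (.leaf 0x40008bcea3d69) (.leaf 0x689f700245fbf))) (.node (.node (.leaf 0x1b05996f29d7f) (.leaf 0x5b459e36c980f)) (.node (.leaf 0x417b94804659e) (.leaf 0x76ff0496c20b6))))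 (.node (.node (.node (.leaf 0x2a736c932a79) (.leaf 0x53fe6e2c2984b)) (.node (.leaf 0x400c2dfc20001) (.leaf 0x709fca8fc4d35))) (.node (.node (.leaf 0x31b072ffbea73) (.leaf 0x629c7ca5aa01a)) (.node (.leaf 0x452fa6adf442b) (.leaf 0x7d7b72e302993)))))) (.node (.node (.node (.node (.node (.leaf 43206399) (.leaf 0x4a8dfab91c7ec)) (.node (.leaf 0x3fe1f213e0132) (.leaf 0x6718214c7f794))) (.node (.node (.leaf 0x11de11d1be165) (.leaf 0x59bd9d3655463)) (.node (.leaf 0x4115ac0498b00) (.leaf 0x7555bf91cc62c)))) (.node (.node (.node (.leaf 0x144c91c73d8f) (.leaf 0x52beb3b54be2b)) (.node (.leaf 0x4000ba6361307) (.leaf 0x6f7f94347c62f))) (.node (.node (.leaf 0x2bbf537ef6dc9) (.leaf 0x6145f4e43166b)) (.node (.leaf 0x4456978ef870b) (.leaf 0x7bb491fa352b7))))) (.node (.node (.node (.node (.leaf 60020727) (.leaf 0x4f9774e08fcc0)) (.node (.leaf 0x40009a47c8711) (.leaf 0x6b2a46fe83a0d))) (.node (.node (.leaf 0x21622c90b4e40) (.leaf 0x5d3da837a2045)) (.node (.leaf 0x42c9cd4599ad4)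 (.leaf 0x78905e171d779)))) (.node (.node (.node (.leaf 0x55c6c1423215) (.leaf 0x55dea353bb8b1)) (.node (.leaf 0x4027c592ec087) (.leaf 0x724bbd829774a))) (.node (.node (.leaf 0x37a7fabae65dd) (.leaf 0x63fbf97c614db)) (.node (.leaf 0x480e2087bd219) (.leaf 0x7effdf6505a93))))))) (.node (.node (.node (.node (.node (.node (.leaf 39430155) (.leaf 0x4a2e54add5ce5)) (.node (.leaf 0x3df4774bff67d) (.leaf 0x667ede4e31de3))) (.node (.node (.leaf 0x11094fc975791) (.leaf 0x58d8d70b6d0ca)) (.node (.leaf 0x409766f8e5e64) (.leaf 0x749e3cb9c72da)))) (.node (.node (.node (.leaf 0x6f5fc192c57) (.leaf 0x51c621bd2cbf7)) (.node (.leaf 0x4000b3a34b011) (.leaf 0x6e6f69ad0ce03))) (.node (.node (.leaf 0x2797711aadaf5) (.leaf 0x6018206f937c5)) (.node (.leaf 0x441f684e7742b) (.leaf 0x7acf88eb634cd))))) (.node (.node (.node (.node (.leaf 55704361) (.leaf 0x4cfcc41070b65)) (.node (.leaf 0x400093c3ab034) (.leaf 0x6a3ab49365c6b))) (.node (.node (.leaf 0x1bd80fe766f5f) (.leaf 0x5bd82de7623c6))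 (.node (.leaf 0x4261a0bc6a77f) (.leaf 0x77c75559ea74b)))) (.node (.node (.node (.leaf 0x45975b57d47f) (.leaf 0x54dfbc37c5dcd)) (.node (.leaf 0x401c115c2d509) (.leaf 0x715305747ddee))) (.node (.node (.leaf 0x3494adc3a362b) (.leaf 0x635f88e89209e)) (.node (.leaf 0x454d0808dd33e) (.leaf 0x7e1fa425d412f)))))) (.node (.node (.node (.node (.node (.leaf 47716946) (.leaf 0x4aee6f386f7d7)) (.node (.leaf 0x4000856185598) (.leaf 0x67ac4d6eb8dc1))) (.node (.node (.leaf 0x17df43bf41a47) (.leaf 0x5a7ed0bc59a02)) (.node (.leaf 0x415914457b2b9) (.leaf 0x75de94ab90f33)))) (.node (.node (.node (.leaf 0x17b5dc8a970d) (.leaf 0x533cf942a9b79)) (.node (.leaf 0x4001239981a47) (.leaf 0x700f0347e077f))) (.node (.node (.leaf 0x301d33be16c5a) (.leaf 0x61ffaf89afeaf)) (.node (.leaf 0x447bdfa782aee) (.leaf 0x7c908fde0e039))))) (.node (.node (.node (.node (.leaf 64087159) (.leaf 0x501c3752b76df)) (.node (.leaf 0x4000a04811763) (.leaf 0x6bbdf1da9d497))) (.node (.node (.leaf 0x22255999beb3d)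 (.leaf 0x5e1979311bd53)) (.node (.leaf 0x43257bf8f2388) (.leaf 0x79917047c4f6d)))) (.node (.node (.node (.leaf 0x8a6ea74b836f) (.leaf 0x574fb3bf674f1)) (.node (.leaf 0x406b75429b9cf) (.leaf 0x72de981e2220e))) (.node (.node (.leaf 0x3891e2c3d005f) (.leaf 0x64905c52aee49)) (.node (.leaf 0x486d0f79c38f1) (.leaf 0x7f85c03b8390f))))))))

/-- Part of `colSrt`. -/
def colSrt_p110 : Tr := .node (.node (.node (.node (.node (.node (.node (.node (.node (.leaf 34290215) (.leaf 0x7f9a954e17f92)) (.leaf 0x48a5b3d0ea688)) (.node (.leaf 0x3a58f6931519b) (.leaf 0x6542c26c5f858))) (.node (.node (.leaf 0x8ea5225fdee5) (.leaf 0x5797ce6700a38)) (.node (.leaf 0x4081dd382a185) (.leaf 0x7388636e03b74)))) (.node (.node (.node (.leaf 65556339) (.leaf 0x5086cbfa137f5)) (.node (.leaf 0x4000a2adf8e1f) (.leaf 0x6c86370898211))) (.node (.node (.leaf 0x22bb8d88c7839) (.leaf 0x5e94de3c494da)) (.node (.leaf 0x43613fc838f47) (.leaf 0x79f5cd4636983))))) (.node (.node (.node (.node (.leaf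 48848696) (.leaf 0x4c28e33c73601)) (.node (.leaf 0x400087f1df453) (.leaf 0x680df9bf42cfc))) (.node (.node (.leaf 0x1800872661846) (.leaf 0x5ae7b0a3cb3f0)) (.node (.leaf 0x41646569496c1) (.leaf 0x7687efcaa87c5)))) (.node (.node (.node (.leaf 0x2215dd4f2a41) (.leaf 0x53a746887dac9)) (.node (.leaf 0x4004221b61a47) (.leaf 0x706fcbd66abc5))) (.node (.node (.leaf 0x3087e87698e97) (.leaf 0x621b399063d86)) (.node (.leaf 0x4517f1b018761) (.leaf 0x7cf5d14e6e3bb)))))) (.node (.node (.node (.node (.node (.leaf 40691932) (.leaf 0x4a4bc06c58b11)) (.node (.leaf 0x3ef1384b808b7) (.leaf 0x66ed75649851b))) (.node (.node (.leaf 0x114541c9feab1) (.leaf 0x5964dfe0cd447)) (.node (.leaf 0x409dbd30646b1) (.leaf 0x75262ac75b400)))) (.node (.node (.node (.leaf 0x836a9dc0021) (.leaf 0x5225ef2c857ab)) (.node (.leaf 0x4000b5daf0667) (.leaf 0x6ed4aabdffe57))) (.node (.node (.leaf 0x27b216ee6f6ed) (.leaf 0x603808820e0a2)) (.node (.leaf 0x4438194d880cd) (.leaf 0x7b33c2a7e8e64))))) (.node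 (.node (.node (.node (.leaf 57414037) (.leaf 0x4f2a3ea6986ef)) (.node (.leaf 0x40009574d76b3) (.leaf 0x6a9e347df028e))) (.node (.node (.leaf 0x1dbc565929329) (.leaf 0x5c8f85db86bb0)) (.node (.leaf 0x4281e9df602ad) (.leaf 0x780cdd536125c)))) (.node (.node (.node (.leaf 0x47a9225a5b39) (.leaf 0x55537d2e17171)) (.node (.leaf 0x401f09260fd4e) (.leaf 0x71b57eb1416c6))) (.node (.node (.leaf 0x35343ee74a18b) (.leaf 0x63c1a82e0c0fe)) (.node (.leaf 0x4565df480f96d) (.leaf 0x7e7eb68aebe3d))))))) (.node (.node (.node (.node (.node (.node (.leaf 38035826) (.leaf 0x4a04eec8c2110)) (.node (.leaf 0x3bd0a9363d799) (.leaf 0x66426642a3c9d))) (.node (.node (.leaf 0xf0aca5061a47) (.leaf 0x5882f6406dd5f)) (.node (.leaf 0x408f09266ffcf) (.leaf 0x741f405547409)))) (.node (.node (.node (.leaf 0x1f786187f45) (.leaf 0x5155d9bf6955d)) (.node (.leaf 0x4000acad6eb43) (.leaf 0x6db04c19c3c85))) (.node (.node (.leaf 0x270588f7eca29) (.leaf 0x5fb4d0e0f743c)) (.node (.leaf 0x43fbd909c07cd)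 (.leaf 0x7a595a065c9c7))))) (.node (.node (.node (.node (.leaf 52991209) (.leaf 0x4cb85385d5660)) (.node (.leaf 0x40008edcfdd85) (.leaf 0x692d7897c8c85))) (.node (.node (.leaf 0x1b4d2a670c257) (.leaf 0x5b82fa84bd8db)) (.node (.leaf 0x4220fad166f93) (.leaf 0x773bf047bb802)))) (.node (.node (.node (.leaf 0x2eec9001f732) (.leaf 0x544a0337a1cd9)) (.node (.leaf 0x401151a54bbfb) (.leaf 0x70f5c0dfc2401))) (.node (.node (.leaf 0x32d0b9f6a01ab) (.leaf 0x62b8c2d171a42)) (.node (.leaf 0x453d12b4205e5) (.leaf 0x7d9a9ce2dbb34)))))) (.node (.node (.node (.node (.node (.leaf 44818031) (.leaf 0x4ac3997fe4b71)) (.node (.leaf 0x40004e8780001) (.leaf 0x6739a336b533f))) (.node (.node (.leaf 0x12683e90a08fb) (.leaf 0x59f4c4fbaed45)) (.node (.leaf 0x4133eedb5c37f) (.leaf 0x75b49733ffb6b)))) (.node (.node (.node (.leaf 0x15dfdc0127de) (.leaf 0x52f680a59e395)) (.node (.leaf 0x4000bc864951f) (.leaf 0x6fd74dfefe213))) (.node (.node (.leaf 0x2ed31ac1d0a3e) (.leaf 0x617bf8be18a85))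 (.node (.leaf 0x446501aedb6f7) (.leaf 0x7bd10473217cf))))) (.node (.node (.node (.node (.leaf 61533706) (.leaf 0x4fb6a5ec6adc7)) (.node (.leaf 0x40009ca5c5f41) (.leaf 0x6b8af5df7c13d))) (.node (.node (.leaf 0x2164863d9ff1b) (.leaf 0x5daf30c734bc7)) (.node (.leaf 0x42ee3b81cc893) (.leaf 0x78f5cb9e09041)))) (.node (.node (.node (.leaf 0x82ed9f1515f1) (.leaf 0x56cfeb2cbc0f7)) (.node (.leaf 0x4049de08bdc59) (.leaf 0x72a78b823e555))) (.node (.node (.leaf 0x37b0623f299d7) (.leaf 0x641f483cd02f3)) (.node (.leaf 0x482db6950bceb) (.leaf 0x7f15c9f37a377)))))))) (.node (.node (.node (.node (.node (.node (.node (.leaf 36197788) (.leaf 0x48cdbd7e3b385)) (.node (.leaf 0x3b5d28baed1db) (.leaf 0x657bf2a2dc307))) (.node (.node (.leaf 0xaaa6da00001b) (.leaf 0x580dd013fe2df)) (.node (.leaf 0x4087d61c76cc8) (.leaf 0x73f50bd73bfce)))) (.node (.node (.node (.leaf 0xf94c8e0013) (.leaf 0x51055bc9777f1)) (.node (.leaf 0x4000a7a45eae3) (.leaf 0x6d2bfac0124ef))) (.node (.node (.leaf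 0x24005f7616495) (.leaf 0x5f34f7918def7)) (.node (.leaf 0x43b3fd91985f3) (.leaf 0x7a37d268cb8fb))))) (.node (.node (.node (.node (.leaf 50987212) (.leaf 0x4c69add19455a)) (.node (.leaf 0x40008b5983cae) (.leaf 0x68980153771fa))) (.node (.node (.leaf 0x180dc7cb1266b) (.leaf 0x5b1ab1e5f4005)) (.node (.leaf 0x417b22cf3e98f) (.leaf 0x76f5dcded7302)))) (.node (.node (.node (.leaf 0x2a736c932869) (.leaf 0x53e773724e71b)) (.node (.leaf 0x400b740c0e592) (.leaf 0x7095d15e30569))) (.node (.node (.leaf 0x31b072ffa8d11) (.leaf 0x6281127a54991)) (.node (.leaf 0x452dda10e961f) (.leaf 0x7d707816e2b39)))))) (.node (.node (.node (.node (.node (.leaf 42529807) (.leaf 0x4a85474db33ed)) (.node (.leaf 0x3f74bd1395035) (.leaf 0x67072aee507e9))) (.node (.node (.leaf 0x11de11d1bb415) (.leaf 0x59a3bb4d96649)) (.node (.leaf 0x41147fd65a287) (.leaf 0x754d0097a60b0)))) (.node (.node (.node (.leaf 0x8f6a61f6cef) (.leaf 0x52a78a38ecaac)) (.node (.leaf 0x4000b9adf1dbd) (.leaf 0x6f5ad9098462c)))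 (.node (.node (.leaf 0x2bbf537ee0001) (.leaf 0x614374802019f)) (.node (.leaf 0x444a252b798eb) (.leaf 0x7b5c973fe0da7))))) (.node (.node (.node (.node (.leaf 59260916) (.leaf 0x4f922031dfed6)) (.node (.leaf 0x400099fa5db42) (.leaf 0x6b0f293f454eb))) (.node (.node (.leaf 0x21622c90a876c) (.leaf 0x5d3133891855c)) (.node (.leaf 0x42a70fc19bae1) (.leaf 0x788eb148fb28e)))) (.node (.node (.node (.leaf 0x55abef90c1fd) (.leaf 0x55d7d0d64599a)) (.node (.leaf 0x4026529012a28) (.leaf 0x723946320bbfd))) (.node (.node (.leaf 0x35a2ec02bf7cf) (.leaf 0x63e77004144ce)) (.node (.leaf 0x48043da5fe506) (.leaf 0x7ef16a8c0f73c))))))) (.node (.node (.node (.node (.node (.node (.leaf 39139660) (.leaf 0x4a2ae9bc00df3)) (.node (.leaf 0x3df4774bf767f) (.leaf 0x667d67b723e59))) (.node (.node (.leaf 0x11094fc973b17) (.leaf 0x58c6f17200e39)) (.node (.leaf 0x4095138f0c4a1) (.leaf 0x74905f4e6eef3)))) (.node (.node (.node (.leaf 0x65840973611) (.leaf 0x519b433d790df)) (.node (.leaf 0x4000b2a55f277)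 (.leaf 0x6e5f3bce08b61))) (.node (.node (.leaf 0x2727f8673f655) (.leaf 0x6001223fca41d)) (.node (.leaf 0x4419e00145a77) (.leaf 0x7abb013a03bb6))))) (.node (.node (.node (.node (.leaf 55428487) (.leaf 0x4cf390d89907b)) (.node (.leaf 0x400092822443b) (.leaf 0x6a1e0ae7bc62f))) (.node (.node (.leaf 0x1bd80fe76207d) (.leaf 0x5bd02a3f0a29b)) (.node (.leaf 0x42456f580cd4b) (.leaf 0x77bfbd0dc55e0)))) (.node (.node (.node (.leaf 0x45975b57b6b5) (.leaf 0x54d2feb60efb3)) (.node (.leaf 0x40187d14ebbd1) (.leaf 0x713c586d40cb3))) (.node (.node (.leaf 0x34118b3a73693) (.leaf 0x635d9ed877bbc)) (.node (.leaf 0x454bc13c06af5) (.leaf 0x7e11095504e17)))))) (.node (.node (.node (.node (.node (.leaf 47502724) (.leaf 0x4ae705548e65f)) (.node (.leaf 0x400084f48edbd) (.leaf 0x67979c52477b9))) (.node (.node (.leaf 0x17da9b366efca) (.leaf 0x5a61ddb1626ef)) (.node (.leaf 0x4145f8ccc560d) (.leaf 0x75d56523bfeba)))) (.node (.node (.node (.leaf 0x17b5dc8a1f27) (.leaf 0x5334f6b69f9b5))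 (.node (.leaf 0x4000bff4935bb) (.leaf 0x70050a9ea1367))) (.node (.node (.leaf 0x301d33be0b2ea) (.leaf 0x61f90c3d65677)) (.node (.leaf 0x44781a247f6bc) (.leaf 0x7c8f591bc4599))))) (.node (.node (.node (.node (.leaf 63256831) (.leaf 0x5004bdfe2eb20)) (.node (.leaf 0x40009f4d2c8b5) (.leaf 0x6bae2ec3581b8))) (.node (.node (.leaf 0x22255999aeb3d) (.leaf 0x5e0ef5c01089c)) (.node (.leaf 0x43214af46b75e) (.leaf 0x79859bfee6a81)))) (.node (.node (.node (.leaf 0x86f9215173f6) (.leaf 0x57479cd233ce1)) (.node (.leaf 0x4065da4f66d42) (.leaf 0x72d5a579c1b0e))) (.node (.node (.leaf 0x3891e2c3c0001) (.leaf 0x648fe39c40001)) (.node (.leaf 0x4867029597c37) (.leaf 0x7f7b485581141))))))))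

/-- Part of `colSrt`. -/
def colSrt_p111 : Tr := .node (.node (.node (.node (.node (.node (.node (.node (.node (.leaf 35378297) (.leaf 0x7ff09f1e48cf3)) (.leaf 0x48ae5374b8c85)) (.node (.leaf 0x3ac1b0be12a31) (.leaf 0x655cf8890580c))) (.node (.node (.leaf 0xaa32b85c211d) (.leaf 0x57cecf54179c9)) (.node (.leaf 0x4084056debbe9) (.leaf 0x739fda471bc6e)))) (.node (.node (.node (.leaf 66654710) (.leaf 0x50c6ed1c6be1f)) (.node (.leaf 0x4000a4f320fcf) (.leaf 0x6d0d1cc9b999b))) (.node (.node (.leaf 0x22bb8d88d7803) (.leaf 0x5ed04d40fbc97)) (.node (.leaf 0x4395761194d7e) (.leaf 0x7a2701ced4ce1))))) (.node (.node (.node (.node (.leaf 50078431) (.leaf 0x4c49cbb482b47)) (.node (.leaf 0x400089a54c777) (.leaf 0x682ad2af25c41))) (.node (.node (.leaf 0x180dc7cb00001) (.leaf 0x5b0d2976c6974)) (.node (.leaf 0x416593383cdc2) (.leaf 0x769eed461bfdc)))) (.node (.node (.node (.leaf 0x26558713d3af) (.leaf 0x53b7aa3043fd0)) (.node (.leaf 0x4007b6270a1bd) (.leaf 0x707cba50dfe27)))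 (.node (.node (.leaf 0x31397023b6c47) (.leaf 0x6238d4f36d699)) (.node (.leaf 0x4521daf53b78b) (.leaf 0x7d1188735cea0)))))) (.node (.node (.node (.node (.node (.leaf 41792046) (.leaf 0x4a65ced0ae32b)) (.node (.leaf 0x3ef1384b9ce91) (.leaf 0x66f1d76a218c0))) (.node (.node (.leaf 0x119fc16c9d551) (.leaf 0x5977a76498a95)) (.node (.leaf 0x41016badfe5ff) (.leaf 0x753f407af02f1)))) (.node (.node (.node (.leaf 0x8f6a61e7f49) (.leaf 0x526cab519e2de)) (.node (.leaf 0x4000b7d8cfc82) (.leaf 0x6ef277640f73b))) (.node (.node (.leaf 0x2bba52feed933) (.leaf 0x609bde864bb65)) (.node (.leaf 0x44456691fedc1) (.leaf 0x7b4cbe374ad50))))) (.node (.node (.node (.node (.leaf 58290833) (.leaf 0x4f471c93e6515)) (.node (.leaf 0x400097ac78bfd) (.leaf 0x6abb2c5381a36))) (.node (.node (.leaf 0x1dbd3b40c88a1) (.leaf 0x5d23bd482cc1d)) (.node (.leaf 0x42a337c29d7c5) (.leaf 0x7819067a0ba84)))) (.node (.node (.node (.leaf 0x47a9225aed07) (.leaf 0x5597fbabfdba5)) (.node (.leaf 0x4020ede7a7b69)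 (.leaf 0x71d0ea682c5a9))) (.node (.node (.leaf 0x35a2ec02a4c75) (.leaf 0x63dd606029e8f)) (.node (.leaf 0x457bf9316afb0) (.leaf 0x7e9a9dbbec2cb))))))) (.node (.node (.node (.node (.node (.node (.leaf 38591940) (.leaf 0x4a23bd91770ad)) (.node (.leaf 0x3de04d32582d1) (.leaf 0x6661e1b6a30d2))) (.node (.node (.leaf 0xf0f855061a53) (.leaf 0x5890ced2867cf)) (.node (.leaf 0x40904e8f4823f) (.leaf 0x747a2cf6408e3)))) (.node (.node (.node (.leaf 0x1f78618f691) (.leaf 0x5186074a82390)) (.node (.leaf 0x4000aec1c8c9a) (.leaf 0x6e4bdd24e6471))) (.node (.node (.leaf 0x2727f86727f57) (.leaf 0x5ff04f4c0020d)) (.node (.leaf 0x4401633d1c76a) (.leaf 0x7aabd285f228d))))) (.node (.node (.node (.node (.leaf 54135758) (.leaf 0x4cd4e1d12c7a1)) (.node (.leaf 0x40008ffd29423) (.leaf 0x69af8c02a8b55))) (.node (.node (.leaf 0x1b9d6b8b0902b) (.leaf 0x5b9d455b4c32e)) (.node (.leaf 0x4225fb5450042) (.leaf 0x77a80840a89b0)))) (.node (.node (.node (.leaf 0x44b4d3996858) (.leaf 0x5492d85a7c7ff))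 (.node (.leaf 0x401459312bbfb) (.leaf 0x712b7a0a15dac))) (.node (.node (.leaf 0x32d0b9f6b735b) (.leaf 0x63415696525e7)) (.node (.leaf 0x4543751916f47) (.leaf 0x7df4354dfce64)))))) (.node (.node (.node (.node (.node (.leaf 45702649) (.leaf 0x4acb08d13f5e1)) (.node (.leaf 0x400082ad74a5b) (.leaf 0x678aab742340d))) (.node (.node (.leaf 0x12683e90bf365) (.leaf 0x5a2813f4a83e7)) (.node (.leaf 0x4140711d5ab29) (.leaf 0x75c63065200f8)))) (.node (.node (.node (.leaf 0x16548b0cf231) (.leaf 0x53241a0ea1c94)) (.node (.leaf 0x4000be47d8c52) (.leaf 0x6ff047dda94f0))) (.node (.node (.leaf 0x2ed7e1d11103b) (.leaf 0x61db3cb54e667)) (.node (.leaf 0x446eeb87c4fd3) (.leaf 0x7c1f90d34c6aa))))) (.node (.node (.node (.node (.leaf 62632351) (.leaf 0x4fd74674c146f)) (.node (.leaf 0x40009e7d15799) (.leaf 0x6b9fc153b8fbf))) (.node (.node (.leaf 0x2206db01d7613) (.leaf 0x5df5b5086741c)) (.node (.leaf 0x43004e9631cc0) (.leaf 0x791dfdca84605)))) (.node (.node (.node (.leaf 0x86f92150035e)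 (.leaf 0x570f2bfeaf8bc)) (.node (.leaf 0x40616e8d19e74) (.leaf 0x72be845856236))) (.node (.node (.leaf 0x388406fbeee47) (.leaf 0x6427d8dae0fb8)) (.node (.leaf 0x484f6a2273331) (.leaf 0x7f65cbc7cd291)))))))) (.node (.node (.node (.node (.node (.node (.node (.leaf 37293738) (.leaf 0x48e65d25f9a69)) (.node (.leaf 0x3bd0a93629267) (.leaf 0x65d7a3c4b9ad3))) (.node (.node (.leaf 0xaaa6da016113) (.leaf 0x58409c6766da7)) (.node (.leaf 0x408b8a7cedec7) (.leaf 0x7407f603987d3)))) (.node (.node (.node (.leaf 0x1cec554000d) (.leaf 0x511820bc6ee93)) (.node (.leaf 0x4000a9d3c6ee1) (.leaf 0x6d91826523a1f))) (.node (.node (.leaf 0x240706921c7b5) (.leaf 0x5f74c51411735)) (.node (.leaf 0x43dc73c8a6a09) (.leaf 0x7a47d05e345eb))))) (.node (.node (.node (.node (.leaf 51992420) (.leaf 0x4c9879190a7e9)) (.node (.leaf 0x40008ca9055b3) (.leaf 0x68b835bf56d27))) (.node (.node (.leaf 0x1b05996f2ebab) (.leaf 0x5b537fa03e447)) (.node (.leaf 0x4201fff019e75) (.leaf 0x77274fff103eb))))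 (.node (.node (.node (.leaf 0x2eec9000a686) (.leaf 0x5407fa27d5a73)) (.node (.leaf 0x400e3b0c6fd41) (.leaf 0x70e6874750d51))) (.node (.node (.leaf 0x32c6f6eb06689) (.leaf 0x629e1f6413c88)) (.node (.leaf 0x45311251f244d) (.leaf 0x7d84950c03649)))))) (.node (.node (.node (.node (.node (.leaf 43761430) (.leaf 0x4aa737c6d70b6)) (.node (.leaf 0x3fe1f213e96a0) (.leaf 0x671a1dd37b2e3))) (.node (.node (.leaf 0x1261c234e817b) (.leaf 0x59e7bc7ffb3af)) (.node (.leaf 0x41214d04d6a53) (.leaf 0x755e4edcf9465)))) (.node (.node (.node (.leaf 0x144c91c73f4f) (.leaf 0x52e7bfd3093f3)) (.node (.leaf 0x4000bad984eb7) (.leaf 0x6fc3ab1ebffce))) (.node (.node (.leaf 0x2bbf537ef6fc1) (.leaf 0x615d42a914a47)) (.node (.leaf 0x445830af382ad) (.leaf 0x7bbbc298221b9))))) (.node (.node (.node (.node (.leaf 60347657) (.leaf 0x4f9a9dd603673)) (.node (.leaf 0x40009afd292c3) (.leaf 0x6b2f717e8ed91))) (.node (.node (.leaf 0x2164863d87a23) (.leaf 0x5d6fa3fd460c7)) (.node (.leaf 0x42cd535f2857d)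 (.leaf 0x789b637870bf1)))) (.node (.node (.node (.leaf 0x55c6c142b6fb) (.leaf 0x564e42ba2db79)) (.node (.leaf 0x4040bdb530945) (.leaf 0x7256f9eb722eb))) (.node (.node (.leaf 0x37a7fabaf9f87) (.leaf 0x6407d013d4cc9)) (.node (.leaf 0x4822e5f053de6) (.leaf 0x7f05ca8f39f95))))))) (.node (.node (.node (.node (.node (.node (.leaf 39596056) (.leaf 0x4a436ec8cdb17)) (.node (.leaf 0x3e70943b66d23) (.leaf 0x66ca5a4585499))) (.node (.node (.leaf 0x114541c9e2c7b) (.leaf 0x592865da65cd7)) (.node (.leaf 0x409a9547e9aeb) (.leaf 0x74f5cac77ab4b)))) (.node (.node (.node (.leaf 0x6f5fc192e05) (.leaf 0x51d21bd81584f)) (.node (.leaf 0x4000b4406be8f) (.leaf 0x6ec3bd7ff32cd))) (.node (.node (.leaf 0x2797711ab6247) (.leaf 0x601ed522ea1de)) (.node (.leaf 0x44210413efcd1) (.leaf 0x7ad102a26d7fa))))) (.node (.node (.node (.node (.leaf 55861608) (.leaf 0x4f07bd3e1590f)) (.node (.leaf 0x40009460226f3) (.leaf 0x6a8b046f61cd5))) (.node (.node (.leaf 0x1bd80fe77b311) (.leaf 0x5c0bd45d507cb))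 (.node (.leaf 0x4265087723dcf) (.leaf 0x77d114aa35d2d)))) (.node (.node (.node (.leaf 0x46f82d4a088f) (.leaf 0x551226791d796)) (.node (.leaf 0x401dcf152f41b) (.leaf 0x715d4adb7aa91))) (.node (.node (.leaf 0x3494adc3b78c1) (.leaf 0x636293f79fb4d)) (.node (.leaf 0x455462b2ee709) (.leaf 0x7e61dc3f7f374)))))) (.node (.node (.node (.node (.node (.leaf 48077395) (.leaf 0x4c088418eae93)) (.node (.leaf 0x400085f18d471) (.leaf 0x67b0a1f6404c7))) (.node (.node (.leaf 0x17df43bf4f6cd) (.leaf 0x5aa3b789460cd)) (.node (.leaf 0x415cb99bd98c1) (.leaf 0x761552362b355)))) (.node (.node (.node (.leaf 0x17b5dc8ad4d3) (.leaf 0x5368826f16db0)) (.node (.leaf 0x4001b415c0000) (.leaf 0x701814f84062d))) (.node (.node (.leaf 0x3087e8768aaed) (.leaf 0x62059201801ac)) (.node (.leaf 0x4501b05063904) (.leaf 0x7c9a84dfdbee8))))) (.node (.node (.node (.node (.leaf 64251428) (.leaf 0x504968a5fc376)) (.node (.leaf 0x4000a1660dedd) (.leaf 0x6c0e58c5c09c8))) (.node (.node (.leaf 0x229f11ad498e1)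 (.leaf 0x5e479158d3426)) (.node (.leaf 0x434416ad0d889) (.leaf 0x799bb3defa55d)))) (.node (.node (.node (.leaf 0x8a6ea74be985) (.leaf 0x5756876489861)) (.node (.leaf 0x406e3a42bb9dd) (.leaf 0x731d0aa70b363))) (.node (.node (.leaf 0x3891e2c3dd661) (.leaf 0x64977ba763a3b)) (.node (.leaf 0x4886760833ba5) (.leaf 0x7f8abbf5f48c9))))))))

/-- First columns in increasing order. -/
def colSrt : Tr := .node (.node (.node (colSrt_p000) (colSrt_p001)) (.node (colSrt_p010) (colSrt_p011))) (.node (.node (colSrt_p100) (colSrt_p101)) (.node (colSrt_p110) (colSrt_p111)))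

/-- Part of `colPos`. -/
def colPos_p000 : Tr := .node (.node (.node (.node (.node (.node (.node (.node (.node (.leaf 0) (.leaf 1385)) (.leaf 1812)) (.node (.leaf 1196) (.leaf 669))) (.node (.node (.leaf 1495) (.leaf 1397)) (.node (.leaf 1424) (.leaf 1168)))) (.node (.node (.node (.leaf 950) (.leaf 298)) (.node (.leaf 1727) (.leaf 988))) (.node (.node (.leaf 1276) (.leaf 1605)) (.node (.leaf 1288) (.leaf 1275))))) (.node (.node (.node (.node (.leaf 1738) (.leaf 500)) (.node (.leaf 508) (.leaf 1346))) (.node (.node (.leaf 80) (.leaf 1209)) (.node (.leaf 1109) (.leaf 1480)))) (.node (.node (.node (.leaf 1809) (.leaf 1274)) (.node (.leaf 922) (.leaf 659))) (.node (.node (.leaf 420) (.leaf 1220)) (.node (.leaf 646) (.leaf 1650)))))) (.node (.node (.node (.node (.node (.leaf 1156) (.leaf 442)) (.node (.leaf 715) (.leaf 1422))) (.node (.node (.leaf 324) (.leaf 2016)) (.node (.leaf 906) (.leaf 132)))) (.node (.node (.node (.leaf 1018) (.leaf 1370)) (.node (.leaf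 817) (.leaf 1819))) (.node (.node (.leaf 870) (.leaf 506)) (.node (.leaf 390) (.leaf 1628))))) (.node (.node (.node (.node (.leaf 1416) (.leaf 898)) (.node (.leaf 1541) (.leaf 1479))) (.node (.node (.leaf 213) (.leaf 366)) (.node (.leaf 4) (.leaf 1863)))) (.node (.node (.node (.leaf 1301) (.leaf 317)) (.node (.leaf 1443) (.leaf 1111))) (.node (.node (.leaf 1446) (.leaf 1557)) (.node (.leaf 1917) (.leaf 1526))))))) (.node (.node (.node (.node (.node (.node (.leaf 1974) (.leaf 878)) (.node (.leaf 352) (.leaf 1474))) (.node (.node (.leaf 1698) (.leaf 546)) (.node (.leaf 56) (.leaf 1148)))) (.node (.node (.node (.leaf 620) (.leaf 979)) (.node (.leaf 1964) (.leaf 377))) (.node (.node (.leaf 1981) (.leaf 565)) (.node (.leaf 1100) (.leaf 562))))) (.node (.node (.node (.node (.leaf 64) (.leaf 572)) (.node (.leaf 636) (.leaf 1673))) (.node (.node (.leaf 214) (.leaf 1792)) (.node (.leaf 1364) (.leaf 1741)))) (.node (.node (.node (.leaf 1117) (.leaf 1525)) (.node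 (.leaf 1632) (.leaf 956))) (.node (.node (.leaf 1071) (.leaf 1592)) (.node (.leaf 973) (.leaf 778)))))) (.node (.node (.node (.node (.node (.leaf 521) (.leaf 314)) (.node (.leaf 868) (.leaf 1655))) (.node (.node (.leaf 1366) (.leaf 740)) (.node (.leaf 1437) (.leaf 145)))) (.node (.node (.node (.leaf 1789) (.leaf 1176)) (.node (.leaf 1906) (.leaf 157))) (.node (.node (.leaf 1152) (.leaf 1992)) (.node (.leaf 551) (.leaf 586))))) (.node (.node (.node (.node (.leaf 820) (.leaf 1403)) (.node (.leaf 952) (.leaf 181))) (.node (.node (.leaf 167) (.leaf 873)) (.node (.leaf 1816) (.leaf 995)))) (.node (.node (.node (.leaf 1379) (.leaf 251)) (.node (.leaf 1092) (.leaf 1471))) (.node (.node (.leaf 635) (.leaf 1871)) (.node (.leaf 1384) (.leaf 1565)))))))) (.node (.node (.node (.node (.node (.node (.node (.node (.leaf 802) (.leaf 349)) (.leaf 614)) (.node (.leaf 229) (.leaf 1450))) (.node (.node (.leaf 515) (.leaf 1555)) (.node (.leaf 759) (.leaf 1983)))) (.node (.node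 (.node (.leaf 242) (.leaf 933)) (.node (.leaf 1089) (.leaf 55))) (.node (.node (.leaf 283) (.leaf 548)) (.node (.leaf 13) (.leaf 581))))) (.node (.node (.node (.node (.leaf 855) (.leaf 424)) (.node (.leaf 568) (.leaf 2011))) (.node (.node (.leaf 160) (.leaf 264)) (.node (.leaf 1380) (.leaf 289)))) (.node (.node (.node (.leaf 1412) (.leaf 1811)) (.node (.leaf 1692) (.leaf 1106))) (.node (.node (.leaf 1306) (.leaf 477)) (.node (.leaf 451) (.leaf 1919)))))) (.node (.node (.node (.node (.node (.leaf 1614) (.leaf 1316)) (.node (.leaf 2055) (.leaf 1098))) (.node (.node (.leaf 2056) (.leaf 1588)) (.node (.leaf 211) (.leaf 194)))) (.node (.node (.node (.leaf 1005) (.leaf 1074)) (.node (.leaf 1153) (.leaf 425))) (.node (.node (.leaf 1336) (.leaf 1626)) (.node (.leaf 494) (.leaf 913))))) (.node (.node (.node (.node (.leaf 408) (.leaf 1678)) (.node (.leaf 182) (.leaf 966))) (.node (.node (.leaf 1993) (.leaf 54)) (.node (.leaf 1357) (.leaf 1645)))) (.node (.node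 (.node (.leaf 272) (.leaf 299)) (.node (.leaf 1341) (.leaf 1876))) (.node (.node (.leaf 666) (.leaf 2053)) (.node (.leaf 1778) (.leaf 370))))))) (.node (.node (.node (.node (.node (.node (.leaf 957) (.leaf 416)) (.node (.leaf 112) (.leaf 533))) (.node (.node (.leaf 1589) (.leaf 1570)) (.node (.leaf 1930) (.leaf 530)))) (.node (.node (.node (.leaf 1682) (.leaf 1237)) (.node (.leaf 716) (.leaf 63))) (.node (.node (.leaf 1444) (.leaf 877)) (.node (.leaf 741) (.leaf 767))))) (.node (.node (.node (.node (.leaf 502) (.leaf 2032)) (.node (.leaf 1421) (.leaf 431))) (.node (.node (.leaf 398) (.leaf 771)) (.node (.leaf 631) (.leaf 147)))) (.node (.node (.node (.leaf 1432) (.leaf 947)) (.node (.leaf 704) (.leaf 1746))) (.node (.node (.leaf 1523) (.leaf 534)) (.node (.leaf 1762) (.leaf 920)))))) (.node (.node (.node (.node (.node (.leaf 527) (.leaf 206)) (.node (.leaf 1893) (.leaf 606))) (.node (.node (.leaf 1419) (.leaf 1201)) (.node (.leaf 523) (.leaf 101)))) (.node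 (.node (.node (.leaf 1817) (.leaf 1262)) (.node (.leaf 970) (.leaf 1755))) (.node (.node (.leaf 77) (.leaf 796)) (.node (.leaf 1367) (.leaf 1522))))) (.node (.node (.node (.node (.leaf 1047) (.leaf 818)) (.node (.leaf 836) (.leaf 1362))) (.node (.node (.leaf 880) (.leaf 1331)) (.node (.leaf 1978) (.leaf 244)))) (.node (.node (.node (.leaf 655) (.leaf 86)) (.node (.leaf 1839) (.leaf 2009))) (.node (.node (.leaf 1139) (.leaf 589)) (.node (.leaf 18) (.leaf 746))))))))

/-- Part of `colPos`. -/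
def colPos_p001 : Tr := .node (.node (.node (.node (.node (.node (.node (.node (.node (.leaf 1549) (.leaf 882)) (.leaf 1270)) (.node (.leaf 1354) (.leaf 1059))) (.node (.node (.leaf 650) (.leaf 1576)) (.node (.leaf 1043) (.leaf 653)))) (.node (.node (.node (.leaf 1149) (.leaf 1377)) (.node (.leaf 879) (.leaf 1668))) (.node (.node (.leaf 120) (.leaf 1935)) (.node (.leaf 127) (.leaf 236))))) (.node (.node (.node (.node (.leaf 535) (.leaf 412)) (.node (.leaf 1466) (.leaf 1853))) (.node (.node (.leaf 62) (.leaf 1130)) (.node (.leaf 1803) (.leaf 70)))) (.node (.node (.node (.leaf 1333) (.leaf 1633)) (.node (.leaf 824) (.leaf 1400))) (.node (.node (.leaf 1347) (.leaf 1287)) (.node (.leaf 982) (.leaf 1996)))))) (.node (.node (.node (.node (.node (.leaf 1566) (.leaf 1967)) (.node (.leaf 540) (.leaf 607))) (.node (.node (.leaf 800) (.leaf 724)) (.node (.leaf 728) (.leaf 65)))) (.node (.node (.node (.leaf 69) (.leaf 806)) (.node (.leaf 423) (.leaf 497))) (.node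 (.node (.leaf 1041) (.leaf 1951)) (.node (.leaf 1355) (.leaf 1649))))) (.node (.node (.node (.node (.leaf 1815) (.leaf 1776)) (.node (.leaf 1499) (.leaf 193))) (.node (.node (.leaf 490) (.leaf 672)) (.node (.leaf 1172) (.leaf 1383)))) (.node (.node (.node (.leaf 1807) (.leaf 644)) (.node (.leaf 1640) (.leaf 123))) (.node (.node (.leaf 735) (.leaf 396)) (.node (.leaf 1740) (.leaf 141))))))) (.node (.node (.node (.node (.node (.node (.leaf 1475) (.leaf 1742)) (.node (.leaf 1472) (.leaf 1712))) (.node (.node (.leaf 356) (.leaf 218)) (.node (.leaf 859) (.leaf 1405)))) (.node (.node (.node (.leaf 519) (.leaf 1321)) (.node (.leaf 819) (.leaf 210))) (.node (.node (.leaf 245) (.leaf 2025)) (.node (.leaf 1970) (.leaf 1662))))) (.node (.node (.node (.node (.leaf 975) (.leaf 39)) (.node (.leaf 258) (.leaf 1079))) (.node (.node (.leaf 580) (.leaf 409)) (.node (.leaf 1414) (.leaf 1338)))) (.node (.node (.node (.leaf 1213) (.leaf 381)) (.node (.leaf 1602) (.leaf 605)))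 (.node (.node (.leaf 1027) (.leaf 1580)) (.node (.leaf 1798) (.leaf 743)))))) (.node (.node (.node (.node (.node (.leaf 725) (.leaf 999)) (.node (.leaf 762) (.leaf 1511))) (.node (.node (.leaf 757) (.leaf 90)) (.node (.leaf 1732) (.leaf 1256)))) (.node (.node (.node (.leaf 1286) (.leaf 1980)) (.node (.leaf 417) (.leaf 1280))) (.node (.node (.leaf 750) (.leaf 454)) (.node (.leaf 1976) (.leaf 1252))))) (.node (.node (.node (.node (.leaf 591) (.leaf 1236)) (.node (.leaf 1531) (.leaf 1453))) (.node (.node (.leaf 1606) (.leaf 1436)) (.node (.leaf 1639) (.leaf 1401)))) (.node (.node (.node (.leaf 119) (.leaf 908)) (.node (.leaf 1663) (.leaf 2029))) (.node (.node (.leaf 1813) (.leaf 2017)) (.node (.leaf 720) (.leaf 1695)))))))) (.node (.node (.node (.node (.node (.node (.node (.leaf 1774) (.leaf 1440)) (.node (.leaf 1651) (.leaf 239))) (.node (.node (.leaf 532) (.leaf 1157)) (.node (.leaf 151) (.leaf 53)))) (.node (.node (.node (.leaf 1040) (.leaf 78)) (.node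 (.leaf 1509) (.leaf 1936))) (.node (.node (.leaf 376) (.leaf 1435)) (.node (.leaf 1204) (.leaf 169))))) (.node (.node (.node (.node (.leaf 1556) (.leaf 1212)) (.node (.leaf 1942) (.leaf 259))) (.node (.node (.leaf 1794) (.leaf 1016)) (.node (.leaf 1795) (.leaf 52)))) (.node (.node (.node (.leaf 1883) (.leaf 1844)) (.node (.leaf 1390) (.leaf 1687))) (.node (.node (.leaf 561) (.leaf 1814)) (.node (.leaf 1847) (.leaf 227)))))) (.node (.node (.node (.node (.node (.leaf 1619) (.leaf 794)) (.node (.leaf 1449) (.leaf 871))) (.node (.node (.leaf 325) (.leaf 428)) (.node (.leaf 563) (.leaf 731)))) (.node (.node (.node (.leaf 1103) (.leaf 355)) (.node (.leaf 465) (.leaf 596))) (.node (.node (.leaf 473) (.leaf 1478)) (.node (.leaf 2051) (.leaf 592))))) (.node (.node (.node (.node (.leaf 1263) (.leaf 440)) (.node (.leaf 815) (.leaf 1966))) (.node (.node (.leaf 228) (.leaf 1477)) (.node (.leaf 1674) (.leaf 701)))) (.node (.node (.node (.leaf 1221) (.leaf 330)) (.node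 (.leaf 1259) (.leaf 1715))) (.node (.node (.leaf 1764) (.leaf 1197)) (.node (.leaf 998) (.leaf 196))))))) (.node (.node (.node (.node (.node (.node (.leaf 1373) (.leaf 1185)) (.node (.leaf 2047) (.leaf 1515))) (.node (.node (.leaf 1979) (.leaf 903)) (.node (.leaf 1008) (.leaf 1800)))) (.node (.node (.node (.leaf 1730) (.leaf 1099)) (.node (.leaf 1184) (.leaf 265))) (.node (.node (.leaf 770) (.leaf 1056)) (.node (.leaf 276) (.leaf 287))))) (.node (.node (.node (.node (.leaf 1519) (.leaf 1073)) (.node (.leaf 333) (.leaf 687))) (.node (.node (.leaf 1899) (.leaf 872)) (.node (.leaf 1381) (.leaf 261)))) (.node (.node (.node (.leaf 233) (.leaf 1125)) (.node (.leaf 281) (.leaf 1445))) (.node (.node (.leaf 321) (.leaf 951)) (.node (.leaf 1118) (.leaf 853)))))) (.node (.node (.node (.node (.node (.leaf 980) (.leaf 1533)) (.node (.leaf 2048) (.leaf 1713))) (.node (.node (.leaf 50) (.leaf 974)) (.node (.leaf 1283) (.leaf 1634)))) (.node (.node (.node (.leaf 1669)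 (.leaf 1665)) (.node (.leaf 681) (.leaf 1081))) (.node (.node (.leaf 1559) (.leaf 1253)) (.node (.leaf 138) (.leaf 389))))) (.node (.node (.node (.node (.leaf 215) (.leaf 1911)) (.node (.leaf 621) (.leaf 1186))) (.node (.node (.leaf 964) (.leaf 1948)) (.node (.leaf 2042) (.leaf 1291)))) (.node (.node (.node (.leaf 615) (.leaf 392)) (.node (.leaf 813) (.leaf 373))) (.node (.node (.leaf 462) (.leaf 662)) (.node (.leaf 1249) (.leaf 1293))))))))

/-- Part of `colPos`. -/
def colPos_p010 : Tr := .node (.node (.node (.node (.node (.node (.node (.node (.node (.leaf 1284) (.leaf 149)) (.leaf 1206)) (.node (.leaf 825) (.leaf 246))) (.node (.node (.leaf 1543) (.leaf 71)) (.node (.leaf 1761) (.leaf 1407)))) (.node (.node (.node (.leaf 1505) (.leaf 85)) (.node (.leaf 2027) (.leaf 658))) (.node (.node (.leaf 1972) (.leaf 1950)) (.node (.leaf 5) (.leaf 1757))))) (.node (.node (.node (.node (.leaf 260) (.leaf 1278)) (.node (.leaf 1909) (.leaf 212))) (.node (.node (.leaf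 693) (.leaf 1497)) (.node (.leaf 1239) (.leaf 1501)))) (.node (.node (.node (.leaf 649) (.leaf 1944)) (.node (.leaf 1568) (.leaf 1676))) (.node (.node (.leaf 1468) (.leaf 173)) (.node (.leaf 453) (.leaf 1048)))))) (.node (.node (.node (.node (.node (.leaf 884) (.leaf 1826)) (.node (.leaf 404) (.leaf 310))) (.node (.node (.leaf 1231) (.leaf 1677)) (.node (.leaf 187) (.leaf 1250)))) (.node (.node (.node (.leaf 944) (.leaf 663)) (.node (.leaf 698) (.leaf 84))) (.node (.node (.leaf 1020) (.leaf 1520)) (.node (.leaf 1720) (.leaf 1702))))) (.node (.node (.node (.node (.leaf 436) (.leaf 981)) (.node (.leaf 851) (.leaf 713))) (.node (.node (.leaf 393) (.leaf 628)) (.node (.leaf 429) (.leaf 1411)))) (.node (.node (.node (.leaf 1392) (.leaf 1243)) (.node (.leaf 1413) (.leaf 188))) (.node (.node (.leaf 542) (.leaf 1787)) (.node (.leaf 73) (.leaf 1190))))))) (.node (.node (.node (.node (.node (.node (.leaf 166) (.leaf 430)) (.node (.leaf 1736) (.leaf 1553))) (.node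 (.node (.leaf 383) (.leaf 1822)) (.node (.leaf 1711) (.leaf 9)))) (.node (.node (.node (.leaf 694) (.leaf 832)) (.node (.leaf 2015) (.leaf 918))) (.node (.node (.leaf 172) (.leaf 395)) (.node (.leaf 954) (.leaf 673))))) (.node (.node (.node (.node (.leaf 823) (.leaf 539)) (.node (.leaf 1684) (.leaf 378))) (.node (.node (.leaf 231) (.leaf 829)) (.node (.leaf 1394) (.leaf 1135)))) (.node (.node (.node (.leaf 432) (.leaf 1121)) (.node (.leaf 1805) (.leaf 848))) (.node (.node (.leaf 1105) (.leaf 1680)) (.node (.leaf 499) (.leaf 361)))))) (.node (.node (.node (.node (.node (.leaf 601) (.leaf 316)) (.node (.leaf 938) (.leaf 624))) (.node (.node (.leaf 1516) (.leaf 1855)) (.node (.leaf 1319) (.leaf 781)))) (.node (.node (.node (.leaf 1182) (.leaf 846)) (.node (.leaf 282) (.leaf 447))) (.node (.node (.leaf 1754) (.leaf 315)) (.node (.leaf 48) (.leaf 403))))) (.node (.node (.node (.node (.leaf 869) (.leaf 1829)) (.node (.leaf 799) (.leaf 1277))) (.node (.node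 (.leaf 1060) (.leaf 1629)) (.node (.leaf 921) (.leaf 1870)))) (.node (.node (.node (.leaf 1879) (.leaf 76)) (.node (.leaf 1984) (.leaf 1621))) (.node (.node (.leaf 97) (.leaf 104)) (.node (.leaf 1481) (.leaf 87)))))))) (.node (.node (.node (.node (.node (.node (.node (.leaf 183) (.leaf 902)) (.node (.leaf 328) (.leaf 939))) (.node (.node (.leaf 360) (.leaf 737)) (.node (.leaf 1104) (.leaf 930)))) (.node (.node (.node (.leaf 1878) (.leaf 861)) (.node (.leaf 1128) (.leaf 1340))) (.node (.node (.leaf 107) (.leaf 1052)) (.node (.leaf 427) (.leaf 1593))))) (.node (.node (.node (.node (.leaf 1571) (.leaf 1905)) (.node (.leaf 1046) (.leaf 1962))) (.node (.node (.leaf 841) (.leaf 422)) (.node (.leaf 1131) (.leaf 1235)))) (.node (.node (.node (.leaf 1524) (.leaf 860)) (.node (.leaf 1860) (.leaf 388))) (.node (.node (.leaf 528) (.leaf 308)) (.node (.leaf 2033) (.leaf 66)))))) (.node (.node (.node (.node (.node (.leaf 651) (.leaf 505)) (.node (.leaf 543) (.leaf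 1320))) (.node (.node (.leaf 1388) (.leaf 36)) (.node (.leaf 552) (.leaf 1726)))) (.node (.node (.node (.leaf 60) (.leaf 1348)) (.node (.leaf 588) (.leaf 1493))) (.node (.node (.leaf 520) (.leaf 1299)) (.node (.leaf 1818) (.leaf 351))))) (.node (.node (.node (.node (.leaf 247) (.leaf 1902)) (.node (.leaf 1205) (.leaf 1560))) (.node (.node (.leaf 195) (.leaf 1796)) (.node (.leaf 15) (.leaf 1019)))) (.node (.node (.node (.leaf 1729) (.leaf 279)) (.node (.leaf 1409) (.leaf 1296))) (.node (.node (.leaf 495) (.leaf 481)) (.node (.leaf 28) (.leaf 405))))))) (.node (.node (.node (.node (.node (.node (.leaf 1465) (.leaf 402)) (.node (.leaf 1180) (.leaf 782))) (.node (.node (.leaf 458) (.leaf 1658)) (.node (.leaf 1058) (.leaf 788)))) (.node (.node (.node (.leaf 1824) (.leaf 573)) (.node (.leaf 1257) (.leaf 278))) (.node (.node (.leaf 1849) (.leaf 185)) (.node (.leaf 850) (.leaf 943))))) (.node (.node (.node (.node (.leaf 847) (.leaf 919)) (.node (.leaf 1786) (.leaf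 243))) (.node (.node (.leaf 124) (.leaf 347)) (.node (.leaf 1744) (.leaf 1371)))) (.node (.node (.node (.leaf 1441) (.leaf 732)) (.node (.leaf 1836) (.leaf 33))) (.node (.node (.leaf 492) (.leaf 1439)) (.node (.leaf 1886) (.leaf 1604)))))) (.node (.node (.node (.node (.node (.leaf 253) (.leaf 1624)) (.node (.leaf 1756) (.leaf 144))) (.node (.node (.leaf 2003) (.leaf 1425)) (.node (.leaf 618) (.leaf 1395)))) (.node (.node (.node (.leaf 1496) (.leaf 627)) (.node (.leaf 553) (.leaf 992))) (.node (.node (.leaf 1114) (.leaf 1617)) (.node (.leaf 1998) (.leaf 326))))) (.node (.node (.node (.node (.leaf 371) (.leaf 703)) (.node (.leaf 536) (.leaf 1090))) (.node (.node (.leaf 202) (.leaf 558)) (.node (.leaf 106) (.leaf 1643)))) (.node (.node (.node (.leaf 1096) (.leaf 961)) (.node (.leaf 516) (.leaf 611))) (.node (.node (.leaf 1012) (.leaf 1242)) (.node (.leaf 617) (.leaf 1094))))))))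

/-- Part of `colPos`. -/
def colPos_p011 : Tr := .node (.node (.node (.node (.node (.node (.node (.node (.node (.leaf 1404) (.leaf 1529)) (.leaf 469)) (.node (.leaf 575) (.leaf 286))) (.node (.node (.leaf 1303) (.leaf 622)) (.node (.leaf 1586) (.leaf 2039)))) (.node (.node (.node (.leaf 734) (.leaf 284)) (.node (.leaf 1030) (.leaf 1438))) (.node (.node (.leaf 2035) (.leaf 1544)) (.node (.leaf 733) (.leaf 1542))))) (.node (.node (.node (.node (.leaf 44) (.leaf 570)) (.node (.leaf 1093) (.leaf 1063))) (.node (.node (.leaf 1459) (.leaf 1743)) (.node (.leaf 449) (.leaf 280)))) (.node (.node (.node (.leaf 1971) (.leaf 891)) (.node (.leaf 1709) (.leaf 783))) (.node (.node (.leaf 29) (.leaf 241)) (.node (.leaf 727) (.leaf 1428)))))) (.node (.node (.node (.node (.node (.leaf 927) (.leaf 1273)) (.node (.leaf 1434) (.leaf 564))) (.node (.node (.leaf 594) (.leaf 1070)) (.node (.leaf 1051) (.leaf 1072)))) (.node (.node (.node (.leaf 959) (.leaf 108)) (.node (.leaf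 1528) (.leaf 1618))) (.node (.node (.leaf 1375) (.leaf 1638)) (.node (.leaf 804) (.leaf 1952))))) (.node (.node (.node (.node (.leaf 554) (.leaf 350)) (.node (.leaf 1517) (.leaf 2013))) (.node (.node (.leaf 1227) (.leaf 445)) (.node (.leaf 1155) (.leaf 1161)))) (.node (.node (.node (.leaf 1612) (.leaf 1750)) (.node (.leaf 365) (.leaf 1820))) (.node (.node (.leaf 1431) (.leaf 1772)) (.node (.leaf 629) (.leaf 976))))))) (.node (.node (.node (.node (.node (.node (.leaf 1143) (.leaf 689)) (.node (.leaf 712) (.leaf 1113))) (.node (.node (.leaf 1752) (.leaf 1462)) (.node (.leaf 154) (.leaf 129)))) (.node (.node (.node (.leaf 201) (.leaf 1716)) (.node (.leaf 444) (.leaf 1080))) (.node (.node (.leaf 1994) (.leaf 1664)) (.node (.leaf 1163) (.leaf 803))))) (.node (.node (.node (.node (.leaf 1512) (.leaf 1635)) (.node (.leaf 827) (.leaf 1328))) (.node (.node (.leaf 696) (.leaf 262)) (.node (.leaf 1021) (.leaf 1804)))) (.node (.node (.node (.leaf 1455) (.leaf 1002))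 (.node (.leaf 856) (.leaf 478))) (.node (.node (.leaf 963) (.leaf 203)) (.node (.leaf 1661) (.leaf 1216)))))) (.node (.node (.node (.node (.node (.leaf 911) (.leaf 45)) (.node (.leaf 1029) (.leaf 1195))) (.node (.node (.leaf 1872) (.leaf 1595)) (.node (.leaf 968) (.leaf 809)))) (.node (.node (.node (.leaf 1507) (.leaf 1386)) (.node (.leaf 1199) (.leaf 582))) (.node (.node (.leaf 1584) (.leaf 49)) (.node (.leaf 1255) (.leaf 303))))) (.node (.node (.node (.node (.leaf 1825) (.leaf 612)) (.node (.leaf 682) (.leaf 1947))) (.node (.node (.leaf 1342) (.leaf 1067)) (.node (.leaf 1460) (.leaf 775)))) (.node (.node (.node (.leaf 1656) (.leaf 1955)) (.node (.leaf 1308) (.leaf 679))) (.node (.node (.leaf 274) (.leaf 1745)) (.node (.leaf 1417) (.leaf 150)))))))) (.node (.node (.node (.node (.node (.node (.node (.leaf 2028) (.leaf 204)) (.node (.leaf 309) (.leaf 843))) (.node (.node (.leaf 1653) (.leaf 984)) (.node (.leaf 1943) (.leaf 1442)))) (.node (.node (.node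 (.leaf 773) (.leaf 1691)) (.node (.leaf 1575) (.leaf 792))) (.node (.node (.leaf 784) (.leaf 158)) (.node (.leaf 435) (.leaf 1141))))) (.node (.node (.node (.node (.leaf 1953) (.leaf 1271)) (.node (.leaf 895) (.leaf 1590))) (.node (.node (.leaf 312) (.leaf 948)) (.node (.leaf 1985) (.leaf 1734)))) (.node (.node (.node (.leaf 766) (.leaf 1198)) (.node (.leaf 1881) (.leaf 972))) (.node (.node (.leaf 1961) (.leaf 335)) (.node (.leaf 1916) (.leaf 1175)))))) (.node (.node (.node (.node (.node (.leaf 876) (.leaf 1429)) (.node (.leaf 1667) (.leaf 1597))) (.node (.node (.leaf 191) (.leaf 887)) (.node (.leaf 744) (.leaf 1569)))) (.node (.node (.node (.leaf 1160) (.leaf 140)) (.node (.leaf 1122) (.leaf 1922))) (.node (.node (.leaf 1448) (.leaf 1827)) (.node (.leaf 118) (.leaf 949))))) (.node (.node (.node (.node (.leaf 1572) (.leaf 1295)) (.node (.leaf 27) (.leaf 331))) (.node (.node (.leaf 1084) (.leaf 1238)) (.node (.leaf 1369) (.leaf 1579)))) (.node (.node (.node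 (.leaf 1001) (.leaf 779)) (.node (.leaf 1234) (.leaf 1832))) (.node (.node (.leaf 1768) (.leaf 296)) (.node (.leaf 1868) (.leaf 1928))))))) (.node (.node (.node (.node (.node (.node (.leaf 1874) (.leaf 224)) (.node (.leaf 941) (.leaf 1766))) (.node (.node (.leaf 632) (.leaf 928)) (.node (.leaf 748) (.leaf 1701)))) (.node (.node (.node (.leaf 1577) (.leaf 590)) (.node (.leaf 545) (.leaf 1165))) (.node (.node (.leaf 1759) (.leaf 637)) (.node (.leaf 348) (.leaf 1957))))) (.node (.node (.node (.node (.leaf 654) (.leaf 1266)) (.node (.leaf 1924) (.leaf 648))) (.node (.node (.leaf 665) (.leaf 1476)) (.node (.leaf 2044) (.leaf 1545)))) (.node (.node (.node (.leaf 1408) (.leaf 932)) (.node (.leaf 1486) (.leaf 1973))) (.node (.node (.leaf 1781) (.leaf 1705)) (.node (.leaf 837) (.leaf 1968)))))) (.node (.node (.node (.node (.node (.leaf 25) (.leaf 790)) (.node (.leaf 254) (.leaf 1241))) (.node (.node (.leaf 838) (.leaf 1307)) (.node (.leaf 1343) (.leaf 1908))))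 (.node (.node (.node (.leaf 852) (.leaf 890)) (.node (.leaf 675) (.leaf 489))) (.node (.node (.leaf 407) (.leaf 1177)) (.node (.leaf 439) (.leaf 722))))) (.node (.node (.node (.node (.leaf 448) (.leaf 305)) (.node (.leaf 1623) (.leaf 273))) (.node (.node (.leaf 822) (.leaf 313)) (.node (.leaf 661) (.leaf 711)))) (.node (.node (.node (.leaf 1959) (.leaf 1147)) (.node (.leaf 1044) (.leaf 1078))) (.node (.node (.leaf 739) (.leaf 576)) (.node (.leaf 1359) (.leaf 691))))))))

/-- Part of `colPos`. -/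
def colPos_p100 : Tr := .node (.node (.node (.node (.node (.node (.node (.node (.node (.leaf 915) (.leaf 1203)) (.leaf 978)) (.node (.leaf 485) (.leaf 269))) (.node (.node (.leaf 479) (.leaf 1892)) (.node (.leaf 640) (.leaf 1285)))) (.node (.node (.node (.leaf 11) (.leaf 1115)) (.node (.leaf 684) (.leaf 1613))) (.node (.node (.leaf 736) (.leaf 329)) (.node (.leaf 1900) (.leaf 1925))))) (.node (.node (.node (.node (.leaf 1506) (.leaf 483)) (.node (.leaf 910) (.leaf 1608))) (.node (.node (.leaf 1831) (.leaf 1956)) (.node (.leaf 2010) (.leaf 1724)))) (.node (.node (.node (.leaf 38) (.leaf 1567)) (.node (.leaf 1688) (.leaf 334))) (.node (.node (.leaf 1788) (.leaf 1861)) (.node (.leaf 705) (.leaf 1587)))))) (.node (.node (.node (.node (.node (.leaf 1000) (.leaf 426)) (.node (.leaf 1681) (.leaf 1518))) (.node (.node (.leaf 1398) (.leaf 883)) (.node (.leaf 1896) (.leaf 1261)))) (.node (.node (.node (.leaf 354) (.leaf 1867)) (.node (.leaf 41) (.leaf 359))) (.node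 (.node (.leaf 786) (.leaf 75)) (.node (.leaf 2038) (.leaf 1146))))) (.node (.node (.node (.node (.leaf 867) (.leaf 795)) (.node (.leaf 130) (.leaf 175))) (.node (.node (.leaf 609) (.leaf 2021)) (.node (.leaf 814) (.leaf 1690)))) (.node (.node (.node (.leaf 888) (.leaf 900)) (.node (.leaf 595) (.leaf 1926))) (.node (.node (.leaf 1082) (.leaf 1880)) (.node (.leaf 1055) (.leaf 525))))))) (.node (.node (.node (.node (.node (.node (.leaf 266) (.leaf 854)) (.node (.leaf 1290) (.leaf 327))) (.node (.node (.leaf 2040) (.leaf 1068)) (.node (.leaf 1028) (.leaf 1657)))) (.node (.node (.node (.leaf 61) (.leaf 1563)) (.node (.leaf 8) (.leaf 115))) (.node (.node (.leaf 1858) (.leaf 709)) (.node (.leaf 1877) (.leaf 996))))) (.node (.node (.node (.node (.leaf 578) (.leaf 934)) (.node (.leaf 375) (.leaf 1463))) (.node (.node (.leaf 1865) (.leaf 616)) (.node (.leaf 40) (.leaf 1995)))) (.node (.node (.node (.leaf 1004) (.leaf 844)) (.node (.leaf 789) (.leaf 338))) (.node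 (.node (.leaf 291) (.leaf 593)) (.node (.leaf 125) (.leaf 524)))))) (.node (.node (.node (.node (.node (.leaf 953) (.leaf 250)) (.node (.leaf 1703) (.leaf 1120))) (.node (.node (.leaf 1648) (.leaf 1910)) (.node (.leaf 20) (.leaf 1136)))) (.node (.node (.node (.leaf 285) (.leaf 230)) (.node (.leaf 1642) (.leaf 47))) (.node (.node (.leaf 1393) (.leaf 79)) (.node (.leaf 810) (.leaf 1350))))) (.node (.node (.node (.node (.leaf 1884) (.leaf 2020)) (.node (.leaf 1363) (.leaf 1600))) (.node (.node (.leaf 763) (.leaf 1583)) (.node (.leaf 567) (.leaf 277)))) (.node (.node (.node (.leaf 2012) (.leaf 1310)) (.node (.leaf 585) (.leaf 391))) (.node (.node (.leaf 1300) (.leaf 148)) (.node (.leaf 257) (.leaf 807)))))))) (.node (.node (.node (.node (.node (.node (.node (.node (.leaf 569) (.leaf 1931)) (.leaf 1965)) (.node (.leaf 670) (.leaf 1652))) (.node (.node (.leaf 1760) (.leaf 1797)) (.node (.leaf 1225) (.leaf 1799)))) (.node (.node (.node (.leaf 1538) (.leaf 864))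 (.node (.leaf 699) (.leaf 1426))) (.node (.node (.leaf 1548) (.leaf 1625)) (.node (.leaf 511) (.leaf 1591))))) (.node (.node (.node (.node (.leaf 133) (.leaf 754)) (.node (.leaf 702) (.leaf 1458))) (.node (.node (.leaf 1492) (.leaf 131)) (.node (.leaf 1065) (.leaf 1451)))) (.node (.node (.node (.leaf 198) (.leaf 840)) (.node (.leaf 1267) (.leaf 234))) (.node (.node (.leaf 1461) (.leaf 1700)) (.node (.leaf 1631) (.leaf 263)))))) (.node (.node (.node (.node (.node (.leaf 1725) (.leaf 1504)) (.node (.leaf 1843) (.leaf 1272))) (.node (.node (.leaf 1940) (.leaf 531)) (.node (.leaf 652) (.leaf 164)))) (.node (.node (.node (.leaf 486) (.leaf 509)) (.node (.leaf 1547) (.leaf 997))) (.node (.node (.leaf 1126) (.leaf 413)) (.node (.leaf 180) (.leaf 1309))))) (.node (.node (.node (.node (.leaf 1215) (.leaf 1387)) (.node (.leaf 1454) (.leaf 401))) (.node (.node (.leaf 912) (.leaf 2004)) (.node (.leaf 456) (.leaf 374)))) (.node (.node (.node (.leaf 1174) (.leaf 942))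 (.node (.leaf 480) (.leaf 742))) (.node (.node (.leaf 207) (.leaf 756)) (.node (.leaf 1353) (.leaf 811))))))) (.node (.node (.node (.node (.node (.node (.leaf 862) (.leaf 1487)) (.node (.leaf 571) (.leaf 10))) (.node (.node (.leaf 493) (.leaf 1672)) (.node (.leaf 1181) (.leaf 89)))) (.node (.node (.node (.leaf 1382) (.leaf 1901)) (.node (.leaf 178) (.leaf 2002))) (.node (.node (.leaf 738) (.leaf 46)) (.node (.leaf 1707) (.leaf 680))))) (.node (.node (.node (.node (.leaf 94) (.leaf 256)) (.node (.leaf 1170) (.leaf 555))) (.node (.node (.leaf 1737) (.leaf 556)) (.node (.leaf 940) (.leaf 461)))) (.node (.node (.node (.leaf 1260) (.leaf 165)) (.node (.leaf 1934) (.leaf 255))) (.node (.node (.leaf 1017) (.leaf 1167)) (.node (.leaf 474) (.leaf 1708)))))) (.node (.node (.node (.node (.node (.leaf 577) (.leaf 1233)) (.node (.leaf 37) (.leaf 1014))) (.node (.node (.leaf 162) (.leaf 2054)) (.node (.leaf 831) (.leaf 155)))) (.node (.node (.node (.leaf 1022) (.leaf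 1207)) (.node (.leaf 102) (.leaf 863))) (.node (.node (.leaf 645) (.leaf 512)) (.node (.leaf 174) (.leaf 1927))))) (.node (.node (.node (.node (.leaf 664) (.leaf 1485)) (.node (.leaf 240) (.leaf 1574))) (.node (.node (.leaf 529) (.leaf 1802)) (.node (.leaf 1693) (.leaf 199)))) (.node (.node (.node (.leaf 452) (.leaf 619)) (.node (.leaf 1351) (.leaf 1097))) (.node (.node (.leaf 1326) (.leaf 1372)) (.node (.leaf 729) (.leaf 1659))))))))

/-- Part of `colPos`. -/
def colPos_p101 : Tr := .node (.node (.node (.node (.node (.node (.node (.node (.node (.leaf 1322) (.leaf 1223)) (.leaf 1313)) (.node (.leaf 24) (.leaf 1034))) (.node (.node (.leaf 1616) (.leaf 1841)) (.node (.leaf 1410) (.leaf 300)))) (.node (.node (.node (.leaf 1251) (.leaf 604)) (.node (.leaf 21) (.leaf 238))) (.node (.node (.leaf 1842) (.leaf 1138)) (.node (.leaf 774) (.leaf 219))))) (.node (.node (.node (.node (.leaf 455) (.leaf 1298)) (.node (.leaf 1062) (.leaf 801))) (.node (.node (.leaf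 1171) (.leaf 1918)) (.node (.leaf 1859) (.leaf 353)))) (.node (.node (.node (.leaf 1675) (.leaf 1315)) (.node (.leaf 1933) (.leaf 899))) (.node (.node (.leaf 384) (.leaf 897)) (.node (.leaf 2037) (.leaf 1324)))))) (.node (.node (.node (.node (.node (.leaf 1539) (.leaf 772)) (.node (.leaf 346) (.leaf 1491))) (.node (.node (.leaf 1083) (.leaf 805)) (.node (.leaf 1723) (.leaf 122)))) (.node (.node (.node (.leaf 1045) (.leaf 538)) (.node (.leaf 914) (.leaf 399))) (.node (.node (.leaf 1722) (.leaf 1945)) (.node (.leaf 1119) (.leaf 544))))) (.node (.node (.node (.node (.leaf 909) (.leaf 189)) (.node (.leaf 503) (.leaf 1554))) (.node (.node (.leaf 411) (.leaf 339)) (.node (.leaf 1360) (.leaf 223)))) (.node (.node (.node (.leaf 690) (.leaf 438)) (.node (.leaf 1866) (.leaf 1977))) (.node (.node (.leaf 466) (.leaf 1037)) (.node (.leaf 676) (.leaf 470))))))) (.node (.node (.node (.node (.node (.node (.leaf 2014) (.leaf 566)) (.node (.leaf 463) (.leaf 311))) (.node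 (.node (.leaf 488) (.leaf 1888)) (.node (.leaf 1457) (.leaf 1704)))) (.node (.node (.node (.leaf 639) (.leaf 1086)) (.node (.leaf 1898) (.leaf 630))) (.node (.node (.leaf 1780) (.leaf 1845)) (.node (.leaf 904) (.leaf 1890))))) (.node (.node (.node (.node (.leaf 1314) (.leaf 220)) (.node (.leaf 1292) (.leaf 1077))) (.node (.node (.leaf 93) (.leaf 1923)) (.node (.leaf 1810) (.leaf 1151)))) (.node (.node (.node (.leaf 747) (.leaf 1101)) (.node (.leaf 547) (.leaf 192))) (.node (.node (.leaf 1647) (.leaf 341)) (.node (.leaf 1671) (.leaf 113)))))) (.node (.node (.node (.node (.node (.leaf 785) (.leaf 667)) (.node (.leaf 924) (.leaf 415))) (.node (.node (.leaf 1718) (.leaf 875)) (.node (.leaf 1011) (.leaf 1025)))) (.node (.node (.node (.leaf 706) (.leaf 1609)) (.node (.leaf 1582) (.leaf 72))) (.node (.node (.leaf 433) (.leaf 367)) (.node (.leaf 1420) (.leaf 23))))) (.node (.node (.node (.node (.leaf 1615) (.leaf 991)) (.node (.leaf 1129) (.leaf 2019))) (.node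 (.node (.leaf 501) (.leaf 92)) (.node (.leaf 1003) (.leaf 1837)))) (.node (.node (.node (.leaf 1010) (.leaf 1374)) (.node (.leaf 1245) (.leaf 379))) (.node (.node (.leaf 1178) (.leaf 1042)) (.node (.leaf 931) (.leaf 892)))))))) (.node (.node (.node (.node (.node (.node (.node (.leaf 200) (.leaf 268)) (.node (.leaf 657) (.leaf 30))) (.node (.node (.leaf 977) (.leaf 937)) (.node (.leaf 894) (.leaf 1244)))) (.node (.node (.node (.leaf 1627) (.leaf 787)) (.node (.leaf 1269) (.leaf 468))) (.node (.node (.leaf 993) (.leaf 156)) (.node (.leaf 2000) (.leaf 849))))) (.node (.node (.node (.node (.leaf 518) (.leaf 1464)) (.node (.leaf 1564) (.leaf 2001))) (.node (.node (.leaf 1527) (.leaf 504)) (.node (.leaf 885) (.leaf 695)))) (.node (.node (.node (.leaf 1297) (.leaf 1991)) (.node (.leaf 267) (.leaf 608))) (.node (.node (.leaf 1846) (.leaf 1882)) (.node (.leaf 117) (.leaf 685)))))) (.node (.node (.node (.node (.node (.leaf 1685) (.leaf 1305)) (.node (.leaf 697)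 (.leaf 1581))) (.node (.node (.leaf 893) (.leaf 1875)) (.node (.leaf 386) (.leaf 322)))) (.node (.node (.node (.leaf 1790) (.leaf 1189)) (.node (.leaf 1654) (.leaf 764))) (.node (.node (.leaf 1558) (.leaf 475)) (.node (.leaf 1749) (.leaf 1510))))) (.node (.node (.node (.node (.leaf 1091) (.leaf 116)) (.node (.leaf 541) (.leaf 496))) (.node (.node (.leaf 1763) (.leaf 362)) (.node (.leaf 1895) (.leaf 1779)))) (.node (.node (.node (.leaf 318) (.leaf 1264)) (.node (.leaf 1391) (.leaf 1777))) (.node (.node (.leaf 1339) (.leaf 1897)) (.node (.leaf 1660) (.leaf 1719))))))) (.node (.node (.node (.node (.node (.node (.leaf 1840) (.leaf 1036)) (.node (.leaf 613) (.leaf 6))) (.node (.node (.leaf 1376) (.leaf 1717)) (.node (.leaf 677) (.leaf 842)))) (.node (.node (.node (.leaf 1850) (.leaf 1335)) (.node (.leaf 1785) (.leaf 1169))) (.node (.node (.leaf 1317) (.leaf 1088)) (.node (.leaf 382) (.leaf 114))))) (.node (.node (.node (.node (.leaf 441) (.leaf 1031)) (.node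 (.leaf 297) (.leaf 1069))) (.node (.node (.leaf 1502) (.leaf 369)) (.node (.leaf 1913) (.leaf 2043)))) (.node (.node (.node (.leaf 177) (.leaf 1862)) (.node (.leaf 491) (.leaf 294))) (.node (.node (.leaf 1920) (.leaf 222)) (.node (.leaf 866) (.leaf 139)))))) (.node (.node (.node (.node (.node (.leaf 2031) (.leaf 217)) (.node (.leaf 1731) (.leaf 610))) (.node (.node (.leaf 1470) (.leaf 1483)) (.node (.leaf 1415) (.leaf 161)))) (.node (.node (.node (.leaf 1279) (.leaf 410)) (.node (.leaf 597) (.leaf 2026))) (.node (.node (.leaf 237) (.leaf 1696)) (.node (.leaf 42) (.leaf 1050))))) (.node (.node (.node (.node (.leaf 1714) (.leaf 1123)) (.node (.leaf 1345) (.leaf 1039))) (.node (.node (.leaf 460) (.leaf 1038)) (.node (.leaf 674) (.leaf 1158)))) (.node (.node (.node (.leaf 1611) (.leaf 1049)) (.node (.leaf 1864) (.leaf 1224))) (.node (.node (.leaf 1423) (.leaf 103)) (.node (.leaf 414) (.leaf 1490))))))))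

/-- Part of `colPos`. -/
def colPos_p110 : Tr := .node (.node (.node (.node (.node (.node (.node (.node (.node (.leaf 421) (.leaf 34)) (.leaf 1108)) (.node (.leaf 43) (.leaf 1949))) (.node (.node (.leaf 730) (.leaf 1076)) (.node (.leaf 68) (.leaf 2005)))) (.node (.node (.node (.leaf 1791) (.leaf 1015)) (.node (.leaf 1620) (.leaf 1706))) (.node (.node (.leaf 270) (.leaf 1281)) (.node (.leaf 1057) (.leaf 971))))) (.node (.node (.node (.node (.leaf 826) (.leaf 1982)) (.node (.leaf 1140) (.leaf 1599))) (.node (.node (.leaf 1365) (.leaf 1765)) (.node (.leaf 293) (.leaf 2049)))) (.node (.node (.node (.leaf 96) (.leaf 969)) (.node (.leaf 226) (.leaf 1116))) (.node (.node (.leaf 1200) (.leaf 437)) (.node (.leaf 208) (.leaf 579)))))) (.node (.node (.node (.node (.node (.leaf 1265) (.leaf 1222)) (.node (.leaf 752) (.leaf 1214))) (.node (.node (.leaf 707) (.leaf 692)) (.node (.leaf 100) (.leaf 550)))) (.node (.node (.node (.leaf 765) (.leaf 721)) (.node (.leaf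 723) (.leaf 1603))) (.node (.node (.leaf 143) (.leaf 290)) (.node (.leaf 660) (.leaf 1775))))) (.node (.node (.node (.node (.leaf 1986) (.leaf 1194)) (.node (.leaf 791) (.leaf 385))) (.node (.node (.leaf 1179) (.leaf 397)) (.node (.leaf 95) (.leaf 176)))) (.node (.node (.node (.leaf 1456) (.leaf 1406)) (.node (.leaf 990) (.leaf 1546))) (.node (.node (.leaf 1739) (.leaf 1958)) (.node (.leaf 1318) (.leaf 587))))))) (.node (.node (.node (.node (.node (.node (.leaf 357) (.leaf 1133)) (.node (.leaf 1644) (.leaf 559))) (.node (.node (.leaf 110) (.leaf 225)) (.node (.leaf 1990) (.leaf 205)))) (.node (.node (.node (.leaf 1500) (.leaf 1938)) (.node (.leaf 1503) (.leaf 1240))) (.node (.node (.leaf 1758) (.leaf 418)) (.node (.leaf 1254) (.leaf 319))))) (.node (.node (.node (.node (.leaf 1748) (.leaf 450)) (.node (.leaf 82) (.leaf 758))) (.node (.node (.leaf 17) (.leaf 1534)) (.node (.leaf 1854) (.leaf 1915)))) (.node (.node (.node (.leaf 1821) (.leaf 760)) (.node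 (.leaf 1550) (.leaf 464))) (.node (.node (.leaf 51) (.leaf 797)) (.node (.leaf 886) (.leaf 1087)))))) (.node (.node (.node (.node (.node (.leaf 623) (.leaf 16)) (.node (.leaf 394) (.leaf 340))) (.node (.node (.leaf 32) (.leaf 845)) (.node (.leaf 1134) (.leaf 387)))) (.node (.node (.node (.leaf 1191) (.leaf 498)) (.node (.leaf 901) (.leaf 67))) (.node (.node (.leaf 406) (.leaf 828)) (.node (.leaf 708) (.leaf 769))))) (.node (.node (.node (.node (.leaf 271) (.leaf 1889)) (.node (.leaf 22) (.leaf 1226))) (.node (.node (.leaf 14) (.leaf 1378)) (.node (.leaf 1232) (.leaf 1102)))) (.node (.node (.node (.leaf 372) (.leaf 2024)) (.node (.leaf 1975) (.leaf 1630))) (.node (.node (.leaf 1784) (.leaf 955)) (.node (.leaf 209) (.leaf 1329)))))))) (.node (.node (.node (.node (.node (.node (.node (.leaf 1032) (.leaf 1402)) (.node (.leaf 1188) (.leaf 633))) (.node (.node (.leaf 1751) (.leaf 1710)) (.node (.leaf 1447) (.leaf 221)))) (.node (.node (.node (.leaf 121) (.leaf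 1452)) (.node (.leaf 1294) (.leaf 332))) (.node (.node (.leaf 1332) (.leaf 1666)) (.node (.leaf 1137) (.leaf 1887))))) (.node (.node (.node (.node (.leaf 358) (.leaf 2057)) (.node (.leaf 1054) (.leaf 917))) (.node (.node (.leaf 2052) (.leaf 301)) (.node (.leaf 35) (.leaf 446)))) (.node (.node (.node (.leaf 537) (.leaf 1230)) (.node (.leaf 688) (.leaf 1997))) (.node (.node (.leaf 135) (.leaf 967)) (.node (.leaf 965) (.leaf 1219)))))) (.node (.node (.node (.node (.node (.leaf 1532) (.leaf 1473)) (.node (.leaf 889) (.leaf 755))) (.node (.node (.leaf 1467) (.leaf 1361)) (.node (.leaf 1132) (.leaf 1891)))) (.node (.node (.node (.leaf 1228) (.leaf 1530)) (.node (.leaf 642) (.leaf 726))) (.node (.node (.leaf 946) (.leaf 295)) (.node (.leaf 1937) (.leaf 1721))))) (.node (.node (.node (.node (.leaf 1323) (.leaf 57)) (.node (.leaf 598) (.leaf 557))) (.node (.node (.leaf 583) (.leaf 1823)) (.node (.leaf 216) (.leaf 1852)))) (.node (.node (.node (.leaf 1835) (.leaf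 2006)) (.node (.leaf 1793) (.leaf 159))) (.node (.node (.leaf 302) (.leaf 830)) (.node (.leaf 656) (.leaf 3))))))) (.node (.node (.node (.node (.node (.node (.leaf 58) (.leaf 26)) (.node (.leaf 1733) (.leaf 1208))) (.node (.node (.leaf 1192) (.leaf 710)) (.node (.leaf 1753) (.leaf 1551)))) (.node (.node (.node (.leaf 1112) (.leaf 400)) (.node (.leaf 19) (.leaf 1183))) (.node (.node (.leaf 1247) (.leaf 1537)) (.node (.leaf 1735) (.leaf 793))))) (.node (.node (.node (.node (.leaf 874) (.leaf 1540)) (.node (.leaf 336) (.leaf 109))) (.node (.node (.leaf 1325) (.leaf 59)) (.node (.leaf 510) (.leaf 839)))) (.node (.node (.node (.leaf 2008) (.leaf 2030)) (.node (.leaf 1330) (.leaf 1921))) (.node (.node (.leaf 1202) (.leaf 599)) (.node (.leaf 926) (.leaf 1838)))))) (.node (.node (.node (.node (.node (.leaf 602) (.leaf 152)) (.node (.leaf 1830) (.leaf 1601))) (.node (.node (.leaf 337) (.leaf 320)) (.node (.leaf 960) (.leaf 1289)))) (.node (.node (.node (.leaf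 671) (.leaf 380)) (.node (.leaf 1075) (.leaf 522))) (.node (.node (.leaf 714) (.leaf 916)) (.node (.leaf 31) (.leaf 419))))) (.node (.node (.node (.node (.leaf 105) (.leaf 1607)) (.node (.leaf 1150) (.leaf 1848))) (.node (.node (.leaf 643) (.leaf 1389)) (.node (.leaf 1166) (.leaf 1246)))) (.node (.node (.node (.leaf 1987) (.leaf 1907)) (.node (.leaf 1914) (.leaf 526))) (.node (.node (.leaf 136) (.leaf 686)) (.node (.leaf 603) (.leaf 345))))))))

/-- Part of `colPos`. -/
def colPos_p111 : Tr := .node (.node (.node (.node (.node (.node (.node (.node (.node (.leaf 1573) (.leaf 171)) (.leaf 1337)) (.node (.leaf 1210) (.leaf 858))) (.node (.node (.leaf 1142) (.leaf 179)) (.node (.leaf 168) (.leaf 197)))) (.node (.node (.node (.leaf 936) (.leaf 574)) (.node (.leaf 1258) (.leaf 1689))) (.node (.node (.leaf 1327) (.leaf 1960)) (.node (.leaf 364) (.leaf 2050))))) (.node (.node (.node (.node (.leaf 1521) (.leaf 812)) (.node (.leaf 472) (.leaf 1159))) (.node (.node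 (.leaf 1801) (.leaf 1939)) (.node (.leaf 834) (.leaf 634)))) (.node (.node (.node (.leaf 190) (.leaf 514)) (.node (.leaf 1430) (.leaf 1694))) (.node (.node (.leaf 2034) (.leaf 647)) (.node (.leaf 1514) (.leaf 798)))))) (.node (.node (.node (.node (.node (.leaf 678) (.leaf 1)) (.node (.leaf 584) (.leaf 749))) (.node (.node (.leaf 163) (.leaf 833)) (.node (.leaf 232) (.leaf 1006)))) (.node (.node (.node (.leaf 186) (.leaf 1007)) (.node (.leaf 457) (.leaf 717))) (.node (.node (.leaf 1912) (.leaf 467)) (.node (.leaf 549) (.leaf 487))))) (.node (.node (.node (.node (.leaf 111) (.leaf 600)) (.node (.leaf 1932) (.leaf 857))) (.node (.node (.leaf 443) (.leaf 88)) (.node (.leaf 1699) (.leaf 808)))) (.node (.node (.node (.leaf 1304) (.leaf 459)) (.node (.leaf 342) (.leaf 1154))) (.node (.node (.leaf 625) (.leaf 476)) (.node (.leaf 1999) (.leaf 1229))))))) (.node (.node (.node (.node (.node (.node (.leaf 484) (.leaf 821)) (.node (.leaf 1834) (.leaf 7))) (.node (.node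 (.leaf 1193) (.leaf 1636)) (.node (.leaf 945) (.leaf 323)))) (.node (.node (.node (.leaf 638) (.leaf 275)) (.node (.leaf 1828) (.leaf 683))) (.node (.node (.leaf 1358) (.leaf 1311)) (.node (.leaf 1929) (.leaf 994))))) (.node (.node (.node (.node (.leaf 1498) (.leaf 719)) (.node (.leaf 2041) (.leaf 1561))) (.node (.node (.leaf 184) (.leaf 1851)) (.node (.leaf 1302) (.leaf 777)))) (.node (.node (.node (.leaf 1024) (.leaf 1488)) (.node (.leaf 1513) (.leaf 987))) (.node (.node (.leaf 1085) (.leaf 1484)) (.node (.leaf 81) (.leaf 1686)))))) (.node (.node (.node (.node (.node (.leaf 1646) (.leaf 753)) (.node (.leaf 83) (.leaf 126))) (.node (.node (.leaf 1217) (.leaf 292)) (.node (.leaf 1637) (.leaf 1061)))) (.node (.node (.node (.leaf 363) (.leaf 471)) (.node (.leaf 989) (.leaf 507))) (.node (.node (.leaf 986) (.leaf 560)) (.node (.leaf 780) (.leaf 1679))))) (.node (.node (.node (.node (.leaf 1670) (.leaf 1536)) (.node (.leaf 344) (.leaf 718))) (.node (.node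 (.leaf 1433) (.leaf 983)) (.node (.leaf 1610) (.leaf 137)))) (.node (.node (.node (.leaf 288) (.leaf 235)) (.node (.leaf 985) (.leaf 929))) (.node (.node (.leaf 1969) (.leaf 751)) (.node (.leaf 368) (.leaf 1885)))))))) (.node (.node (.node (.node (.node (.node (.node (.leaf 1773) (.leaf 1035)) (.node (.leaf 1806) (.leaf 513))) (.node (.node (.leaf 2018) (.leaf 958)) (.node (.leaf 343) (.leaf 2045)))) (.node (.node (.node (.leaf 1066) (.leaf 1396)) (.node (.leaf 896) (.leaf 865))) (.node (.node (.leaf 307) (.leaf 12)) (.node (.leaf 1869) (.leaf 925))))) (.node (.node (.node (.node (.leaf 776) (.leaf 1334)) (.node (.leaf 1946) (.leaf 1596))) (.node (.node (.leaf 128) (.leaf 962)) (.node (.leaf 1767) (.leaf 1489)))) (.node (.node (.node (.leaf 2007) (.leaf 1368)) (.node (.leaf 482) (.leaf 835))) (.node (.node (.leaf 1173) (.leaf 761)) (.node (.leaf 1782) (.leaf 1218)))))) (.node (.node (.node (.node (.node (.leaf 1164) (.leaf 923)) (.node (.leaf 1344) (.leaf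 1903))) (.node (.node (.leaf 74) (.leaf 91)) (.node (.leaf 1833) (.leaf 1783)))) (.node (.node (.node (.leaf 1352) (.leaf 1023)) (.node (.leaf 1989) (.leaf 935))) (.node (.node (.leaf 1064) (.leaf 907)) (.node (.leaf 1107) (.leaf 1469))))) (.node (.node (.node (.node (.leaf 1144) (.leaf 1162)) (.node (.leaf 517) (.leaf 1124))) (.node (.node (.leaf 1904) (.leaf 1535)) (.node (.leaf 2) (.leaf 2036)))) (.node (.node (.node (.leaf 1594) (.leaf 1508)) (.node (.leaf 1418) (.leaf 768))) (.node (.node (.leaf 1494) (.leaf 1963)) (.node (.leaf 1770) (.leaf 1562))))))) (.node (.node (.node (.node (.node (.node (.leaf 1808) (.leaf 1211)) (.node (.leaf 1941) (.leaf 1585))) (.node (.node (.leaf 1857) (.leaf 1187)) (.node (.leaf 745) (.leaf 170)))) (.node (.node (.node (.leaf 1894) (.leaf 1399)) (.node (.leaf 641) (.leaf 881))) (.node (.node (.leaf 1578) (.leaf 1312)) (.node (.leaf 1988) (.leaf 98))))) (.node (.node (.node (.node (.leaf 1622) (.leaf 1013)) (.node (.leaf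 1747) (.leaf 1033))) (.node (.node (.leaf 146) (.leaf 1856)) (.node (.leaf 1026) (.leaf 1095)))) (.node (.node (.node (.leaf 1598) (.leaf 306)) (.node (.leaf 1110) (.leaf 1053))) (.node (.node (.leaf 1268) (.leaf 1771)) (.node (.leaf 1769) (.leaf 1697)))))) (.node (.node (.node (.node (.node (.leaf 1873) (.leaf 668)) (.node (.leaf 626) (.leaf 248))) (.node (.node (.leaf 252) (.leaf 99)) (.node (.leaf 153) (.leaf 1356)))) (.node (.node (.node (.leaf 434) (.leaf 1683)) (.node (.leaf 905) (.leaf 1248))) (.node (.node (.leaf 700) (.leaf 1427)) (.node (.leaf 249) (.leaf 2046))))) (.node (.node (.node (.node (.leaf 134) (.leaf 1954)) (.node (.leaf 1282) (.leaf 142))) (.node (.node (.leaf 1482) (.leaf 1552)) (.node (.leaf 816) (.leaf 1349)))) (.node (.node (.node (.leaf 2023) (.leaf 2022)) (.node (.leaf 304) (.leaf 1145))) (.node (.node (.leaf 1009) (.leaf 1641)) (.node (.leaf 1127) (.leaf 1728))))))))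

/-- Positions. -/
def colPos : Tr := .node (.node (.node (colPos_p000) (colPos_p001)) (.node (colPos_p010) (colPos_p011))) (.node (.node (colPos_p100) (colPos_p101)) (.node (colPos_p110) (colPos_p111)))

/-- Part of `colInv`. -/
def colInv_p000 : Tr := .node (.node (.node (.node (.node (.node (.node (.node (.node (.leaf 0) (.leaf 572)) (.leaf 215)) (.node (.leaf 1465) (.leaf 1143))) (.node (.node (.leaf 1113) (.leaf 1716)) (.node (.leaf 1775) (.leaf 1360)))) (.node (.node (.node (.leaf 335) (.leaf 432)) (.node (.leaf 769) (.leaf 1430))) (.node (.node (.leaf 453) (.leaf 222)) (.node (.leaf 655) (.leaf 477))))) (.node (.node (.node (.node (.leaf 80) (.leaf 1437)) (.node (.leaf 1534) (.leaf 1649))) (.node (.node (.leaf 1339) (.leaf 559)) (.node (.leaf 1170) (.leaf 1375)))) (.node (.node (.node (.leaf 1749) (.leaf 2006)) (.node (.leaf 728) (.leaf 2047))) (.node (.node (.leaf 126) (.leaf 532)) (.node (.leaf 827) (.leaf 754)))))) (.node (.node (.node (.node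 (.node (.leaf 307) (.leaf 1436)) (.node (.leaf 1957) (.leaf 706))) (.node (.node (.leaf 247) (.leaf 1439)) (.node (.leaf 292) (.leaf 154)))) (.node (.node (.node (.leaf 328) (.leaf 668)) (.node (.leaf 1380) (.leaf 1469))) (.node (.node (.leaf 1048) (.leaf 1036)) (.node (.leaf 1310) (.leaf 1958))))) (.node (.node (.node (.node (.leaf 195) (.leaf 1585)) (.node (.leaf 1741) (.leaf 720))) (.node (.node (.leaf 528) (.leaf 285)) (.node (.leaf 1161) (.leaf 1301)))) (.node (.node (.node (.leaf 1054) (.leaf 1727)) (.node (.leaf 385) (.leaf 265))) (.node (.node (.leaf 745) (.leaf 1065)) (.node (.leaf 1722) (.leaf 1312))))))) (.node (.node (.node (.node (.node (.node (.leaf 1075) (.leaf 140)) (.node (.leaf 458) (.leaf 1407))) (.node (.node (.leaf 232) (.leaf 1770)) (.node (.leaf 398) (.leaf 31)))) (.node (.node (.node (.leaf 1594) (.leaf 1792)) (.node (.leaf 1003) (.leaf 1490))) (.node (.node (.leaf 1179) (.leaf 768)) (.node (.leaf 361) (.leaf 1676))))) (.node (.node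 (.node (.node (.leaf 320) (.leaf 778)) (.node (.leaf 1964) (.leaf 261))) (.node (.node (.leaf 603) (.leaf 869)) (.node (.leaf 1746) (.leaf 310)))) (.node (.node (.node (.leaf 963) (.leaf 883)) (.node (.leaf 1012) (.leaf 858))) (.node (.node (.leaf 1747) (.leaf 1239)) (.node (.leaf 2022) (.leaf 909)))))) (.node (.node (.node (.node (.node (.leaf 946) (.leaf 1830)) (.node (.leaf 1463) (.leaf 438))) (.node (.node (.leaf 767) (.leaf 1622)) (.node (.leaf 895) (.leaf 29)))) (.node (.node (.node (.leaf 1891) (.leaf 451)) (.node (.leaf 715) (.leaf 1556))) (.node (.node (.leaf 210) (.leaf 227)) (.node (.leaf 162) (.leaf 2014))))) (.node (.node (.node (.node (.leaf 536) (.leaf 1841)) (.node (.leaf 1586) (.leaf 305))) (.node (.node (.leaf 1015) (.leaf 226)) (.node (.leaf 376) (.leaf 367)))) (.node (.node (.node (.leaf 633) (.leaf 1261)) (.node (.leaf 547) (.leaf 1124))) (.node (.node (.leaf 1645) (.leaf 1442)) (.node (.leaf 796) (.leaf 1112)))))))) (.node (.node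 (.node (.node (.node (.node (.node (.node (.leaf 657) (.leaf 296)) (.leaf 11)) (.node (.leaf 426) (.leaf 1414))) (.node (.node (.leaf 1352) (.leaf 896)) (.node (.leaf 79) (.leaf 1820)))) (.node (.node (.node (.leaf 507) (.leaf 174)) (.node (.leaf 1630) (.leaf 1305))) (.node (.node (.leaf 1276) (.leaf 96)) (.node (.leaf 917) (.leaf 2030))))) (.node (.node (.node (.node (.leaf 1717) (.leaf 250)) (.node (.leaf 551) (.leaf 1601))) (.node (.node (.leaf 522) (.leaf 175)) (.node (.leaf 1225) (.leaf 765)))) (.node (.node (.node (.leaf 13) (.leaf 1789)) (.node (.leaf 534) (.leaf 530))) (.node (.node (.leaf 873) (.leaf 1856)) (.node (.leaf 822) (.leaf 1456)))))) (.node (.node (.node (.node (.node (.leaf 849) (.leaf 431)) (.node (.leaf 810) (.leaf 1284))) (.node (.node (.leaf 1518) (.leaf 1578)) (.node (.leaf 1895) (.leaf 1774)))) (.node (.node (.node (.leaf 775) (.leaf 283)) (.node (.leaf 1945) (.leaf 1813))) (.node (.node (.leaf 1096) (.leaf 430)) (.node (.leaf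 135) (.leaf 1415))))) (.node (.node (.node (.node (.leaf 1522) (.leaf 650)) (.node (.leaf 1361) (.leaf 740))) (.node (.node (.leaf 266) (.leaf 1008)) (.node (.leaf 1372) (.leaf 801)))) (.node (.node (.node (.leaf 807) (.leaf 1844)) (.node (.leaf 814) (.leaf 494))) (.node (.node (.leaf 277) (.leaf 86)) (.node (.leaf 33) (.leaf 1267))))))) (.node (.node (.node (.node (.node (.node (.leaf 517) (.leaf 1986)) (.node (.leaf 634) (.leaf 1642))) (.node (.node (.leaf 1862) (.leaf 231)) (.node (.leaf 1678) (.leaf 880)))) (.node (.node (.node (.leaf 1083) (.leaf 1200)) (.node (.leaf 121) (.leaf 705))) (.node (.node (.leaf 104) (.leaf 216)) (.node (.leaf 2008) (.leaf 1218))))) (.node (.node (.node (.node (.leaf 1383) (.leaf 155)) (.node (.leaf 1127) (.leaf 1082))) (.node (.node (.leaf 631) (.leaf 1231)) (.node (.leaf 726) (.leaf 1505)))) (.node (.node (.node (.leaf 875) (.leaf 1683)) (.node (.leaf 804) (.leaf 278))) (.node (.node (.leaf 583) (.leaf 186)) (.node (.leaf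 1294) (.leaf 219)))))) (.node (.node (.node (.node (.node (.leaf 784) (.leaf 1686)) (.node (.leaf 584) (.leaf 1488))) (.node (.node (.leaf 334) (.leaf 424)) (.node (.leaf 708) (.leaf 1659)))) (.node (.node (.node (.leaf 343) (.leaf 1563)) (.node (.leaf 342) (.leaf 930))) (.node (.node (.leaf 1132) (.leaf 1101)) (.node (.leaf 624) (.leaf 948))))) (.node (.node (.node (.node (.leaf 388) (.leaf 111)) (.node (.leaf 286) (.leaf 246))) (.node (.node (.leaf 396) (.leaf 1732)) (.node (.leaf 225) (.leaf 423)))) (.node (.node (.node (.leaf 1599) (.leaf 1577)) (.node (.leaf 1235) (.leaf 499))) (.node (.node (.leaf 1357) (.leaf 678)) (.node (.leaf 1356) (.leaf 273))))))))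

/-- Part of `colInv`. -/
def colInv_p001 : Tr := .node (.node (.node (.node (.node (.node (.node (.node (.node (.leaf 864) (.leaf 331)) (.leaf 785)) (.node (.leaf 762) (.leaf 1115))) (.node (.node (.leaf 66) (.leaf 2)) (.node (.leaf 1061) (.leaf 1386)))) (.node (.node (.node (.leaf 1824) (.leaf 32)) (.node (.leaf 1252) (.leaf 1668))) (.node (.node (.leaf 1738) (.leaf 200)) (.node (.leaf 1249) (.leaf 606))))) (.node (.node (.node (.node (.leaf 771) (.leaf 752)) (.node (.leaf 340) (.leaf 2010))) (.node (.node (.leaf 288) (.leaf 1194)) (.node (.leaf 632) (.leaf 714)))) (.node (.node (.node (.leaf 2028) (.leaf 1472)) (.node (.leaf 947) (.leaf 820))) (.node (.node (.leaf 249) (.leaf 1374)) (.node (.leaf 380) (.leaf 927)))))) (.node (.node (.node (.node (.node (.leaf 1322) (.leaf 370)) (.node (.leaf 1416) (.leaf 110))) (.node (.node (.leaf 1335) (.leaf 1064)) (.node (.leaf 934) (.leaf 663)))) (.node (.node (.node (.leaf 1833) (.leaf 523)) (.node (.leaf 997)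 (.leaf 1481))) (.node (.node (.leaf 448) (.leaf 408)) (.node (.leaf 1246) (.leaf 1345))))) (.node (.node (.node (.node (.leaf 803) (.leaf 1647)) (.node (.leaf 1142) (.leaf 1303))) (.node (.node (.leaf 276) (.leaf 840)) (.node (.leaf 560) (.leaf 1281)))) (.node (.node (.node (.leaf 364) (.leaf 1972)) (.node (.leaf 1328) (.leaf 492))) (.node (.node (.leaf 23) (.leaf 1263)) (.node (.leaf 1937) (.leaf 1137))))))) (.node (.node (.node (.node (.node (.node (.leaf 817) (.leaf 766)) (.node (.leaf 268) (.leaf 76))) (.node (.node (.leaf 924) (.leaf 497)) (.node (.leaf 1818) (.leaf 1024)))) (.node (.node (.node (.leaf 1521) (.leaf 868)) (.node (.leaf 931) (.leaf 594))) (.node (.node (.leaf 546) (.leaf 1990)) (.node (.leaf 1467) (.leaf 297))))) (.node (.node (.node (.node (.leaf 1698) (.leaf 1027)) (.node (.leaf 1708) (.leaf 643))) (.node (.node (.leaf 1587) (.leaf 848)) (.node (.leaf 190) (.leaf 1768)))) (.node (.node (.node (.leaf 1602) (.leaf 1140)) (.node (.leaf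 1316) (.leaf 83))) (.node (.node (.leaf 1677) (.leaf 329)) (.node (.leaf 60) (.leaf 1385)))))) (.node (.node (.node (.node (.node (.leaf 1868) (.leaf 1283)) (.node (.leaf 1574) (.leaf 1320))) (.node (.node (.leaf 1482) (.leaf 395)) (.node (.leaf 112) (.leaf 1228)))) (.node (.node (.node (.leaf 937) (.leaf 908)) (.node (.leaf 1315) (.leaf 1174))) (.node (.node (.leaf 98) (.leaf 886)) (.node (.leaf 1358) (.leaf 386))))) (.node (.node (.node (.node (.leaf 1133) (.leaf 579)) (.node (.leaf 1378) (.leaf 1545))) (.node (.node (.leaf 243) (.leaf 1167)) (.node (.leaf 34) (.leaf 1854)))) (.node (.node (.node (.leaf 1912) (.leaf 479)) (.node (.leaf 1513) (.leaf 405))) (.node (.node (.leaf 1088) (.leaf 202)) (.node (.leaf 506) (.leaf 1903)))))))) (.node (.node (.node (.node (.node (.node (.node (.leaf 1423) (.leaf 1053)) (.node (.leaf 2001) (.leaf 393))) (.node (.node (.leaf 1037) (.leaf 597)) (.node (.leaf 951) (.leaf 1878)))) (.node (.node (.node (.leaf 1198) (.leaf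 47)) (.node (.leaf 809) (.leaf 1730))) (.node (.node (.leaf 1508) (.leaf 949)) (.node (.leaf 1268) (.leaf 615))))) (.node (.node (.node (.node (.leaf 1266) (.leaf 912)) (.node (.leaf 682) (.leaf 230))) (.node (.node (.leaf 1675) (.leaf 1855)) (.node (.leaf 1233) (.leaf 1006)))) (.node (.node (.node (.leaf 1038) (.leaf 171)) (.node (.leaf 664) (.leaf 996))) (.node (.node (.leaf 381) (.leaf 1495)) (.node (.leaf 1742) (.leaf 1988)))))) (.node (.node (.node (.node (.node (.leaf 70) (.leaf 1297)) (.node (.leaf 1369) (.leaf 1492))) (.node (.node (.leaf 1797) (.leaf 1989)) (.node (.leaf 1095) (.leaf 730)))) (.node (.node (.node (.leaf 402) (.leaf 512)) (.node (.leaf 641) (.leaf 2009))) (.node (.node (.leaf 1324) (.leaf 1163)) (.node (.leaf 857) (.leaf 656))))) (.node (.node (.node (.node (.leaf 1190) (.leaf 811)) (.node (.leaf 144) (.leaf 531))) (.node (.node (.leaf 903) (.leaf 298)) (.node (.leaf 46) (.leaf 897)))) (.node (.node (.node (.leaf 1924) (.leaf 217))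 (.node (.leaf 798) (.leaf 1510))) (.node (.node (.leaf 474) (.leaf 306)) (.node (.leaf 209) (.leaf 14))))))) (.node (.node (.node (.node (.node (.node (.leaf 1002) (.leaf 1418)) (.node (.leaf 548) (.leaf 589))) (.node (.node (.leaf 1158) (.leaf 758)) (.node (.leaf 1464) (.leaf 1766)))) (.node (.node (.node (.leaf 1421) (.leaf 538)) (.node (.leaf 1087) (.leaf 712))) (.node (.node (.leaf 1092) (.leaf 1396)) (.node (.leaf 565) (.leaf 1404))))) (.node (.node (.node (.node (.leaf 1397) (.leaf 1731)) (.node (.leaf 1157) (.leaf 1952))) (.node (.node (.leaf 926) (.leaf 1529)) (.node (.leaf 1226) (.leaf 113)))) (.node (.node (.node (.leaf 1109) (.leaf 1805)) (.node (.leaf 1242) (.leaf 570))) (.node (.node (.leaf 1511) (.leaf 147)) (.node (.leaf 1664) (.leaf 241)))))) (.node (.node (.node (.node (.node (.leaf 170) (.leaf 366)) (.node (.leaf 1104) (.leaf 1615))) (.node (.node (.leaf 1074) (.leaf 1674)) (.node (.leaf 1459) (.leaf 1899)))) (.node (.node (.node (.leaf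 1762) (.leaf 1100)) (.node (.leaf 447) (.leaf 1857))) (.node (.node (.leaf 662) (.leaf 450)) (.node (.leaf 1744) (.leaf 1204))))) (.node (.node (.node (.node (.leaf 346) (.leaf 1808)) (.node (.leaf 592) (.leaf 1005))) (.node (.node (.leaf 1211) (.leaf 6)) (.node (.leaf 2037) (.leaf 974)))) (.node (.node (.node (.leaf 319) (.leaf 384)) (.node (.leaf 1709) (.leaf 449))) (.node (.node (.leaf 576) (.leaf 43)) (.node (.leaf 418) (.leaf 862))))))))

/-- Part of `colInv`. -/
def colInv_p010 : Tr := .node (.node (.node (.node (.node (.node (.node (.node (.node (.leaf 879) (.leaf 1927)) (.leaf 863)) (.node (.leaf 1223) (.leaf 137))) (.node (.node (.leaf 596) (.leaf 639)) (.node (.leaf 412) (.leaf 332)))) (.node (.node (.node (.leaf 609) (.leaf 1767)) (.node (.leaf 683) (.leaf 1419))) (.node (.node (.leaf 813) (.leaf 773)) (.node (.leaf 1120) (.leaf 1710))))) (.node (.node (.node (.node (.leaf 1994) (.leaf 1658)) (.node (.leaf 81) (.leaf 724))) (.node (.node (.leaf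 1837) (.leaf 1600)) (.node (.leaf 839) (.leaf 401)))) (.node (.node (.node (.leaf 1832) (.leaf 1999)) (.node (.leaf 181) (.leaf 156))) (.node (.node (.leaf 1107) (.leaf 1552)) (.node (.leaf 1359) (.leaf 99)))))) (.node (.node (.node (.node (.node (.leaf 2051) (.leaf 794)) (.node (.leaf 1296) (.leaf 1304))) (.node (.node (.leaf 1443) (.leaf 85)) (.node (.leaf 8) (.leaf 1058)))) (.node (.node (.node (.leaf 313) (.leaf 1660)) (.node (.leaf 893) (.leaf 272))) (.node (.node (.leaf 1427) (.leaf 1806)) (.node (.leaf 1802) (.leaf 1151))))) (.node (.node (.node (.node (.leaf 1951) (.leaf 686)) (.node (.leaf 1597) (.leaf 1852))) (.node (.node (.leaf 161) (.leaf 1395)) (.node (.leaf 989) (.leaf 1941)))) (.node (.node (.node (.leaf 707) (.leaf 1826)) (.node (.leaf 409) (.leaf 984))) (.node (.node (.leaf 719) (.leaf 65)) (.node (.leaf 1943) (.leaf 271))))))) (.node (.node (.node (.node (.node (.node (.leaf 1016) (.leaf 1525)) (.node (.leaf 1816) (.leaf 1637))) (.node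 (.node (.leaf 502) (.leaf 1093)) (.node (.leaf 417) (.leaf 853)))) (.node (.node (.node (.leaf 351) (.leaf 601)) (.node (.leaf 1666) (.leaf 152))) (.node (.node (.leaf 1050) (.leaf 1673)) (.node (.leaf 677) (.leaf 1171))))) (.node (.node (.node (.node (.leaf 595) (.leaf 1736)) (.node (.leaf 294) (.leaf 1702))) (.node (.node (.leaf 1745) (.leaf 1656)) (.node (.leaf 922) (.leaf 30)))) (.node (.node (.node (.leaf 1684) (.leaf 750)) (.node (.leaf 1982) (.leaf 1752))) (.node (.node (.leaf 485) (.leaf 2045)) (.node (.leaf 1025) (.leaf 1689)))))) (.node (.node (.node (.node (.node (.leaf 316) (.leaf 1192)) (.node (.leaf 1936) (.leaf 774))) (.node (.node (.leaf 1247) (.leaf 731)) (.node (.leaf 1144) (.leaf 389)))) (.node (.node (.node (.leaf 665) (.leaf 475)) (.node (.leaf 229) (.leaf 125))) (.node (.node (.leaf 191) (.leaf 1609)) (.node (.leaf 427) (.leaf 916))))) (.node (.node (.node (.node (.leaf 1949) (.leaf 1413)) (.node (.leaf 575) (.leaf 1984))) (.node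 (.node (.leaf 2024) (.leaf 850)) (.node (.leaf 2052) (.leaf 688)))) (.node (.node (.node (.leaf 136) (.leaf 1118)) (.node (.leaf 1097) (.leaf 1000))) (.node (.node (.leaf 1203) (.leaf 1976)) (.node (.leaf 245) (.leaf 455)))))))) (.node (.node (.node (.node (.node (.node (.node (.leaf 1561) (.leaf 1541)) (.node (.leaf 1723) (.leaf 1763))) (.node (.node (.leaf 17) (.leaf 529)) (.node (.leaf 2000) (.leaf 1401)))) (.node (.node (.node (.leaf 956) (.leaf 1135)) (.node (.leaf 260) (.leaf 876))) (.node (.node (.leaf 563) (.leaf 751)) (.node (.leaf 800) (.leaf 792))))) (.node (.node (.node (.node (.leaf 303) (.leaf 1576)) (.node (.leaf 1968) (.leaf 887))) (.node (.node (.leaf 1260) (.leaf 516)) (.node (.leaf 1821) (.leaf 741)))) (.node (.node (.node (.leaf 378) (.leaf 1651)) (.node (.leaf 443) (.leaf 64))) (.node (.node (.leaf 282) (.leaf 383)) (.node (.leaf 696) (.leaf 406)))))) (.node (.node (.node (.node (.node (.leaf 957) (.leaf 143)) (.node (.leaf 102) (.leaf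 415))) (.node (.node (.leaf 1152) (.leaf 5)) (.node (.leaf 945) (.leaf 535)))) (.node (.node (.node (.leaf 1823) (.leaf 1123)) (.node (.leaf 630) (.leaf 1667))) (.node (.node (.leaf 1057) (.leaf 1544)) (.node (.leaf 562) (.leaf 1610))))) (.node (.node (.node (.node (.leaf 890) (.leaf 1348)) (.node (.leaf 826) (.leaf 689))) (.node (.node (.leaf 1389) (.leaf 1206)) (.node (.leaf 91) (.leaf 661)))) (.node (.node (.node (.leaf 1737) (.leaf 647)) (.node (.leaf 2040) (.leaf 1007))) (.node (.node (.leaf 356) (.leaf 967)) (.node (.leaf 1238) (.leaf 1725))))))) (.node (.node (.node (.node (.node (.node (.leaf 1051) (.leaf 1981)) (.node (.leaf 1189) (.leaf 2031))) (.node (.node (.leaf 690) (.leaf 456)) (.node (.leaf 1068) (.leaf 938)))) (.node (.node (.node (.leaf 790) (.leaf 501)) (.node (.leaf 488) (.leaf 1889))) (.node (.node (.leaf 1213) (.leaf 550)) (.node (.leaf 704) (.leaf 591))))) (.node (.node (.node (.node (.leaf 1332) (.leaf 442)) (.node (.leaf 59) (.leaf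 1448))) (.node (.node (.leaf 549) (.leaf 1184)) (.node (.leaf 1543) (.leaf 1485)))) (.node (.node (.node (.leaf 1300) (.leaf 1530)) (.node (.leaf 259) (.leaf 434))) (.node (.node (.leaf 985) (.leaf 87)) (.node (.leaf 439) (.leaf 833)))))) (.node (.node (.node (.node (.node (.leaf 27) (.leaf 481)) (.node (.leaf 1094) (.leaf 239))) (.node (.node (.leaf 1072) (.leaf 1876)) (.node (.leaf 67) (.leaf 157)))) (.node (.node (.node (.leaf 167) (.leaf 519)) (.node (.leaf 674) (.leaf 421))) (.node (.node (.leaf 1056) (.leaf 580)) (.node (.leaf 914) (.leaf 888))))) (.node (.node (.node (.node (.leaf 1829) (.leaf 1953)) (.node (.leaf 1863) (.leaf 1306))) (.node (.node (.leaf 1618) (.leaf 1035)) (.node (.leaf 1214) (.leaf 763)))) (.node (.node (.node (.leaf 1073) (.leaf 1216)) (.node (.leaf 564) (.leaf 602))) (.node (.node (.leaf 1440) (.leaf 1195)) (.node (.leaf 160) (.leaf 892))))))))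

/-- Part of `colInv`. -/
def colInv_p011 : Tr := .node (.node (.node (.node (.node (.node (.node (.node (.node (.leaf 1565) (.leaf 1337)) (.leaf 646)) (.node (.leaf 77) (.leaf 1926))) (.node (.node (.leaf 1366) (.leaf 180)) (.node (.leaf 901) (.leaf 980)))) (.node (.node (.node (.leaf 127) (.leaf 1917)) (.node (.leaf 960) (.leaf 119))) (.node (.node (.leaf 928) (.leaf 852)) (.node (.leaf 1034) (.leaf 1761))))) (.node (.node (.node (.node (.leaf 1860) (.leaf 2042)) (.node (.leaf 1718) (.leaf 372))) (.node (.node (.leaf 1978) (.leaf 1969)) (.node (.leaf 318) (.leaf 1245)))) (.node (.node (.node (.leaf 201) (.leaf 1059)) (.node (.leaf 1307) (.leaf 1870))) (.node (.node (.leaf 1460) (.leaf 1452)) (.node (.leaf 1640) (.leaf 787)))))) (.node (.node (.node (.node (.node (.leaf 193) (.leaf 581)) (.node (.leaf 1827) (.leaf 1657))) (.node (.node (.leaf 1757) (.leaf 995)) (.node (.leaf 1188) (.leaf 571)))) (.node (.node (.node (.leaf 18) (.leaf 2018)) (.node (.leaf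 39) (.leaf 1954))) (.node (.node (.leaf 1354) (.leaf 480)) (.node (.leaf 1105) (.leaf 1507))))) (.node (.node (.node (.node (.leaf 697) (.leaf 425)) (.node (.leaf 1032) (.leaf 1446))) (.node (.node (.leaf 75) (.leaf 153)) (.node (.leaf 416) (.leaf 159)))) (.node (.node (.node (.leaf 1201) (.leaf 915)) (.node (.leaf 1769) (.leaf 1566))) (.node (.node (.leaf 169) (.leaf 1965)) (.node (.leaf 1004) (.leaf 1279))))))) (.node (.node (.node (.node (.node (.node (.leaf 627) (.leaf 586)) (.node (.leaf 1496) (.leaf 429))) (.node (.node (.leaf 1690) (.leaf 855)) (.node (.leaf 1086) (.leaf 1484)))) (.node (.node (.node (.leaf 2038) (.leaf 233)) (.node (.leaf 1532) (.leaf 2007))) (.node (.node (.leaf 435) (.leaf 711)) (.node (.leaf 1682) (.leaf 588))))) (.node (.node (.node (.node (.leaf 1272) (.leaf 735)) (.node (.leaf 619) (.leaf 95))) (.node (.node (.leaf 743) (.leaf 304)) (.node (.leaf 1041) (.leaf 138)))) (.node (.node (.node (.leaf 336) (.leaf 1390)) (.node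 (.leaf 1707) (.leaf 1254))) (.node (.node (.leaf 2021) (.leaf 495)) (.node (.leaf 964) (.leaf 1259)))))) (.node (.node (.node (.node (.node (.leaf 1384) (.leaf 1790)) (.node (.leaf 1045) (.leaf 1614))) (.node (.node (.leaf 1570) (.leaf 1103)) (.node (.leaf 382) (.leaf 461)))) (.node (.node (.node (.leaf 616) (.leaf 1026)) (.node (.leaf 146) (.leaf 309))) (.node (.node (.leaf 1253) (.leaf 1302)) (.node (.leaf 128) (.leaf 16))))) (.node (.node (.node (.node (.leaf 942) (.leaf 263)) (.node (.leaf 1685) (.leaf 685))) (.node (.node (.leaf 1897) (.leaf 289)) (.node (.leaf 979) (.leaf 1329)))) (.node (.node (.node (.leaf 1538) (.leaf 1028)) (.node (.leaf 1619) (.leaf 975))) (.node (.node (.leaf 88) (.leaf 2016)) (.node (.leaf 1593) (.leaf 929)))))))) (.node (.node (.node (.node (.node (.node (.node (.leaf 371) (.leaf 1405)) (.node (.leaf 1787) (.leaf 723))) (.node (.node (.leaf 387) (.leaf 651)) (.node (.leaf 1562) (.leaf 527)))) (.node (.node (.node (.leaf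 1663) (.leaf 891)) (.node (.leaf 94) (.leaf 1128))) (.node (.node (.leaf 344) (.leaf 1568)) (.node (.leaf 577) (.leaf 729))))) (.node (.node (.node (.node (.leaf 1164) (.leaf 1907)) (.node (.leaf 1182) (.leaf 40))) (.node (.node (.leaf 1729) (.leaf 407)) (.node (.leaf 1202) (.leaf 1906)))) (.node (.node (.node (.leaf 1080) (.leaf 1227)) (.node (.leaf 1655) (.leaf 1044))) (.node (.node (.leaf 508) (.leaf 734)) (.node (.leaf 1340) (.leaf 954)))))) (.node (.node (.node (.node (.node (.leaf 1433) (.leaf 1318)) (.node (.leaf 1402) (.leaf 693))) (.node (.node (.leaf 491) (.leaf 505)) (.node (.leaf 865) (.leaf 2011)))) (.node (.node (.node (.leaf 953) (.leaf 1230)) (.node (.leaf 1531) (.leaf 1291))) (.node (.node (.leaf 1042) (.leaf 617)) (.node (.leaf 1257) (.leaf 1644))))) (.node (.node (.node (.node (.leaf 275) (.leaf 819)) (.node (.leaf 1286) (.leaf 55))) (.node (.node (.leaf 1376) (.leaf 716)) (.node (.leaf 1040) (.leaf 1130)))) (.node (.node (.node (.leaf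 1669) (.leaf 1208)) (.node (.leaf 436) (.leaf 12))) (.node (.node (.leaf 936) (.leaf 1569)) (.node (.leaf 1831) (.leaf 1243))))))) (.node (.node (.node (.node (.node (.node (.leaf 1549) (.leaf 587)) (.node (.leaf 482) (.leaf 36))) (.node (.node (.leaf 1542) (.leaf 1265)) (.node (.leaf 1991) (.leaf 1298)))) (.node (.node (.node (.leaf 1422) (.leaf 178)) (.node (.leaf 521) (.leaf 1735))) (.node (.node (.leaf 1021) (.leaf 1670)) (.node (.leaf 987) (.leaf 1410))))) (.node (.node (.node (.node (.leaf 89) (.leaf 988)) (.node (.leaf 1592) (.leaf 1779))) (.node (.node (.leaf 1126) (.leaf 1269)) (.node (.leaf 25) (.leaf 986)))) (.node (.node (.node (.leaf 1501) (.leaf 1915)) (.node (.leaf 134) (.leaf 403))) (.node (.node (.leaf 1750) (.leaf 349)) (.node (.leaf 739) (.leaf 21)))))) (.node (.node (.node (.node (.node (.leaf 324) (.leaf 1173)) (.node (.leaf 1159) (.leaf 223))) (.node (.node (.leaf 237) (.leaf 374)) (.node (.leaf 1515) (.leaf 851)))) (.node (.node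 (.node (.leaf 199) (.leaf 1571)) (.node (.leaf 585) (.leaf 1834))) (.node (.node (.leaf 1867) (.leaf 317)) (.node (.leaf 1295) (.leaf 1091))))) (.node (.node (.node (.node (.leaf 1591) (.leaf 635)) (.node (.leaf 151) (.leaf 1940))) (.node (.node (.leaf 925) (.leaf 1251)) (.node (.leaf 781) (.leaf 1349)))) (.node (.node (.node (.leaf 574) (.leaf 1090)) (.node (.leaf 206) (.leaf 173))) (.node (.node (.leaf 859) (.leaf 1363)) (.node (.leaf 185) (.leaf 1983))))))))

/-- Part of `colInv`. -/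
def colInv_p100 : Tr := .node (.node (.node (.node (.node (.node (.node (.node (.node (.leaf 1063) (.leaf 1859)) (.leaf 1845)) (.node (.leaf 1551) (.leaf 1435))) (.node (.node (.leaf 1009) (.leaf 1411)) (.node (.leaf 1971) (.leaf 747)))) (.node (.node (.node (.leaf 1814) (.leaf 680)) (.node (.leaf 671) (.leaf 1212))) (.node (.node (.leaf 1635) (.leaf 746)) (.node (.leaf 1477) (.leaf 1755))))) (.node (.node (.node (.node (.leaf 1828) (.leaf 648)) (.node (.leaf 57) (.leaf 1595))) (.node (.node (.leaf 476) (.leaf 637)) (.node (.leaf 1319) (.leaf 287)))) (.node (.node (.node (.leaf 1636) (.leaf 311)) (.node (.leaf 961) (.leaf 234))) (.node (.node (.leaf 838) (.leaf 1067)) (.node (.leaf 1274) (.leaf 846)))))) (.node (.node (.node (.node (.node (.leaf 1754) (.leaf 899)) (.node (.leaf 670) (.leaf 1838))) (.node (.node (.leaf 1864) (.leaf 1029)) (.node (.leaf 1605) (.leaf 118)))) (.node (.node (.node (.leaf 1853) (.leaf 1052)) (.node (.leaf 1938) (.leaf 2015)))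 (.node (.node (.leaf 692) (.leaf 218)) (.node (.leaf 1783) (.leaf 78))))) (.node (.node (.node (.node (.leaf 498) (.leaf 1234)) (.node (.leaf 353) (.leaf 1220))) (.node (.node (.leaf 1861) (.leaf 1156)) (.node (.leaf 1679) (.leaf 1139)))) (.node (.node (.node (.leaf 1299) (.leaf 1020)) (.node (.leaf 1290) (.leaf 770))) (.node (.node (.leaf 1514) (.leaf 130)) (.node (.leaf 397) (.leaf 1524))))))) (.node (.node (.node (.node (.node (.node (.leaf 339) (.leaf 420)) (.node (.leaf 377) (.leaf 1554))) (.node (.node (.leaf 1662) (.leaf 205)) (.node (.leaf 53) (.leaf 192)))) (.node (.node (.node (.leaf 1840) (.leaf 1693)) (.node (.leaf 525) (.leaf 545))) (.node (.node (.leaf 1641) (.leaf 1338)) (.node (.leaf 1960) (.leaf 939))))) (.node (.node (.node (.node (.leaf 983) (.leaf 466)) (.node (.leaf 1489) (.leaf 1466))) (.node (.node (.leaf 315) (.leaf 1323)) (.node (.leaf 1933) (.leaf 63)))) (.node (.node (.node (.leaf 1011) (.leaf 1081)) (.node (.leaf 1187) (.leaf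 1526))) (.node (.node (.leaf 684) (.leaf 1871)) (.node (.leaf 269) (.leaf 1613)))))) (.node (.node (.node (.node (.node (.leaf 1462) (.leaf 1116)) (.node (.leaf 460) (.leaf 1567))) (.node (.node (.leaf 1150) (.leaf 2035)) (.node (.leaf 672) (.leaf 1285)))) (.node (.node (.node (.leaf 221) (.leaf 1336)) (.node (.leaf 1046) (.leaf 1596))) (.node (.node (.leaf 437) (.leaf 789)) (.node (.leaf 791) (.leaf 503))))) (.node (.node (.node (.node (.leaf 2005) (.leaf 907)) (.node (.leaf 487) (.leaf 1956))) (.node (.node (.leaf 1373) (.leaf 433)) (.node (.leaf 1695) (.leaf 1098)))) (.node (.node (.node (.leaf 1478) (.leaf 35)) (.node (.leaf 1079) (.leaf 1773))) (.node (.node (.leaf 1700) (.leaf 71)) (.node (.leaf 511) (.leaf 970)))))))) (.node (.node (.node (.node (.node (.node (.node (.node (.leaf 1810) (.leaf 1099)) (.leaf 1631)) (.node (.leaf 48) (.leaf 1886))) (.node (.node (.leaf 1692) (.leaf 1851)) (.node (.leaf 1879) (.leaf 327)))) (.node (.node (.node (.leaf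 1911) (.leaf 1894)) (.node (.leaf 194) (.leaf 1616))) (.node (.node (.leaf 354) (.leaf 1014)) (.node (.leaf 703) (.leaf 919))))) (.node (.node (.node (.node (.leaf 994) (.leaf 1785)) (.node (.leaf 753) (.leaf 1205))) (.node (.node (.leaf 1409) (.leaf 1001)) (.node (.leaf 330) (.leaf 337)))) (.node (.node (.node (.leaf 150) (.leaf 777)) (.node (.leaf 1634) (.leaf 345))) (.node (.node (.leaf 679) (.leaf 1010)) (.node (.leaf 1219) (.leaf 360)))))) (.node (.node (.node (.node (.node (.leaf 673) (.leaf 841)) (.node (.leaf 698) (.leaf 158))) (.node (.node (.leaf 605) (.leaf 1172)) (.node (.leaf 1846) (.leaf 815)))) (.node (.node (.node (.leaf 1932) (.leaf 279)) (.node (.leaf 700) (.leaf 1502))) (.node (.node (.leaf 1704) (.leaf 556)) (.node (.leaf 1293) (.leaf 462))))) (.node (.node (.node (.node (.leaf 123) (.leaf 629)) (.node (.leaf 1018) (.leaf 1535))) (.node (.node (.leaf 2002) (.leaf 2048)) (.node (.leaf 1392) (.leaf 1517)))) (.node (.node (.node (.leaf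 220) (.leaf 666)) (.node (.leaf 799) (.leaf 991))) (.node (.node (.leaf 1726) (.leaf 727)) (.node (.leaf 238) (.leaf 1428))))))) (.node (.node (.node (.node (.node (.node (.leaf 62) (.leaf 1277)) (.node (.leaf 203) (.leaf 1623))) (.node (.node (.leaf 732) (.leaf 1069)) (.node (.leaf 1947) (.leaf 184)))) (.node (.node (.node (.leaf 831) (.leaf 1470)) (.node (.leaf 350) (.leaf 1671))) (.node (.node (.leaf 1364) (.leaf 375)) (.node (.leaf 882) (.leaf 1445))))) (.node (.node (.node (.node (.leaf 1817) (.leaf 1558)) (.node (.leaf 50) (.leaf 1417))) (.node (.node (.leaf 2043) (.leaf 878)) (.node (.leaf 1639) (.leaf 718)))) (.node (.node (.node (.leaf 1085) (.leaf 1598)) (.node (.leaf 1017) (.leaf 795))) (.node (.node (.leaf 428) (.leaf 1346)) (.node (.leaf 759) (.leaf 1784)))))) (.node (.node (.node (.node (.node (.leaf 1131) (.leaf 1724)) (.node (.leaf 9) (.leaf 1930))) (.node (.node (.leaf 1406) (.leaf 1031)) (.node (.leaf 514) (.leaf 410)))) (.node (.node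 (.node (.leaf 1434) (.leaf 1344)) (.node (.leaf 557) (.leaf 1963))) (.node (.node (.leaf 93) (.leaf 26)) (.node (.leaf 49) (.leaf 1765))))) (.node (.node (.node (.node (.leaf 139) (.leaf 1791)) (.node (.leaf 1547) (.leaf 1809))) (.node (.node (.leaf 1680) (.leaf 1908)) (.node (.leaf 555) (.leaf 861)))) (.node (.node (.node (.leaf 959) (.leaf 1062)) (.node (.leaf 1487) (.leaf 669))) (.node (.node (.leaf 1066) (.leaf 2054)) (.node (.leaf 473) (.leaf 599))))))))

/-- Part of `colInv`. -/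
def colInv_p101 : Tr := .node (.node (.node (.node (.node (.node (.node (.node (.node (.leaf 898) (.leaf 1512)) (.leaf 566)) (.node (.leaf 623) (.leaf 608))) (.node (.node (.leaf 1884) (.leaf 1793)) (.node (.leaf 142) (.leaf 1289)))) (.node (.node (.node (.leaf 73) (.leaf 1292)) (.node (.leaf 441) (.leaf 188))) (.node (.node (.leaf 1980) (.leaf 738)) (.node (.leaf 691) (.leaf 1921))))) (.node (.node (.node (.node (.leaf 164) (.leaf 582)) (.node (.leaf 1928) (.leaf 1408))) (.node (.node (.leaf 300) (.leaf 1919)) (.node (.leaf 990) (.leaf 1473)))) (.node (.node (.node (.leaf 1799) (.leaf 236)) (.node (.leaf 1425) (.leaf 539))) (.node (.node (.leaf 962) (.leaf 1388)) (.node (.leaf 971) (.leaf 687)))))) (.node (.node (.node (.node (.node (.leaf 569) (.leaf 1847)) (.node (.leaf 935) (.leaf 7))) (.node (.node (.leaf 835) (.leaf 413)) (.node (.leaf 1317) (.leaf 1138)))) (.node (.node (.node (.leaf 1241) (.leaf 1197)) (.node (.leaf 797) (.leaf 1822))) (.node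 (.node (.leaf 3) (.leaf 1756)) (.node (.leaf 1160) (.leaf 1950))))) (.node (.node (.node (.node (.leaf 1848) (.leaf 1244)) (.node (.leaf 541) (.leaf 823))) (.node (.node (.leaf 19) (.leaf 860)) (.node (.leaf 114) (.leaf 568)))) (.node (.node (.node (.leaf 520) (.leaf 1468)) (.node (.leaf 920) (.leaf 1347))) (.node (.node (.leaf 513) (.leaf 652)) (.node (.leaf 1705) (.leaf 1377))))))) (.node (.node (.node (.node (.node (.node (.leaf 645) (.leaf 165)) (.node (.leaf 1560) (.leaf 1504))) (.node (.node (.leaf 1905) (.leaf 224)) (.node (.leaf 721) (.leaf 500)))) (.node (.node (.node (.leaf 2050) (.leaf 463)) (.node (.leaf 894) (.leaf 45))) (.node (.node (.leaf 2026) (.leaf 1070)) (.node (.leaf 1611) (.leaf 543))))) (.node (.node (.node (.node (.leaf 1154) (.leaf 832)) (.node (.leaf 701) (.leaf 1778))) (.node (.node (.leaf 1493) (.leaf 323)) (.node (.leaf 2012) (.leaf 913)))) (.node (.node (.node (.leaf 352) (.leaf 1176)) (.node (.leaf 52) (.leaf 941))) (.node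 (.node (.leaf 1030) (.leaf 1706)) (.node (.leaf 1122) (.leaf 1795)))))) (.node (.node (.node (.node (.node (.leaf 1804) (.leaf 1621)) (.node (.leaf 1424) (.leaf 280))) (.node (.node (.leaf 526) (.leaf 196)) (.node (.leaf 1047) (.leaf 1429)))) (.node (.node (.node (.leaf 1648) (.leaf 618)) (.node (.leaf 322) (.leaf 1309))) (.node (.node (.leaf 1475) (.leaf 457)) (.node (.leaf 1966) (.leaf 1758))))) (.node (.node (.node (.node (.leaf 973) (.leaf 1934)) (.node (.leaf 998) (.leaf 270))) (.node (.node (.leaf 1788) (.leaf 1280)) (.node (.leaf 845) (.leaf 578)))) (.node (.node (.node (.leaf 404) (.leaf 653)) (.node (.leaf 308) (.leaf 478))) (.node (.node (.leaf 373) (.leaf 1232)) (.node (.leaf 1119) (.leaf 965)))))))) (.node (.node (.node (.node (.node (.node (.node (.leaf 904) (.leaf 1509)) (.node (.leaf 2017) (.leaf 4))) (.node (.node (.leaf 1537) (.leaf 2044)) (.node (.leaf 1842) (.leaf 722)))) (.node (.node (.node (.leaf 2020) (.leaf 1694)) (.node (.leaf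 1796) (.leaf 1314))) (.node (.node (.leaf 1379) (.leaf 600)) (.node (.leaf 101) (.leaf 709))))) (.node (.node (.node (.node (.leaf 440) (.leaf 1237)) (.node (.leaf 1528) (.leaf 1665))) (.node (.node (.leaf 604) (.leaf 872)) (.node (.leaf 1331) (.leaf 911)))) (.node (.node (.node (.leaf 1811) (.leaf 2023)) (.node (.leaf 1703) (.leaf 1872))) (.node (.node (.leaf 1881) (.leaf 1145)) (.node (.leaf 976) (.leaf 1739)))))) (.node (.node (.node (.node (.node (.leaf 1078) (.leaf 1629)) (.node (.leaf 1643) (.leaf 1581))) (.node (.node (.leaf 1355) (.leaf 347)) (.node (.leaf 764) (.leaf 1909)))) (.node (.node (.node (.leaf 1474) (.leaf 1516)) (.node (.leaf 1997) (.leaf 710))) (.node (.node (.leaf 866) (.leaf 1652)) (.node (.leaf 542) (.leaf 1033))))) (.node (.node (.node (.node (.leaf 1627) (.leaf 1043)) (.node (.leaf 636) (.leaf 1896))) (.node (.node (.leaf 742) (.leaf 1403)) (.node (.leaf 1432) (.leaf 1177)))) (.node (.node (.node (.leaf 445) (.leaf 1825)) (.node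 (.leaf 1575) (.leaf 15))) (.node (.node (.leaf 281) (.leaf 614)) (.node (.leaf 168) (.leaf 1780))))))) (.node (.node (.node (.node (.node (.node (.leaf 454) (.leaf 1759)) (.node (.leaf 621) (.leaf 2032))) (.node (.node (.leaf 177) (.leaf 1961)) (.node (.leaf 1491) (.leaf 211)))) (.node (.node (.node (.leaf 1712) (.leaf 793)) (.node (.leaf 1536) (.leaf 889))) (.node (.node (.leaf 1449) (.leaf 816)) (.node (.leaf 1935) (.leaf 1539))))) (.node (.node (.node (.node (.leaf 341) (.leaf 208)) (.node (.leaf 1748) (.leaf 1394))) (.node (.node (.leaf 2056) (.leaf 28)) (.node (.leaf 1162) (.leaf 2039)))) (.node (.node (.node (.leaf 1803) (.leaf 757)) (.node (.leaf 902) (.leaf 1922))) (.node (.node (.leaf 1480) (.leaf 1858)) (.node (.leaf 695) (.leaf 1638)))))) (.node (.node (.node (.node (.node (.leaf 145) (.leaf 471)) (.node (.leaf 1178) (.leaf 1582))) (.node (.node (.leaf 1248) (.leaf 744)) (.node (.leaf 1362) (.leaf 1604)))) (.node (.node (.node (.leaf 1125)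 (.leaf 212)) (.node (.leaf 1900) (.leaf 41))) (.node (.node (.leaf 1382) (.leaf 1967)) (.node (.leaf 24) (.leaf 400))))) (.node (.node (.node (.node (.leaf 977) (.leaf 132)) (.node (.leaf 1438) (.leaf 982))) (.node (.node (.leaf 1236) (.leaf 1812)) (.node (.leaf 301) (.leaf 992)))) (.node (.node (.node (.leaf 58) (.leaf 1650)) (.node (.leaf 163) (.leaf 176))) (.node (.node (.leaf 1193) (.leaf 1084)) (.node (.leaf 854) (.leaf 1807))))))))

/-- Part of `colInv`. -/
def colInv_p110 : Tr := .node (.node (.node (.node (.node (.node (.node (.node (.node (.leaf 2027) (.leaf 940)) (.leaf 468)) (.node (.leaf 264) (.leaf 37))) (.node (.node (.leaf 1612) (.leaf 828)) (.node (.leaf 1368) (.leaf 844)))) (.node (.node (.node (.leaf 1353) (.leaf 870)) (.node (.leaf 379) (.leaf 558))) (.node (.node (.leaf 1843) (.leaf 1890)) (.node (.leaf 1733) (.leaf 1365))))) (.node (.node (.node (.node (.leaf 1715) (.leaf 109)) (.node (.leaf 1987) (.leaf 1699))) (.node (.node (.leaf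 1815) (.leaf 452)) (.node (.leaf 1743) (.leaf 837)))) (.node (.node (.node (.leaf 362) (.leaf 1995)) (.node (.leaf 291) (.leaf 573))) (.node (.node (.leaf 968) (.leaf 20)) (.node (.leaf 470) (.leaf 251)))))) (.node (.node (.node (.node (.node (.leaf 843) (.leaf 1540)) (.node (.leaf 725) (.leaf 74))) (.node (.node (.leaf 465) (.leaf 1221)) (.node (.leaf 1942) (.leaf 1454)))) (.node (.node (.node (.leaf 295) (.leaf 1311)) (.node (.leaf 702) (.leaf 871))) (.node (.node (.leaf 1979) (.leaf 736)) (.node (.leaf 1013) (.leaf 1270))))) (.node (.node (.node (.node (.leaf 1343) (.leaf 1149)) (.node (.leaf 1786) (.leaf 1110))) (.node (.node (.leaf 1196) (.leaf 240)) (.node (.leaf 97) (.leaf 1835)))) (.node (.node (.node (.leaf 1996) (.leaf 133)) (.node (.leaf 510) (.leaf 365))) (.node (.node (.leaf 1089) (.leaf 182)) (.node (.leaf 1904) (.leaf 1653))))))) (.node (.node (.node (.node (.node (.node (.leaf 667) (.leaf 772)) (.node (.leaf 1321) (.leaf 1288))) (.node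 (.node (.leaf 1175) (.leaf 1450)) (.node (.leaf 1165) (.leaf 1224)))) (.node (.node (.node (.leaf 1880) (.leaf 325)) (.node (.leaf 1728) (.leaf 1215))) (.node (.node (.leaf 1970) (.leaf 1471)) (.node (.leaf 1) (.leaf 1351))))) (.node (.node (.node (.node (.leaf 567) (.leaf 943)) (.node (.leaf 737) (.leaf 44))) (.node (.node (.leaf 1381) (.leaf 625)) (.node (.leaf 610) (.leaf 1325)))) (.node (.node (.node (.leaf 808) (.leaf 1866)) (.node (.leaf 675) (.leaf 607))) (.node (.node (.leaf 1447) (.leaf 1573)) (.node (.leaf 1168) (.leaf 314)))))) (.node (.node (.node (.node (.node (.leaf 467) (.leaf 699)) (.node (.leaf 812) (.leaf 1985))) (.node (.node (.leaf 399) (.leaf 1400)) (.node (.leaf 660) (.leaf 553)))) (.node (.node (.node (.leaf 1287) (.leaf 2049)) (.node (.leaf 2046) (.leaf 1772))) (.node (.node (.leaf 910) (.leaf 326)) (.node (.leaf 1240) (.leaf 198))))) (.node (.node (.node (.node (.leaf 1681) (.leaf 504)) (.node (.leaf 1210) (.leaf 524))) (.node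 (.node (.leaf 122) (.leaf 1850)) (.node (.leaf 1313) (.leaf 1275)))) (.node (.node (.node (.leaf 1626) (.leaf 713)) (.node (.leaf 1579) (.leaf 1901))) (.node (.node (.leaf 978) (.leaf 472)) (.node (.leaf 821) (.leaf 390)))))))) (.node (.node (.node (.node (.node (.node (.node (.leaf 129) (.leaf 1039)) (.node (.leaf 824) (.leaf 681))) (.node (.node (.leaf 717) (.leaf 1916)) (.node (.leaf 1262) (.leaf 836)))) (.node (.node (.node (.leaf 2013) (.leaf 918)) (.node (.leaf 42) (.leaf 197))) (.node (.node (.leaf 1426) (.leaf 312)) (.node (.leaf 1455) (.leaf 2057))))) (.node (.node (.node (.node (.leaf 1441) (.leaf 1180)) (.node (.leaf 2019) (.leaf 253))) (.node (.node (.leaf 1646) (.leaf 932)) (.node (.leaf 1550) (.leaf 1185)))) (.node (.node (.node (.leaf 1494) (.leaf 358)) (.node (.leaf 544) (.leaf 483))) (.node (.node (.leaf 1255) (.leaf 1341)) (.node (.leaf 1923) (.leaf 1873)))))) (.node (.node (.node (.node (.node (.leaf 515) (.leaf 1398)) (.node (.leaf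 1625) (.leaf 1902))) (.node (.node (.leaf 1256) (.leaf 107)) (.node (.leaf 2025) (.leaf 235)))) (.node (.node (.node (.leaf 2055) (.leaf 1590)) (.node (.leaf 1687) (.leaf 921))) (.node (.node (.leaf 906) (.leaf 1865)) (.node (.leaf 1546) (.leaf 1519))))) (.node (.node (.node (.node (.leaf 394) (.leaf 842)) (.node (.leaf 1273) (.leaf 1914))) (.node (.node (.leaf 183) (.leaf 1129)) (.node (.leaf 1333) (.leaf 348)))) (.node (.node (.node (.leaf 1271) (.leaf 748)) (.node (.leaf 213) (.leaf 1503))) (.node (.node (.leaf 733) (.leaf 1564)) (.node (.leaf 885) (.leaf 642))))))) (.node (.node (.node (.node (.node (.node (.leaf 622) (.leaf 806)) (.node (.leaf 1106) (.leaf 1169))) (.node (.node (.leaf 392) (.leaf 1342)) (.node (.leaf 1121) (.leaf 1696)))) (.node (.node (.node (.leaf 1849) (.leaf 355)) (.node (.leaf 1077) (.leaf 1166))) (.node (.node (.leaf 357) (.leaf 1420)) (.node (.leaf 1071) (.leaf 1654))))) (.node (.node (.node (.node (.leaf 1327) (.leaf 1153))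 (.node (.leaf 1019) (.leaf 141))) (.node (.node (.leaf 1370) (.leaf 1882)) (.node (.leaf 788) (.leaf 204)))) (.node (.node (.node (.leaf 1925) (.leaf 1250)) (.node (.leaf 1836) (.leaf 1720))) (.node (.node (.leaf 1453) (.leaf 612)) (.node (.leaf 1751) (.leaf 1608)))))) (.node (.node (.node (.node (.node (.leaf 1371) (.leaf 293)) (.node (.leaf 537) (.leaf 1334))) (.node (.node (.leaf 1458) (.leaf 493)) (.node (.leaf 598) (.leaf 1367)))) (.node (.node (.node (.leaf 802) (.leaf 1055)) (.node (.leaf 649) (.leaf 805))) (.node (.node (.leaf 359) (.leaf 299)) (.node (.leaf 1523) (.leaf 284))))) (.node (.node (.node (.node (.leaf 1764) (.leaf 1278)) (.node (.leaf 496) (.leaf 2041))) (.node (.node (.leaf 1781) (.leaf 1136)) (.node (.leaf 1222) (.leaf 1875)))) (.node (.node (.node (.leaf 1264) (.leaf 1920)) (.node (.leaf 369) (.leaf 1506))) (.node (.node (.leaf 1719) (.leaf 628)) (.node (.leaf 1898) (.leaf 1885))))))))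

/-- Part of `colInv`. -/
def colInv_p111 : Tr := .node (.node (.node (.node (.node (.node (.node (.node (.node (.leaf 1559) (.leaf 552)) (.leaf 1117)) (.node (.leaf 148) (.leaf 258))) (.node (.node (.leaf 1993) (.leaf 1476)) (.node (.leaf 1910) (.leaf 1801)))) (.node (.node (.node (.leaf 459) (.leaf 1607)) (.node (.leaf 1479) (.leaf 981))) (.node (.node (.leaf 1777) (.leaf 829)) (.node (.leaf 1308) (.leaf 1977))))) (.node (.node (.node (.node (.leaf 1282) (.leaf 1887)) (.node (.leaf 363) (.leaf 1147))) (.node (.node (.leaf 1553) (.leaf 761)) (.node (.leaf 1883) (.leaf 1888)))) (.node (.node (.node (.leaf 1913) (.leaf 2053)) (.node (.leaf 1918) (.leaf 923))) (.node (.node (.leaf 69) (.leaf 1632)) (.node (.leaf 1483) (.leaf 1229)))))) (.node (.node (.node (.node (.node (.leaf 1108) (.leaf 1606)) (.node (.leaf 944) (.leaf 654))) (.node (.node (.leaf 1451) (.leaf 818)) (.node (.leaf 2033) (.leaf 321)))) (.node (.node (.node (.leaf 368) (.leaf 179)) (.node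 (.leaf 1782) (.leaf 561))) (.node (.node (.leaf 676) (.leaf 779)) (.node (.leaf 1711) (.leaf 254))))) (.node (.node (.node (.node (.leaf 1533) (.leaf 1023)) (.node (.leaf 252) (.leaf 884))) (.node (.node (.leaf 1697) (.leaf 1892)) (.node (.leaf 1580) (.leaf 877)))) (.node (.node (.node (.leaf 338) (.leaf 950)) (.node (.leaf 2004) (.leaf 847))) (.node (.node (.leaf 1959) (.leaf 1588)) (.node (.leaf 1076) (.leaf 255))))))) (.node (.node (.node (.node (.node (.node (.leaf 1973) (.leaf 120)) (.node (.leaf 68) (.leaf 444))) (.node (.node (.leaf 1258) (.leaf 262)) (.node (.leaf 611) (.leaf 100)))) (.node (.node (.node (.leaf 780) (.leaf 1998)) (.node (.leaf 1186) (.leaf 1740))) (.node (.node (.leaf 446) (.leaf 486)) (.node (.leaf 1114) (.leaf 782))))) (.node (.node (.node (.node (.leaf 2034) (.leaf 1760)) (.node (.leaf 1499) (.leaf 638))) (.node (.node (.leaf 783) (.leaf 952)) (.node (.leaf 72) (.leaf 242)))) (.node (.node (.node (.leaf 124) (.leaf 834)) (.node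 (.leaf 966) (.leaf 267))) (.node (.node (.leaf 1207) (.leaf 256)) (.node (.leaf 1399) (.leaf 207)))))) (.node (.node (.node (.node (.node (.leaf 1672) (.leaf 1620)) (.node (.leaf 881) (.leaf 1929))) (.node (.node (.leaf 1557) (.leaf 1181)) (.node (.leaf 82) (.leaf 972)))) (.node (.node (.node (.leaf 10) (.leaf 1209)) (.node (.leaf 1869) (.leaf 2029))) (.node (.node (.leaf 958) (.leaf 1617)) (.node (.leaf 1500) (.leaf 755))))) (.node (.node (.node (.node (.leaf 244) (.leaf 22)) (.node (.leaf 856) (.leaf 1584))) (.node (.node (.leaf 593) (.leaf 1183)) (.node (.leaf 1326) (.leaf 1148)))) (.node (.node (.node (.leaf 106) (.leaf 1102)) (.node (.leaf 776) (.leaf 1839))) (.node (.node (.leaf 613) (.leaf 333)) (.node (.leaf 1155) (.leaf 1798)))))))) (.node (.node (.node (.node (.node (.node (.node (.leaf 874) (.leaf 1661)) (.node (.leaf 56) (.leaf 1819))) (.node (.node (.leaf 115) (.leaf 1134)) (.node (.leaf 1734) (.leaf 228)))) (.node (.node (.node (.leaf 419)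 (.leaf 1497)) (.node (.leaf 248) (.leaf 1975))) (.node (.node (.leaf 1701) (.leaf 509)) (.node (.leaf 54) (.leaf 1412))))) (.node (.node (.node (.node (.leaf 1457) (.leaf 172)) (.node (.leaf 116) (.leaf 117))) (.node (.node (.leaf 1486) (.leaf 1022)) (.node (.leaf 90) (.leaf 1520)))) (.node (.node (.node (.leaf 489) (.leaf 290)) (.node (.leaf 1111) (.leaf 1350))) (.node (.node (.leaf 533) (.leaf 1049)) (.node (.leaf 84) (.leaf 999)))))) (.node (.node (.node (.node (.node (.leaf 1713) (.leaf 464)) (.node (.leaf 1555) (.leaf 1393))) (.node (.node (.leaf 1974) (.leaf 391)) (.node (.leaf 620) (.leaf 760)))) (.node (.node (.node (.leaf 1633) (.leaf 694)) (.node (.leaf 1628) (.leaf 786))) (.node (.node (.leaf 1624) (.leaf 214)) (.node (.leaf 1946) (.leaf 1060))))) (.node (.node (.node (.node (.leaf 103) (.leaf 1874)) (.node (.leaf 51) (.leaf 469))) (.node (.node (.leaf 1461) (.leaf 749)) (.node (.leaf 644) (.leaf 1583)))) (.node (.node (.node (.leaf 1548) (.leaf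 108)) (.node (.leaf 1527) (.leaf 1955))) (.node (.node (.leaf 490) (.leaf 92)) (.node (.leaf 1191) (.leaf 61))))))) (.node (.node (.node (.node (.node (.node (.leaf 955) (.leaf 993)) (.node (.leaf 554) (.leaf 1217))) (.node (.node (.leaf 1948) (.leaf 1431)) (.node (.leaf 626) (.leaf 1387)))) (.node (.node (.node (.leaf 1771) (.leaf 1691)) (.node (.leaf 187) (.leaf 2036))) (.node (.node (.leaf 1589) (.leaf 1498)) (.node (.leaf 38) (.leaf 1444))))) (.node (.node (.node (.node (.leaf 867) (.leaf 933)) (.node (.leaf 1572) (.leaf 969))) (.node (.node (.leaf 1962) (.leaf 422)) (.node (.leaf 1721) (.leaf 1931)))) (.node (.node (.node (.leaf 1893) (.leaf 411)) (.node (.leaf 484) (.leaf 414))) (.node (.node (.leaf 257) (.leaf 659)) (.node (.leaf 1141) (.leaf 658)))))) (.node (.node (.node (.node (.node (.leaf 1688) (.leaf 2003)) (.node (.leaf 518) (.leaf 1603))) (.node (.node (.leaf 1939) (.leaf 830)) (.node (.leaf 825) (.leaf 1330)))) (.node (.node (.node (.leaf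 302) (.leaf 105)) (.node (.leaf 1146) (.leaf 640))) (.node (.node (.leaf 1714) (.leaf 1776)) (.node (.leaf 166) (.leaf 1800))))) (.node (.node (.node (.node (.leaf 900) (.leaf 1877)) (.node (.leaf 149) (.leaf 756))) (.node (.node (.leaf 274) (.leaf 1794)) (.node (.leaf 590) (.leaf 1992)))) (.node (.node (.node (.leaf 1753) (.leaf 189)) (.node (.leaf 1944) (.leaf 131))) (.node (.node (.leaf 905) (.leaf 1391)) (.node (.leaf 1199) (.leaf 540))))))))

/-- Inverse positions. -/
def colInv : Tr := .node (.node (.node (colInv_p000) (colInv_p001)) (.node (colInv_p010) (colInv_p011))) (.node (.node (colInv_p100) (colInv_p101)) (.node (colInv_p110) (colInv_p111)))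

end CfsgLib.Sporadic.He
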