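import Cfsg.Agent.Lib.Sporadic.HeDataT
import Cfsg.Agent.Lib.Sporadic.HeDataCert
import Cfsg.Agent.Lib.Sporadic.HeDataSub
import Cfsg.Agent.Lib.Sporadic.BlockRep

/-! Kernel evaluation of the certificates for the Held group, other than the top one. -/

set_option autoImplicit false

namespace CfsgLib.Sporadic.He

/-- The transversals used to write elements as words. -/
abbrev chain : List (ℕ × Tr) := [(2058, topT), (2, kT), (425, hT), (9, pT), (256, qT)]

theorem top_par : allFrom 0 2058 (parentOK (mulF2 51) one topGens 2058 topT topPar) = true := by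
  decide +kernel

theorem topOrd_ok : topGens.map (fun c => genWord (mulF2 51) one [c]
    (List.replicate (topOrd.getD (topGens.idxOf c) 0) 0)) = topGens.map (fun _ => one) := by
  decide +kernel

theorem kVals_ok : (List.zip kGens kVals).all (fun cv =>
    mulF2 51 (topT.get (topFac.get cv.2 % 2058)) cv.1 ==
      mulF2 51 (topGens.getD (cv.2 / 2058) one) (topT.get (cv.2 % 2058))) = true := by
  decide +kernel

theorem k_par : allFrom 0 2 (parentOK (mulF2 51) one kGens 2 kT kPar) = true := by
  decide +kernel

theorem k_fac : allFrom 0 (kGens.length * 2) (stepOK (mulF2 51) one kGens 2 kT kFac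
    [(425, hT), (9, pT), (256, qT)]) = true := by
  decide +kernel

theorem hWords_ok : hWords.map (genWord (mulF2 51) one kGens) = hGens := by
  decide +kernel

theorem h_par : allFrom 0 425 (parentOK (mulF2 51) one hGens 425 hT hPar) = true := by
  decide +kernel

theorem h_fac : allFrom 0 (hGens.length * 425) (stepOK (mulF2 51) one hGens 425 hT hFac
    [(9, pT), (256, qT)]) = true := by
  decide +kernel

theorem pVals_ok : (List.zip pGens pVals).all (fun cv =>
    mulF2 51 (hT.get (hFac.get cv.2 % 425)) (mulF2 51 (pT.get (hFac.get cv.2 / 425 % 9))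
      (qT.get (hFac.get cv.2 / 425 / 9 % 256))) ==
      mulF2 51 (hGens.getD (cv.2 / 425) one) (hT.get (cv.2 % 425)) &&
    mulF2 51 (hT.get (hFac.get cv.2 % 425)) cv.1 ==
      mulF2 51 (hGens.getD (cv.2 / 425) one) (hT.get (cv.2 % 425))) = true := by
  decide +kernel

theorem p_par : allFrom 0 9 (parentOK (mulF2 51) one pGens 9 pT pPar) = true := by
  decide +kernel

theorem p_fac : allFrom 0 (pGens.length * 9) (stepOK (mulF2 51) one pGens 9 pT pFac
    [(256, qT)]) = true := by
  decide +kernel

theorem qWords_ok : qWords.map (genWord (mulF2 51) one pGens) = qGens := by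
  decide +kernel

theorem q_par : allFrom 0 256 (parentOK (mulF2 51) one qGens 256 qT qPar) = true := by
  decide +kernel

theorem q_fac : allFrom 0 (qGens.length * 256) (stepOK (mulF2 51) one qGens 256 qT qFac []) =
    true := by
  decide +kernel

/-- First columns of the transversal: distinct, and recorded in `colT`. -/
theorem colT_ok : allFrom 0 2058 (fun i => colVec 51 (topT.get i) == colT.get i) = true := by
  decide +kernel

theorem col_dist :
    allFrom 0 2058 (distinctOK (fun c => Nat.blt c (2 ^ 51)) 2058 colT colSrt colPos colInv) =
      true := by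
  decide +kernel

theorem kGens_fix : kGens.all (fun c => colVec 51 c == 1) = true := by decide +kernel

theorem kGens_tri : kGens.all (fun c => canonF2 51 c) = true := by decide +kernel

theorem primeData_ok : (primeData.map (fun pr => genWord (mulF2 51) one (pr.map Prod.fst)
      (List.range pr.length)) == topGens &&
    primeData.all (fun pr => pr.all (fun cv => wordCode (mulF2 51) one chain cv.2 == cv.1 &&
      genWord (mulF2 51) one [cv.1] (List.replicate 17 0) == one))) = true := by
  decide +kernel

theorem fixCert_ok :
    (List.zip fixCert kGens).foldr (fun lc acc => mulF2 51 lc.1 (lc.2 ^^^ one) ^^^ acc) 0 =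
      one ^^^ 1 := by
  decide +kernel

theorem spanMat_ok : allFrom 0 51 (fun j =>
    Nat.blt (spanIdx.getD j 0) 2058 &&
      colVec 51 (spanMat >>> j) == colVec 51 (topT.get (spanIdx.getD j 0))) = true := by
  decide +kernel

theorem spanInv_ok : mulF2 51 spanMat spanInv = one := by decide +kernel

theorem one_eq_oneF2 : one = oneF2 51 := by decide +kernel

end CfsgLib.Sporadic.He
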