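import Cfsg.Agent.Lib.Sporadic.HeDataT
import Cfsg.Agent.Lib.Sporadic.HeDataCert
import Cfsg.Agent.Lib.Sporadic.HeDataSub
import Cfsg.Agent.Lib.Sporadic.MatF2

/-! Kernel evaluation of part 0 of the top certificate for the Held group. -/

set_option autoImplicit false

namespace CfsgLib.Sporadic.He

theorem top_fac0 : allFrom 0 1029 (stepOK (mulF2 51) one topGens 2058 topT topFac
    [(2, kT), (425, hT), (9, pT), (256, qT)]) = true := by
  decide +kernel

end CfsgLib.Sporadic.He
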