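import Cfsg.Agent.Lib.Sporadic.Chain

/-! Generated subgroups of the 8 × 8 image of the symplectic subgroup of the Held group. -/

set_option autoImplicit false
set_option maxRecDepth 20000

namespace CfsgLib.Sporadic.He

/-- Generators of subgroup a in 51 × 51 codes. -/
def saGens51 : List ℕ := [0x10000000000000449a00000000591d80000000080e300000000024890000000001bfa00000000412fc00000000c0c580000000105560000000020474000000000d3240000000090f300000000027850000000036e140000000048f1c000000001831000000000a04900000000240a53e0000004a67530000000edbea40000000425d9900000018842d80000007d7a9800000008a9bf80000001641b7a00000018628f700000071642e18a00009c9941e3c00015a56b43280001ca6fe9df00003e965649a0000b25cfa72c000155da9601000010e4bda010000262da0bb04200c44a3d29c3d44564ffc494dd42772e49ff1aa53ea0430ea054ac89d3fbe46ba5fea1c6372c8eabe6efd4a1ba868ae34354803c1ad31fe20549d34271c058dd1a031d6bf6045113c502b9e0010f7568fa3804bc813328ff855393fcd86be0b8f4ad62b7140001, 0x1000000000000009000000000024ac0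00000000795800000000062f8000000001d900000000001cb340000000028c00000000000085000000001e59a000000007083c00000000b113800000001e71200000000328ee000000005daac00000000502500000000185660000000003b8e9e00000077ea178000000243fb58000001ee055b00000015c9f780000004a7c32c00000044879900000014e6d9b0000003155bc300000023e55ec4400009ff90f4440000254eda7d8000066d427a6000069ab095a60000221109ec80000186ba13d80002279fd8e600003c2e4ef153140f00b8711b74d93bd144eb9050055a75161f8180ea1ec019c0304b291cabb0a2d54594d1e01000231face8421d295d1f446856cc89b4b25f732c51a065a7210b2a6aa40b56d3e6b46c639e001081de5d8d50c453b70d5f8f89cb43d9d22ef01133ae84e280001, 0x10000000000002ca6c00000000262340000000046120000000004c1800000000130c80000000019860000000000020000000000705d00000000364640000000000800000000004e3600000000018c9000000000dc700000000049c980000000010b78000000010a660000000027c87f40000002d292840000005e605d8000000d565b70000003cc0c9e00000006621fc0000000926cc000000048e90100000027c86f500000065360fd6800006740ca9b00001fe6fa71000001fb58f410000078c6d181000006930a38100001d82a430f00001cc558239000053fbb59309d084fb31aab23a11e310e02a76079333ad45ce1603bc12fec141aaa5e0017424b28f2a21014794d99f4650bce62e515b49471fd3e8d68dbeee78f53006bf8ba20e37dae920ccde41c70145c7c22a00435aa80c27d41905d226c642d3549eaf37525b7f5dc300001,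 0x100000000000039aec0000000072ec80000000081fd800000001c6260000000033f64000000004dac8000000008ff9000000001cb32000000003e4de000000003fd8000000000e1b9800000001ad7b000000003ebe4000000000f5a400000000217900000000012d40000000013778a00000005d636380000007cf06f80000012eadd2000000042b0860000004a4bba0000000385bad80000018185e00000000ed714f0000007c52031700000044b3c9900001cbf6684b000011e962a7d000068922997c0000ef28c71a400013e69d14c000037931bc7400000e3c12180b8284e21770591bf44ead2e592bc91129beea2aa662c80ae6da06d6e3608e60cd9c85dda57292c8eb2dfe83bef141529961304145264311340eb384befc7b59085537e50fe884c104bf1d4ce20456983cb9ba6a8a8af5a01bba1c610b9fdff649ad2d0f5818e0001]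

/-- The same as words in the transversals. -/
def saVals : List ℕ := [3825, 7650, 11475, 15300]

/-- Their 8 × 8 blocks (subgroup of order 256). -/
def saGens : List ℕ := [0xc58f65df4dcb0201, 0x2211fba6d3b27be6, 0xb46c201008041e39, 0xb864967dbe699874]

/-- Table T. -/
def saT : Tr := .node (.node (.node (.node (.node (.node (.node (.node (.leaf 0x8040201008040201) (.leaf 0x9874c78eef9ac183)) (.node (.leaf 0xddbb342c1c3877ee) (.leaf 0xed9b65df4dcb2a15))) (.node (.node (.leaf 0x4fcaef9ac78e0201) (.leaf 0x2a1508042010a854)) (.node (.leaf 0x9c7865df4dcb73e2) (.leaf 0x77eec78eef9a060d)))) (.node (.node (.node (.leaf 0xed9b342c1c387be6) (.leaf 0x9c7820100804362d)) (.node (.leaf 0x57fe8241aa554bc6) (.leaf 0x60d080420109070))) (.node (.node (.leaf 0xa45c59f771e363d2) (.leaf 0x2018241aa550a05)) (.node (.leaf 0x2a154dcb65dfed9b) (.leaf 0x844cfba6d3b2c987))))) (.node (.node (.node (.node (.leaf 0xcd8bfba6d3b2bc68) (.leaf 0x1e3959f771e3e59f)) (.node (.leaf 0x9874be69967db864) (.leaf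 0xbc68d3b2fba6cd8b))) (.node (.node (.leaf 0x261dbe69967d2e19) (.leaf 0x7be6967dbe6967de)) (.node (.leaf 0x77ee71e359f7b060) (.leaf 0x73e21c38342ccd8b)))) (.node (.node (.node (.leaf 0xf5afd3b2fba6b864) (.leaf 0xfdab342c1c387fea)) (.node (.leaf 0x5bf61c38342ce59f) (.leaf 0xa45cbe69967d844c))) (.node (.node (.leaf 0x3a2508042010ac58) (.leaf 0x53f2967dbe694fca)) (.node (.leaf 0x7be6d3b2fba62211) (.leaf 0xe09be69967d060d)))))) (.node (.node (.node (.node (.node (.leaf 0xb864967dbe699874) (.leaf 0xb46caa558241947c)) (.node (.leaf 0xf5afaa558241c183) (.leaf 0x907020100804060d))) (.node (.node (.leaf 0xed9bc78eef9a8844) (.leaf 0x60d71e359f7e997)) (.node (.leaf 0x47ced3b2fba61e39) (.leaf 0xc58f967dbe69f1a3)))) (.node (.node (.node (.leaf 0x3e298241aa55362d) (.leaf 0x47ce967dbe695bf6)) (.node (.leaf 0xb46cef9ac78ed1b3) (.leaf 0xa05065df4dcb4fca))) (.node (.node (.leaf 0x47ce59f771e3947c) (.leaf 0x844c967dbe69a45c)) (.node (.leaf 0xc987342c1c3863d2) (.leaf 0x1e3908042010b46c)))))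 (.node (.node (.node (.node (.leaf 0x8c48be69967dac58) (.leaf 0xa854d3b2fba6d9b7)) (.node (.leaf 0x163d4dcb65dfd1b3) (.leaf 0x73e2ef9ac78e3e29))) (.node (.node (.leaf 0x73e24dcb65df9c78) (.leaf 0x4fca4dcb65dfa050)) (.node (.leaf 0x67de1c38342cd9b7) (.leaf 0x63d271e359f7a45c)))) (.node (.node (.node (.leaf 0x43c265df4dcbb864) (.leaf 0x221159f771e3d9b7)) (.node (.leaf 0xed9b967dbe69d9b7) (.leaf 0xf1a371e359f70a05))) (.node (.node (.leaf 0xe193aa558241d5bf) (.leaf 0xac58201008043a25)) (.node (.leaf 0x163d08042010947c) (.leaf 0x5bf64dcb65dfb46c))))))) (.node (.node (.node (.node (.node (.node (.leaf 0x2211fba6d3b27be6) (.leaf 0x1231ef9ac78e63d2)) (.node (.leaf 0xcd8b71e359f7362d) (.leaf 0x8040d3b2fba6f1a3))) (.node (.node (.leaf 0x804071e359f753f2) (.leaf 0x8844aa558241a854)) (.node (.leaf 0x60d967dbe690e09) (.leaf 0xa854201008042a15)))) (.node (.node (.node (.leaf 0x261d080420109874) (.leaf 0xc987d3b2fba6844c)) (.node (.leaf 0xddbbaa558241e997) (.leaf 0x201c78eef9a4fca))) (.node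 (.node (.leaf 0xe9978241aa55ddbb) (.leaf 0xa050201008040a05)) (.node (.leaf 0x8844ef9ac78eed9b) (.leaf 0x947c8241aa55b46c))))) (.node (.node (.node (.node (.leaf 0xe59f71e359f71e39) (.leaf 0xa45cc78eef9afdab)) (.node (.leaf 0x6fda59f771e3bc68) (.leaf 0xe997342c1c386bd6))) (.node (.node (.leaf 0x77ee1c38342cddbb) (.leaf 0xe59fbe69967dd1b3)) (.node (.leaf 0x5ffac78eef9a2e19) (.leaf 0xf9a7967dbe69cd8b)))) (.node (.node (.node (.leaf 0x9c78aa558241bc68) (.leaf 0xd5bf8241aa55e193)) (.node (.leaf 0x6bd68241aa5577ee) (.leaf 0x53f2d3b2fba60a05))) (.node (.node (.leaf 0x6fdad3b2fba6362d) (.leaf 0xf1a3342c1c384fca)) (.node (.leaf 0xe59ffba6d3b2947c) (.leaf 0xd1b3c78eef9ab46c)))))) (.node (.node (.node (.node (.node (.leaf 0xb46c65df4dcb5bf6) (.leaf 0x947cd3b2fba6e59f)) (.node (.leaf 0xb060201008040e09) (.leaf 0x362d59f771e3cd8b))) (.node (.node (.leaf 0xe193d3b2fba6ac58) (.leaf 0xd9b7342c1c3867de)) (.node (.leaf 0x261dd3b2fba643c2) (.leaf 0x1a3565df4dcbc987)))) (.node (.node (.node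 (.leaf 0x4bc6aa55824157fe) (.leaf 0xac58967dbe698c48)) (.node (.leaf 0xd1b3967dbe69e59f) (.leaf 0xe09d3b2fba66bd6))) (.node (.node (.leaf 0x5ffa71e359f79874) (.leaf 0x6bd6fba6d3b20e09)) (.node (.leaf 0xd9b771e359f72211) (.leaf 0x5bf6be69967d47ce))))) (.node (.node (.node (.node (.leaf 0xe0965df4dcbddbb) (.leaf 0x8c48c78eef9ad5bf)) (.node (.leaf 0xe193342c1c384bc6) (.leaf 0xa0508042010a050))) (.node (.node (.leaf 0xf9a7c78eef9a9c78) (.leaf 0xc9874dcb65df1a35)) (.node (.leaf 0xa45c201008041a35) (.leaf 0x362daa5582413e29)))) (.node (.node (.node (.leaf 0x1a35be69967d1231) (.leaf 0x6bd665df4dcb9070)) (.node (.leaf 0x43c28241aa555ffa) (.leaf 0x261d65df4dcbf5af))) (.node (.node (.leaf 0x57fe1c38342cd5bf) (.leaf 0xfdab8241aa55c987)) (.node (.leaf 0x2e1971e359f7c183) (.leaf 0x1e39fba6d3b247ce)))))))) (.node (.node (.node (.node (.node (.node (.node (.leaf 0xc58f65df4dcb0201) (.leaf 0xe1934dcb65df3221)) (.node (.leaf 0xac58fba6d3b2e193) (.leaf 0x67de4dcb65df8844))) (.node (.node (.leaf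 0x6fda967dbe6973e2) (.leaf 0xddbb4dcb65df0e09)) (.node (.leaf 0x4bc671e359f78c48) (.leaf 0x2014dcb65dfc58f)))) (.node (.node (.node (.leaf 0xcd8bbe69967df9a7) (.leaf 0xc183342c1c3843c2)) (.node (.leaf 0x2e1908042010b864) (.leaf 0xb8644dcb65df43c2))) (.node (.node (.leaf 0x6fda1c38342cf9a7) (.leaf 0x63d2aa5582417fea)) (.node (.leaf 0x123108042010844c) (.leaf 0x1e39aa558241163d))))) (.node (.node (.node (.node (.leaf 0xac584dcb65df57fe) (.leaf 0x57fe65df4dcbac58)) (.node (.leaf 0x6bd61c38342ce997) (.leaf 0x362dfba6d3b26fda))) (.node (.node (.leaf 0xcd8b342c1c3873e2) (.leaf 0x3e2908042010bc68)) (.node (.leaf 0xd9b7fba6d3b2a854) (.leaf 0x844c4dcb65df7fea)))) (.node (.node (.node (.leaf 0xa85471e359f77be6) (.leaf 0xd9b7be69967ded9b)) (.node (.leaf 0x987420100804261d) (.leaf 0xf1a3fba6d3b28040))) (.node (.node (.leaf 0xa05aa5582410201) (.leaf 0xddbbd3b2fba69070)) (.node (.leaf 0x3e294dcb65dff9a7) (.leaf 0x5bf6ef9ac78e163d)))))) (.node (.node (.node (.node (.node (.leaf 0x67debe69967d7be6)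 (.leaf 0x3a2571e359f7d5bf)) (.node (.leaf 0x362d080420109c78) (.leaf 0xbc6871e359f76fda))) (.node (.node (.leaf 0x987459f771e35ffa) (.leaf 0x3221be69967d3a25)) (.node (.leaf 0x7fea1c38342cfdab) (.leaf 0x4fcabe69967d53f2)))) (.node (.node (.node (.leaf 0x43c2fba6d3b2261d) (.leaf 0xb06059f771e377ee)) (.node (.leaf 0xf5af342c1c385ffa) (.leaf 0xc18359f771e32e19))) (.node (.node (.leaf 0x8c48201008043221) (.leaf 0xc58fc78eef9aa050)) (.node (.leaf 0xb864fba6d3b2f5af) (.leaf 0x947c20100804163d))))) (.node (.node (.node (.node (.leaf 0xc183ef9ac78e9874) (.leaf 0xc1838241aa55f5af)) (.node (.leaf 0x2211aa5582412a15) (.leaf 0x77eeaa5582416bd6))) (.node (.node (.leaf 0x7fea65df4dcb844c) (.leaf 0x8c4859f771e34bc6)) (.node (.leaf 0xc987aa558241fdab) (.leaf 0xbc68201008043e29)))) (.node (.node (.node (.leaf 0xd5bf342c1c3857fe) (.leaf 0x60def9ac78e77ee)) (.node (.leaf 0x4bc6c78eef9a3a25) (.leaf 0x53f259f771e38040))) (.node (.node (.leaf 0xa8548241aa558844) (.leaf 0xa050aa5582418040)) (.node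 (.leaf 0x67deef9ac78e2a15) (.leaf 0xd1b365df4dcb163d))))))) (.node (.node (.node (.node (.node (.node (.leaf 0xb46c201008041e39) (.leaf 0xb864201008042e19)) (.node (.leaf 0xfdab59f771e31231) (.leaf 0xa05fba6d3b253f2))) (.node (.node (.leaf 0x2e19ef9ac78e5ffa) (.leaf 0x2a158241aa552211)) (.node (.leaf 0xd5bf59f771e33a25) (.leaf 0x2211080420108844)))) (.node (.node (.node (.leaf 0xe59f342c1c385bf6) (.leaf 0x5ffa1c38342cf5af)) (.node (.leaf 0x322165df4dcbe193) (.leaf 0xe997ef9ac78eb060))) (.node (.node (.leaf 0x9c78ef9ac78ef9a7) (.leaf 0x4bc61c38342ce193)) (.node (.leaf 0x2a15c78eef9a67de) (.leaf 0x1a35d3b2fba67fea))))) (.node (.node (.node (.node (.leaf 0x3e29c78eef9a73e2) (.leaf 0x163d8241aa551e39)) (.node (.leaf 0x63d2c78eef9a1231) (.leaf 0xf9a765df4dcb3e29))) (.node (.node (.leaf 0x3a25ef9ac78e4bc6) (.leaf 0xb060c78eef9ae997)) (.node (.leaf 0x90704dcb65df6bd6) (.leaf 0x73e2be69967d6fda)))) (.node (.node (.node (.leaf 0x47ce1c38342cd1b3) (.leaf 0x1a3508042010a45c)) (.node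 (.leaf 0x163dc78eef9a5bf6) (.leaf 0x1231967dbe691a35))) (.node (.node (.leaf 0xc58f342c1c3853f2) (.leaf 0x53f21c38342cc58f)) (.node (.leaf 0x7fea8241aa5563d2) (.leaf 0x9070967dbe69b060)))))) (.node (.node (.node (.node (.node (.leaf 0x3221d3b2fba657fe) (.leaf 0x7feafba6d3b21a35)) (.node (.leaf 0xbc688241aa559c78) (.leaf 0xe0908042010b060))) (.node (.node (.leaf 0x123171e359f7fdab) (.leaf 0x63d21c38342cc987)) (.node (.leaf 0x7be659f771e3a854) (.leaf 0xf9a7342c1c386fda)))) (.node (.node (.node (.leaf 0x844c201008041231) (.leaf 0x7be61c38342ced9b)) (.node (.leaf 0xb060be69967d9070) (.leaf 0x80408241aa55a050))) (.node (.node (.leaf 0x9070fba6d3b2ddbb) (.leaf 0xf1a3be69967dc58f)) (.node (.leaf 0xe99759f771e3060d) (.leaf 0xd1b3342c1c3847ce))))) (.node (.node (.node (.node (.leaf 0x3a25967dbe693221) (.leaf 0x5ffaaa55824143c2)) (.node (.leaf 0x4fca1c38342cf1a3) (.leaf 0x43c21c38342cc183))) (.node (.node (.leaf 0x57fefba6d3b23221) (.leaf 0x3221080420108c48)) (.node (.leaf 0x884465df4dcb67de)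 (.leaf 0xfdabef9ac78ea45c)))) (.node (.node (.node (.leaf 0xf5af4dcb65df261d) (.leaf 0x8844201008042211)) (.node (.leaf 0xd5bfef9ac78e8c48) (.leaf 0xa050ef9ac78ec58f))) (.node (.node (.leaf 0x2e19967dbe69261d) (.leaf 0x201080420108040)) (.node (.leaf 0xa0559f771e3f1a3) (.leaf 0x947c71e359f747ce))))))))

/-- Table Par. -/
def saPar : Tr := .node (.node (.node (.node (.node (.node (.node (.node (.leaf 0) (.leaf 820)) (.node (.leaf 277) (.leaf 861))) (.node (.node (.leaf 777) (.leaf 581)) (.node (.leaf 803) (.leaf 650)))) (.node (.node (.node (.leaf 772) (.leaf 828)) (.node (.leaf 795) (.leaf 384))) (.node (.node (.leaf 271) (.leaf 849)) (.node (.leaf 556) (.leaf 431))))) (.node (.node (.node (.node (.leaf 514) (.leaf 823)) (.node (.leaf 24) (.leaf 872))) (.node (.node (.leaf 524) (.leaf 841)) (.node (.leaf 551) (.leaf 663)))) (.node (.node (.node (.leaf 519) (.leaf 576)) (.node (.leaf 798) (.leaf 389))) (.node (.node (.leaf 530) (.leaf 598)) (.node (.leaf 816) (.leaf 465))))))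 (.node (.node (.node (.node (.node (.leaf 768) (.leaf 821)) (.node (.leaf 534) (.leaf 358))) (.node (.node (.leaf 523) (.leaf 328)) (.node (.leaf 805) (.leaf 913)))) (.node (.node (.node (.leaf 262) (.leaf 830)) (.node (.leaf 796) (.leaf 898))) (.node (.node (.leaf 273) (.leaf 339)) (.node (.leaf 303) (.leaf 945))))) (.node (.node (.node (.node (.leaf 771) (.leaf 570)) (.node (.leaf 282) (.leaf 875))) (.node (.node (.leaf 781) (.leaf 588)) (.node (.leaf 808) (.leaf 410)))) (.node (.node (.node (.leaf 776) (.leaf 833)) (.node (.leaf 545) (.leaf 903))) (.node (.node (.leaf 787) (.leaf 601)) (.node (.leaf 307) (.leaf 979))))))) (.node (.node (.node (.node (.node (.node (.leaf 256) (.leaf 309)) (.node (.leaf 789) (.leaf 865))) (.node (.node (.leaf 522) (.leaf 838)) (.node (.leaf 293) (.leaf 909)))) (.node (.node (.node (.leaf 773) (.leaf 318)) (.node (.leaf 284) (.leaf 897))) (.node (.node (.leaf 784) (.leaf 850)) (.node (.leaf 813) (.leaf 688))))) (.node (.node (.node (.node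 (.leaf 3) (.leaf 312)) (.node (.leaf 792) (.leaf 362))) (.node (.node (.leaf 269) (.leaf 330)) (.node (.leaf 40) (.leaf 920)))) (.node (.node (.node (.leaf 8) (.leaf 65)) (.node (.leaf 287) (.leaf 646))) (.node (.node (.leaf 275) (.leaf 855)) (.node (.leaf 305) (.leaf 722)))))) (.node (.node (.node (.node (.node (.leaf 513) (.leaf 822)) (.node (.leaf 535) (.leaf 615))) (.node (.node (.leaf 12) (.leaf 840)) (.node (.leaf 550) (.leaf 406)))) (.node (.node (.node (.leaf 7) (.leaf 575)) (.node (.leaf 797) (.leaf 387))) (.node (.node (.leaf 18) (.leaf 341)) (.node (.leaf 815) (.leaf 947))))) (.node (.node (.node (.node (.leaf 260) (.leaf 60)) (.node (.leaf 794) (.leaf 636))) (.node (.node (.leaf 782) (.leaf 336)) (.node (.leaf 299) (.leaf 923)))) (.node (.node (.node (.leaf 265) (.leaf 324)) (.node (.leaf 35) (.leaf 649))) (.node (.node (.leaf 788) (.leaf 602)) (.node (.leaf 819) (.leaf 981)))))))) (.node (.node (.node (.node (.node (.node (.node (.leaf 0) (.leaf 53)) (.node (.leaf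 533) (.leaf 863))) (.node (.node (.leaf 266) (.leaf 70)) (.node (.leaf 804) (.leaf 906)))) (.node (.node (.node (.leaf 517) (.leaf 829)) (.node (.leaf 28) (.leaf 641))) (.node (.node (.leaf 783) (.leaf 594)) (.node (.leaf 45) (.leaf 943))))) (.node (.node (.node (.node (.leaf 770) (.leaf 56)) (.node (.leaf 280) (.leaf 617))) (.node (.node (.leaf 780) (.leaf 74)) (.node (.leaf 807) (.leaf 152)))) (.node (.node (.node (.leaf 775) (.leaf 832)) (.node (.leaf 31) (.leaf 901))) (.node (.node (.leaf 786) (.leaf 87)) (.node (.leaf 49) (.leaf 977)))))) (.node (.node (.node (.node (.node (.leaf 257) (.leaf 566)) (.node (.leaf 790) (.leaf 870))) (.node (.node (.leaf 779) (.leaf 584)) (.node (.leaf 294) (.leaf 915)))) (.node (.node (.node (.leaf 774) (.leaf 319)) (.node (.leaf 541) (.leaf 131))) (.node (.node (.leaf 785) (.leaf 851)) (.node (.leaf 559) (.leaf 690))))) (.node (.node (.node (.node (.leaf 4) (.leaf 827)) (.node (.leaf 538) (.leaf 876))) (.node (.node (.leaf 526) (.leaf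 78)) (.node (.leaf 809) (.leaf 922)))) (.node (.node (.node (.leaf 9) (.leaf 834)) (.node (.leaf 802) (.leaf 648))) (.node (.node (.leaf 532) (.leaf 857)) (.node (.leaf 563) (.leaf 724))))))) (.node (.node (.node (.node (.node (.node (.leaf 512) (.leaf 565)) (.node (.leaf 278) (.leaf 867))) (.node (.node (.leaf 778) (.leaf 583)) (.node (.leaf 549) (.leaf 911)))) (.node (.node (.node (.leaf 6) (.leaf 574)) (.node (.leaf 540) (.leaf 642))) (.node (.node (.leaf 17) (.leaf 83)) (.node (.leaf 558) (.leaf 177))))) (.node (.node (.node (.node (.leaf 259) (.leaf 824)) (.node (.leaf 793) (.leaf 874))) (.node (.node (.leaf 525) (.leaf 842)) (.node (.leaf 296) (.leaf 665)))) (.node (.node (.node (.leaf 264) (.leaf 321)) (.node (.leaf 799) (.leaf 135))) (.node (.node (.leaf 531) (.leaf 600)) (.node (.leaf 817) (.leaf 211)))))) (.node (.node (.node (.node (.node (.leaf 769) (.leaf 567)) (.node (.leaf 791) (.leaf 104))) (.node (.node (.leaf 268) (.leaf 585)) (.node (.leaf 806) (.leaf 918))))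 (.node (.node (.node (.leaf 263) (.leaf 831)) (.node (.leaf 542) (.leaf 899))) (.node (.node (.leaf 274) (.leaf 853)) (.node (.leaf 560) (.leaf 948))))) (.node (.node (.node (.node (.leaf 516) (.leaf 572)) (.node (.leaf 539) (.leaf 126))) (.node (.node (.leaf 15) (.leaf 593)) (.node (.leaf 811) (.leaf 924)))) (.node (.node (.node (.leaf 521) (.leaf 836)) (.node (.leaf 547) (.leaf 905))) (.node (.node (.leaf 21) (.leaf 858)) (.node (.leaf 564) (.leaf 982))))))))

/-- Part of `saFac`. -/
def saFac_p00 : Tr := .node (.node (.node (.node (.node (.node (.node (.node (.leaf 1) (.leaf 3)) (.node (.leaf 2) (.leaf 4))) (.node (.node (.leaf 68) (.leaf 93)) (.node (.leaf 208) (.leaf 121)))) (.node (.node (.node (.leaf 149) (.leaf 152)) (.node (.leaf 21) (.leaf 153))) (.node (.node (.leaf 226) (.leaf 96)) (.node (.leaf 229) (.leaf 243))))) (.node (.node (.node (.node (.leaf 57) (.leaf 84)) (.node (.leaf 16) (.leaf 67))) (.node (.node (.leaf 103) (.leaf 69)) (.node (.leaf 223) (.leaf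 98)))) (.node (.node (.node (.leaf 41) (.leaf 192)) (.node (.leaf 139) (.leaf 182))) (.node (.node (.leaf 248) (.leaf 138)) (.node (.leaf 145) (.leaf 253)))))) (.node (.node (.node (.node (.node (.leaf 25) (.leaf 41)) (.node (.leaf 32) (.leaf 50))) (.node (.node (.leaf 66) (.leaf 226)) (.node (.leaf 91) (.leaf 216)))) (.node (.node (.node (.leaf 43) (.leaf 141)) (.node (.leaf 174) (.leaf 169))) (.node (.node (.leaf 158) (.leaf 155)) (.node (.leaf 128) (.leaf 163))))) (.node (.node (.node (.node (.leaf 116) (.leaf 119)) (.node (.leaf 15) (.leaf 120))) (.node (.node (.leaf 218) (.leaf 242)) (.node (.leaf 111) (.leaf 73)))) (.node (.node (.node (.leaf 151) (.leaf 44)) (.node (.leaf 189) (.leaf 146))) (.node (.node (.leaf 190) (.leaf 182)) (.node (.leaf 175) (.leaf 127))))))) (.node (.node (.node (.node (.node (.node (.leaf 26) (.leaf 2)) (.node (.leaf 27) (.leaf 28))) (.node (.node (.leaf 88) (.leaf 221)) (.node (.leaf 71) (.leaf 13)))) (.node (.node (.node (.leaf 24) (.leaf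 165)) (.node (.leaf 164) (.leaf 166))) (.node (.node (.leaf 234) (.leaf 120)) (.node (.leaf 244) (.leaf 222))))) (.node (.node (.node (.node (.leaf 106) (.leaf 12)) (.node (.leaf 107) (.leaf 108))) (.node (.node (.leaf 115) (.leaf 234)) (.node (.leaf 220) (.leaf 81)))) (.node (.node (.node (.leaf 199) (.leaf 39)) (.node (.leaf 141) (.leaf 200))) (.node (.node (.leaf 198) (.leaf 151)) (.node (.leaf 250) (.leaf 177)))))) (.node (.node (.node (.node (.node (.leaf 72) (.leaf 7)) (.node (.leaf 73) (.leaf 74))) (.node (.node (.leaf 233) (.leaf 64)) (.node (.leaf 93) (.leaf 234)))) (.node (.node (.node (.leaf 136) (.leaf 187)) (.node (.leaf 46) (.leaf 22))) (.node (.node (.leaf 146) (.leaf 248)) (.node (.leaf 133) (.leaf 19))))) (.node (.node (.node (.node (.leaf 137) (.leaf 18)) (.node (.leaf 138) (.leaf 139))) (.node (.node (.leaf 210) (.leaf 86)) (.node (.leaf 118) (.leaf 208)))) (.node (.node (.node (.leaf 163) (.leaf 200)) (.node (.leaf 186) (.leaf 129))) (.node (.node (.leaf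 224) (.leaf 216)) (.node (.leaf 209) (.leaf 79)))))))) (.node (.node (.node (.node (.node (.node (.node (.leaf 13) (.leaf 15)) (.node (.leaf 14) (.leaf 16))) (.node (.node (.leaf 122) (.leaf 57)) (.node (.leaf 121) (.leaf 116)))) (.node (.node (.node (.leaf 128) (.leaf 22)) (.node (.leaf 158) (.leaf 159))) (.node (.node (.leaf 119) (.leaf 110)) (.node (.leaf 102) (.leaf 61))))) (.node (.node (.node (.node (.leaf 61) (.leaf 11)) (.node (.leaf 79) (.leaf 97))) (.node (.node (.leaf 73) (.leaf 236)) (.node (.leaf 72) (.leaf 8)))) (.node (.node (.node (.leaf 139) (.leaf 194)) (.node (.leaf 41) (.leaf 161))) (.node (.node (.leaf 194) (.leaf 148)) (.node (.leaf 193) (.leaf 196)))))) (.node (.node (.node (.node (.node (.leaf 58) (.leaf 61)) (.node (.leaf 6) (.leaf 62))) (.node (.node (.leaf 91) (.leaf 228)) (.node (.leaf 66) (.leaf 113)))) (.node (.node (.node (.leaf 170) (.leaf 32)) (.node (.leaf 169) (.leaf 164))) (.node (.node (.leaf 186) (.leaf 253)) (.node (.leaf 163) (.leaf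 47))))) (.node (.node (.node (.node (.leaf 124) (.leaf 127)) (.node (.leaf 17) (.leaf 128))) (.node (.node (.leaf 239) (.leaf 98)) (.node (.leaf 83) (.leaf 247)))) (.node (.node (.node (.leaf 48) (.leaf 202)) (.node (.leaf 47) (.leaf 17))) (.node (.node (.leaf 252) (.leaf 191)) (.node (.leaf 200) (.leaf 165))))))) (.node (.node (.node (.node (.node (.node (.leaf 38) (.leaf 40)) (.node (.leaf 39) (.leaf 41))) (.node (.node (.leaf 92) (.leaf 58)) (.node (.leaf 206) (.leaf 83)))) (.node (.node (.node (.leaf 27) (.leaf 172)) (.node (.leaf 26) (.leaf 24))) (.node (.node (.leaf 238) (.leaf 114)) (.node (.leaf 247) (.leaf 213))))) (.node (.node (.node (.node (.leaf 69) (.leaf 112)) (.node (.leaf 86) (.leaf 55))) (.node (.node (.leaf 206) (.leaf 76)) (.node (.leaf 92) (.leaf 65)))) (.node (.node (.node (.leaf 156) (.leaf 49)) (.node (.leaf 181) (.leaf 205))) (.node (.node (.leaf 155) (.leaf 164)) (.node (.leaf 154) (.leaf 140)))))) (.node (.node (.node (.node (.node (.leaf 81) (.leaf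 83)) (.node (.leaf 82) (.leaf 84))) (.node (.node (.leaf 108) (.leaf 74)) (.node (.leaf 215) (.leaf 239)))) (.node (.node (.node (.leaf 140) (.leaf 33)) (.node (.leaf 172) (.leaf 131))) (.node (.node (.leaf 178) (.leaf 255)) (.node (.leaf 168) (.leaf 43))))) (.node (.node (.node (.node (.leaf 142) (.leaf 143)) (.node (.leaf 45) (.leaf 144))) (.node (.node (.leaf 99) (.leaf 89)) (.node (.leaf 243) (.leaf 242)))) (.node (.node (.node (.leaf 52) (.leaf 206)) (.node (.leaf 51) (.leaf 15))) (.node (.node (.leaf 244) (.leaf 225)) (.node (.leaf 234) (.leaf 117))))))))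

/-- Part of `saFac`. -/
def saFac_p01 : Tr := .node (.node (.node (.node (.node (.node (.node (.node (.leaf 5) (.leaf 8)) (.node (.leaf 0) (.leaf 9))) (.node (.node (.leaf 123) (.leaf 211)) (.node (.leaf 53) (.leaf 212)))) (.node (.node (.node (.leaf 144) (.leaf 25)) (.node (.leaf 148) (.leaf 157))) (.node (.node (.leaf 228) (.leaf 100)) (.node (.leaf 227) (.leaf 230))))) (.node (.node (.node (.node (.leaf 59) (.leaf 10)) (.node (.leaf 77) (.leaf 93))) (.node (.node (.leaf 105) (.leaf 238)) (.node (.leaf 225) (.leaf 85)))) (.node (.node (.node (.leaf 182) (.leaf 180)) (.node (.leaf 37) (.leaf 187))) (.node (.node (.leaf 192) (.leaf 144)) (.node (.leaf 195) (.leaf 251)))))) (.node (.node (.node (.node (.node (.leaf 54) (.leaf 56)) (.node (.leaf 55) (.leaf 57))) (.node (.node (.leaf 216) (.leaf 214)) (.node (.leaf 62) (.leaf 221)))) (.node (.node (.node (.leaf 171) (.leaf 177)) (.node (.leaf 28) (.leaf 178))) (.node (.node (.leaf 184) (.leaf 250)) (.node (.leaf 159) (.leaf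 48))))) (.node (.node (.node (.node (.leaf 55) (.leaf 123)) (.node (.leaf 54) (.leaf 0))) (.node (.node (.leaf 220) (.leaf 245)) (.node (.leaf 115) (.leaf 72)))) (.node (.node (.node (.leaf 153) (.leaf 204)) (.node (.leaf 191) (.leaf 133))) (.node (.node (.leaf 250) (.leaf 176)) (.node (.leaf 198) (.leaf 152))))))) (.node (.node (.node (.node (.node (.node (.leaf 3) (.leaf 34)) (.node (.leaf 33) (.leaf 35))) (.node (.node (.leaf 109) (.leaf 224)) (.node (.leaf 56) (.leaf 225)))) (.node (.node (.node (.leaf 169) (.leaf 156)) (.node (.leaf 170) (.leaf 171))) (.node (.node (.leaf 107) (.leaf 116)) (.node (.leaf 106) (.leaf 92))))) (.node (.node (.node (.node (.leaf 14) (.leaf 101)) (.node (.leaf 13) (.leaf 5))) (.node (.node (.leaf 84) (.leaf 229)) (.node (.leaf 74) (.leaf 110)))) (.node (.node (.node (.leaf 40) (.leaf 142)) (.node (.leaf 202) (.leaf 203))) (.node (.node (.leaf 200) (.leaf 168)) (.node (.leaf 252) (.leaf 188)))))) (.node (.node (.node (.node (.node (.leaf 8)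 (.leaf 77)) (.node (.leaf 76) (.leaf 78))) (.node (.node (.leaf 65) (.leaf 94)) (.node (.leaf 236) (.leaf 237)))) (.node (.node (.node (.leaf 157) (.leaf 190)) (.node (.leaf 31) (.leaf 191))) (.node (.node (.leaf 176) (.leaf 134)) (.node (.leaf 166) (.leaf 174))))) (.node (.node (.node (.node (.leaf 20) (.leaf 140)) (.node (.leaf 19) (.leaf 31))) (.node (.node (.leaf 212) (.leaf 247)) (.node (.leaf 120) (.leaf 68)))) (.node (.node (.node (.leaf 132) (.leaf 195)) (.node (.leaf 49) (.leaf 158))) (.node (.node (.leaf 242) (.leaf 210)) (.node (.leaf 232) (.leaf 104)))))))) (.node (.node (.node (.node (.node (.node (.node (.leaf 19) (.leaf 1)) (.node (.leaf 20) (.leaf 21))) (.node (.node (.leaf 86) (.leaf 218)) (.node (.leaf 69) (.leaf 14)))) (.node (.node (.node (.leaf 161) (.leaf 23)) (.node (.leaf 35) (.leaf 162))) (.node (.node (.leaf 232) (.leaf 103)) (.node (.leaf 242) (.leaf 211))))) (.node (.node (.node (.node (.leaf 12) (.leaf 102)) (.node (.leaf 101) (.leaf 103))) (.node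 (.node (.leaf 111) (.leaf 231)) (.node (.leaf 218) (.leaf 82)))) (.node (.node (.node (.leaf 143) (.leaf 38)) (.node (.leaf 196) (.leaf 197))) (.node (.node (.leaf 167) (.leaf 158)) (.node (.leaf 150) (.leaf 36)))))) (.node (.node (.node (.node (.node (.leaf 7) (.leaf 68)) (.node (.leaf 67) (.leaf 69))) (.node (.node (.leaf 95) (.leaf 63)) (.node (.leaf 230) (.leaf 231)))) (.node (.node (.node (.leaf 134) (.leaf 184)) (.node (.leaf 44) (.leaf 23))) (.node (.node (.leaf 205) (.leaf 146)) (.node (.leaf 131) (.leaf 255))))) (.node (.node (.node (.node (.leaf 18) (.leaf 133)) (.node (.leaf 50) (.leaf 134))) (.node (.node (.leaf 98) (.leaf 240)) (.node (.leaf 85) (.leaf 10)))) (.node (.node (.node (.leaf 159) (.leaf 197)) (.node (.leaf 184) (.leaf 130))) (.node (.node (.leaf 254) (.leaf 183)) (.node (.leaf 203) (.leaf 155))))))) (.node (.node (.node (.node (.node (.node (.leaf 42) (.leaf 45)) (.node (.leaf 4) (.leaf 46))) (.node (.node (.leaf 60) (.leaf 106)) (.node (.leaf 113)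 (.leaf 112)))) (.node (.node (.node (.leaf 173) (.leaf 145)) (.node (.leaf 135) (.leaf 170))) (.node (.node (.leaf 172) (.leaf 124)) (.node (.leaf 140) (.leaf 40))))) (.node (.node (.node (.node (.leaf 71) (.leaf 115)) (.node (.leaf 88) (.leaf 54))) (.node (.node (.leaf 110) (.leaf 107)) (.node (.leaf 80) (.leaf 115)))) (.node (.node (.node (.leaf 174) (.leaf 196)) (.node (.leaf 43) (.leaf 26))) (.node (.node (.leaf 204) (.leaf 162)) (.node (.leaf 255) (.leaf 179)))))) (.node (.node (.node (.node (.node (.leaf 75) (.leaf 87)) (.node (.leaf 9) (.leaf 88))) (.node (.node (.leaf 208) (.leaf 230)) (.node (.leaf 68) (.leaf 51)))) (.node (.node (.node (.leaf 35) (.leaf 154)) (.node (.leaf 161) (.leaf 160))) (.node (.node (.leaf 147) (.leaf 137)) (.node (.leaf 251) (.leaf 250))))) (.node (.node (.node (.node (.leaf 133) (.leaf 147)) (.node (.leaf 146) (.leaf 148))) (.node (.node (.leaf 240) (.leaf 90)) (.node (.leaf 97) (.leaf 245)))) (.node (.node (.node (.leaf 207) (.leaf 97))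 (.node (.leaf 87) (.leaf 122))) (.node (.node (.leaf 246) (.leaf 217)) (.node (.leaf 237) (.leaf 107))))))))

/-- Part of `saFac`. -/
def saFac_p10 : Tr := .node (.node (.node (.node (.node (.node (.node (.node (.leaf 0) (.leaf 6)) (.node (.leaf 5) (.leaf 7))) (.node (.node (.leaf 53) (.leaf 209)) (.node (.leaf 123) (.leaf 210)))) (.node (.node (.node (.leaf 154) (.leaf 21)) (.node (.leaf 155) (.leaf 156))) (.node (.node (.leaf 227) (.leaf 121)) (.node (.leaf 228) (.leaf 240))))) (.node (.node (.node (.node (.leaf 11) (.leaf 92)) (.node (.leaf 10) (.leaf 56))) (.node (.node (.leaf 70) (.leaf 233)) (.node (.leaf 94) (.leaf 11)))) (.node (.node (.node (.leaf 175) (.leaf 126)) (.node (.leaf 190) (.leaf 194))) (.node (.node (.leaf 187) (.leaf 252)) (.node (.leaf 162) (.leaf 38)))))) (.node (.node (.node (.node (.node (.leaf 51) (.leaf 5)) (.node (.leaf 52) (.leaf 53))) (.node (.node (.leaf 209) (.leaf 78)) (.node (.leaf 224) (.leaf 228)))) (.node (.node (.node (.leaf 28) (.leaf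 175)) (.node (.leaf 171) (.leaf 176))) (.node (.node (.leaf 145) (.leaf 129)) (.node (.leaf 248) (.leaf 249))))) (.node (.node (.node (.node (.leaf 121) (.leaf 108)) (.node (.leaf 122) (.leaf 123))) (.node (.node (.leaf 243) (.leaf 82)) (.node (.leaf 99) (.leaf 244)))) (.node (.node (.node (.leaf 45) (.leaf 199)) (.node (.leaf 142) (.leaf 20))) (.node (.node (.leaf 249) (.leaf 189)) (.node (.leaf 197) (.leaf 167))))))) (.node (.node (.node (.node (.node (.node (.leaf 29) (.leaf 31)) (.node (.leaf 30) (.leaf 32))) (.node (.node (.leaf 56) (.leaf 222)) (.node (.leaf 109) (.leaf 223)))) (.node (.node (.node (.leaf 164) (.leaf 167)) (.node (.leaf 24) (.leaf 168))) (.node (.node (.leaf 235) (.leaf 105)) (.node (.leaf 245) (.leaf 209))))) (.node (.node (.node (.node (.leaf 96) (.leaf 16)) (.node (.leaf 100) (.leaf 109))) (.node (.node (.leaf 74) (.leaf 227)) (.node (.leaf 84) (.leaf 219)))) (.node (.node (.node (.leaf 162) (.leaf 201)) (.node (.leaf 187) (.leaf 137))) (.node (.node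 (.leaf 152) (.leaf 161)) (.node (.leaf 165) (.leaf 125)))))) (.node (.node (.node (.node (.node (.leaf 16) (.leaf 66)) (.node (.leaf 57) (.leaf 75))) (.node (.node (.leaf 114) (.leaf 235)) (.node (.leaf 221) (.leaf 89)))) (.node (.node (.node (.leaf 31) (.leaf 188)) (.node (.leaf 157) (.leaf 189))) (.node (.node (.leaf 189) (.leaf 254)) (.node (.leaf 151) (.leaf 45))))) (.node (.node (.node (.node (.leaf 32) (.leaf 132)) (.node (.leaf 25) (.leaf 42))) (.node (.node (.leaf 87) (.leaf 243)) (.node (.leaf 207) (.leaf 52)))) (.node (.node (.node (.leaf 49) (.leaf 193)) (.node (.leaf 132) (.leaf 185))) (.node (.node (.leaf 241) (.leaf 223)) (.node (.leaf 231) (.leaf 119)))))))) (.node (.node (.node (.node (.node (.node (.node (.leaf 2) (.leaf 17)) (.node (.leaf 1) (.leaf 18))) (.node (.node (.leaf 62) (.leaf 54)) (.node (.leaf 216) (.leaf 217)))) (.node (.node (.node (.leaf 44) (.leaf 160)) (.node (.leaf 134) (.leaf 30))) (.node (.node (.leaf 231) (.leaf 118)) (.node (.leaf 241)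 (.leaf 224))))) (.node (.node (.node (.node (.leaf 85) (.leaf 99)) (.node (.leaf 98) (.leaf 100))) (.node (.node (.leaf 93) (.leaf 72)) (.node (.leaf 233) (.leaf 232)))) (.node (.node (.node (.leaf 39) (.leaf 42)) (.node (.leaf 38) (.leaf 33))) (.node (.node (.leaf 195) (.leaf 170)) (.node (.leaf 192) (.leaf 199)))))) (.node (.node (.node (.node (.node (.leaf 63) (.leaf 65)) (.node (.leaf 64) (.leaf 66))) (.node (.node (.leaf 64) (.leaf 67)) (.node (.leaf 63) (.leaf 58)))) (.node (.node (.node (.leaf 37) (.leaf 29)) (.node (.leaf 182) (.leaf 183))) (.node (.node (.leaf 131) (.leaf 173)) (.node (.leaf 205) (.leaf 254))))) (.node (.node (.node (.node (.leaf 129) (.leaf 131)) (.node (.leaf 130) (.leaf 132))) (.node (.node (.leaf 215) (.leaf 91)) (.node (.leaf 108) (.leaf 236)))) (.node (.node (.node (.leaf 141) (.leaf 47)) (.node (.leaf 199) (.leaf 198))) (.node (.node (.leaf 253) (.leaf 178)) (.node (.leaf 201) (.leaf 150))))))) (.node (.node (.node (.node (.node (.node (.leaf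 4) (.leaf 43)) (.node (.leaf 42) (.leaf 44))) (.node (.node (.leaf 117) (.leaf 80)) (.node (.leaf 104) (.leaf 226)))) (.node (.node (.node (.leaf 125) (.leaf 26)) (.node (.leaf 34) (.leaf 147))) (.node (.node (.leaf 214) (.leaf 109)) (.node (.leaf 213) (.leaf 206))))) (.node (.node (.node (.node (.leaf 113) (.leaf 14)) (.node (.leaf 60) (.leaf 114))) (.node (.node (.leaf 78) (.leaf 213)) (.node (.leaf 219) (.leaf 218)))) (.node (.node (.node (.leaf 138) (.leaf 205)) (.node (.leaf 137) (.leaf 3))) (.node (.node (.leaf 203) (.leaf 159)) (.node (.leaf 254) (.leaf 180)))))) (.node (.node (.node (.node (.node (.leaf 9) (.leaf 85)) (.node (.leaf 75) (.leaf 86))) (.node (.node (.leaf 90) (.leaf 239)) (.node (.leaf 89) (.leaf 6)))) (.node (.node (.node (.leaf 165) (.leaf 128)) (.node (.leaf 152) (.leaf 192))) (.node (.node (.leaf 191) (.leaf 136)) (.node (.leaf 153) (.leaf 142))))) (.node (.node (.node (.node (.leaf 36) (.leaf 20)) (.node (.leaf 127) (.leaf 145))) (.node (.node (.leaf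 217) (.leaf 241)) (.node (.leaf 112) (.leaf 64)))) (.node (.node (.node (.leaf 77) (.leaf 51)) (.node (.leaf 59) (.leaf 99))) (.node (.node (.leaf 245) (.leaf 212)) (.node (.leaf 235) (.leaf 102))))))))

/-- Part of `saFac`. -/
def saFac_p11 : Tr := .node (.node (.node (.node (.node (.node (.node (.node (.leaf 10) (.leaf 0)) (.node (.leaf 11) (.leaf 12))) (.node (.node (.leaf 213) (.leaf 53)) (.node (.leaf 214) (.leaf 215)))) (.node (.node (.node (.leaf 23) (.leaf 149)) (.node (.leaf 22) (.leaf 2))) (.node (.node (.leaf 229) (.leaf 122)) (.node (.leaf 226) (.leaf 233))))) (.node (.node (.node (.node (.leaf 94) (.leaf 95)) (.node (.leaf 70) (.leaf 96))) (.node (.node (.leaf 120) (.leaf 71)) (.node (.leaf 212) (.leaf 207)))) (.node (.node (.node (.leaf 188) (.leaf 37)) (.node (.leaf 177) (.leaf 195))) (.node (.node (.leaf 193) (.leaf 169)) (.node (.leaf 194) (.leaf 248)))))) (.node (.node (.node (.node (.node (.leaf 6) (.leaf 59)) (.node (.leaf 58) (.leaf 60))) (.node (.node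 (.leaf 222) (.leaf 62)) (.node (.leaf 211) (.leaf 229)))) (.node (.node (.node (.leaf 179) (.leaf 28)) (.node (.leaf 180) (.leaf 181))) (.node (.node (.leaf 251) (.leaf 130)) (.node (.leaf 147) (.leaf 252))))) (.node (.node (.node (.node (.leaf 17) (.leaf 125)) (.node (.leaf 124) (.leaf 126))) (.node (.node (.leaf 83) (.leaf 207)) (.node (.leaf 239) (.leaf 246)))) (.node (.node (.node (.leaf 168) (.leaf 46)) (.node (.leaf 178) (.leaf 173))) (.node (.node (.leaf 177) (.leaf 185)) (.node (.leaf 188) (.leaf 34))))))) (.node (.node (.node (.node (.node (.node (.leaf 33) (.leaf 36)) (.node (.leaf 3) (.leaf 37))) (.node (.node (.leaf 100) (.leaf 215)) (.node (.leaf 96) (.leaf 101)))) (.node (.node (.node (.leaf 30) (.leaf 171)) (.node (.leaf 29) (.leaf 1))) (.node (.node (.leaf 237) (.leaf 111)) (.node (.leaf 246) (.leaf 214))))) (.node (.node (.node (.node (.leaf 80) (.leaf 13)) (.node (.leaf 110) (.leaf 111))) (.node (.node (.leaf 82) (.leaf 75)) (.node (.leaf 81) (.leaf 76))))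 (.node (.node (.node (.leaf 202) (.leaf 174)) (.node (.leaf 40) (.leaf 204))) (.node (.node (.leaf 201) (.leaf 153)) (.node (.leaf 253) (.leaf 175)))))) (.node (.node (.node (.node (.node (.leaf 76) (.leaf 79)) (.node (.leaf 8) (.leaf 80))) (.node (.node (.leaf 236) (.leaf 208)) (.node (.leaf 65) (.leaf 238)))) (.node (.node (.node (.leaf 148) (.leaf 181)) (.node (.leaf 144) (.leaf 149))) (.node (.node (.leaf 135) (.leaf 251)) (.node (.leaf 173) (.leaf 27))))) (.node (.node (.node (.node (.leaf 34) (.leaf 19)) (.node (.leaf 125) (.leaf 141))) (.node (.node (.leaf 225) (.leaf 88)) (.node (.leaf 105) (.leaf 94)))) (.node (.node (.node (.leaf 130) (.leaf 50)) (.node (.leaf 129) (.leaf 124))) (.node (.node (.leaf 211) (.leaf 219)) (.node (.leaf 222) (.leaf 59)))))))) (.node (.node (.node (.node (.node (.node (.node (.leaf 22) (.leaf 24)) (.node (.leaf 23) (.leaf 25))) (.node (.node (.leaf 219) (.leaf 55)) (.node (.leaf 78) (.leaf 220)))) (.node (.node (.node (.leaf 46) (.leaf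 163)) (.node (.leaf 136) (.leaf 29))) (.node (.node (.leaf 104) (.leaf 113)) (.node (.leaf 117) (.leaf 77))))) (.node (.node (.node (.node (.leaf 101) (.leaf 104)) (.node (.leaf 12) (.leaf 105))) (.node (.node (.leaf 230) (.leaf 73)) (.node (.leaf 95) (.leaf 235)))) (.node (.node (.node (.leaf 160) (.leaf 198)) (.node (.leaf 183) (.leaf 138))) (.node (.node (.leaf 197) (.leaf 166)) (.node (.leaf 249) (.leaf 190)))))) (.node (.node (.node (.node (.node (.leaf 67) (.leaf 70)) (.node (.leaf 7) (.leaf 71))) (.node (.node (.leaf 112) (.leaf 232)) (.node (.leaf 217) (.leaf 90)))) (.node (.node (.node (.leaf 185) (.leaf 30)) (.node (.leaf 126) (.leaf 186))) (.node (.node (.leaf 181) (.leaf 139)) (.node (.leaf 156) (.leaf 202))))) (.node (.node (.node (.node (.leaf 50) (.leaf 135)) (.node (.leaf 18) (.leaf 136))) (.node (.node (.leaf 223) (.leaf 246)) (.node (.leaf 103) (.leaf 70)))) (.node (.node (.node (.leaf 196) (.leaf 48)) (.node (.leaf 143) (.leaf 201))) (.node (.node (.leaf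 255) (.leaf 186)) (.node (.leaf 204) (.leaf 154))))))) (.node (.node (.node (.node (.node (.node (.leaf 47) (.leaf 4)) (.node (.leaf 48) (.leaf 49))) (.node (.node (.leaf 102) (.leaf 60)) (.node (.leaf 119) (.leaf 227)))) (.node (.node (.node (.leaf 127) (.leaf 27)) (.node (.leaf 36) (.leaf 143))) (.node (.node (.leaf 126) (.leaf 179)) (.node (.leaf 185) (.leaf 184))))) (.node (.node (.node (.node (.leaf 15) (.leaf 117)) (.node (.leaf 116) (.leaf 118))) (.node (.node (.leaf 97) (.leaf 81)) (.node (.leaf 240) (.leaf 241)))) (.node (.node (.node (.leaf 166) (.leaf 203)) (.node (.leaf 176) (.leaf 135))) (.node (.node (.leaf 180) (.leaf 157)) (.node (.leaf 179) (.leaf 172)))))) (.node (.node (.node (.node (.node (.leaf 89) (.leaf 9)) (.node (.leaf 90) (.leaf 91))) (.node (.node (.leaf 118) (.leaf 237)) (.node (.leaf 210) (.leaf 87)))) (.node (.node (.node (.leaf 150) (.leaf 35)) (.node (.leaf 167) (.leaf 193))) (.node (.node (.leaf 183) (.leaf 249)) (.node (.leaf 160) (.leaf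 39))))) (.node (.node (.node (.node (.leaf 21) (.leaf 150)) (.node (.leaf 149) (.leaf 151))) (.node (.node (.leaf 221) (.leaf 244)) (.node (.leaf 114) (.leaf 63)))) (.node (.node (.node (.leaf 79) (.leaf 52)) (.node (.leaf 61) (.leaf 95))) (.node (.node (.leaf 247) (.leaf 220)) (.node (.leaf 238) (.leaf 106))))))))

/-- Table Fac. -/
def saFac : Tr := .node (.node (saFac_p00) (saFac_p01)) (.node (saFac_p10) (saFac_p11))

/-- Table Srt. -/
def saSrt : Tr := .node (.node (.node (.node (.node (.node (.node (.node (.leaf 0x201080420108040) (.leaf 0x8040201008040201)) (.node (.leaf 0x43c21c38342cc183) (.leaf 0xc183342c1c3843c2))) (.node (.node (.leaf 0x2211080420108844) (.leaf 0xa050201008040a05)) (.node (.leaf 0x63d21c38342cc987) (.leaf 0xe193342c1c384bc6)))) (.node (.node (.node (.leaf 0x123108042010844c) (.leaf 0x907020100804060d)) (.node (.leaf 0x53f21c38342cc58f) (.leaf 0xd1b3342c1c3847ce))) (.node (.node (.leaf 0x3221080420108c48) (.leaf 0xb060201008040e09)) (.node (.leaf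 0x73e21c38342ccd8b) (.leaf 0xf1a3342c1c384fca))))) (.node (.node (.node (.node (.leaf 0xa0508042010a050) (.leaf 0x8844201008042211)) (.node (.leaf 0x4bc61c38342ce193) (.leaf 0xc987342c1c3863d2))) (.node (.node (.leaf 0x2a1508042010a854) (.leaf 0xa854201008042a15)) (.node (.leaf 0x6bd61c38342ce997) (.leaf 0xe997342c1c386bd6)))) (.node (.node (.node (.leaf 0x1a3508042010a45c) (.leaf 0x987420100804261d)) (.node (.leaf 0x5bf61c38342ce59f) (.leaf 0xd9b7342c1c3867de))) (.node (.node (.leaf 0x3a2508042010ac58) (.leaf 0xb864201008042e19)) (.node (.leaf 0x7be61c38342ced9b) (.leaf 0xf9a7342c1c386fda)))))) (.node (.node (.node (.node (.node (.leaf 0x60d080420109070) (.leaf 0x844c201008041231)) (.node (.leaf 0x47ce1c38342cd1b3) (.leaf 0xc58f342c1c3853f2))) (.node (.node (.leaf 0x261d080420109874) (.leaf 0xa45c201008041a35)) (.node (.leaf 0x67de1c38342cd9b7) (.leaf 0xe59f342c1c385bf6)))) (.node (.node (.node (.leaf 0x163d08042010947c) (.leaf 0x947c20100804163d)) (.node (.leaf 0x57fe1c38342cd5bf)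 (.leaf 0xd5bf342c1c3857fe))) (.node (.node (.leaf 0x362d080420109c78) (.leaf 0xb46c201008041e39)) (.node (.leaf 0x77ee1c38342cddbb) (.leaf 0xf5af342c1c385ffa))))) (.node (.node (.node (.node (.leaf 0xe0908042010b060) (.leaf 0x8c48201008043221)) (.node (.leaf 0x4fca1c38342cf1a3) (.leaf 0xcd8b342c1c3873e2))) (.node (.node (.leaf 0x2e1908042010b864) (.leaf 0xac58201008043a25)) (.node (.leaf 0x6fda1c38342cf9a7) (.leaf 0xed9b342c1c387be6)))) (.node (.node (.node (.leaf 0x1e3908042010b46c) (.leaf 0x9c7820100804362d)) (.node (.leaf 0x5ffa1c38342cf5af) (.leaf 0xddbb342c1c3877ee))) (.node (.node (.leaf 0x3e2908042010bc68) (.leaf 0xbc68201008043e29)) (.node (.leaf 0x7fea1c38342cfdab) (.leaf 0xfdab342c1c387fea))))))) (.node (.node (.node (.node (.node (.node (.leaf 0x2018241aa550a05) (.leaf 0x80408241aa55a050)) (.node (.leaf 0x43c28241aa555ffa) (.leaf 0xc1838241aa55f5af))) (.node (.node (.leaf 0x2211aa5582412a15) (.leaf 0xa050aa5582418040)) (.node (.leaf 0x63d2aa5582417fea) (.leaf 0xe193aa558241d5bf))))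 (.node (.node (.node (.leaf 0x1231967dbe691a35) (.leaf 0x9070967dbe69b060)) (.node (.leaf 0x53f2967dbe694fca) (.leaf 0xd1b3967dbe69e59f))) (.node (.node (.leaf 0x3221be69967d3a25) (.leaf 0xb060be69967d9070)) (.node (.leaf 0x73e2be69967d6fda) (.leaf 0xf1a3be69967dc58f))))) (.node (.node (.node (.node (.leaf 0xa05aa5582410201) (.leaf 0x8844aa558241a854)) (.node (.leaf 0x4bc6aa55824157fe) (.leaf 0xc987aa558241fdab))) (.node (.node (.leaf 0x2a158241aa552211) (.leaf 0xa8548241aa558844)) (.node (.leaf 0x6bd68241aa5577ee) (.leaf 0xe9978241aa55ddbb)))) (.node (.node (.node (.leaf 0x1a35be69967d1231) (.leaf 0x9874be69967db864)) (.node (.leaf 0x5bf6be69967d47ce) (.leaf 0xd9b7be69967ded9b))) (.node (.node (.leaf 0x3a25967dbe693221) (.leaf 0xb864967dbe699874)) (.node (.leaf 0x7be6967dbe6967de) (.leaf 0xf9a7967dbe69cd8b)))))) (.node (.node (.node (.node (.node (.leaf 0x60d967dbe690e09) (.leaf 0x844c967dbe69a45c)) (.node (.leaf 0x47ce967dbe695bf6) (.leaf 0xc58f967dbe69f1a3))) (.node (.node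 (.leaf 0x261dbe69967d2e19) (.leaf 0xa45cbe69967d844c)) (.node (.leaf 0x67debe69967d7be6) (.leaf 0xe59fbe69967dd1b3)))) (.node (.node (.node (.leaf 0x163d8241aa551e39) (.leaf 0x947c8241aa55b46c)) (.node (.leaf 0x57fe8241aa554bc6) (.leaf 0xd5bf8241aa55e193))) (.node (.node (.leaf 0x362daa5582413e29) (.leaf 0xb46caa558241947c)) (.node (.leaf 0x77eeaa5582416bd6) (.leaf 0xf5afaa558241c183))))) (.node (.node (.node (.node (.leaf 0xe09be69967d060d) (.leaf 0x8c48be69967dac58)) (.node (.leaf 0x4fcabe69967d53f2) (.leaf 0xcd8bbe69967df9a7))) (.node (.node (.leaf 0x2e19967dbe69261d) (.leaf 0xac58967dbe698c48)) (.node (.leaf 0x6fda967dbe6973e2) (.leaf 0xed9b967dbe69d9b7)))) (.node (.node (.node (.leaf 0x1e39aa558241163d) (.leaf 0x9c78aa558241bc68)) (.node (.leaf 0x5ffaaa55824143c2) (.leaf 0xddbbaa558241e997))) (.node (.node (.leaf 0x3e298241aa55362d) (.leaf 0xbc688241aa559c78)) (.node (.leaf 0x7fea8241aa5563d2) (.leaf 0xfdab8241aa55c987)))))))) (.node (.node (.node (.node (.node (.node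 (.node (.leaf 0x2014dcb65dfc58f) (.leaf 0x804071e359f753f2)) (.node (.leaf 0x43c265df4dcbb864) (.leaf 0xc18359f771e32e19))) (.node (.node (.leaf 0x221159f771e3d9b7) (.leaf 0xa05065df4dcb4fca)) (.node (.leaf 0x63d271e359f7a45c) (.leaf 0xe1934dcb65df3221)))) (.node (.node (.node (.leaf 0x123171e359f7fdab) (.leaf 0x90704dcb65df6bd6)) (.node (.leaf 0x53f259f771e38040) (.leaf 0xd1b365df4dcb163d))) (.node (.node (.leaf 0x322165df4dcbe193) (.leaf 0xb06059f771e377ee)) (.node (.leaf 0x73e24dcb65df9c78) (.leaf 0xf1a371e359f70a05))))) (.node (.node (.node (.node (.leaf 0xa0559f771e3f1a3) (.leaf 0x884465df4dcb67de)) (.node (.leaf 0x4bc671e359f78c48) (.leaf 0xc9874dcb65df1a35))) (.node (.node (.leaf 0x2a154dcb65dfed9b) (.leaf 0xa85471e359f77be6)) (.node (.leaf 0x6bd665df4dcb9070) (.leaf 0xe99759f771e3060d)))) (.node (.node (.node (.leaf 0x1a3565df4dcbc987) (.leaf 0x987459f771e35ffa)) (.node (.leaf 0x5bf64dcb65dfb46c) (.leaf 0xd9b771e359f72211))) (.node (.node (.leaf 0x3a2571e359f7d5bf)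 (.leaf 0xb8644dcb65df43c2)) (.node (.leaf 0x7be659f771e3a854) (.leaf 0xf9a765df4dcb3e29)))))) (.node (.node (.node (.node (.node (.leaf 0x60d71e359f7e997) (.leaf 0x844c4dcb65df7fea)) (.node (.leaf 0x47ce59f771e3947c) (.leaf 0xc58f65df4dcb0201))) (.node (.node (.leaf 0x261d65df4dcbf5af) (.leaf 0xa45c59f771e363d2)) (.node (.leaf 0x67de4dcb65df8844) (.leaf 0xe59f71e359f71e39)))) (.node (.node (.node (.leaf 0x163d4dcb65dfd1b3) (.leaf 0x947c71e359f747ce)) (.node (.leaf 0x57fe65df4dcbac58) (.leaf 0xd5bf59f771e33a25))) (.node (.node (.leaf 0x362d59f771e3cd8b) (.leaf 0xb46c65df4dcb5bf6)) (.node (.leaf 0x77ee71e359f7b060) (.leaf 0xf5af4dcb65df261d))))) (.node (.node (.node (.node (.leaf 0xe0965df4dcbddbb) (.leaf 0x8c4859f771e34bc6)) (.node (.leaf 0x4fca4dcb65dfa050) (.leaf 0xcd8b71e359f7362d))) (.node (.node (.leaf 0x2e1971e359f7c183) (.leaf 0xac584dcb65df57fe)) (.node (.leaf 0x6fda59f771e3bc68) (.leaf 0xed9b65df4dcb2a15)))) (.node (.node (.node (.leaf 0x1e3959f771e3e59f) (.leaf 0x9c7865df4dcb73e2))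 (.node (.leaf 0x5ffa71e359f79874) (.leaf 0xddbb4dcb65df0e09))) (.node (.node (.leaf 0x3e294dcb65dff9a7) (.leaf 0xbc6871e359f76fda)) (.node (.leaf 0x7fea65df4dcb844c) (.leaf 0xfdab59f771e31231))))))) (.node (.node (.node (.node (.node (.node (.leaf 0x201c78eef9a4fca) (.leaf 0x8040d3b2fba6f1a3)) (.node (.leaf 0x43c2fba6d3b2261d) (.leaf 0xc183ef9ac78e9874))) (.node (.node (.leaf 0x2211fba6d3b27be6) (.leaf 0xa050ef9ac78ec58f)) (.node (.leaf 0x63d2c78eef9a1231) (.leaf 0xe193d3b2fba6ac58)))) (.node (.node (.node (.leaf 0x1231ef9ac78e63d2) (.leaf 0x9070fba6d3b2ddbb)) (.node (.leaf 0x53f2d3b2fba60a05) (.leaf 0xd1b3c78eef9ab46c))) (.node (.node (.leaf 0x3221d3b2fba657fe) (.leaf 0xb060c78eef9ae997)) (.node (.leaf 0x73e2ef9ac78e3e29) (.leaf 0xf1a3fba6d3b28040))))) (.node (.node (.node (.node (.leaf 0xa05fba6d3b253f2) (.leaf 0x8844ef9ac78eed9b)) (.node (.leaf 0x4bc6c78eef9a3a25) (.leaf 0xc987d3b2fba6844c))) (.node (.node (.leaf 0x2a15c78eef9a67de) (.leaf 0xa854d3b2fba6d9b7)) (.node (.leaf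 0x6bd6fba6d3b20e09) (.leaf 0xe997ef9ac78eb060)))) (.node (.node (.node (.leaf 0x1a35d3b2fba67fea) (.leaf 0x9874c78eef9ac183)) (.node (.leaf 0x5bf6ef9ac78e163d) (.leaf 0xd9b7fba6d3b2a854))) (.node (.node (.leaf 0x3a25ef9ac78e4bc6) (.leaf 0xb864fba6d3b2f5af)) (.node (.leaf 0x7be6d3b2fba62211) (.leaf 0xf9a7c78eef9a9c78)))))) (.node (.node (.node (.node (.node (.leaf 0x60def9ac78e77ee) (.leaf 0x844cfba6d3b2c987)) (.node (.leaf 0x47ced3b2fba61e39) (.leaf 0xc58fc78eef9aa050))) (.node (.node (.leaf 0x261dd3b2fba643c2) (.leaf 0xa45cc78eef9afdab)) (.node (.leaf 0x67deef9ac78e2a15) (.leaf 0xe59ffba6d3b2947c)))) (.node (.node (.node (.leaf 0x163dc78eef9a5bf6) (.leaf 0x947cd3b2fba6e59f)) (.node (.leaf 0x57fefba6d3b23221) (.leaf 0xd5bfef9ac78e8c48))) (.node (.node (.leaf 0x362dfba6d3b26fda) (.leaf 0xb46cef9ac78ed1b3)) (.node (.leaf 0x77eec78eef9a060d) (.leaf 0xf5afd3b2fba6b864))))) (.node (.node (.node (.node (.leaf 0xe09d3b2fba66bd6) (.leaf 0x8c48c78eef9ad5bf)) (.node (.leaf 0x4fcaef9ac78e0201)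 (.leaf 0xcd8bfba6d3b2bc68))) (.node (.node (.leaf 0x2e19ef9ac78e5ffa) (.leaf 0xac58fba6d3b2e193)) (.node (.leaf 0x6fdad3b2fba6362d) (.leaf 0xed9bc78eef9a8844)))) (.node (.node (.node (.leaf 0x1e39fba6d3b247ce) (.leaf 0x9c78ef9ac78ef9a7)) (.node (.leaf 0x5ffac78eef9a2e19) (.leaf 0xddbbd3b2fba69070))) (.node (.node (.leaf 0x3e29c78eef9a73e2) (.leaf 0xbc68d3b2fba6cd8b)) (.node (.leaf 0x7feafba6d3b21a35) (.leaf 0xfdabef9ac78ea45c))))))))

/-- Table Pos. -/
def saPos : Tr := .node (.node (.node (.node (.node (.node (.node (.node (.leaf 128) (.leaf 155)) (.node (.leaf 220) (.leaf 237))) (.node (.node (.leaf 79) (.leaf 40)) (.node (.leaf 157) (.leaf 119)))) (.node (.node (.node (.leaf 236) (.leaf 156)) (.node (.leaf 86) (.leaf 4))) (.node (.node (.leaf 165) (.leaf 2)) (.node (.leaf 41) (.leaf 135))))) (.node (.node (.node (.node (.leaf 207) (.leaf 29)) (.node (.leaf 154) (.leaf 191))) (.node (.node (.leaf 38) (.leaf 122)) (.node (.leaf 117) (.leaf 112)))) (.node (.node (.node (.leaf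 247) (.leaf 252)) (.node (.leaf 88) (.leaf 166))) (.node (.node (.leaf 56) (.leaf 82)) (.node (.leaf 123) (.leaf 14)))))) (.node (.node (.node (.node (.node (.leaf 186) (.leaf 182)) (.node (.leaf 246) (.leaf 144))) (.node (.node (.leaf 239) (.leaf 5)) (.node (.leaf 71) (.leaf 198)))) (.node (.node (.node (.leaf 62) (.leaf 70)) (.node (.leaf 183) (.leaf 161))) (.node (.node (.leaf 69) (.leaf 134)) (.node (.leaf 200) (.leaf 28))))) (.node (.node (.node (.node (.leaf 142) (.leaf 171)) (.node (.leaf 21) (.leaf 115))) (.node (.node (.leaf 113) (.leaf 77)) (.node (.leaf 100) (.leaf 97)))) (.node (.node (.node (.leaf 65) (.leaf 33)) (.node (.leaf 238) (.leaf 241))) (.node (.node (.leaf 226) (.leaf 172)) (.node (.leaf 20) (.leaf 89))))))) (.node (.node (.node (.node (.node (.node (.leaf 35) (.leaf 19)) (.node (.leaf 205) (.leaf 131))) (.node (.node (.leaf 129) (.leaf 138)) (.node (.leaf 6) (.leaf 168)))) (.node (.node (.node (.leaf 36) (.leaf 203)) (.node (.leaf 222) (.leaf 3)))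 (.node (.node (.leaf 234) (.leaf 160)) (.node (.leaf 139) (.leaf 150))))) (.node (.node (.node (.node (.leaf 229) (.leaf 167)) (.node (.leaf 109) (.leaf 232))) (.node (.node (.leaf 116) (.leaf 230)) (.node (.leaf 95) (.leaf 250)))) (.node (.node (.node (.leaf 158) (.leaf 214)) (.node (.leaf 106) (.leaf 83))) (.node (.node (.leaf 111) (.leaf 240)) (.node (.leaf 231) (.leaf 211)))))) (.node (.node (.node (.node (.node (.leaf 181) (.leaf 151)) (.node (.leaf 176) (.leaf 53))) (.node (.node (.leaf 227) (.leaf 216)) (.node (.leaf 39) (.leaf 25)))) (.node (.node (.node (.leaf 74) (.leaf 174)) (.node (.leaf 210) (.leaf 15))) (.node (.node (.leaf 93) (.leaf 107)) (.node (.leaf 217) (.leaf 90))))) (.node (.node (.node (.node (.leaf 13) (.leaf 143)) (.node (.leaf 224) (.leaf 8))) (.node (.node (.leaf 251) (.leaf 201)) (.node (.leaf 164) (.leaf 54)))) (.node (.node (.node (.leaf 26) (.leaf 105)) (.node (.leaf 66) (.leaf 37))) (.node (.node (.leaf 84) (.leaf 254)) (.node (.leaf 45) (.leaf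 31)))))))) (.node (.node (.node (.node (.node (.node (.node (.leaf 197) (.leaf 225)) (.node (.leaf 175) (.leaf 101))) (.node (.node (.leaf 110) (.leaf 221)) (.node (.leaf 73) (.leaf 1)))) (.node (.node (.node (.leaf 206) (.leaf 192)) (.node (.leaf 44) (.leaf 185))) (.node (.node (.leaf 108) (.leaf 98)) (.node (.leaf 16) (.leaf 30))))) (.node (.node (.node (.node (.leaf 173) (.leaf 85)) (.node (.leaf 104) (.leaf 55))) (.node (.node (.leaf 204) (.leaf 60)) (.node (.leaf 219) (.leaf 133)))) (.node (.node (.node (.leaf 169) (.leaf 218)) (.node (.leaf 152) (.leaf 243))) (.node (.node (.leaf 10) (.leaf 223)) (.node (.leaf 61) (.leaf 91)))))) (.node (.node (.node (.node (.node (.leaf 102) (.leaf 57)) (.node (.leaf 52) (.leaf 189))) (.node (.node (.leaf 153) (.leaf 50)) (.node (.leaf 124) (.leaf 78)))) (.node (.node (.node (.leaf 67) (.leaf 177)) (.node (.leaf 244) (.leaf 193))) (.node (.node (.leaf 140) (.leaf 199)) (.node (.leaf 187) (.leaf 148))))) (.node (.node (.node (.node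 (.leaf 195) (.leaf 194)) (.node (.leaf 34) (.leaf 118))) (.node (.node (.leaf 125) (.leaf 141)) (.node (.leaf 202) (.leaf 188)))) (.node (.node (.node (.leaf 212) (.leaf 7)) (.node (.leaf 75) (.leaf 81))) (.node (.node (.leaf 170) (.leaf 162)) (.node (.leaf 103) (.leaf 209))))))) (.node (.node (.node (.node (.node (.node (.leaf 180) (.leaf 184)) (.node (.leaf 253) (.leaf 11))) (.node (.node (.leaf 47) (.leaf 42)) (.node (.leaf 213) (.leaf 32)))) (.node (.node (.node (.leaf 228) (.leaf 92)) (.node (.leaf 49) (.leaf 235))) (.node (.node (.leaf 159) (.leaf 72)) (.node (.leaf 43) (.leaf 27))))) (.node (.node (.node (.node (.leaf 63) (.leaf 22)) (.node (.leaf 99) (.leaf 249))) (.node (.node (.leaf 59) (.leaf 179)) (.node (.leaf 145) (.leaf 114)))) (.node (.node (.node (.leaf 68) (.leaf 24)) (.node (.leaf 23) (.leaf 18))) (.node (.node (.leaf 196) (.leaf 80)) (.node (.leaf 126) (.leaf 146)))))) (.node (.node (.node (.node (.node (.leaf 51) (.leaf 127)) (.node (.leaf 190) (.leaf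 12))) (.node (.node (.leaf 17) (.leaf 96)) (.node (.leaf 121) (.leaf 248)))) (.node (.node (.node (.leaf 132) (.leaf 120)) (.node (.leaf 178) (.leaf 130))) (.node (.node (.leaf 147) (.leaf 242)) (.node (.leaf 233) (.leaf 208))))) (.node (.node (.node (.node (.leaf 58) (.leaf 94)) (.node (.leaf 76) (.leaf 64))) (.node (.node (.leaf 87) (.leaf 48)) (.node (.leaf 137) (.leaf 255)))) (.node (.node (.node (.leaf 245) (.leaf 136)) (.node (.leaf 215) (.leaf 163))) (.node (.node (.leaf 46) (.leaf 0)) (.node (.leaf 9) (.leaf 149))))))))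

/-- Table Inv. -/
def saInv : Tr := .node (.node (.node (.node (.node (.node (.node (.node (.leaf 191) (.leaf 0)) (.node (.leaf 207) (.leaf 145))) (.node (.node (.leaf 227) (.leaf 178)) (.node (.leaf 167) (.leaf 78)))) (.node (.node (.node (.leaf 113) (.leaf 196)) (.node (.leaf 187) (.leaf 247))) (.node (.node (.leaf 175) (.leaf 70)) (.node (.leaf 232) (.leaf 186))))) (.node (.node (.node (.node (.leaf 206) (.leaf 159)) (.node (.leaf 179) (.leaf 116))) (.node (.node (.leaf 160) (.leaf 226)) (.node (.leaf 73) (.leaf 202)))) (.node (.node (.node (.leaf 155) (.leaf 89)) (.node (.leaf 88) (.leaf 166))) (.node (.node (.leaf 56) (.leaf 131)) (.node (.leaf 151) (.leaf 231)))))) (.node (.node (.node (.node (.node (.leaf 208) (.leaf 23)) (.node (.leaf 27) (.leaf 59))) (.node (.node (.leaf 18) (.leaf 110)) (.node (.leaf 108) (.leaf 19)))) (.node (.node (.node (.leaf 124) (.leaf 245)) (.node (.leaf 62) (.leaf 29))) (.node (.node (.leaf 69) (.leaf 3)) (.node (.leaf 42) (.leaf 85)))))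 (.node (.node (.node (.node (.leaf 199) (.leaf 53)) (.node (.leaf 79) (.leaf 41))) (.node (.node (.leaf 81) (.leaf 188)) (.node (.leaf 49) (.leaf 16)))) (.node (.node (.node (.leaf 244) (.leaf 144)) (.node (.leaf 147) (.leaf 64))) (.node (.node (.leaf 169) (.leaf 237)) (.node (.leaf 101) (.leaf 152))))))) (.node (.node (.node (.node (.node (.node (.leaf 176) (.leaf 215)) (.node (.leaf 94) (.leaf 141))) (.node (.node (.leaf 77) (.leaf 189)) (.node (.leaf 177) (.leaf 60)))) (.node (.node (.node (.leaf 219) (.leaf 251)) (.node (.leaf 184) (.leaf 86))) (.node (.node (.leaf 165) (.leaf 87)) (.node (.leaf 235) (.leaf 183))))) (.node (.node (.node (.node (.leaf 57) (.leaf 162)) (.node (.leaf 22) (.leaf 109))) (.node (.node (.leaf 163) (.leaf 61)) (.node (.leaf 90) (.leaf 50)))) (.node (.node (.node (.leaf 30) (.leaf 72)) (.node (.leaf 246) (.leaf 153))) (.node (.node (.leaf 15) (.leaf 4)) (.node (.leaf 168) (.leaf 234)))))) (.node (.node (.node (.node (.node (.leaf 98) (.leaf 180))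 (.node (.leaf 148) (.leaf 228))) (.node (.node (.leaf 40) (.leaf 216)) (.node (.leaf 5) (.leaf 170)))) (.node (.node (.node (.leaf 139) (.leaf 242)) (.node (.leaf 80) (.leaf 154))) (.node (.node (.leaf 238) (.leaf 132)) (.node (.leaf 205) (.leaf 68))))) (.node (.node (.node (.node (.leaf 248) (.leaf 12)) (.node (.leaf 229) (.leaf 17))) (.node (.node (.leaf 63) (.leaf 150)) (.node (.leaf 33) (.leaf 92)))) (.node (.node (.node (.leaf 241) (.leaf 26)) (.node (.leaf 143) (.leaf 82))) (.node (.node (.leaf 20) (.leaf 71)) (.node (.leaf 123) (.leaf 190)))))))) (.node (.node (.node (.node (.node (.node (.node (.leaf 225) (.leaf 34)) (.node (.leaf 28) (.leaf 213))) (.node (.node (.leaf 156) (.leaf 212)) (.node (.leaf 236) (.leaf 129)))) (.node (.node (.node (.leaf 39) (.leaf 107)) (.node (.leaf 221) (.leaf 253))) (.node (.node (.leaf 83) (.leaf 149)) (.node (.leaf 44) (.leaf 220))))) (.node (.node (.node (.node (.leaf 127) (.leaf 111)) (.node (.leaf 97) (.leaf 174))) (.node (.node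 (.leaf 112) (.leaf 25)) (.node (.leaf 158) (.leaf 119)))) (.node (.node (.node (.leaf 230) (.leaf 37)) (.node (.leaf 252) (.leaf 118))) (.node (.node (.leaf 133) (.leaf 209)) (.node (.leaf 103) (.leaf 203)))))) (.node (.node (.node (.node (.node (.leaf 164) (.leaf 233)) (.node (.leaf 52) (.leaf 1))) (.node (.node (.leaf 222) (.leaf 48)) (.node (.leaf 193) (.leaf 10)))) (.node (.node (.node (.leaf 76) (.leaf 255)) (.node (.leaf 137) (.leaf 99))) (.node (.node (.leaf 198) (.leaf 6)) (.node (.leaf 104) (.leaf 31))))) (.node (.node (.node (.node (.leaf 14) (.leaf 173)) (.node (.leaf 172) (.leaf 66))) (.node (.node (.leaf 126) (.leaf 9)) (.node (.leaf 74) (.leaf 192)))) (.node (.node (.node (.leaf 136) (.leaf 96)) (.node (.leaf 54) (.leaf 161))) (.node (.node (.leaf 121) (.leaf 197)) (.node (.leaf 45) (.leaf 67))))))) (.node (.node (.node (.node (.node (.node (.leaf 210) (.leaf 194)) (.node (.leaf 21) (.leaf 13))) (.node (.node (.leaf 2) (.leaf 223)) (.node (.leaf 75) (.leaf 38))))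 (.node (.node (.node (.leaf 130) (.leaf 55)) (.node (.leaf 218) (.leaf 250))) (.node (.node (.leaf 7) (.leaf 171)) (.node (.leaf 204) (.leaf 217))))) (.node (.node (.node (.node (.leaf 195) (.leaf 114)) (.node (.leaf 93) (.leaf 146))) (.node (.node (.leaf 115) (.leaf 140)) (.node (.leaf 182) (.leaf 211)))) (.node (.node (.node (.leaf 243) (.leaf 128)) (.node (.leaf 249) (.leaf 105))) (.node (.node (.leaf 43) (.leaf 117)) (.node (.leaf 120) (.leaf 46)))))) (.node (.node (.node (.node (.node (.leaf 157) (.leaf 240)) (.node (.leaf 100) (.leaf 181))) (.node (.node (.leaf 102) (.leaf 138)) (.node (.leaf 125) (.leaf 122)))) (.node (.node (.node (.leaf 91) (.leaf 134)) (.node (.leaf 47) (.leaf 95))) (.node (.node (.leaf 201) (.leaf 84)) (.node (.leaf 224) (.leaf 24))))) (.node (.node (.node (.node (.leaf 214) (.leaf 142)) (.node (.leaf 32) (.leaf 8))) (.node (.node (.leaf 35) (.leaf 65)) (.node (.leaf 58) (.leaf 36)))) (.node (.node (.node (.leaf 254) (.leaf 51)) (.node (.leaf 106)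 (.leaf 185))) (.node (.node (.leaf 11) (.leaf 200)) (.node (.leaf 135) (.leaf 239))))))))

/-- Generators of subgroup b in 51 × 51 codes. -/
def sbGens51 : List ℕ := [0x10000000000002c06c000000005d0d8000000002ad480000000010a90000000031b24000000007d2480000000074268000000004d95000000001f22a00000000781ec000000001cda80000000055e10000000037354000000000d7d0000000001da7000000001420b000000003c86d06000000691bd0c00000070fb36800000035fd130000001c5b830000000745077c0000000a1ac3800000188021200000032fd29d000000238f1bf340000a3f4c41d40001fe5bdd4400002b30927440000247a686ec00002ad9b23b4000161beaf638000258cca78e000038284640e1476dbe90a7f81d6c5084692b4efdaa09e138b4d004105963a60a12e2e3e9d1c0ab441ae7a81200da78ac9d8facfb07139491765c07a290aa8d53b4646e9780e69911e634937058e5c795637757921f4cc729ff19030cf2ff48fb435800fd8a898f131ebb1d00001, 0x10000000000002e42c000000006995800000000e2fb80000000036c100000000067c20000000009a04000000006f2280000000016e10000000006a00000000004194c00000000aa6580000000078850000000014122000000001cf54000000005f0d000000000f5210000000024c3eb200000079d22f8000000ead9cb800000141c7100000002ba205e0000004111634000000c8aaa90000001733d51000000261a55d000000522c72cba0000f13d527ec00000e6f587a00003c2df35ac00005b82529260000c022bb5c80000def7fda300001b42fdacd0000023916dc1d4541099abec3ad05fd0a4f5c6c748127fde0983eb4458419c62242f0b611f758725cb8256d3bd64bebc394486b6355379dbb920c6a934f6d39a72ccdb7022e3d2511d80468214b55b1c886ca225cb9385784334700e242bce03709652264d0bec27abdd47bc0001]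

/-- The same as words in the transversals. -/
def sbVals : List ℕ := [231733, 521135]

/-- Their 8 × 8 blocks (subgroup of order 25). -/
def sbGens : List ℕ := [0x9a75884476edc78e, 0x5dfbf4ac937246cd]

/-- Table T. -/
def sbT : Tr := .node (.node (.node (.node (.node (.leaf 0x8040201008040201) (.leaf 0x56fdc68d937253f2)) (.node (.leaf 0x864d010308043d2b) (.leaf 0x77eef2a1937258f4))) (.node (.node (.leaf 0x241cce89977e5ffa) (.leaf 0x63d292717ae5dcb8)) (.leaf 0xb0608e4976edd9b7))) (.node (.node (.node (.leaf 0x5dfbf4ac937246cd) (.leaf 0x51f38a457ae5d1b3)) (.leaf 0x5af5b8647ae5c48c)) (.node (.node (.leaf 0x2f1afca8977e4ac5) (.leaf 0xb46c193708043020)) (.leaf 0x1d3be49c977e47ce)))) (.node (.node (.node (.node (.leaf 0x9a75884476edc78e) (.leaf 0x50ffaa5977e54fc)) (.leaf 0xbb66bc6876edcc88)) (.node (.node (.leaf 0x7be68c487ae5cf8a) (.leaf 0xbf6a2b160804251f)) (.leaf 0x69d7cd8b937274ec))) (.node (.node (.node (.leaf 0x6fdaec9893724bc6) (.leaf 0x1b36c58f977e78e4)) (.leaf 0x9e791f3a08042e19))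 (.node (.node (.leaf 0x65dfb3627ae5e392) (.leaf 0x844cb76e76edeb96)) (.leaf 0x8241967d76edd4bc))))

/-- Table Par. -/
def sbPar : Tr := .node (.node (.node (.node (.node (.leaf 0) (.leaf 36)) (.node (.leaf 29) (.leaf 47))) (.node (.node (.leaf 26) (.leaf 41)) (.leaf 32))) (.node (.node (.node (.leaf 25) (.leaf 38)) (.leaf 6)) (.node (.node (.leaf 3) (.leaf 44)) (.leaf 34)))) (.node (.node (.node (.node (.leaf 0) (.leaf 37)) (.leaf 30)) (.node (.node (.leaf 27) (.leaf 42)) (.leaf 33))) (.node (.node (.node (.leaf 1) (.leaf 40)) (.leaf 31)) (.node (.node (.leaf 28) (.leaf 45)) (.leaf 35))))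

/-- Table Fac. -/
def sbFac : Tr := .node (.node (.node (.node (.node (.node (.leaf 1) (.leaf 12)) (.node (.leaf 19) (.leaf 6))) (.node (.node (.leaf 12) (.leaf 19)) (.leaf 14))) (.node (.node (.node (.leaf 7) (.leaf 16)) (.leaf 22)) (.node (.node (.leaf 16) (.leaf 22)) (.leaf 7)))) (.node (.node (.node (.node (.leaf 4) (.leaf 14)) (.leaf 21)) (.node (.node (.leaf 0) (.leaf 21)) (.leaf 4))) (.node (.node (.node (.leaf 10) (.leaf 18)) (.leaf 9)) (.node (.node (.leaf 18) (.leaf 3)) (.leaf 9))))) (.node (.node (.node (.node (.node (.leaf 3) (.leaf 13)) (.node (.leaf 20) (.leaf 10))) (.node (.node (.leaf 13) (.leaf 20)) (.leaf 2))) (.node (.node (.node (.leaf 8) (.leaf 17)) (.leaf 23)) (.node (.node (.leaf 17) (.leaf 23)) (.leaf 8)))) (.node (.node (.node (.node (.leaf 6) (.leaf 15)) (.leaf 5)) (.node (.node (.leaf 15) (.leaf 1)) (.leaf 5))) (.node (.node (.node (.leaf 11) (.leaf 0)) (.leaf 24)) (.node (.node (.leaf 2) (.leaf 24)) (.leaf 11)))))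

/-- Table Srt. -/
def sbSrt : Tr := .node (.node (.node (.node (.node (.leaf 0x50ffaa5977e54fc) (.leaf 0x8241967d76edd4bc)) (.node (.leaf 0x5dfbf4ac937246cd) (.leaf 0xbf6a2b160804251f))) (.node (.node (.leaf 0x2f1afca8977e4ac5) (.leaf 0x9e791f3a08042e19)) (.leaf 0x6fdaec9893724bc6))) (.node (.node (.node (.leaf 0x1d3be49c977e47ce) (.leaf 0x864d010308043d2b)) (.leaf 0x65dfb3627ae5e392)) (.node (.node (.leaf 0x56fdc68d937253f2) (.leaf 0xb46c193708043020)) (.leaf 0x7be68c487ae5cf8a)))) (.node (.node (.node (.node (.leaf 0x1b36c58f977e78e4) (.leaf 0x844cb76e76edeb96)) (.leaf 0x63d292717ae5dcb8)) (.node (.node (.leaf 0x51f38a457ae5d1b3) (.leaf 0xb0608e4976edd9b7)) (.leaf 0x77eef2a1937258f4))) (.node (.node (.node (.leaf 0x241cce89977e5ffa) (.leaf 0x9a75884476edc78e)) (.leaf 0x69d7cd8b937274ec)) (.node (.node (.leaf 0x5af5b8647ae5c48c) (.leaf 0xbb66bc6876edcc88)) (.leaf 0x8040201008040201))))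

/-- Table Pos. -/
def sbPos : Tr := .node (.node (.node (.node (.node (.leaf 15) (.leaf 6)) (.node (.leaf 18) (.leaf 13))) (.node (.node (.leaf 3) (.leaf 9)) (.leaf 21))) (.node (.node (.node (.leaf 8) (.leaf 5)) (.leaf 7)) (.node (.node (.leaf 4) (.leaf 22)) (.leaf 2)))) (.node (.node (.node (.node (.leaf 19) (.leaf 0)) (.leaf 23)) (.node (.node (.leaf 14) (.leaf 24)) (.leaf 11))) (.node (.node (.node (.leaf 12) (.leaf 1)) (.leaf 20)) (.node (.node (.leaf 10) (.leaf 17)) (.leaf 16))))

/-- Table Inv. -/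
def sbInv : Tr := .node (.node (.node (.node (.node (.leaf 17) (.leaf 15)) (.node (.leaf 2) (.leaf 21))) (.node (.node (.leaf 6) (.leaf 11)) (.leaf 3))) (.node (.node (.node (.leaf 14) (.leaf 8)) (.leaf 7)) (.node (.node (.leaf 16) (.leaf 22)) (.leaf 5)))) (.node (.node (.node (.node (.leaf 19) (.leaf 23)) (.leaf 20)) (.node (.node (.leaf 18) (.leaf 12)) (.leaf 24))) (.node (.node (.node (.leaf 4) (.leaf 1)) (.leaf 13)) (.node (.node (.leaf 10) (.leaf 9)) (.leaf 0))))

/-- Generators of subgroup c in 51 × 51 codes. -/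
def scGens51 : List ℕ := [0x100000000000021ba4000000000bbf0000000002130000000001f146000000002c4ac000000003a5f400000000b15900000000195f70000000023fe4000000007f3180000000049700000000008d18000000000dde800000000661bc00000000f0e600000000013dd00000000034f98e000000473de68000000a015c20000000d785f300000002d4f54000000627e384000000c30d22800000164bf0100000030147b50000006c1a063080000a0ff3d5300000f3ff82118000284063a1200004680c9f800000a815b920000012384cb88000033b1995300000483281172b02a453003729c9912c5c12ad333a233ccdfa1be76171dd63c2882c5119a7f8819cc0800c440a9308564ef0edeac124c48658c175a89fb81d262c205ce81c91176605f7d9ebbe812256b20df28a80d2417872d33b40a02c6ce19eb3bf9f58b83b3b220980ea60001, 0x10000000000001990a000000000a5e00000000021000000000006930000000002c85c000000006f19c0000000083ab000000001fc070000000010410000000004c75c00000000a9db800000001da77000000000d2e0000000007d9ec0000000038d1800000001294f000000000595d90000000400d2a0000000fff10400000005d5bcf0000003950a5000000003491880000002af36300000001a2e3300000005090cb00000079ba74f9c00001f2362e240000378e3168800007a64efb30000747b8bb560000bc4a4ed58000047d1d593000037380521d000029894fa85401a202a4b6ec4694063fdbfd88d13f861058601a84dbc1f174980ac3821478d06d46ca5ce3988d6a9e48e61412dc4dbdb4036010e19f594c3c0fd5fe0a78f819640a77327bb041d301b89792cce8a7426c8389cfd5af650dc9a72b4920131d73dd3522c7e9c0001]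

/-- The same as words in the transversals. -/
def scVals : List ℕ := [788678, 614197]

/-- Their 8 × 8 blocks (subgroup of order 9). -/
def scGens : List ℕ := [0x844c2312c0801030, 0xce89d1b3ab56261d]

/-- Table T. -/
def scT : Tr := .node (.node (.node (.node (.leaf 0x8040201008040201) (.leaf 0x4ac5f2a16bd6362d)) (.leaf 0x9874ea9547ceb362)) (.node (.leaf 0xce89d1b3ab56261d) (.leaf 0x56fd3b26ec98957f))) (.node (.node (.leaf 0x844c2312c0801030) (.leaf 0x9c78e9978f4aa153)) (.node (.leaf 0x40c0302c8841231) (.leaf 0xd6bd1b36e49c977e)))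

/-- Table Par. -/
def scPar : Tr := .node (.node (.node (.node (.leaf 0) (.leaf 15)) (.leaf 10)) (.node (.leaf 9) (.leaf 12))) (.node (.node (.leaf 0) (.leaf 11)) (.node (.leaf 1) (.leaf 13)))

/-- Table Fac. -/
def scFac : Tr := .node (.node (.node (.node (.node (.leaf 1) (.leaf 1)) (.leaf 5)) (.node (.leaf 6) (.leaf 6))) (.node (.node (.leaf 4) (.leaf 4)) (.node (.leaf 2) (.leaf 0)))) (.node (.node (.node (.node (.leaf 3) (.leaf 3)) (.leaf 2)) (.node (.leaf 7) (.leaf 7))) (.node (.node (.leaf 0) (.leaf 5)) (.node (.leaf 8) (.leaf 8))))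

/-- Table Srt. -/
def scSrt : Tr := .node (.node (.node (.node (.leaf 0x40c0302c8841231) (.leaf 0xd6bd1b36e49c977e)) (.leaf 0x844c2312c0801030)) (.node (.leaf 0x56fd3b26ec98957f) (.leaf 0x9c78e9978f4aa153))) (.node (.node (.leaf 0x4ac5f2a16bd6362d) (.leaf 0x9874ea9547ceb362)) (.node (.leaf 0x8040201008040201) (.leaf 0xce89d1b3ab56261d)))

/-- Table Pos. -/
def scPos : Tr := .node (.node (.node (.node (.leaf 3) (.leaf 1)) (.leaf 5)) (.node (.leaf 7) (.leaf 2))) (.node (.node (.leaf 4) (.leaf 6)) (.node (.leaf 0) (.leaf 8)))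

/-- Table Inv. -/
def scInv : Tr := .node (.node (.node (.node (.leaf 3) (.leaf 7)) (.leaf 1)) (.node (.leaf 6) (.leaf 5))) (.node (.node (.leaf 8) (.leaf 4)) (.node (.leaf 0) (.leaf 2)))

/-- Generators of subgroup d in 51 × 51 codes. -/
def sdGens51 : List ℕ := [0x10000000000001e0d0000000001d34400000000734c8000000000864000000000e48000000000433080000000048040000000010ac7000000002f914000000006c49800000000d4f58000000004f2d00000000296540000000042c9c00000000fc9600000000027ed000000000cde0340000006c9867c0000005f82a78000001d1e1f200000009df5e8000000340ba60000000a6f8578000000c6891e00000008df703000000144e7312a0000730f689fc000074a6ec0b80001290cf03e00000aa9eadea00001d8026ebc00012c64a94480001e8e0f64700000b90e539d381e5d35a38463499b719f599e20ba1395a0226020151d2030230663fac30998050101103062500306b47680fc466691e4c69c8262ae22182b42544296ca14be29805cca6e9c17b564c3ca27c7526e041c3fc5c6092acba6873786a81830e465d96464d2a54c0001]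

/-- The same as words in the transversals. -/
def sdVals : List ℕ := [813786]

/-- Their 8 × 8 blocks (subgroup of order 17). -/
def sdGens : List ℕ := [0x957f173ef5af8947]

/-- Table T. -/
def sdT : Tr := .node (.node (.node (.node (.node (.leaf 0x8040201008040201) (.leaf 0x65df57fee894c58f)) (.leaf 0x947c9271c080b261)) (.node (.leaf 0xfba63c284dcb70e0) (.leaf 0x1834a3525dfb9f7a))) (.node (.node (.leaf 0x43c25ffa2b16271e) (.leaf 0xaf5a9e798143c183)) (.node (.leaf 0x362d9874e19367de) (.leaf 0xd1b3251f1b36bd6b)))) (.node (.node (.node (.leaf 0x957f173ef5af8947) (.leaf 0x40c2211ea95352f)) (.node (.leaf 0xf8a473e262d156fd) (.leaf 0xcb864cc85cf83f2a))) (.node (.node (.leaf 0xb163d5bf2c1876ed) (.leaf 0x163d78e4d2b1ad5b)) (.node (.leaf 0xf0a5ef9ba650907) (.leaf 0x9372ffaa050fa153))))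

/-- Table Par. -/
def sdPar : Tr := .node (.node (.node (.node (.node (.leaf 0) (.leaf 15)) (.leaf 7)) (.node (.leaf 3) (.leaf 11))) (.node (.node (.leaf 1) (.leaf 9)) (.node (.leaf 5) (.leaf 13)))) (.node (.node (.node (.leaf 0) (.leaf 8)) (.node (.leaf 4) (.leaf 12))) (.node (.node (.leaf 2) (.leaf 10)) (.node (.leaf 6) (.leaf 14))))

/-- Table Fac. -/
def sdFac : Tr := .node (.node (.node (.node (.node (.leaf 1) (.leaf 0)) (.leaf 9)) (.node (.leaf 5) (.leaf 13))) (.node (.node (.leaf 3) (.leaf 11)) (.node (.leaf 7) (.leaf 15)))) (.node (.node (.node (.leaf 2) (.leaf 10)) (.node (.leaf 6) (.leaf 14))) (.node (.node (.leaf 4) (.leaf 12)) (.node (.leaf 8) (.leaf 16))))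

/-- Table Srt. -/
def sdSrt : Tr := .node (.node (.node (.node (.node (.leaf 0x40c2211ea95352f) (.leaf 0xfba63c284dcb70e0)) (.leaf 0x9372ffaa050fa153)) (.node (.leaf 0x362d9874e19367de) (.leaf 0xb163d5bf2c1876ed))) (.node (.node (.leaf 0x163d78e4d2b1ad5b) (.leaf 0x957f173ef5af8947)) (.node (.leaf 0x65df57fee894c58f) (.leaf 0xd1b3251f1b36bd6b)))) (.node (.node (.node (.leaf 0xf0a5ef9ba650907) (.leaf 0x947c9271c080b261)) (.node (.leaf 0x43c25ffa2b16271e) (.leaf 0xcb864cc85cf83f2a))) (.node (.node (.leaf 0x1834a3525dfb9f7a) (.leaf 0xaf5a9e798143c183)) (.node (.leaf 0x8040201008040201) (.leaf 0xf8a473e262d156fd))))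

/-- Table Pos. -/
def sdPos : Tr := .node (.node (.node (.node (.node (.leaf 7) (.leaf 6)) (.leaf 9)) (.node (.leaf 16) (.leaf 3))) (.node (.node (.leaf 5) (.leaf 11)) (.node (.leaf 4) (.leaf 14)))) (.node (.node (.node (.leaf 10) (.leaf 0)) (.node (.leaf 15) (.leaf 13))) (.node (.node (.leaf 12) (.leaf 2)) (.node (.leaf 1) (.leaf 8))))

/-- Table Inv. -/
def sdInv : Tr := .node (.node (.node (.node (.node (.leaf 9) (.leaf 4)) (.leaf 15)) (.node (.leaf 6) (.leaf 3))) (.node (.node (.leaf 11) (.leaf 1)) (.node (.leaf 16) (.leaf 14)))) (.node (.node (.node (.leaf 7) (.leaf 8)) (.node (.leaf 2) (.leaf 13))) (.node (.node (.leaf 12) (.leaf 10)) (.node (.leaf 0) (.leaf 5))))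

end CfsgLib.Sporadic.He
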