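import Cfsg.Agent.Lib.Sporadic.J3DataSub
import Cfsg.Agent.Lib.Sporadic.MatF2
import Cfsg.Prelude.Def_Spor_J3

/-! The defining matrices of the triple cover of J3 with entries `0` or a power of `ω`, and their
images among 18 × 18 matrices over `ZMod 2`. -/

set_option autoImplicit false

namespace CfsgLib.Sporadic.J3

open Cfsg.Spor

/-- Multiplication by `ω` on the basis `1, ω` of a field with four elements. -/
def omegaMat : Matrix (Fin 2) (Fin 2) (ZMod 2) := !![0, 1; 1, 1]

/-- The matrix of `0` (`none`) or of `ω ^ k`. -/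
def optMat : Option (ZMod 3) → Matrix (Fin 2) (Fin 2) (ZMod 2)
  | none => 0
  | some k => omegaMat ^ k.val

/-- The point and coordinate of a row index. -/
def splitIdx (i : Fin 18) : F9 × Fin 2 :=
  (((i.val / 6 : ℕ), (i.val / 2 % 3 : ℕ)), ⟨i.val % 2, Nat.mod_lt _ (by norm_num)⟩)

/-- Row indices are pairs of a point and a coordinate. -/
def idxEquiv : Fin 18 ≃ F9 × Fin 2 where
  toFun := splitIdx
  invFun p := ⟨6 * p.1.1.val + 2 * p.1.2.val + p.2.val, by
    have h1 := ZMod.val_lt p.1.1
    have h2 := ZMod.val_lt p.1.2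
    have h3 := p.2.isLt
    omega⟩
  left_inv := by decide +kernel
  right_inv := by decide +kernel

/-- The 18 × 18 matrix of a table. -/
def tableMat (t : F9 → F9 → Option (ZMod 3)) : Matrix (Fin 18) (Fin 18) (ZMod 2) :=
  Matrix.of fun i j =>
    optMat (t (splitIdx i).1 (splitIdx j).1) (splitIdx i).2 (splitIdx j).2

/-- `A_Z`. -/
def tabA (Z r z : F9) : Option (ZMod 3) :=
  if r = z then some (Z.1 * r.1 + Z.2 * r.2) else none

/-- `E_Z`. -/
def tabE (Z r z : F9) : Option (ZMod 3) :=
  if r = z then some ((Z.1 - r.1) ^ 2 + (Z.2 - r.2) ^ 2) else none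

/-- The exponent of the coefficient of `D_Z` at `e_z`. -/
def lamExp (Z z : F9) : ZMod 3 :=
  if z = 0 then 0
  else if F9.div Z z = F9.I - F9.one then 1
  else if F9.div Z z = -F9.I - F9.one then 2
  else 0

/-- `D_Z`. -/
def tabD (Z r z : F9) : Option (ZMod 3) := if r = z + Z then some (lamExp Z z) else none

/-- `B_Z`. -/
def tabB (Z r z : F9) : Option (ZMod 3) := if r = F9.mul Z z then some 0 else none

/-- `C_Z`. -/
def tabC (Z r z : F9) : Option (ZMod 3) :=
  if z = 0 then (if r = 0 then some 0 else none)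
  else if r = -F9.div Z z ∨ r = F9.mul F9.I (F9.div Z z) ∨ r = -F9.mul F9.I (F9.div Z z)
    then some 0 else none

/-- The position of a point in the generated lists. -/
def ptIdx (Z : F9) : ℕ := 3 * Z.1.val + Z.2.val

theorem decA : ∀ Z, decF2 18 (allGens.getD (ptIdx Z) one) = tableMat (tabA Z) := by
  decide +kernel

theorem decE : ∀ Z, decF2 18 (allGens.getD (9 + ptIdx Z) one) = tableMat (tabE Z) := by
  decide +kernel

theorem decD : ∀ Z, decF2 18 (allGens.getD (18 + ptIdx Z) one) = tableMat (tabD Z) := by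
  decide +kernel

theorem decB : ∀ Z : F9, Z ≠ 0 →
    decF2 18 (allGens.getD (26 + ptIdx Z) one) = tableMat (tabB Z) := by
  decide +kernel

theorem decC : ∀ Z : F9, Z ≠ 0 →
    decF2 18 (allGens.getD (34 + ptIdx Z) one) = tableMat (tabC Z) := by
  decide +kernel

theorem decScalar : ∀ k : ZMod 3, decF2 18 (scalars.getD k.val one) =
    tableMat (fun r z => if r = z then some k else none) := by
  decide +kernel

theorem one_eq_oneF2 : one = oneF2 18 := by decide +kernel

end CfsgLib.Sporadic.J3
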