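import Cfsg.Agent.Lib.Sporadic.HeDataT
import Cfsg.Agent.Lib.Sporadic.HeDataSub
import Cfsg.Agent.Lib.Sporadic.HeDataEight
import Cfsg.Agent.Lib.Sporadic.BlockRep
import Cfsg.Agent.Lib.Sporadic.J3Tables

/-! The 8 × 8 blocks of the Held group's symplectic subgroup: tables over the field with four
elements, their symplecticity, and subgroups of orders 256, 25, 9, 17 of the image. -/

set_option autoImplicit false

namespace CfsgLib.Sporadic.He

open CfsgLib.Sporadic.J3 (optMat)

/-- The coordinate and field coordinate of a row index. -/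
def split8 (i : Fin 8) : (Fin 2 ⊕ Fin 2) × Fin 2 :=
  (if h : i.1 / 2 < 2 then .inl ⟨i.1 / 2, h⟩ else .inr ⟨i.1 / 2 - 2, by omega⟩,
    ⟨i.1 % 2, Nat.mod_lt _ (by norm_num)⟩)

/-- Row indices are pairs of a coordinate and a field coordinate. -/
def idx8 : Fin 8 ≃ (Fin 2 ⊕ Fin 2) × Fin 2 where
  toFun := split8
  invFun p := match p.1 with
    | .inl a => ⟨2 * a.1 + p.2.1, by omega⟩
    | .inr a => ⟨4 + 2 * a.1 + p.2.1, by omega⟩
  left_inv := by decide +kernel
  right_inv := by decide +kernel

/-- The 8 × 8 matrix of a table of field entries. -/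
def tableMat8 (t : Fin 2 ⊕ Fin 2 → Fin 2 ⊕ Fin 2 → Option (ZMod 3)) :
    Matrix (Fin 8) (Fin 8) (ZMod 2) :=
  Matrix.of fun i j => optMat (t (split8 i).1 (split8 j).1) (split8 i).2 (split8 j).2

/-- The table of an entry of `hMats`. -/
def matTab (m : List (List ℕ)) (a b : Fin 2 ⊕ Fin 2) : Option (ZMod 3) :=
  let pos : Fin 2 ⊕ Fin 2 → ℕ := Sum.elim (fun i => i.1) (fun i => 2 + i.1)
  let v := (m.getD (pos a) []).getD (pos b) 0
  if v = 0 then none else some ((v - 1 : ℕ) : ZMod 3)

/-- The table of the transpose. -/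
def transTab (t : Fin 2 ⊕ Fin 2 → Fin 2 ⊕ Fin 2 → Option (ZMod 3)) (a b : Fin 2 ⊕ Fin 2) :
    Option (ZMod 3) := t b a

/-- The table of the standard alternating form in characteristic two. -/
def jTab : Fin 2 ⊕ Fin 2 → Fin 2 ⊕ Fin 2 → Option (ZMod 3)
  | .inl a, .inr b => if a = b then some 0 else none
  | .inr a, .inl b => if a = b then some 0 else none
  | _, _ => none

/-- The table of the scalar `ω`. -/
def omegaTab (a b : Fin 2 ⊕ Fin 2) : Option (ZMod 3) := if a = b then some 1 else none

theorem hMats_length : hMats.length = hGens.length := by decide +kernel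

theorem hMats_symp : ∀ k : Fin hMats.length,
    tableMat8 (matTab (hMats.getD k [])) * tableMat8 jTab *
      tableMat8 (transTab (matTab (hMats.getD k []))) = tableMat8 jTab := by
  decide +kernel

theorem hMats_block : ∀ k : Fin hMats.length, ∀ x : Fin 8 × Fin 8,
    decF2 51 (hGens.getD k one) ⟨17 + x.1.1, by omega⟩ ⟨17 + x.2.1, by omega⟩ =
      tableMat8 (matTab (hMats.getD k [])) x.1 x.2 := by
  decide +kernel

theorem hGens_tri : ∀ k : Fin hGens.length, ∀ x : Fin 51 × Fin 51,
    (17 ≤ x.1.1 ∧ x.2.1 < 17) ∨ (25 ≤ x.1.1 ∧ x.2.1 < 25) →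
      decF2 51 (hGens.getD k one) x.1 x.2 = 0 := by
  decide +kernel

theorem tau_not_linear :
    diagBlock (s := 17) (l := 8) (by norm_num : 17 + 8 ≤ 51) (decF2 51 (kT.get 1)) *
        tableMat8 omegaTab ≠
      tableMat8 omegaTab * diagBlock (s := 17) (l := 8) (by norm_num) (decF2 51 (kT.get 1)) := by
  decide +kernel

/-- The code of the identity matrix of size 8. -/
noncomputable abbrev one8 : ℕ := oneF2 8

theorem sa_blocks : ∀ k : Fin saGens51.length, ∀ x : Fin 8 × Fin 8,
    decF2 51 (saGens51.getD k one) ⟨17 + x.1.1, by omega⟩ ⟨17 + x.2.1, by omega⟩ =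
      decF2 8 (saGens.getD k one8) x.1 x.2 := by
  decide +kernel

theorem sb_blocks : ∀ k : Fin sbGens51.length, ∀ x : Fin 8 × Fin 8,
    decF2 51 (sbGens51.getD k one) ⟨17 + x.1.1, by omega⟩ ⟨17 + x.2.1, by omega⟩ =
      decF2 8 (sbGens.getD k one8) x.1 x.2 := by
  decide +kernel

theorem sc_blocks : ∀ k : Fin scGens51.length, ∀ x : Fin 8 × Fin 8,
    decF2 51 (scGens51.getD k one) ⟨17 + x.1.1, by omega⟩ ⟨17 + x.2.1, by omega⟩ =
      decF2 8 (scGens.getD k one8) x.1 x.2 := by
  decide +kernel

theorem sd_blocks : ∀ k : Fin sdGens51.length, ∀ x : Fin 8 × Fin 8,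
    decF2 51 (sdGens51.getD k one) ⟨17 + x.1.1, by omega⟩ ⟨17 + x.2.1, by omega⟩ =
      decF2 8 (sdGens.getD k one8) x.1 x.2 := by
  decide +kernel

theorem s_lengths : saGens.length = saGens51.length ∧ sbGens.length = sbGens51.length ∧
    scGens.length = scGens51.length ∧ sdGens.length = sdGens51.length := by
  decide +kernel

/-- The transversals of the symplectic subgroup. -/
abbrev hChain : List (ℕ × Tr) := [(425, hT), (9, pT), (256, qT)]

theorem sVals_ok : saVals.map (wordCode (mulF2 51) one hChain) = saGens51 ∧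
    sbVals.map (wordCode (mulF2 51) one hChain) = sbGens51 ∧
    scVals.map (wordCode (mulF2 51) one hChain) = scGens51 ∧
    sdVals.map (wordCode (mulF2 51) one hChain) = sdGens51 := by
  decide +kernel

theorem sa_par : allFrom 0 256 (parentOK (mulF2 8) one8 saGens 256 saT saPar) = true := by
  decide +kernel

theorem sa_fac : allFrom 0 (saGens.length * 256)
    (stepOK (mulF2 8) one8 saGens 256 saT saFac []) = true := by
  decide +kernel

theorem sa_dist : allFrom 0 256 (distinctOK (canonF2 8) 256 saT saSrt saPos saInv) = true := by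
  decide +kernel

theorem sb_par : allFrom 0 25 (parentOK (mulF2 8) one8 sbGens 25 sbT sbPar) = true := by
  decide +kernel

theorem sb_fac : allFrom 0 (sbGens.length * 25)
    (stepOK (mulF2 8) one8 sbGens 25 sbT sbFac []) = true := by
  decide +kernel

theorem sb_dist : allFrom 0 25 (distinctOK (canonF2 8) 25 sbT sbSrt sbPos sbInv) = true := by
  decide +kernel

theorem sc_par : allFrom 0 9 (parentOK (mulF2 8) one8 scGens 9 scT scPar) = true := by
  decide +kernel

theorem sc_fac : allFrom 0 (scGens.length * 9)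
    (stepOK (mulF2 8) one8 scGens 9 scT scFac []) = true := by
  decide +kernel

theorem sc_dist : allFrom 0 9 (distinctOK (canonF2 8) 9 scT scSrt scPos scInv) = true := by
  decide +kernel

theorem sd_par : allFrom 0 17 (parentOK (mulF2 8) one8 sdGens 17 sdT sdPar) = true := by
  decide +kernel

theorem sd_fac : allFrom 0 (sdGens.length * 17)
    (stepOK (mulF2 8) one8 sdGens 17 sdT sdFac []) = true := by
  decide +kernel

theorem sd_dist : allFrom 0 17 (distinctOK (canonF2 8) 17 sdT sdSrt sdPos sdInv) = true := by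
  decide +kernel

end CfsgLib.Sporadic.He
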