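import Cfsg.Agent.Lib.Sporadic.HeCert
import Cfsg.Agent.Lib.Sporadic.HeCertTop0
import Cfsg.Agent.Lib.Sporadic.HeCertTop1
import Cfsg.Agent.Lib.Sporadic.HeCertTop2
import Cfsg.Agent.Lib.Sporadic.HeCertTop3
import Cfsg.Agent.Lib.Sporadic.GenWord

/-! A 51-dimensional matrix group over `ZMod 2` with its subgroup chain and upper bounds for the
orders (the Held group). -/

set_option autoImplicit false

namespace CfsgLib.Sporadic.He

/-- The coercion of units into matrices. -/
noncomputable def emb : GL (Fin 51) (ZMod 2) →* Matrix (Fin 51) (Fin 51) (ZMod 2) := Units.coeHom _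

/-- A code as a matrix. -/
noncomputable def dec (c : ℕ) : Matrix (Fin 51) (Fin 51) (ZMod 2) := decF2 51 c

theorem emb_injective : Function.Injective emb := Units.coeHom_injective

theorem emb_apply (g : GL (Fin 51) (ZMod 2)) : emb g = g.1 := rfl

theorem dec_mul (a b : ℕ) : dec (mulF2 51 a b) = dec a * dec b := decF2_mulF2 a b

theorem dec_one : dec one = 1 := by
  unfold dec
  rw [one_eq_oneF2, decF2_oneF2]

theorem dec_genWord_replicate (c : ℕ) : ∀ k, dec (genWord (mulF2 51) one [c]
    (List.replicate k 0)) = dec c ^ k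
  | 0 => by rw [pow_zero]; exact dec_one
  | k + 1 => by
    rw [List.replicate_succ, CfsgLib.Sporadic.genWord_cons, dec_mul, dec_genWord_replicate c k, pow_succ']
    rfl

/-- The group. -/
def heGroup : Subgroup (GL (Fin 51) (ZMod 2)) := Subgroup.closure (genSet emb dec topGens)

/-- The subgroup of index 2058. -/
def kGroup : Subgroup (GL (Fin 51) (ZMod 2)) := Subgroup.closure (genSet emb dec kGens)

/-- The symplectic subgroup. -/
def hGroup : Subgroup (GL (Fin 51) (ZMod 2)) := Subgroup.closure (genSet emb dec hGens)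

/-- The subgroup of order 2304. -/
def pGroup : Subgroup (GL (Fin 51) (ZMod 2)) := Subgroup.closure (genSet emb dec pGens)

/-- The subgroup of order 256. -/
def qGroup : Subgroup (GL (Fin 51) (ZMod 2)) := Subgroup.closure (genSet emb dec qGens)

theorem topGens_mem : ∀ c ∈ topGens, CodeMem emb dec heGroup c := by
  intro c hc
  have hpos : ∀ c ∈ topGens, 0 < topOrd.getD (topGens.idxOf c) 0 := by decide +kernel
  have hw := List.map_inj_left.1 topOrd_ok c hc
  have h1 : dec c ^ (topOrd.getD (topGens.idxOf c) 0) = 1 := by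
    rw [← dec_genWord_replicate, hw, dec_one]
  exact ⟨Units.ofPowEqOne _ _ h1 (hpos c hc).ne',
    Subgroup.subset_closure ⟨c, hc, rfl⟩, rfl⟩

theorem topT_mem : ∀ i < 2058, CodeMem emb dec heGroup (topT.get i) :=
  table_mem (emb := emb) (dec := dec) (mul := mulF2 51) (one := one) dec_mul dec_one
    topGens_mem top_par

theorem getD_mem {H : Subgroup (GL (Fin 51) (ZMod 2))} {gens : List ℕ}
    (h : ∀ c ∈ gens, CodeMem emb dec H c) (k : ℕ) : CodeMem emb dec H (gens.getD k one) := by
  rcases Nat.lt_or_ge k gens.length with hlt | hge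
  · rw [List.getD_eq_getElem _ _ hlt]
    exact h _ (List.getElem_mem hlt)
  · rw [List.getD_eq_default _ _ hge]
    exact codeMem_one (emb := emb) (dec := dec) (one := one) dec_one

/-- `a * c = g * b` puts `c` in the subgroup with `a`, `g` and `b`. -/
theorem codeMem_of_eq {H : Subgroup (GL (Fin 51) (ZMod 2))} {a c g b : ℕ}
    (he : mulF2 51 a c = mulF2 51 g b) (ha : CodeMem emb dec H a) (hg : CodeMem emb dec H g)
    (hb : CodeMem emb dec H b) : CodeMem emb dec H c := by
  obtain ⟨x, hx, ex⟩ := ha
  obtain ⟨y, hy, ey⟩ :=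
    CodeMem.mul (emb := emb) (dec := dec) (mul := mulF2 51) dec_mul hg hb
  refine ⟨x⁻¹ * y, mul_mem (inv_mem hx) hy, ?_⟩
  rw [map_mul, ey, ← he, dec_mul, ← ex, ← mul_assoc, ← map_mul, inv_mul_cancel, map_one, one_mul]

theorem zip_mem {α β : Type*} {l : List α} {l' : List β} (hlen : l.length = l'.length) {a : α}
    (ha : a ∈ l) : ∃ b, (a, b) ∈ List.zip l l' := by
  obtain ⟨i, hi, rfl⟩ := List.getElem_of_mem ha
  refine ⟨l'[i]'(hlen ▸ hi), ?_⟩
  rw [List.mem_iff_getElem]
  exact ⟨i, by rw [List.length_zip]; omega, List.getElem_zip⟩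

theorem kGens_mem : ∀ c ∈ kGens, CodeMem emb dec heGroup c := by
  intro c hc
  obtain ⟨v, hv⟩ := zip_mem (l' := kVals) (by decide +kernel) hc
  have hok := List.all_eq_true.1 kVals_ok (c, v) hv
  rw [beq_iff_eq] at hok
  exact codeMem_of_eq hok (topT_mem _ (Nat.mod_lt _ (by norm_num)))
    (getD_mem topGens_mem _) (topT_mem _ (Nat.mod_lt _ (by norm_num)))

theorem hGens_mem : ∀ c ∈ hGens, CodeMem emb dec kGroup c := by
  intro c hc
  rw [← hWords_ok] at hc
  obtain ⟨w, -, rfl⟩ := List.mem_map.1 hc
  exact codeMem_genWord (emb := emb) (dec := dec) (mul := mulF2 51) (one := one) dec_mul dec_one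
    (codeMem_genSet kGens_mem) w

theorem hT_mem : ∀ i < 425, CodeMem emb dec hGroup (hT.get i) :=
  table_mem (emb := emb) (dec := dec) (mul := mulF2 51) (one := one) dec_mul dec_one
    (codeMem_genSet hGens_mem) h_par

theorem pGens_mem : ∀ c ∈ pGens, CodeMem emb dec hGroup c := by
  intro c hc
  obtain ⟨v, hv⟩ := zip_mem (l' := pVals) (by decide +kernel) hc
  have hok := List.all_eq_true.1 pVals_ok (c, v) hv
  rw [Bool.and_eq_true, beq_iff_eq, beq_iff_eq] at hok
  exact codeMem_of_eq hok.2 (hT_mem _ (Nat.mod_lt _ (by norm_num)))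
    (getD_mem (codeMem_genSet hGens_mem) _) (hT_mem _ (Nat.mod_lt _ (by norm_num)))

theorem pT_mem : ∀ i < 9, CodeMem emb dec pGroup (pT.get i) :=
  table_mem (emb := emb) (dec := dec) (mul := mulF2 51) (one := one) dec_mul dec_one
    (codeMem_genSet pGens_mem) p_par

theorem qGens_mem : ∀ c ∈ qGens, CodeMem emb dec pGroup c := by
  intro c hc
  rw [← qWords_ok] at hc
  obtain ⟨w, -, rfl⟩ := List.mem_map.1 hc
  exact codeMem_genWord (emb := emb) (dec := dec) (mul := mulF2 51) (one := one) dec_mul dec_one
    (codeMem_genSet pGens_mem) w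

theorem qT_mem : ∀ i < 256, CodeMem emb dec qGroup (qT.get i) :=
  table_mem (emb := emb) (dec := dec) (mul := mulF2 51) (one := one) dec_mul dec_one
    (codeMem_genSet qGens_mem) q_par

theorem kT_mem : ∀ i < 2, CodeMem emb dec kGroup (kT.get i) :=
  table_mem (emb := emb) (dec := dec) (mul := mulF2 51) (one := one) dec_mul dec_one
    (codeMem_genSet kGens_mem) k_par

theorem kGroup_le : kGroup ≤ heGroup := genSet_closure_le emb_injective kGens_mem

theorem hGroup_le : hGroup ≤ kGroup := genSet_closure_le emb_injective hGens_mem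

theorem pGroup_le : pGroup ≤ hGroup := genSet_closure_le emb_injective pGens_mem

theorem qGroup_le : qGroup ≤ pGroup := genSet_closure_le emb_injective qGens_mem

theorem hLower_mem : ∀ p ∈ [(9, pT), (256, qT)],
    0 < p.1 ∧ ∀ i < p.1, CodeMem emb dec pGroup (p.2.get i) := by
  intro p hp
  simp only [List.mem_cons, List.not_mem_nil, or_false] at hp
  rcases hp with rfl | rfl
  · exact ⟨by norm_num, pT_mem⟩
  · exact ⟨by norm_num, fun i hi => (qT_mem i hi).mono qGroup_le⟩

theorem kLower_mem : ∀ p ∈ [(425, hT), (9, pT), (256, qT)],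
    0 < p.1 ∧ ∀ i < p.1, CodeMem emb dec hGroup (p.2.get i) := by
  intro p hp
  rcases List.mem_cons.1 hp with rfl | hp
  · exact ⟨by norm_num, hT_mem⟩
  · exact ⟨(hLower_mem p hp).1, fun i hi => ((hLower_mem p hp).2 i hi).mono pGroup_le⟩

theorem topLower_mem : ∀ p ∈ [(2, kT), (425, hT), (9, pT), (256, qT)],
    0 < p.1 ∧ ∀ i < p.1, CodeMem emb dec kGroup (p.2.get i) := by
  intro p hp
  rcases List.mem_cons.1 hp with rfl | hp
  · exact ⟨by norm_num, kT_mem⟩
  · exact ⟨(kLower_mem p hp).1, fun i hi => ((kLower_mem p hp).2 i hi).mono hGroup_le⟩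

/-- Every word in the transversals lies in the group. -/
theorem chain_mem (v : ℕ) : CodeMem emb dec heGroup (wordCode (mulF2 51) one chain v) := by
  refine wordCode_mem (emb := emb) (dec := dec) (mul := mulF2 51) (one := one) dec_mul dec_one
    chain (fun p hp => ?_) v
  rcases List.mem_cons.1 hp with rfl | hp
  · exact ⟨by norm_num, topT_mem⟩
  · exact ⟨(topLower_mem p hp).1, fun i hi => ((topLower_mem p hp).2 i hi).mono kGroup_le⟩

theorem card_qGroup_le : Nat.card qGroup ≤ 256 :=
  card_le_of_list (emb := emb) (dec := dec) (mul := mulF2 51) (one := one) dec_mul dec_one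
    emb_injective (T := qT) (fac := qFac) (gens := qGens) (by norm_num) (by decide +kernel)
    (fun s hs => hs) q_fac

theorem card_pGroup_le : Nat.card pGroup ≤ 9 * 256 := by
  refine le_trans ?_ (Nat.mul_le_mul_left 9 card_qGroup_le)
  refine card_le_of_checks (emb := emb) (dec := dec) (mul := mulF2 51) (one := one) dec_mul dec_one
    emb_injective (T := pT) (fac := pFac) (gens := pGens) (lower := [(256, qT)]) (by norm_num)
    (by decide +kernel) (fun s hs => hs) ?_ p_fac
  intro p hp
  obtain rfl := List.mem_singleton.1 hp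
  exact ⟨by norm_num, qT_mem⟩

theorem card_hGroup_le : Nat.card hGroup ≤ 979200 := by
  refine le_trans (le_trans ?_ (Nat.mul_le_mul_left 425 card_pGroup_le)) (by norm_num)
  exact card_le_of_checks (emb := emb) (dec := dec) (mul := mulF2 51) (one := one) dec_mul dec_one
    emb_injective (T := hT) (fac := hFac) (gens := hGens) (lower := [(9, pT), (256, qT)])
    (by norm_num) (by decide +kernel) (fun s hs => hs) hLower_mem h_fac

theorem card_kGroup_le : Nat.card kGroup ≤ 2 * Nat.card hGroup :=
  card_le_of_checks (emb := emb) (dec := dec) (mul := mulF2 51) (one := one) dec_mul dec_one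
    emb_injective (T := kT) (fac := kFac) (gens := kGens)
    (lower := [(425, hT), (9, pT), (256, qT)]) (by norm_num) (by decide +kernel) (fun s hs => hs)
    kLower_mem k_fac

theorem card_heGroup_le : Nat.card heGroup ≤ 2058 * Nat.card kGroup := by
  refine card_le_of_checks (emb := emb) (dec := dec) (mul := mulF2 51) (one := one) dec_mul dec_one
    emb_injective (T := topT) (fac := topFac) (gens := topGens)
    (lower := [(2, kT), (425, hT), (9, pT), (256, qT)]) (by norm_num) (by decide +kernel)
    (fun s hs => hs) topLower_mem ?_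
  rw [show topGens.length * 2058 = 1029 + 1029 + 1029 + 1029 by decide +kernel]
  exact allFrom_append (allFrom_append (allFrom_append top_fac0 top_fac1) top_fac2) top_fac3

theorem kGroup_fix {g : GL (Fin 51) (ZMod 2)} (hg : g ∈ kGroup) :
    g.1.mulVec (Pi.single 0 1) = Pi.single 0 1 := by
  refine Subgroup.closure_induction (p := fun g _ => g.1.mulVec (Pi.single 0 1) = Pi.single 0 1)
    ?_ ?_ ?_ ?_ hg
  · rintro s ⟨c, hc, hs⟩
    have hok := List.all_eq_true.1 kGens_fix c hc
    rw [beq_iff_eq] at hok
    funext i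
    rw [Matrix.mulVec_single_one, Matrix.col_apply, ← emb_apply, hs]
    have h1 := congrFun (decVecF2_colVec (n := 51) (c := c) (by norm_num)) i
    refine h1.symm.trans ?_
    rw [hok]
    have h3 : decVecF2 51 1 = Pi.single 0 1 := by decide +kernel
    exact congrFun h3 i
  · exact Matrix.one_mulVec _
  · intro x y _ _ hx hy
    rw [Units.val_mul, ← Matrix.mulVec_mulVec, hy, hx]
  · intro x _ hx
    conv_lhs => rw [← hx]
    rw [Matrix.mulVec_mulVec, ← Units.val_mul, inv_mul_cancel, Units.val_one, Matrix.one_mulVec]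

/-- The transversal entries send the fixed vector to 2058 different vectors. -/
theorem le_card_heGroup : 2058 * Nat.card kGroup ≤ Nat.card heGroup := by
  choose t htmem ht using fun i : Fin 2058 => topT_mem i i.2
  let f : Fin 2058 × kGroup → heGroup := fun p =>
    ⟨t p.1 * p.2.1, mul_mem (htmem p.1) (kGroup_le p.2.2)⟩
  have hf : Function.Injective f := by
    intro p q hpq
    have he : t p.1 * p.2.1 = t q.1 * q.2.1 := by
      simpa only [f, Subtype.mk.injEq] using hpq
    have hv := congrArg (fun g : GL (Fin 51) (ZMod 2) => g.1.mulVec (Pi.single 0 1)) he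
    simp only [Units.val_mul, ← Matrix.mulVec_mulVec, kGroup_fix p.2.2, kGroup_fix q.2.2] at hv
    have hcol : ∀ i : Fin 2058, (t i).1.mulVec (Pi.single 0 1) = decVecF2 51 (colT.get i) := by
      intro i
      have h1 := of_allFrom_zero colT_ok i.2
      rw [beq_iff_eq] at h1
      rw [← h1, decVecF2_colVec (by norm_num : 0 < 51)]
      funext j
      rw [Matrix.mulVec_single_one, Matrix.col_apply, ← emb_apply, ht i]
      rfl
    rw [hcol, hcol] at hv
    have hb : ∀ i : Fin 2058, colT.get i < 2 ^ 51 ∧ colPos.get i < 2058 ∧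
        colSrt.get (colPos.get i) = colT.get i ∧ colInv.get (colPos.get i) = i := by
      intro i
      have h1 := of_allFrom_zero col_dist i.2
      simp only [distinctOK, Bool.and_eq_true, beq_iff_eq, Nat.blt_eq] at h1
      exact ⟨h1.1.1.1.1, h1.1.1.1.2, h1.1.1.2, h1.1.2⟩
    have hmono : ∀ d i, i + d + 1 < 2058 → colSrt.get i < colSrt.get (i + d + 1) := by
      intro d
      induction d with
      | zero =>
        intro i hi
        have h1 := of_allFrom_zero col_dist (show i < 2058 by omega)
        simp only [distinctOK, Bool.and_eq_true, Bool.or_eq_true, beq_iff_eq, Nat.blt_eq,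
          Nat.ble_eq] at h1
        rcases h1.2 with h2 | h2
        · omega
        · exact h2
      | succ d ih =>
        intro i hi
        refine (ih i (by omega)).trans ?_
        have h1 := of_allFrom_zero col_dist (show i + d + 1 < 2058 by omega)
        simp only [distinctOK, Bool.and_eq_true, Bool.or_eq_true, beq_iff_eq, Nat.blt_eq,
          Nat.ble_eq] at h1
        rcases h1.2 with h2 | h2
        · omega
        · exact h2
    have he' : colT.get p.1 = colT.get q.1 := by
      refine Nat.eq_of_testBit_eq fun m => ?_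
      rcases Nat.lt_or_ge m 51 with hlt | hge
      · have h' := congrFun hv ⟨m, hlt⟩
        simp only [decVecF2] at h'
        revert h'
        cases (colT.get p.1).testBit m <;> cases (colT.get q.1).testBit m <;> simp
      · have hle : 2 ^ 51 ≤ 2 ^ m := Nat.pow_le_pow_right (by norm_num) hge
        rw [Nat.testBit_lt_two_pow ((hb p.1).1.trans_le hle),
          Nat.testBit_lt_two_pow ((hb q.1).1.trans_le hle)]
    have hpos : colPos.get p.1 = colPos.get q.1 := by
      obtain ⟨-, hp1, hp2, -⟩ := hb p.1
      obtain ⟨-, hq1, hq2, -⟩ := hb q.1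
      rcases lt_trichotomy (colPos.get p.1) (colPos.get q.1) with hl | hl | hl
      · have := hmono (colPos.get q.1 - colPos.get p.1 - 1) (colPos.get p.1) (by omega)
        rw [show colPos.get p.1 + (colPos.get q.1 - colPos.get p.1 - 1) + 1 = colPos.get q.1 by
          omega, hp2, hq2, he'] at this
        exact absurd this (lt_irrefl _)
      · exact hl
      · have := hmono (colPos.get p.1 - colPos.get q.1 - 1) (colPos.get q.1) (by omega)
        rw [show colPos.get q.1 + (colPos.get p.1 - colPos.get q.1 - 1) + 1 = colPos.get p.1 by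
          omega, hp2, hq2, he'] at this
        exact absurd this (lt_irrefl _)
    have h1 : p.1 = q.1 := Fin.ext (by rw [← (hb p.1).2.2.2, ← (hb q.1).2.2.2, hpos])
    refine Prod.ext h1 (Subtype.ext ?_)
    rw [h1] at he
    exact mul_left_cancel he
  have := Nat.card_le_card_of_injective f hf
  rwa [Nat.card_prod, Nat.card_eq_fintype_card, Fintype.card_fin] at this

theorem card_heGroup_eq : Nat.card heGroup = 2058 * Nat.card kGroup :=
  le_antisymm card_heGroup_le le_card_heGroup

end CfsgLib.Sporadic.He
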