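import Cfsg.Agent.Lib.Sporadic.J3Tables

/-! The embedding of `GL 9` over a field with four elements into 18 × 18 matrices over `ZMod 2`,
sending the defining matrices of the triple cover of J3 to their codes. -/

set_option autoImplicit false

namespace CfsgLib.Sporadic.J3

open Cfsg.Spor

variable {F : Type*} [Field F] {ω : F}

/-- The hypotheses on `(F, ω)`. -/
structure FieldFour (F : Type*) [Field F] (ω : F) : Prop where
  card : Nat.card F = 4
  root : ω ^ 2 + ω + 1 = 0

section

variable (h : FieldFour F ω)
include h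

theorem FieldFour.finite : Finite F := Nat.finite_of_card_ne_zero (by rw [h.card]; norm_num)

theorem FieldFour.two_eq_zero : (2 : F) = 0 := by
  have := h.finite
  have := Fintype.ofFinite F
  have h4 : ((4 : ℕ) : F) = 0 := by
    rw [← h.card, Nat.card_eq_fintype_card]
    exact Nat.cast_card_eq_zero F
  have h22 : (2 : F) * 2 = 0 := by
    rw [← h4]
    norm_num
  exact mul_self_eq_zero.1 h22

theorem FieldFour.neg_eq (x : F) : -x = x := by
  linear_combination (-x) * h.two_eq_zero

theorem FieldFour.ne_zero : ω ≠ 0 := fun e => by simpa [e] using h.root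

theorem FieldFour.ne_one : ω ≠ 1 := fun e => by
  have h1 := h.root
  rw [e] at h1
  have h2 : (1 : F) = 0 := by linear_combination h1 - h.two_eq_zero
  exact one_ne_zero h2

theorem FieldFour.sq_eq : ω ^ 2 = ω + 1 := by
  linear_combination h.root - (ω + 1) * h.two_eq_zero

theorem FieldFour.sq_ne_zero : ω ^ 2 ≠ 0 := pow_ne_zero 2 h.ne_zero

theorem FieldFour.sq_ne_one : ω ^ 2 ≠ 1 := fun e => h.ne_zero (by
  linear_combination e - h.sq_eq)

theorem FieldFour.sq_ne_self : ω ^ 2 ≠ ω := fun e => one_ne_zero (α := F) (by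
  linear_combination e - h.sq_eq)

theorem FieldFour.cube : ω ^ 3 = 1 := by
  linear_combination (ω - 1) * h.root

theorem FieldFour.cases (x : F) : x = 0 ∨ x = 1 ∨ x = ω ∨ x = ω ^ 2 := by
  classical
  have := h.finite
  have := Fintype.ofFinite F
  have hu : ({0, 1, ω, ω ^ 2} : Finset F) = Finset.univ := by
    apply Finset.eq_univ_of_card
    rw [Fintype.card_eq_nat_card, h.card]
    rw [Finset.card_insert_of_notMem, Finset.card_insert_of_notMem, Finset.card_insert_of_notMem,
      Finset.card_singleton] <;>
      simp [zero_ne_one, h.ne_zero.symm, h.ne_one.symm, h.sq_ne_zero.symm, h.sq_ne_one.symm,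
        h.sq_ne_self.symm]
  have hx := Finset.mem_univ x
  rw [← hu] at hx
  simpa only [Finset.mem_insert, Finset.mem_singleton] using hx

open Classical in
/-- The regular representation of the field on the basis `1, ω`. -/
noncomputable def FieldFour.reg : F →+* Matrix (Fin 2) (Fin 2) (ZMod 2) :=
  let f : F → Matrix (Fin 2) (Fin 2) (ZMod 2) := fun x =>
    if x = 0 then 0 else if x = 1 then 1 else if x = ω then omegaMat else omegaMat ^ 2
  have f0 : f 0 = 0 := if_pos rfl
  have f1 : f 1 = 1 := by simp [f]
  have fw : f ω = omegaMat := by simp [f, h.ne_zero, h.ne_one]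
  have fv : f (ω ^ 2) = omegaMat ^ 2 := by
    simp only [f, h.sq_ne_zero, h.sq_ne_one, h.sq_ne_self, if_false]
  { toFun := f
    map_one' := f1
    map_zero' := f0
    map_mul' := by
      have e1 : ω * ω = ω ^ 2 := (sq ω).symm
      have e2 : ω * ω ^ 2 = 1 := by rw [← h.cube]; ring
      have e3 : ω ^ 2 * ω = 1 := by rw [← h.cube]; ring
      have e4 : ω ^ 2 * ω ^ 2 = ω := by linear_combination ω * h.cube
      intro x y
      rcases h.cases x with rfl | rfl | rfl | rfl <;>
        rcases h.cases y with rfl | rfl | rfl | rfl <;>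
        simp only [zero_mul, mul_zero, one_mul, mul_one, e1, e2, e3, e4, f0, f1, fw, fv] <;>
        decide
    map_add' := by
      have a1 : (1 : F) + 1 = 0 := by linear_combination h.two_eq_zero
      have a2 : ω + ω = 0 := by linear_combination ω * h.two_eq_zero
      have a3 : ω ^ 2 + ω ^ 2 = 0 := by linear_combination ω ^ 2 * h.two_eq_zero
      have b1 : 1 + ω = ω ^ 2 := by linear_combination - h.sq_eq
      have b2 : ω + 1 = ω ^ 2 := by linear_combination - h.sq_eq
      have b3 : 1 + ω ^ 2 = ω := by linear_combination h.sq_eq + h.two_eq_zero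
      have b4 : ω ^ 2 + 1 = ω := by linear_combination h.sq_eq + h.two_eq_zero
      have b5 : ω + ω ^ 2 = 1 := by linear_combination h.sq_eq + ω * h.two_eq_zero
      have b6 : ω ^ 2 + ω = 1 := by linear_combination h.sq_eq + ω * h.two_eq_zero
      intro x y
      rcases h.cases x with rfl | rfl | rfl | rfl <;>
        rcases h.cases y with rfl | rfl | rfl | rfl <;>
        simp only [zero_add, add_zero, a1, a2, a3, b1, b2, b3, b4, b5, b6, f0, f1, fw, fv] <;>
        decide }

theorem FieldFour.reg_omega : h.reg ω = omegaMat := by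
  simp [FieldFour.reg, h.ne_zero, h.ne_one]

theorem FieldFour.reg_omegaPow (k : ZMod 3) : h.reg (omegaPow F ω k) = optMat (some k) := by
  rw [omegaPow, map_pow, h.reg_omega]
  rfl

/-- Matrices over the field as matrices over `ZMod 2` of twice the size, as a function. -/
noncomputable def FieldFour.bigFun (M : Matrix F9 F9 F) :
    Matrix (Fin 18) (Fin 18) (ZMod 2) :=
  Matrix.of fun i j => h.reg (M (splitIdx i).1 (splitIdx j).1) (splitIdx i).2 (splitIdx j).2

theorem FieldFour.bigFun_eq (M : Matrix F9 F9 F) :
    h.bigFun M = ((Matrix.compRingEquiv F9 (Fin 2) (ZMod 2)) (M.map h.reg)).submatrix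
      idxEquiv idxEquiv := rfl

/-- Matrices over the field as matrices over `ZMod 2` of twice the size. -/
noncomputable def FieldFour.big :
    Matrix F9 F9 F →* Matrix (Fin 18) (Fin 18) (ZMod 2) where
  toFun := h.bigFun
  map_one' := by
    rw [h.bigFun_eq, Matrix.map_one h.reg (map_zero _) (map_one _), map_one,
      Matrix.submatrix_one_equiv]
  map_mul' M N := by
    rw [h.bigFun_eq, h.bigFun_eq, h.bigFun_eq, Matrix.map_mul, map_mul,
      Matrix.submatrix_mul_equiv]

theorem FieldFour.big_apply (M : Matrix F9 F9 F) (i j : Fin 18) :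
    h.big M i j = h.reg (M (splitIdx i).1 (splitIdx j).1) (splitIdx i).2 (splitIdx j).2 := rfl

theorem FieldFour.big_injective : Function.Injective h.big := by
  intro M N e
  ext r z
  refine h.reg.injective ?_
  ext u v
  have e' := congrFun (congrFun e (idxEquiv.symm (r, u))) (idxEquiv.symm (z, v))
  have e1 : ∀ p, splitIdx (idxEquiv.symm p) = p := idxEquiv.apply_symm_apply
  simpa only [FieldFour.big_apply, e1] using e'

/-- A matrix given by a table. -/
theorem FieldFour.big_of_table {M : Matrix F9 F9 F} {t : F9 → F9 → Option (ZMod 3)}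
    (ht : ∀ r z, match t r z with | none => M r z = 0 | some k => M r z = omegaPow F ω k) :
    h.big M = tableMat t := by
  ext i j
  simp only [FieldFour.big_apply, Matrix.of_apply, tableMat]
  have := ht (splitIdx i).1 (splitIdx j).1
  cases e : t (splitIdx i).1 (splitIdx j).1 with
  | none => rw [e] at this; rw [this, map_zero]; rfl
  | some k => rw [e] at this; rw [this, h.reg_omegaPow]

theorem FieldFour.big_A (Z : F9) : h.big (j3A F ω Z) = decF2 18 (allGens.getD (ptIdx Z) one) := by
  rw [decA]
  refine h.big_of_table fun r z => ?_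
  by_cases e : r = z <;> simp [tabA, j3A, e]

theorem FieldFour.big_E (Z : F9) :
    h.big (j3E F ω Z) = decF2 18 (allGens.getD (9 + ptIdx Z) one) := by
  rw [decE]
  refine h.big_of_table fun r z => ?_
  by_cases e : r = z <;> simp [tabE, j3E, e]

theorem FieldFour.big_D (Z : F9) :
    h.big (j3D F ω Z) = decF2 18 (allGens.getD (18 + ptIdx Z) one) := by
  rw [decD]
  refine h.big_of_table fun r z => ?_
  have hlam : j3Lam F ω Z z = omegaPow F ω (lamExp Z z) := by
    unfold j3Lam lamExp omegaPow
    split_ifs
    · simp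
    · simp [show (1 : ZMod 3).val = 1 from rfl]
    · simp [show (2 : ZMod 3).val = 2 from rfl]
    · simp
  by_cases e : r = z + Z <;> simp [tabD, j3D, e, hlam]

theorem FieldFour.big_B {Z : F9} (hZ : Z ≠ 0) :
    h.big (j3B F Z) = decF2 18 (allGens.getD (26 + ptIdx Z) one) := by
  rw [decB Z hZ]
  refine h.big_of_table fun r z => ?_
  by_cases e : r = F9.mul Z z <;> simp [tabB, j3B, e, omegaPow]

theorem FieldFour.big_C {Z : F9} (hZ : Z ≠ 0) :
    h.big (j3C F Z) = decF2 18 (allGens.getD (34 + ptIdx Z) one) := by
  rw [decC Z hZ]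
  refine h.big_of_table fun r z => ?_
  by_cases e1 : z = 0
  · by_cases e2 : r = 0 <;> simp [tabC, j3C, e1, e2, omegaPow]
  · by_cases e2 : r = -F9.div Z z ∨ r = F9.mul F9.I (F9.div Z z) ∨
        r = -F9.mul F9.I (F9.div Z z) <;>
      simp [tabC, j3C, e1, e2, omegaPow]

theorem FieldFour.big_scalar (k : ZMod 3) :
    h.big (Matrix.diagonal fun _ => omegaPow F ω k) = decF2 18 (scalars.getD k.val one) := by
  rw [decScalar]
  refine h.big_of_table fun r z => ?_
  by_cases e : r = z <;> simp [e]

end

end CfsgLib.Sporadic.J3
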