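import Cfsg.Agent.Lib.Sporadic.HeGroup
import Cfsg.Agent.Lib.Sporadic.HeEight
import Cfsg.Agent.Lib.Sporadic.J3Rep
import Cfsg.Agent.Lib.Sp.Simple
import Cfsg.Agent.Lib.Sp.Card

/-! The isomorphism of the subgroup of order 979200 with `Sp₄(4)`, read off a diagonal block. -/

set_option autoImplicit false

namespace CfsgLib.Sporadic.He

open CfsgLib.Sporadic.J3 (FieldFour optMat)
open Matrix (symplecticGroup)

variable {F : Type*} [Field F] {ω : F} (h : FieldFour F ω)
include h

/-- 4 × 4 matrices over the field as 8 × 8 matrices over `ZMod 2`, as a function. -/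
noncomputable def bigFun (M : Matrix (Fin 2 ⊕ Fin 2) (Fin 2 ⊕ Fin 2) F) :
    Matrix (Fin 8) (Fin 8) (ZMod 2) :=
  Matrix.of fun i j => h.reg (M (split8 i).1 (split8 j).1) (split8 i).2 (split8 j).2

theorem bigFun_eq (M : Matrix (Fin 2 ⊕ Fin 2) (Fin 2 ⊕ Fin 2) F) :
    bigFun h M = ((Matrix.compRingEquiv (Fin 2 ⊕ Fin 2) (Fin 2) (ZMod 2)) (M.map h.reg)).submatrix
      idx8 idx8 := rfl

/-- 4 × 4 matrices over the field as 8 × 8 matrices over `ZMod 2`. -/
noncomputable def big8 :
    Matrix (Fin 2 ⊕ Fin 2) (Fin 2 ⊕ Fin 2) F →* Matrix (Fin 8) (Fin 8) (ZMod 2) where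
  toFun := bigFun h
  map_one' := by
    rw [bigFun_eq, Matrix.map_one h.reg (map_zero _) (map_one _), map_one,
      Matrix.submatrix_one_equiv]
  map_mul' M N := by
    rw [bigFun_eq, bigFun_eq, bigFun_eq, Matrix.map_mul, map_mul, Matrix.submatrix_mul_equiv]

theorem big8_injective : Function.Injective (big8 h) := by
  intro M N e
  ext r z
  refine h.reg.injective ?_
  ext u v
  have e' := congrFun (congrFun e (idx8.symm (r, u))) (idx8.symm (z, v))
  have e1 : ∀ p, split8 (idx8.symm p) = p := idx8.apply_symm_apply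
  change bigFun h M _ _ = bigFun h N _ _ at e'
  simpa only [bigFun, Matrix.of_apply, e1] using e'

/-- The entry of a table in the field. -/
def optVal (_ : FieldFour F ω) : Option (ZMod 3) → F
  | none => 0
  | some k => Cfsg.Spor.omegaPow F ω k

/-- The matrix over the field of a table. -/
def tabMat (t : Fin 2 ⊕ Fin 2 → Fin 2 ⊕ Fin 2 → Option (ZMod 3)) :
    Matrix (Fin 2 ⊕ Fin 2) (Fin 2 ⊕ Fin 2) F :=
  Matrix.of fun a b => optVal h (t a b)

theorem big8_tabMat (t : Fin 2 ⊕ Fin 2 → Fin 2 ⊕ Fin 2 → Option (ZMod 3)) :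
    big8 h (tabMat h t) = tableMat8 t := by
  ext i j
  change bigFun h _ i j = _
  simp only [bigFun, tableMat8, tabMat, Matrix.of_apply]
  cases t (split8 i).1 (split8 j).1 with
  | none => rw [optVal, map_zero]; rfl
  | some k => rw [optVal, h.reg_omegaPow]

theorem tabMat_jTab : tabMat h jTab = Matrix.J (Fin 2) F := by
  ext a b
  rcases a with a | a <;> rcases b with b | b <;>
    simp only [tabMat, jTab, Matrix.of_apply, Matrix.J, Matrix.fromBlocks_apply₁₁,
      Matrix.fromBlocks_apply₁₂, Matrix.fromBlocks_apply₂₁, Matrix.fromBlocks_apply₂₂,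
      Matrix.neg_apply, Matrix.zero_apply, Matrix.one_apply]
  · rfl
  · by_cases e : a = b <;> simp [e, optVal, Cfsg.Spor.omegaPow, h.neg_eq]
  · by_cases e : a = b <;> simp [e, optVal, Cfsg.Spor.omegaPow]
  · rfl

theorem tabMat_symp (k : Fin hMats.length) :
    tabMat h (matTab (hMats.getD k [])) ∈ symplecticGroup (Fin 2) F := by
  rw [SymplecticGroup.mem_iff]
  refine big8_injective h ?_
  have ht : (tabMat h (matTab (hMats.getD k []))).transpose =
      tabMat h (transTab (matTab (hMats.getD k []))) := rfl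
  rw [map_mul, map_mul, ← tabMat_jTab h, ht, big8_tabMat, big8_tabMat, big8_tabMat]
  exact hMats_symp k

/-- The diagonal block of an element. -/
noncomputable def blockOf (_ : FieldFour F ω) (g : GL (Fin 51) (ZMod 2)) : Matrix (Fin 8) (Fin 8) (ZMod 2) :=
  diagBlock (s := 17) (l := 8) (by norm_num : 17 + 8 ≤ 51) g.1

theorem hGroup_block {g : GL (Fin 51) (ZMod 2)} (hg : g ∈ hGroup) :
    TriBlock 17 8 g.1 ∧ ∃ A : symplecticGroup (Fin 2) F, blockOf h g = big8 h A.1 := by
  let S : Submonoid (GL (Fin 51) (ZMod 2)) :=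
    { carrier := {g | TriBlock 17 8 g.1 ∧ ∃ A : symplecticGroup (Fin 2) F,
        blockOf h g = big8 h A.1}
      one_mem' := by
        refine ⟨triBlock_one, 1, ?_⟩
        rw [OneMemClass.coe_one, map_one, blockOf, Units.val_one, diagBlock_one]
      mul_mem' := by
        rintro a b ⟨ha, A, eA⟩ ⟨hb, B, eB⟩
        refine ⟨by rw [Units.val_mul]; exact ha.mul hb, A * B, ?_⟩
        rw [blockOf, Units.val_mul, diagBlock_mul _ ha hb, Submonoid.coe_mul, map_mul, ← eA, ← eB,
          blockOf, blockOf] }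
  have hgen : genSet emb dec hGens ⊆ S := by
    rintro s ⟨c, hc, hs⟩
    obtain ⟨k, hk, rfl⟩ := List.getElem_of_mem hc
    rw [emb_apply] at hs
    have hget : hGens.getD k one = hGens[k] := List.getD_eq_getElem _ _ hk
    refine ⟨fun i j hij => ?_, ⟨_, tabMat_symp h ⟨k, hMats_length ▸ hk⟩⟩, ?_⟩
    · have h1 := hGens_tri ⟨k, hk⟩ (i, j) hij
      rw [hget] at h1
      rw [hs]
      exact h1
    · rw [big8_tabMat]
      ext i j
      have h1 := hMats_block ⟨k, hMats_length ▸ hk⟩ (i, j)
      rw [hget] at h1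
      rw [blockOf, diagBlock, Matrix.of_apply, hs]
      exact h1
  have hg' : g ∈ Submonoid.closure (genSet emb dec hGens) := by
    rw [← Subgroup.closure_toSubmonoid_of_finite]
    exact hg
  exact Submonoid.closure_le.2 hgen hg'

/-- The block map into the symplectic group, as a function. -/
noncomputable def toSpFun (g : hGroup) : symplecticGroup (Fin 2) F :=
  (hGroup_block h g.2).2.choose

theorem toSpFun_spec (g : hGroup) : big8 h (toSpFun h g).1 = blockOf h g.1 :=
  (hGroup_block h g.2).2.choose_spec.symm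

theorem toSpFun_mul (a b : hGroup) : toSpFun h (a * b) = toSpFun h a * toSpFun h b := by
  refine Subtype.ext (big8_injective h ((toSpFun_spec h _).trans ?_))
  have e : big8 h (toSpFun h a * toSpFun h b).1 =
      big8 h (toSpFun h a).1 * big8 h (toSpFun h b).1 := map_mul (big8 h) _ _
  rw [e, toSpFun_spec, toSpFun_spec]
  exact diagBlock_mul _ (hGroup_block h a.2).1 (hGroup_block h b.2).1

/-- The block map into the symplectic group. -/
noncomputable def toSp : hGroup →* symplecticGroup (Fin 2) F :=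
  MonoidHom.mk' (toSpFun h) (toSpFun_mul h)

theorem toSp_spec (g : hGroup) : big8 h (toSp h g).1 = blockOf h g.1 := toSpFun_spec h g

/-- The embedding of the symplectic group into 8 × 8 matrices over `ZMod 2`. -/
noncomputable def embSp :
    symplecticGroup (Fin 2) F →* Matrix (Fin 8) (Fin 8) (ZMod 2) :=
  (big8 h).comp (symplecticGroup (Fin 2) F).subtype

theorem embSp_injective : Function.Injective (embSp h) :=
  fun _ _ e => Subtype.ext (big8_injective h e)

theorem finiteSp : Finite (symplecticGroup (Fin 2) F) :=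
  Finite.of_injective _ (embSp_injective h)

theorem range_dvd {g51 g8 vals : List ℕ} {n : ℕ} {T par fac srt pos inv : Tr}
    (hv : vals.map (wordCode (mulF2 51) one hChain) = g51) (hlen : g8.length = g51.length)
    (hblk : ∀ k : Fin g51.length, ∀ x : Fin 8 × Fin 8,
      decF2 51 (g51.getD k one) ⟨17 + x.1.1, by omega⟩ ⟨17 + x.2.1, by omega⟩ =
        decF2 8 (g8.getD k one8) x.1 x.2)
    (hn : 0 < n) (hT0 : T.get 0 = one8)
    (hpar : allFrom 0 n (parentOK (mulF2 8) one8 g8 n T par) = true)
    (hfac : allFrom 0 (g8.length * n) (stepOK (mulF2 8) one8 g8 n T fac []) = true)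
    (hdist : allFrom 0 n (distinctOK (canonF2 8) n T srt pos inv) = true) :
    n ∣ Nat.card (toSp h).range := by
  have := finiteSp h
  have hmem : ∀ c ∈ g8, CodeMem (embSp h) (decF2 8) (toSp h).range c := by
    intro c hc
    obtain ⟨k, hk, rfl⟩ := List.getElem_of_mem hc
    have hk' : k < g51.length := hlen ▸ hk
    have h51 : g51.getD k one = g51[k] := List.getD_eq_getElem _ _ hk'
    have h8 : g8.getD k one8 = g8[k] := List.getD_eq_getElem _ _ hk
    obtain ⟨g, hg, e⟩ : CodeMem emb dec hGroup (g51[k]) := by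
      have hmem : g51[k] ∈ vals.map (wordCode (mulF2 51) one hChain) := by
        rw [hv]; exact List.getElem_mem hk'
      obtain ⟨v, -, hv'⟩ := List.mem_map.1 hmem
      rw [← hv']
      exact wordCode_mem (emb := emb) (dec := dec) (mul := mulF2 51) (one := one) dec_mul dec_one
        hChain kLower_mem v
    refine ⟨toSp h ⟨g, hg⟩, ⟨_, rfl⟩, ?_⟩
    rw [embSp, MonoidHom.comp_apply]
    refine (toSp_spec h _).trans ?_
    ext i j
    have h1 := hblk ⟨k, hk'⟩ (i, j)
    simp only [h51, h8] at h1
    rw [blockOf, diagBlock, Matrix.of_apply, ← emb_apply, e]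
    exact h1
  rw [← (card_genSet_eq (emb := embSp h) (dec := decF2 8) (mul := mulF2 8) (one := one8)
    decF2_mulF2 decF2_oneF2 (embSp_injective h) (fun _ _ => decF2_injOn) hmem hn hT0 hpar hfac
    hdist).1]
  exact Subgroup.card_dvd_of_le (genSet_closure_le (embSp_injective h) hmem)

theorem card_sp : Nat.card (symplecticGroup (Fin 2) F) = 979200 := by
  have := h.finite
  have := Fintype.ofFinite F
  rw [CfsgLib.Sp.card_symplecticGroup (q := 4) (by rw [Fintype.card_eq_nat_card, h.card])]
  decide +kernel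

theorem card_range : Nat.card (toSp h).range = 979200 := by
  have := finiteSp h
  refine le_antisymm (card_sp h ▸ Subgroup.card_le_card_group _) (Nat.le_of_dvd Nat.card_pos ?_)
  obtain ⟨la, lb, lc, ld⟩ := s_lengths
  obtain ⟨va, vb, vc, vd⟩ := sVals_ok
  have da : 256 ∣ _ :=
    range_dvd h va la sa_blocks (by norm_num) (by decide +kernel) sa_par sa_fac sa_dist
  have db : 25 ∣ _ :=
    range_dvd h vb lb sb_blocks (by norm_num) (by decide +kernel) sb_par sb_fac sb_dist
  have dc : 9 ∣ _ :=
    range_dvd h vc lc sc_blocks (by norm_num) (by decide +kernel) sc_par sc_fac sc_dist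
  have dd : 17 ∣ _ :=
    range_dvd h vd ld sd_blocks (by norm_num) (by decide +kernel) sd_par sd_fac sd_dist
  exact Nat.lcm_dvd (Nat.lcm_dvd (Nat.lcm_dvd da db) dc) dd

theorem toSp_bijective : Function.Bijective (toSp h) := by
  have := finiteSp h
  have hsurj : Function.Surjective (toSp h) := by
    rw [← MonoidHom.range_eq_top]
    exact Subgroup.eq_top_of_card_eq _ ((card_range h).trans (card_sp h).symm)
  have he : Nat.card hGroup = Nat.card (symplecticGroup (Fin 2) F) :=
    le_antisymm (card_hGroup_le.trans_eq (card_sp h).symm)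
      (Nat.card_le_card_of_surjective _ hsurj)
  exact hsurj.bijective_of_nat_card_le he.le

/-- The subgroup of order 979200 is `Sp₄(4)`. -/
noncomputable def spIso : hGroup ≃* symplecticGroup (Fin 2) F :=
  MulEquiv.ofBijective (toSp h) (toSp_bijective h)

theorem tau_notMem {g : GL (Fin 51) (ZMod 2)} (hg : g.1 = dec (kT.get 1)) : g ∉ hGroup := by
  intro hmem
  obtain ⟨-, A, eA⟩ := hGroup_block h hmem
  refine tau_not_linear ?_
  have hw : tabMat h omegaTab = ω • (1 : Matrix (Fin 2 ⊕ Fin 2) (Fin 2 ⊕ Fin 2) F) := by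
    ext a b
    by_cases e : a = b <;>
      simp [tabMat, omegaTab, optVal, e, Cfsg.Spor.omegaPow, show (1 : ZMod 3).val = 1 from rfl]
  rw [blockOf, hg, dec] at eA
  rw [eA, ← big8_tabMat h omegaTab, ← map_mul, ← map_mul, hw, Matrix.mul_smul, Matrix.smul_mul,
    mul_one, one_mul]

end CfsgLib.Sporadic.He
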