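import Cfsg.Agent.Lib.Sporadic.PairOutMain

/-!
# The data for the automorphisms of HS
-/

set_option autoImplicit false
set_option Elab.async false

namespace CfsgLib.Sporadic.HsOut

open Cfsg CfsgLib.Golay CfsgLib.MonsterType CfsgLib.LeechEight CfsgLib.Sporadic.PairOut
open ConwayPairs (pairStab)
open Conway.ThreeOut (vecList vecList_injective unitList wordFun)

/-- The second vector. -/
def shape : Shape (Spor.leechU' : leechLattice) where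
  hu := fun i hi hi' => by simp [Spor.leechU', Spor.vecU', hi, hi']
  s := 1
  hs := by norm_num
  hu0 := by simp [Spor.leechU', Spor.vecU']
  hu1 := by simp [Spor.leechU', Spor.vecU']
  w := Spor.leechU
  hw := by funext p; by_cases h : p = none <;> simp [Spor.leechU, Spor.vecU, h]

/-- The rows of the frame of the third generator. -/
def cRows : List (List ℤ) :=
  [[6, 2, 0, 0, 0, 2, 2, 0, 0, 0, 0, 0, 0, 0, 0, 0, 0, 0, 2, 0, 2, 0, 2, -2],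
   [0, 0, 2, 2, -2, 0, 0, -2, 2, 2, 2, -2, -2, 2, 2, 2, -2, 2, 0, 2, 0, -2, 0, 0],
   [0, 0, 2, -2, 2, 0, 0, 2, 2, 2, 2, 2, 2, -2, -2, 2, -2, 2, 0, -2, 0, -2, 0, 0],
   [0, 0, -2, 2, 2, 0, 0, 2, 2, 2, -2, 2, -2, -2, 2, 2, 2, -2, 0, 2, 0, -2, 0, 0],
   [2, -2, 0, 0, 0, -2, 6, 0, 0, 0, 0, 0, 0, 0, 0, 0, 0, 0, -2, 0, -2, 0, -2, 2],
   [0, 0, 2, 2, 2, 0, 0, -2, 2, -2, 2, 2, 2, 2, -2, -2, 2, -2, 0, 2, 0, -2, 0, 0],
   [0, 0, 2, -2, 2, 0, 0, -2, -2, 2, 2, 2, -2, 2, 2, 2, 2, -2, 0, -2, 0, 2, 0, 0],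
   [2, 6, 0, 0, 0, -2, -2, 0, 0, 0, 0, 0, 0, 0, 0, 0, 0, 0, -2, 0, -2, 0, -2, 2],
   [0, 0, -2, 2, -2, 0, 0, 2, 2, 2, 2, 2, -2, 2, -2, -2, 2, 2, 0, -2, 0, 2, 0, 0],
   [0, 0, 2, -2, -2, 0, 0, 2, 2, 2, -2, 2, 2, 2, 2, -2, -2, -2, 0, 2, 0, 2, 0, 0],
   [0, 0, 2, 2, 2, 0, 0, 2, -2, -2, 2, 2, -2, -2, 2, -2, -2, 2, 0, 2, 0, 2, 0, 0],
   [2, -2, 0, 0, 0, 6, -2, 0, 0, 0, 0, 0, 0, 0, 0, 0, 0, 0, -2, 0, -2, 0, -2, 2],
   [2, -2, 0, 0, 0, -2, -2, 0, 0, 0, 0, 0, 0, 0, 0, 0, 0, 0, 6, 0, -2, 0, -2, 2],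
   [0, 0, 2, -2, 2, 0, 0, 2, 2, -2, -2, -2, -2, 2, -2, 2, 2, 2, 0, 2, 0, 2, 0, 0],
   [0, 0, -2, -2, -2, 0, 0, 2, -2, -2, 2, 2, 2, 2, 2, 2, 2, 2, 0, 2, 0, -2, 0, 0],
   [0, 0, -2, 2, 2, 0, 0, 2, 2, -2, 2, -2, 2, 2, 2, 2, -2, -2, 0, -2, 0, 2, 0, 0],
   [2, -2, 0, 0, 0, -2, -2, 0, 0, 0, 0, 0, 0, 0, 0, 0, 0, 0, -2, 0, -2, 0, 6, 2],
   [0, 0, 2, 2, 2, 0, 0, 2, -2, 2, -2, -2, 2, 2, 2, -2, 2, 2, 0, -2, 0, -2, 0, 0],
   [0, 0, -2, -2, 2, 0, 0, -2, 2, 2, 2, -2, 2, -2, 2, -2, 2, 2, 0, 2, 0, 2, 0, 0],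
   [0, 0, 2, 2, -2, 0, 0, 2, -2, 2, 2, -2, 2, -2, -2, 2, 2, -2, 0, 2, 0, 2, 0, 0],
   [0, 0, -2, 2, 2, 0, 0, -2, -2, 2, -2, 2, 2, 2, -2, 2, -2, 2, 0, 2, 0, 2, 0, 0],
   [2, -2, 0, 0, 0, -2, -2, 0, 0, 0, 0, 0, 0, 0, 0, 0, 0, 0, -2, 0, 6, 0, -2, 2],
   [0, 0, 2, 2, -2, 0, 0, -2, 2, -2, -2, 2, 2, -2, 2, 2, 2, 2, 0, -2, 0, 2, 0, 0],
   [-2, 2, 0, 0, 0, 2, 2, 0, 0, 0, 0, 0, 0, 0, 0, 0, 0, 0, 2, 0, 2, 0, 2, 6]]

theorem cRows_test : frameTest cRows = true := by decide +kernel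

/-- The rows of the frame of the outer element. -/
def gRows : List (List ℤ) :=
  [[0, 0, 0, 0, 0, 0, 0, 0, 0, 0, 0, 0, 0, 0, 0, 0, 0, 0, 0, 0, 0, 0, 0, -8],
   [0, 0, 0, 0, 0, 0, 0, -8, 0, 0, 0, 0, 0, 0, 0, 0, 0, 0, 0, 0, 0, 0, 0, 0],
   [0, 0, 0, 0, 0, 0, 0, 0, 0, 0, 0, 0, 0, 0, 0, 0, 0, 0, 0, -8, 0, 0, 0, 0],
   [0, 0, 0, 0, 0, 0, 0, 0, 0, -8, 0, 0, 0, 0, 0, 0, 0, 0, 0, 0, 0, 0, 0, 0],
   [0, 0, 0, 0, 0, -8, 0, 0, 0, 0, 0, 0, 0, 0, 0, 0, 0, 0, 0, 0, 0, 0, 0, 0],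
   [0, 0, 0, 0, -8, 0, 0, 0, 0, 0, 0, 0, 0, 0, 0, 0, 0, 0, 0, 0, 0, 0, 0, 0],
   [0, 0, 0, 0, 0, 0, 0, 0, 0, 0, 0, 0, 0, 0, 0, 0, 0, 0, 0, 0, 0, -8, 0, 0],
   [0, -8, 0, 0, 0, 0, 0, 0, 0, 0, 0, 0, 0, 0, 0, 0, 0, 0, 0, 0, 0, 0, 0, 0],
   [0, 0, 0, 0, 0, 0, 0, 0, 0, 0, 0, 0, 0, 0, 0, -8, 0, 0, 0, 0, 0, 0, 0, 0],
   [0, 0, 0, -8, 0, 0, 0, 0, 0, 0, 0, 0, 0, 0, 0, 0, 0, 0, 0, 0, 0, 0, 0, 0],
   [0, 0, 0, 0, 0, 0, 0, 0, 0, 0, 0, 0, 0, 0, 0, 0, 0, -8, 0, 0, 0, 0, 0, 0],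
   [0, 0, 0, 0, 0, 0, 0, 0, 0, 0, 0, 0, 0, 0, 0, 0, 0, 0, 0, 0, 0, 0, -8, 0],
   [0, 0, 0, 0, 0, 0, 0, 0, 0, 0, 0, 0, 0, 0, 0, 0, 0, 0, 0, 0, -8, 0, 0, 0],
   [0, 0, 0, 0, 0, 0, 0, 0, 0, 0, 0, 0, 0, 0, -8, 0, 0, 0, 0, 0, 0, 0, 0, 0],
   [0, 0, 0, 0, 0, 0, 0, 0, 0, 0, 0, 0, 0, -8, 0, 0, 0, 0, 0, 0, 0, 0, 0, 0],
   [0, 0, 0, 0, 0, 0, 0, 0, -8, 0, 0, 0, 0, 0, 0, 0, 0, 0, 0, 0, 0, 0, 0, 0],
   [0, 0, 0, 0, 0, 0, 0, 0, 0, 0, 0, 0, 0, 0, 0, 0, 0, 0, -8, 0, 0, 0, 0, 0],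
   [0, 0, 0, 0, 0, 0, 0, 0, 0, 0, -8, 0, 0, 0, 0, 0, 0, 0, 0, 0, 0, 0, 0, 0],
   [0, 0, 0, 0, 0, 0, 0, 0, 0, 0, 0, 0, 0, 0, 0, 0, -8, 0, 0, 0, 0, 0, 0, 0],
   [0, 0, -8, 0, 0, 0, 0, 0, 0, 0, 0, 0, 0, 0, 0, 0, 0, 0, 0, 0, 0, 0, 0, 0],
   [0, 0, 0, 0, 0, 0, 0, 0, 0, 0, 0, 0, -8, 0, 0, 0, 0, 0, 0, 0, 0, 0, 0, 0],
   [0, 0, 0, 0, 0, 0, -8, 0, 0, 0, 0, 0, 0, 0, 0, 0, 0, 0, 0, 0, 0, 0, 0, 0],
   [0, 0, 0, 0, 0, 0, 0, 0, 0, 0, 0, -8, 0, 0, 0, 0, 0, 0, 0, 0, 0, 0, 0, 0],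
   [-8, 0, 0, 0, 0, 0, 0, 0, 0, 0, 0, 0, 0, 0, 0, 0, 0, 0, 0, 0, 0, 0, 0, 0]]

theorem gRows_test : frameTest gRows = true := by decide +kernel

theorem acts_c : Acts (rowsAut cRows_test) (stepRows cRows) := acts_rowsAut _ (by decide +kernel)

theorem acts_g : Acts (rowsAut gRows_test) (stepRows gRows) := acts_rowsAut _ (by decide +kernel)

theorem c_mem : rowsAut cRows_test ∈ pairStab (Spor.leechU' : leechLattice) :=
  ⟨Subtype.ext (vecList_injective ((acts_c _).trans (by decide +kernel))),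
    Subtype.ext (vecList_injective ((acts_c _).trans (by decide +kernel)))⟩

theorem sol_check : solCheck (-(4 * shape.s))
    ((List.range 5).map fun i => (stepRows cRows)^[i] (unitList 23)) = true := by decide +kernel

/-- The orbit words. -/
def orbWords : List (List ℕ) :=
  [[], [2], [0, 2], [2, 2]]

/-- The relations. -/
def relList : List (List ℕ × ℕ) := [([0, 0, 1, 2, 2], 7)]

/-- One term of `survOK`; the terms are checked one declaration at a time to bound the peak memory. -/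
def survOne (j i l : ℕ) : Bool :=
  (Nat.beq j 1 && Nat.beq i 1 && Nat.beq l 0) || (Nat.beq j 10 && Nat.beq i 4 && Nat.beq l 4) ||
    !(relList.all fun r => isIdB (wordFun fA^[j] fB ((stepRows cRows)^[i] ∘ fB^[l]) r.1)^[r.2])

theorem survOK_of_terms (j i : ℕ) (h0 : survOne j i 0 = true) (h1 : survOne j i 1 = true)
    (h2 : survOne j i 2 = true) (h3 : survOne j i 3 = true) (h4 : survOne j i 4 = true) :
    survOK (stepRows cRows) relList 10 4 4 j i = true := by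
  refine List.all_eq_true.2 fun l hl => ?_
  have hl5 : l < 5 := List.mem_range.1 hl
  match l, hl5 with
  | 0, _ => exact h0
  | 1, _ => exact h1
  | 2, _ => exact h2
  | 3, _ => exact h3
  | 4, _ => exact h4
  | n + 5, h => exact absurd h (by omega)

theorem surv_1_0_0 : survOne 1 0 0 = true := by decide +kernel
theorem surv_1_0_1 : survOne 1 0 1 = true := by decide +kernel
theorem surv_1_0_2 : survOne 1 0 2 = true := by decide +kernel
theorem surv_1_0_3 : survOne 1 0 3 = true := by decide +kernel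
theorem surv_1_0_4 : survOne 1 0 4 = true := by decide +kernel
theorem surv_1_0 : survOK (stepRows cRows) relList 10 4 4 1 0 = true :=
  survOK_of_terms 1 0 surv_1_0_0 surv_1_0_1 surv_1_0_2 surv_1_0_3 surv_1_0_4

theorem surv_1_1_0 : survOne 1 1 0 = true := by decide +kernel
theorem surv_1_1_1 : survOne 1 1 1 = true := by decide +kernel
theorem surv_1_1_2 : survOne 1 1 2 = true := by decide +kernel
theorem surv_1_1_3 : survOne 1 1 3 = true := by decide +kernel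
theorem surv_1_1_4 : survOne 1 1 4 = true := by decide +kernel
theorem surv_1_1 : survOK (stepRows cRows) relList 10 4 4 1 1 = true :=
  survOK_of_terms 1 1 surv_1_1_0 surv_1_1_1 surv_1_1_2 surv_1_1_3 surv_1_1_4

theorem surv_1_2_0 : survOne 1 2 0 = true := by decide +kernel
theorem surv_1_2_1 : survOne 1 2 1 = true := by decide +kernel
theorem surv_1_2_2 : survOne 1 2 2 = true := by decide +kernel
theorem surv_1_2_3 : survOne 1 2 3 = true := by decide +kernel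
theorem surv_1_2_4 : survOne 1 2 4 = true := by decide +kernel
theorem surv_1_2 : survOK (stepRows cRows) relList 10 4 4 1 2 = true :=
  survOK_of_terms 1 2 surv_1_2_0 surv_1_2_1 surv_1_2_2 surv_1_2_3 surv_1_2_4

theorem surv_1_3_0 : survOne 1 3 0 = true := by decide +kernel
theorem surv_1_3_1 : survOne 1 3 1 = true := by decide +kernel
theorem surv_1_3_2 : survOne 1 3 2 = true := by decide +kernel
theorem surv_1_3_3 : survOne 1 3 3 = true := by decide +kernel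
theorem surv_1_3_4 : survOne 1 3 4 = true := by decide +kernel
theorem surv_1_3 : survOK (stepRows cRows) relList 10 4 4 1 3 = true :=
  survOK_of_terms 1 3 surv_1_3_0 surv_1_3_1 surv_1_3_2 surv_1_3_3 surv_1_3_4

theorem surv_1_4_0 : survOne 1 4 0 = true := by decide +kernel
theorem surv_1_4_1 : survOne 1 4 1 = true := by decide +kernel
theorem surv_1_4_2 : survOne 1 4 2 = true := by decide +kernel
theorem surv_1_4_3 : survOne 1 4 3 = true := by decide +kernel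
theorem surv_1_4_4 : survOne 1 4 4 = true := by decide +kernel
theorem surv_1_4 : survOK (stepRows cRows) relList 10 4 4 1 4 = true :=
  survOK_of_terms 1 4 surv_1_4_0 surv_1_4_1 surv_1_4_2 surv_1_4_3 surv_1_4_4

theorem surv_10_0_0 : survOne 10 0 0 = true := by decide +kernel
theorem surv_10_0_1 : survOne 10 0 1 = true := by decide +kernel
theorem surv_10_0_2 : survOne 10 0 2 = true := by decide +kernel
theorem surv_10_0_3 : survOne 10 0 3 = true := by decide +kernel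
theorem surv_10_0_4 : survOne 10 0 4 = true := by decide +kernel
theorem surv_10_0 : survOK (stepRows cRows) relList 10 4 4 10 0 = true :=
  survOK_of_terms 10 0 surv_10_0_0 surv_10_0_1 surv_10_0_2 surv_10_0_3 surv_10_0_4

theorem surv_10_1_0 : survOne 10 1 0 = true := by decide +kernel
theorem surv_10_1_1 : survOne 10 1 1 = true := by decide +kernel
theorem surv_10_1_2 : survOne 10 1 2 = true := by decide +kernel
theorem surv_10_1_3 : survOne 10 1 3 = true := by decide +kernel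
theorem surv_10_1_4 : survOne 10 1 4 = true := by decide +kernel
theorem surv_10_1 : survOK (stepRows cRows) relList 10 4 4 10 1 = true :=
  survOK_of_terms 10 1 surv_10_1_0 surv_10_1_1 surv_10_1_2 surv_10_1_3 surv_10_1_4

theorem surv_10_2_0 : survOne 10 2 0 = true := by decide +kernel
theorem surv_10_2_1 : survOne 10 2 1 = true := by decide +kernel
theorem surv_10_2_2 : survOne 10 2 2 = true := by decide +kernel
theorem surv_10_2_3 : survOne 10 2 3 = true := by decide +kernel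
theorem surv_10_2_4 : survOne 10 2 4 = true := by decide +kernel
theorem surv_10_2 : survOK (stepRows cRows) relList 10 4 4 10 2 = true :=
  survOK_of_terms 10 2 surv_10_2_0 surv_10_2_1 surv_10_2_2 surv_10_2_3 surv_10_2_4

theorem surv_10_3_0 : survOne 10 3 0 = true := by decide +kernel
theorem surv_10_3_1 : survOne 10 3 1 = true := by decide +kernel
theorem surv_10_3_2 : survOne 10 3 2 = true := by decide +kernel
theorem surv_10_3_3 : survOne 10 3 3 = true := by decide +kernel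
theorem surv_10_3_4 : survOne 10 3 4 = true := by decide +kernel
theorem surv_10_3 : survOK (stepRows cRows) relList 10 4 4 10 3 = true :=
  survOK_of_terms 10 3 surv_10_3_0 surv_10_3_1 surv_10_3_2 surv_10_3_3 surv_10_3_4

theorem surv_10_4_0 : survOne 10 4 0 = true := by decide +kernel
theorem surv_10_4_1 : survOne 10 4 1 = true := by decide +kernel
theorem surv_10_4_2 : survOne 10 4 2 = true := by decide +kernel
theorem surv_10_4_3 : survOne 10 4 3 = true := by decide +kernel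
theorem surv_10_4_4 : survOne 10 4 4 = true := by decide +kernel
theorem surv_10_4 : survOK (stepRows cRows) relList 10 4 4 10 4 = true :=
  survOK_of_terms 10 4 surv_10_4_0 surv_10_4_1 surv_10_4_2 surv_10_4_3 surv_10_4_4

theorem surv : ∀ j ∈ [1, 10], ∀ i < 5, survOK (stepRows cRows) relList 10 4 4 j i = true := by
  intro j hj i hi
  simp only [List.mem_cons, List.not_mem_nil, or_false] at hj
  rcases hj with rfl | rfl <;> interval_cases i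
  exacts [surv_1_0, surv_1_1, surv_1_2, surv_1_3, surv_1_4, surv_10_0, surv_10_1, surv_10_2, surv_10_3, surv_10_4]

theorem card_out (hcard : Nat.card (pairStab (Spor.leechU' : leechLattice)) = 100 * 443520) :
    Nat.card (Cfsg.Out (pairStab (Spor.leechU' : leechLattice))) = 2 :=
  card_out_two shape c_mem acts_c sol_check (by decide +kernel)
    (generates shape c_mem acts_c hcard (by norm_num) [2, 2, 2, 2, 0, 0, 0, 0, 0, 0, 0, 0, 0, 0, 2, 2, 0, 0, 2] [0, 0, 2, 0, 0, 0, 2, 1, 0, 1, 2, 0, 0]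
      [0, 8, 18, 19, 20, 4, 17, 10, 12, 21, 7, 2, 1, 3, 6, 22, 15, 16, 11, 5, 13, 9, 14, 23] rfl
      (by decide +kernel) (by decide +kernel) (by decide +kernel) orbWords (by decide +kernel) (by decide +kernel))
    (by rw [hcard]; norm_num) relList (by decide +kernel) 10 4 4 surv
    acts_g (by decide +kernel) (by decide +kernel) (by decide +kernel) (by decide +kernel)

end CfsgLib.Sporadic.HsOut
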