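import Cfsg.Agent.Lib.Sporadic.J3CertSub

/-! Kernel evaluation of the certificates for the small subgroups and the elements of prime order
in the triple cover of J3. -/

set_option autoImplicit false

namespace CfsgLib.Sporadic.J3

theorem s3Vals_ok : s3Vals.map (wordCode (mulF2 18) one chain) = s3Gens := by
  decide +kernel

theorem s3_par : allFrom 0 729 (parentOK (mulF2 18) one s3Gens 729 s3T s3Par) = true := by
  decide +kernel

theorem s3_fac : allFrom 0 (s3Gens.length * 729)
    (stepOK (mulF2 18) one s3Gens 729 s3T s3Fac []) = true := by
  decide +kernel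

theorem s3_dist : allFrom 0 729 (distinctOK (canonF2 18) 729 s3T s3Srt s3Pos s3Inv) = true := by
  decide +kernel

theorem s2Vals_ok : s2Vals.map (wordCode (mulF2 18) one chain) = s2Gens := by
  decide +kernel

theorem s2_par : allFrom 0 128 (parentOK (mulF2 18) one s2Gens 128 s2T s2Par) = true := by
  decide +kernel

theorem s2_fac : allFrom 0 (s2Gens.length * 128)
    (stepOK (mulF2 18) one s2Gens 128 s2T s2Fac []) = true := by
  decide +kernel

theorem s2_dist : allFrom 0 128 (distinctOK (canonF2 18) 128 s2T s2Srt s2Pos s2Inv) = true := by
  decide +kernel

theorem scalarVals_ok : scalarVals.map (wordCode (mulF2 18) one chain) = scalars := by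
  decide +kernel

theorem scalars_in_h : hGens.contains (scalars.getD 1 one) = true := by
  decide +kernel

theorem allGens_pow : allGens.all (fun c =>
    genWord (mulF2 18) one [c] (List.replicate 72 0) == one) = true := by
  decide +kernel

theorem primeData_ok : primeData.all (fun d =>
    d.2.map (fun pr => genWord (mulF2 18) one (pr.map Prod.fst) (List.range pr.length)) == topGens &&
    d.2.all (fun pr => pr.all (fun cv => wordCode (mulF2 18) one chain cv.2 == cv.1 &&
      (genWord (mulF2 18) one [cv.1] (List.replicate d.1 0) == one &&
        (canonF2 18 cv.1 && !(cv.1 == one)))))) = true := by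
  decide +kernel

end CfsgLib.Sporadic.J3
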