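import Cfsg.Agent.Lib.Sporadic.J3DataT
import Cfsg.Agent.Lib.Sporadic.J3DataCert
import Cfsg.Agent.Lib.Sporadic.J3DataSub
import Cfsg.Agent.Lib.Sporadic.MatF2

/-! Kernel evaluation of the remaining certificates for the triple cover of J3. -/

set_option autoImplicit false

namespace CfsgLib.Sporadic.J3

/-- The transversals used to write elements as words. -/
abbrev chain : List (ℕ × Tr) := [(6156, topT), (17, kT), (1440, hT)]

theorem top_par : allFrom 0 6156 (parentOK (mulF2 18) one topGens 6156 topT topPar) = true := by
  decide +kernel

theorem topWords_ok : topWords.map (genWord (mulF2 18) one allGens) = topGens := by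
  decide +kernel

theorem allVals_ok : allVals.map (wordCode (mulF2 18) one chain) = allGens := by
  decide +kernel

theorem kVals_ok : (List.zip kGens kVals).all (fun cv =>
    mulF2 18 (topT.get (topFac.get cv.2 % 6156)) cv.1 ==
      mulF2 18 (topGens.getD (cv.2 / 6156) one) (topT.get (cv.2 % 6156))) = true := by
  decide +kernel

theorem k_par : allFrom 0 17 (parentOK (mulF2 18) one kGens 17 kT kPar) = true := by
  decide +kernel

theorem k_fac : allFrom 0 51 (stepOK (mulF2 18) one kGens 17 kT kFac [(1440, hT)]) = true := by
  decide +kernel

theorem hWords_ok : hWords.map (genWord (mulF2 18) one kGens) = hGens := by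
  decide +kernel

theorem h_par : allFrom 0 1440 (parentOK (mulF2 18) one hGens 1440 hT hPar) = true := by
  decide +kernel

theorem h_fac : allFrom 0 4320 (stepOK (mulF2 18) one hGens 1440 hT hFac []) = true := by
  decide +kernel

theorem h_dist : allFrom 0 1440 (distinctOK (canonF2 18) 1440 hT hSrt hPos hInv) = true := by
  decide +kernel

end CfsgLib.Sporadic.J3
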