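import Cfsg.Agent.Lib.Sporadic.J3DataT
import Cfsg.Agent.Lib.Sporadic.J3DataCert
import Cfsg.Agent.Lib.Sporadic.J3DataSub
import Cfsg.Agent.Lib.Sporadic.MatF2

/-! Kernel evaluation of the second half of the top certificate for the triple cover of J3. -/

set_option autoImplicit false
set_option Elab.async false

namespace CfsgLib.Sporadic.J3

theorem top_fac1_0 : allFrom 6156 1539 (stepOK (mulF2 18) one topGens 6156 topT topFac
    [(17, kT), (1440, hT)]) = true := by
  decide +kernel

theorem top_fac1_1 : allFrom 7695 1539 (stepOK (mulF2 18) one topGens 6156 topT topFac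
    [(17, kT), (1440, hT)]) = true := by
  decide +kernel

theorem top_fac1_2 : allFrom 9234 1539 (stepOK (mulF2 18) one topGens 6156 topT topFac
    [(17, kT), (1440, hT)]) = true := by
  decide +kernel

theorem top_fac1_3 : allFrom 10773 1539 (stepOK (mulF2 18) one topGens 6156 topT topFac
    [(17, kT), (1440, hT)]) = true := by
  decide +kernel

theorem top_fac1 : allFrom 6156 6156 (stepOK (mulF2 18) one topGens 6156 topT topFac
    [(17, kT), (1440, hT)]) = true := by
  rw [allFrom_eq_true]
  intro i hi hi'
  have h0 := allFrom_eq_true.1 top_fac1_0 i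
  have h1 := allFrom_eq_true.1 top_fac1_1 i
  have h2 := allFrom_eq_true.1 top_fac1_2 i
  have h3 := allFrom_eq_true.1 top_fac1_3 i
  by_cases c0 : i < 7695
  · exact h0 (by omega) (by omega)
  by_cases c1 : i < 9234
  · exact h1 (by omega) (by omega)
  by_cases c2 : i < 10773
  · exact h2 (by omega) (by omega)
  exact h3 (by omega) (by omega)

end CfsgLib.Sporadic.J3
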