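import Cfsg.Agent.Lib.Sporadic.J3Rep
import Cfsg.Agent.Lib.Sporadic.J3CertSub
import Cfsg.Agent.Lib.Sporadic.J3CertPrimes
import Cfsg.Agent.Lib.Sporadic.J3CertTop0
import Cfsg.Agent.Lib.Sporadic.J3CertTop1
import Cfsg.Agent.Lib.Sporadic.GenWord

/-! The order of the triple cover `Cfsg.Spor.threeJ3`, with its subgroup of index 6156. -/

set_option autoImplicit false

namespace CfsgLib.Sporadic.J3

open Cfsg.Spor

variable {F : Type*} [Field F] {ω : F} (h : FieldFour F ω)
include h

/-- The embedding of `GL 9` into 18 × 18 matrices over `ZMod 2`. -/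
noncomputable def FieldFour.emb : GL F9 F →* Matrix (Fin 18) (Fin 18) (ZMod 2) :=
  h.big.comp (Units.coeHom _)

theorem FieldFour.emb_injective : Function.Injective h.emb := fun _ _ e =>
  Units.ext (h.big_injective e)

theorem FieldFour.finiteGL : Finite (GL F9 F) :=
  have := h.finite
  have : Finite (Matrix F9 F9 F) := inferInstanceAs (Finite (F9 → F9 → F))
  Finite.of_injective _ Units.val_injective

omit h in
theorem mulF2_dec (a b : ℕ) : decF2 18 (mulF2 18 a b) = decF2 18 a * decF2 18 b :=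
  decF2_mulF2 a b

omit h in
theorem dec_one : decF2 18 one = 1 := by rw [one_eq_oneF2, decF2_oneF2]

omit h in
theorem dec_inj : ∀ a b, canonF2 18 a = true → canonF2 18 b = true →
    decF2 18 a = decF2 18 b → a = b := fun _ _ => decF2_injOn

omit h in
theorem dec_genWord_replicate (c : ℕ) : ∀ k, decF2 18 (genWord (mulF2 18) one [c]
    (List.replicate k 0)) = decF2 18 c ^ k
  | 0 => by rw [pow_zero]; exact dec_one
  | k + 1 => by
    rw [List.replicate_succ, CfsgLib.Sporadic.genWord_cons, mulF2_dec, dec_genWord_replicate c k, pow_succ']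
    rfl

/-- A defining matrix is invertible and its code is that of an element of the group. -/
theorem FieldFour.mem_of_gen {M : Matrix F9 F9 F} (hM : M ∈ j3Gens F ω) {c : ℕ}
    (hc : c ∈ allGens) (he : h.big M = decF2 18 c) :
    CodeMem h.emb (decF2 18) (threeJ3 F ω) c := by
  have hpow := List.all_eq_true.1 allGens_pow c hc
  rw [beq_iff_eq] at hpow
  have h1 : M ^ 72 = 1 := h.big_injective (by
    rw [map_pow, he, ← dec_genWord_replicate, hpow, dec_one, map_one])
  exact ⟨Units.ofPowEqOne M 72 h1 (by norm_num), Subgroup.subset_closure hM, he⟩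

theorem FieldFour.allGens_mem : ∀ c ∈ allGens, CodeMem h.emb (decF2 18) (threeJ3 F ω) c := by
  have hsplit : ∀ i : Fin 43,
      (∃ Z : F9, i.1 = ptIdx Z) ∨ (∃ Z : F9, i.1 = 9 + ptIdx Z) ∨
      (∃ Z : F9, i.1 = 18 + ptIdx Z) ∨ (∃ Z : F9, Z ≠ 0 ∧ i.1 = 26 + ptIdx Z) ∨
      (∃ Z : F9, Z ≠ 0 ∧ i.1 = 34 + ptIdx Z) := by decide +kernel
  intro c hc
  obtain ⟨i, hi, rfl⟩ := List.getElem_of_mem hc
  have hlen : allGens.length = 43 := by decide +kernel
  have hget : allGens.getD i one = allGens[i] := List.getD_eq_getElem _ _ hi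
  rcases hsplit ⟨i, hlen ▸ hi⟩ with ⟨Z, e⟩ | ⟨Z, e⟩ | ⟨Z, e⟩ | ⟨Z, hZ, e⟩ | ⟨Z, hZ, e⟩ <;>
    dsimp only at e
  · refine h.mem_of_gen (.inl (.inl (.inl (.inl ⟨Z, rfl⟩)))) (List.getElem_mem hi) ?_
    rw [h.big_A, ← e, hget]
  · refine h.mem_of_gen (.inl (.inl (.inl (.inr ⟨Z, rfl⟩)))) (List.getElem_mem hi) ?_
    rw [h.big_E, ← e, hget]
  · refine h.mem_of_gen (.inl (.inl (.inr ⟨Z, rfl⟩))) (List.getElem_mem hi) ?_
    rw [h.big_D, ← e, hget]
  · refine h.mem_of_gen (.inl (.inr ⟨Z, hZ, rfl⟩)) (List.getElem_mem hi) ?_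
    rw [h.big_B hZ, ← e, hget]
  · refine h.mem_of_gen (.inr ⟨Z, hZ, rfl⟩) (List.getElem_mem hi) ?_
    rw [h.big_C hZ, ← e, hget]

theorem FieldFour.gen_code {M : Matrix F9 F9 F} (hM : M ∈ j3Gens F ω) :
    ∃ c ∈ allGens, h.big M = decF2 18 c := by
  have hin : ∀ Z : F9, allGens.contains (allGens.getD (ptIdx Z) one) ∧
      allGens.contains (allGens.getD (9 + ptIdx Z) one) ∧
      allGens.contains (allGens.getD (18 + ptIdx Z) one) ∧
      (Z ≠ 0 → allGens.contains (allGens.getD (26 + ptIdx Z) one) ∧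
        allGens.contains (allGens.getD (34 + ptIdx Z) one)) := by decide +kernel
  simp only [List.contains_iff_mem] at hin
  rcases hM with (((⟨Z, rfl⟩ | ⟨Z, rfl⟩) | ⟨Z, rfl⟩) | ⟨Z, hZ, rfl⟩) | ⟨Z, hZ, rfl⟩
  · exact ⟨_, (hin Z).1, h.big_A Z⟩
  · exact ⟨_, (hin Z).2.1, h.big_E Z⟩
  · exact ⟨_, (hin Z).2.2.1, h.big_D Z⟩
  · exact ⟨_, ((hin Z).2.2.2 hZ).1, h.big_B hZ⟩
  · exact ⟨_, ((hin Z).2.2.2 hZ).2, h.big_C hZ⟩

/-- The subgroup generated by the two chosen generators. -/
def FieldFour.topGroup : Subgroup (GL F9 F) :=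
  Subgroup.closure (genSet h.emb (decF2 18) topGens)

/-- The subgroup of index 6156. -/
def FieldFour.kGroup : Subgroup (GL F9 F) :=
  Subgroup.closure (genSet h.emb (decF2 18) kGens)

/-- The subgroup of order 1440. -/
def FieldFour.hGroup : Subgroup (GL F9 F) :=
  Subgroup.closure (genSet h.emb (decF2 18) hGens)

theorem FieldFour.topGens_mem : ∀ c ∈ topGens, CodeMem h.emb (decF2 18) (threeJ3 F ω) c := by
  intro c hc
  rw [← topWords_ok] at hc
  obtain ⟨w, -, rfl⟩ := List.mem_map.1 hc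
  exact codeMem_genWord (emb := h.emb) (dec := decF2 18) (mul := mulF2 18) (one := one)
    mulF2_dec dec_one h.allGens_mem w

theorem FieldFour.topT_mem : ∀ i < 6156, CodeMem h.emb (decF2 18) h.topGroup (topT.get i) :=
  table_mem (emb := h.emb) (dec := decF2 18) (mul := mulF2 18) (one := one)
    mulF2_dec dec_one (codeMem_genSet h.topGens_mem) top_par

theorem FieldFour.kGens_mem : ∀ c ∈ kGens, CodeMem h.emb (decF2 18) h.topGroup c := by
  intro c hc
  obtain ⟨i, hi, rfl⟩ := List.getElem_of_mem hc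
  have hlen : kGens.length = kVals.length := by decide +kernel
  have hok := List.all_eq_true.1 kVals_ok (kGens[i], kVals[i]) (by
    rw [List.mem_iff_getElem]
    exact ⟨i, by rw [List.length_zip]; omega, List.getElem_zip⟩)
  rw [beq_iff_eq] at hok
  obtain ⟨a, ha, ea⟩ := h.topT_mem (topFac.get kVals[i] % 6156) (Nat.mod_lt _ (by norm_num))
  have hleft : CodeMem h.emb (decF2 18) h.topGroup (topGens.getD (kVals[i] / 6156) one) := by
    rcases Nat.lt_or_ge (kVals[i] / 6156) topGens.length with hlt | hge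
    · rw [List.getD_eq_getElem _ _ hlt]
      exact codeMem_genSet h.topGens_mem _ (List.getElem_mem hlt)
    · rw [List.getD_eq_default _ _ hge]
      exact codeMem_one (emb := h.emb) (dec := decF2 18) (one := one) dec_one
  have hright := h.topT_mem (kVals[i] % 6156) (Nat.mod_lt _ (by norm_num))
  have hrhs := CodeMem.mul (emb := h.emb) (dec := decF2 18) (mul := mulF2 18) mulF2_dec hleft hright
  obtain ⟨b, hb, eb⟩ := hrhs
  refine ⟨a⁻¹ * b, mul_mem (inv_mem ha) hb, ?_⟩
  rw [map_mul, eb, ← hok, mulF2_dec, ← ea, ← mul_assoc, ← map_mul, inv_mul_cancel, map_one,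
    one_mul]

theorem FieldFour.hGens_mem : ∀ c ∈ hGens, CodeMem h.emb (decF2 18) h.kGroup c := by
  intro c hc
  rw [← hWords_ok] at hc
  obtain ⟨w, -, rfl⟩ := List.mem_map.1 hc
  exact codeMem_genWord (emb := h.emb) (dec := decF2 18) (mul := mulF2 18) (one := one)
    mulF2_dec dec_one (codeMem_genSet h.kGens_mem) w

theorem FieldFour.kGroup_le : h.kGroup ≤ h.topGroup :=
  genSet_closure_le h.emb_injective h.kGens_mem

theorem FieldFour.hGroup_le : h.hGroup ≤ h.kGroup :=
  genSet_closure_le h.emb_injective h.hGens_mem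

theorem FieldFour.kT_mem : ∀ i < 17, CodeMem h.emb (decF2 18) h.kGroup (kT.get i) :=
  table_mem (emb := h.emb) (dec := decF2 18) (mul := mulF2 18) (one := one)
    mulF2_dec dec_one (codeMem_genSet h.kGens_mem) k_par

theorem FieldFour.hT_mem : ∀ i < 1440, CodeMem h.emb (decF2 18) h.hGroup (hT.get i) :=
  table_mem (emb := h.emb) (dec := decF2 18) (mul := mulF2 18) (one := one)
    mulF2_dec dec_one (codeMem_genSet h.hGens_mem) h_par

theorem FieldFour.card_hGroup : Nat.card h.hGroup = 1440 :=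
  have := h.finiteGL
  (card_genSet_eq (emb := h.emb) (dec := decF2 18) (mul := mulF2 18) (one := one)
    mulF2_dec dec_one h.emb_injective dec_inj h.hGens_mem (by norm_num)
    (by decide +kernel) h_par h_fac h_dist).1

theorem FieldFour.lower_mem : ∀ p ∈ [(17, kT), (1440, hT)],
    0 < p.1 ∧ ∀ i < p.1, CodeMem h.emb (decF2 18) h.kGroup (p.2.get i) := by
  intro p hp
  simp only [List.mem_cons, List.not_mem_nil, or_false] at hp
  rcases hp with rfl | rfl
  · exact ⟨by norm_num, h.kT_mem⟩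
  · exact ⟨by norm_num, fun i hi => (h.hT_mem i hi).mono h.hGroup_le⟩

/-- Every word in the transversals lies in the group generated by the two generators. -/
theorem FieldFour.chain_mem (v : ℕ) :
    CodeMem h.emb (decF2 18) h.topGroup (wordCode (mulF2 18) one chain v) := by
  refine wordCode_mem (emb := h.emb) (dec := decF2 18) (mul := mulF2 18) (one := one)
    mulF2_dec dec_one chain (fun p hp => ?_) v
  rcases List.mem_cons.1 hp with rfl | hp
  · exact ⟨by norm_num, h.topT_mem⟩
  · exact ⟨(h.lower_mem p hp).1, fun i hi => ((h.lower_mem p hp).2 i hi).mono h.kGroup_le⟩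

theorem FieldFour.codeMem_of_vals {cs vs : List ℕ}
    (hv : vs.map (wordCode (mulF2 18) one chain) = cs) :
    ∀ c ∈ cs, CodeMem h.emb (decF2 18) h.topGroup c := by
  subst hv
  intro c hc
  obtain ⟨v, -, rfl⟩ := List.mem_map.1 hc
  exact h.chain_mem v

theorem FieldFour.threeJ3_eq : threeJ3 F ω = h.topGroup := by
  refine le_antisymm ((Subgroup.closure_le _).2 ?_)
    (genSet_closure_le h.emb_injective h.topGens_mem)
  intro g hg
  obtain ⟨c, hc, e⟩ := h.gen_code hg
  obtain ⟨g', hg', e'⟩ := h.codeMem_of_vals allVals_ok c hc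
  rwa [h.emb_injective ((show h.emb g = decF2 18 c from e).trans e'.symm)]

theorem FieldFour.card_kGroup_le : Nat.card h.kGroup ≤ 17 * 1440 := by
  have := h.finiteGL
  rw [← h.card_hGroup]
  refine card_le_of_checks (emb := h.emb) (dec := decF2 18) (mul := mulF2 18) (one := one)
    mulF2_dec dec_one h.emb_injective (T := kT) (fac := kFac)
    (lower := [(1440, hT)]) (by norm_num) (by decide +kernel) (fun s hs => hs) ?_ k_fac
  intro p hp
  obtain rfl := List.mem_singleton.1 hp
  exact ⟨by norm_num, h.hT_mem⟩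

theorem FieldFour.card_top_le : Nat.card h.topGroup ≤ 6156 * Nat.card h.kGroup := by
  have := h.finiteGL
  refine card_le_of_checks (emb := h.emb) (dec := decF2 18) (mul := mulF2 18) (one := one)
    mulF2_dec dec_one h.emb_injective (T := topT) (fac := topFac)
    (lower := [(17, kT), (1440, hT)]) (by norm_num) (by decide +kernel) (fun s hs => hs)
    h.lower_mem ?_
  rw [show topGens.length * 6156 = 6156 + 6156 by decide +kernel]
  exact allFrom_append top_fac0 top_fac1

theorem FieldFour.dvd_card {cs vs : List ℕ} {n : ℕ} {T par fac srt pos inv : Tr}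
    (hv : vs.map (wordCode (mulF2 18) one chain) = cs) (hn : 0 < n) (hT0 : T.get 0 = one)
    (hpar : allFrom 0 n (parentOK (mulF2 18) one cs n T par) = true)
    (hfac : allFrom 0 (cs.length * n) (stepOK (mulF2 18) one cs n T fac []) = true)
    (hdist : allFrom 0 n (distinctOK (canonF2 18) n T srt pos inv) = true) :
    n ∣ Nat.card h.topGroup := by
  have := h.finiteGL
  rw [← (card_genSet_eq (emb := h.emb) (dec := decF2 18) (mul := mulF2 18) (one := one)
    mulF2_dec dec_one h.emb_injective dec_inj (h.codeMem_of_vals hv) hn hT0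
    hpar hfac hdist).1]
  exact Subgroup.card_dvd_of_le (genSet_closure_le h.emb_injective (h.codeMem_of_vals hv))

/-- Each element of the data is an element of order `p` of the group. -/
theorem FieldFour.prime_elem {p : ℕ} (hp : p.Prime) {f : List (List (ℕ × ℕ))}
    (hd : (p, f) ∈ primeData) {pr : List (ℕ × ℕ)} (hpr : pr ∈ f) {cv : ℕ × ℕ} (hcv : cv ∈ pr) :
    ∃ x ∈ h.topGroup, h.emb x = decF2 18 cv.1 ∧ orderOf x = p := by
  have hb := List.all_eq_true.1 primeData_ok _ hd
  simp only [Bool.and_eq_true, List.all_eq_true, beq_iff_eq, Bool.not_eq_true',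
    beq_eq_false_iff_ne] at hb
  obtain ⟨hw, hpow, hcan, hne⟩ := hb.2 pr hpr cv hcv
  obtain ⟨x, hx, e⟩ : CodeMem h.emb (decF2 18) h.topGroup cv.1 := hw ▸ h.chain_mem cv.2
  refine ⟨x, hx, e, ?_⟩
  have := Fact.mk hp
  refine orderOf_eq_prime (h.emb_injective ?_) ?_
  · rw [map_pow, e, ← dec_genWord_replicate, hpow, dec_one, map_one]
  · intro hx1
    refine hne (dec_inj _ _ hcan (by decide +kernel) ?_)
    rw [← e, hx1, map_one, dec_one]

theorem FieldFour.prime_dvd {p : ℕ} (hp : p.Prime) (hmem : p ∈ primeData.map Prod.fst) :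
    p ∣ Nat.card h.topGroup := by
  obtain ⟨⟨p', f⟩, hd, rfl⟩ := List.mem_map.1 hmem
  have hne : ∀ d ∈ primeData, d.2 ≠ [] ∧ ∀ pr ∈ d.2, pr ≠ [] := by decide +kernel
  obtain ⟨pr, hpr⟩ := List.exists_mem_of_ne_nil _ (hne _ hd).1
  obtain ⟨cv, hcv⟩ := List.exists_mem_of_ne_nil _ ((hne _ hd).2 pr hpr)
  obtain ⟨x, hx, -, ho⟩ := h.prime_elem hp hd hpr hcv
  rw [← ho, ← Subgroup.orderOf_mk x hx]
  exact orderOf_dvd_natCard _

/-- The order of the triple cover. -/
theorem FieldFour.card_threeJ3 : Nat.card (threeJ3 F ω) = 3 * 50232960 := by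
  have := h.finiteGL
  rw [h.threeJ3_eq]
  refine le_antisymm ?_ (Nat.le_of_dvd Nat.card_pos ?_)
  · calc Nat.card h.topGroup ≤ 6156 * (17 * 1440) :=
          h.card_top_le.trans (Nat.mul_le_mul_left _ h.card_kGroup_le)
      _ = 3 * 50232960 := by norm_num
  · have d3 : 729 ∣ Nat.card h.topGroup :=
      h.dvd_card s3Vals_ok (by norm_num) (by decide +kernel) s3_par s3_fac s3_dist
    have d2 : 128 ∣ Nat.card h.topGroup :=
      h.dvd_card s2Vals_ok (by norm_num) (by decide +kernel) s2_par s2_fac s2_dist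
    have d5 := h.prime_dvd (p := 5) (by norm_num) (by decide +kernel)
    have d17 := h.prime_dvd (p := 17) (by norm_num) (by decide +kernel)
    have d19 := h.prime_dvd (p := 19) (by norm_num) (by decide +kernel)
    exact Nat.lcm_dvd (Nat.lcm_dvd (Nat.lcm_dvd (Nat.lcm_dvd d3 d2) d5) d17) d19

theorem FieldFour.card_kGroup : Nat.card h.kGroup = 24480 := by
  have h1 := h.card_top_le
  rw [← h.threeJ3_eq, h.card_threeJ3] at h1
  have h2 := h.card_kGroup_le
  omega

end CfsgLib.Sporadic.J3
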