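import Cfsg.Agent.Lib.Sporadic.J3
import Cfsg.Prelude.Def_Classical

/-! The triple cover of J3 consists of unitary matrices of determinant one. -/

set_option autoImplicit false

namespace CfsgLib.Sporadic.J3

open Cfsg.Spor

/-- The conjugate transpose of a table: transpose and double the exponents. -/
def starTab (t : F9 → F9 → Option (ZMod 3)) (r z : F9) : Option (ZMod 3) :=
  (t z r).map (fun k => 2 * k)

theorem starA : ∀ Z, tableMat (starTab (tabA Z)) * tableMat (tabA Z) = 1 := by decide +kernel

theorem starE : ∀ Z, tableMat (starTab (tabE Z)) * tableMat (tabE Z) = 1 := by decide +kernel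

theorem starD : ∀ Z, tableMat (starTab (tabD Z)) * tableMat (tabD Z) = 1 := by decide +kernel

theorem starB : ∀ Z : F9, Z ≠ 0 → tableMat (starTab (tabB Z)) * tableMat (tabB Z) = 1 := by
  decide +kernel

theorem starC : ∀ Z : F9, Z ≠ 0 → tableMat (starTab (tabC Z)) * tableMat (tabC Z) = 1 := by
  decide +kernel

variable {F : Type*} [Field F] {ω : F} (h : FieldFour F ω)
include h

theorem FieldFour.omegaPow_two_mul (k : ZMod 3) :
    omegaPow F ω (2 * k) = omegaPow F ω k ^ 2 := by
  have : (2 * k).val = k.val * 2 % 3 := by revert k; decide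
  rw [omegaPow, omegaPow, this, ← pow_mul, ← pow_mod_orderOf,
    show orderOf ω = 3 from orderOf_eq_prime h.cube h.ne_one, Nat.mod_mod, ← pow_mod_orderOf _ (k.val * 2),
    show orderOf ω = 3 from orderOf_eq_prime h.cube h.ne_one]

theorem FieldFour.star_mul_eq_one {M : Matrix F9 F9 F} (hM : M ∈ j3Gens F ω) :
    M.transpose.map (· ^ 2) * M = 1 := by
  have key : ∀ t, (∀ r z, match t r z with | none => M r z = 0 | some k => M r z = omegaPow F ω k) →
      tableMat (starTab t) * tableMat t = 1 → M.transpose.map (· ^ 2) * M = 1 := by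
    intro t ht hs
    refine h.big_injective ?_
    rw [map_mul, h.big_of_table ht, h.big_of_table (t := starTab t), hs, map_one]
    intro r z
    have := ht z r
    cases e : t z r with
    | none => rw [e] at this; simp [starTab, e, this]
    | some k => rw [e] at this; simp [starTab, e, this, h.omegaPow_two_mul]
  have hlam : ∀ Z z : F9, j3Lam F ω Z z = omegaPow F ω (lamExp Z z) := by
    intro Z z
    unfold j3Lam lamExp omegaPow
    split_ifs
    · simp
    · simp [show (1 : ZMod 3).val = 1 from rfl]
    · simp [show (2 : ZMod 3).val = 2 from rfl]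
    · simp
  rcases hM with (((⟨Z, rfl⟩ | ⟨Z, rfl⟩) | ⟨Z, rfl⟩) | ⟨Z, hZ, rfl⟩) | ⟨Z, hZ, rfl⟩
  · refine key (tabA Z) (fun r z => ?_) (starA Z)
    by_cases e : r = z <;> simp [tabA, j3A, e]
  · refine key (tabE Z) (fun r z => ?_) (starE Z)
    by_cases e : r = z <;> simp [tabE, j3E, e]
  · refine key (tabD Z) (fun r z => ?_) (starD Z)
    by_cases e : r = z + Z <;> simp [tabD, j3D, e, hlam]
  · refine key (tabB Z) (fun r z => ?_) (starB Z hZ)
    by_cases e : r = F9.mul Z z <;> simp [tabB, j3B, e, omegaPow]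
  · refine key (tabC Z) (fun r z => ?_) (starC Z hZ)
    by_cases e1 : z = 0
    · by_cases e2 : r = 0 <;> simp [tabC, j3C, e1, e2, omegaPow]
    · by_cases e2 : r = -F9.div Z z ∨ r = F9.mul F9.I (F9.div Z z) ∨
          r = -F9.mul F9.I (F9.div Z z) <;>
        simp [tabC, j3C, e1, e2, omegaPow]

/-- The standard Hermitian form on the nine coordinates. -/
theorem FieldFour.preserves_form {g : GL F9 F} (hg : g ∈ threeJ3 F ω) (u v : F9 → F) :
    ∑ z, ((g : Matrix F9 F9 F).mulVec u) z * ((g : Matrix F9 F9 F).mulVec v) z ^ 2 =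
      ∑ z, u z * v z ^ 2 := by
  have := h.finite
  have := Fintype.ofFinite F
  have hchar : CharP F 2 := CharTwo.of_one_ne_zero_of_two_eq_zero one_ne_zero h.two_eq_zero
  let σ : F →+* F := frobenius F 2
  have hmem : g ∈ Cfsg.preserving (Units.coeHom (Matrix F9 F9 F))
      (fun a b => ∑ z, a z * b z ^ 2) := by
    refine (Subgroup.closure_le _).2 ?_ hg
    intro s hs
    change ∀ a b : F9 → F, _
    intro a b
    have h1 : (s : Matrix F9 F9 F).transpose * (s : Matrix F9 F9 F).map σ = 1 := by
      have e := congrArg (fun X : Matrix F9 F9 F => X.transpose) (h.star_mul_eq_one hs)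
      have hσ : ⇑σ = (fun x => x ^ 2) := funext fun x => frobenius_def 2 x
      rw [hσ]
      simpa [Matrix.transpose_mul, Matrix.transpose_map] using e
    have h2 : ∀ z, ((s : Matrix F9 F9 F).mulVec b) z ^ 2 =
        (((s : Matrix F9 F9 F).map σ).mulVec (fun i => b i ^ 2)) z := by
      intro z
      simpa [σ, frobenius_def, Function.comp_def] using RingHom.map_mulVec σ (s : Matrix F9 F9 F) b z
    simp only [Units.coeHom_apply, h2]
    change dotProduct _ _ = dotProduct a (fun i => b i ^ 2)
    rw [Matrix.dotProduct_mulVec, ← Matrix.mulVec_transpose, Matrix.mulVec_mulVec]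
    have h3 : ((s : Matrix F9 F9 F).map σ).transpose * (s : Matrix F9 F9 F) = 1 := by
      have e := congrArg (fun X : Matrix F9 F9 F => X.transpose) h1
      simpa [Matrix.transpose_mul] using e
    rw [h3, Matrix.one_mulVec]
  exact hmem u v

/-- The triple cover has determinant one. -/
theorem FieldFour.det_eq_one {g : GL F9 F} (hg : g ∈ threeJ3 F ω) :
    (g : Matrix F9 F9 F).det = 1 := by
  have := h.finite
  have := Fintype.ofFinite F
  let d : threeJ3 F ω →* Fˣ := Matrix.GeneralLinearGroup.det.comp (threeJ3 F ω).subtype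
  have htop : d.ker = ⊤ := by
    refine h.eq_top_of_prime (p := 17) (by norm_num) (by decide +kernel) _ fun x hx => ?_
    rw [MonoidHom.mem_ker]
    have h17 : d x ^ 17 = 1 := by rw [← map_pow, hx, map_one]
    have h3 : d x ^ 3 = 1 := by
      have e := pow_card_eq_one' (G := Fˣ) (x := d x)
      rwa [Nat.card_units, h.card] at e
    simpa using (pow_gcd_eq_one (a := d x) (m := 17) (n := 3)).2 ⟨h17, h3⟩
  have hk : (⟨g, hg⟩ : threeJ3 F ω) ∈ d.ker := by
    rw [htop]
    exact Subgroup.mem_top _
  rw [MonoidHom.mem_ker] at hk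
  have hv : ((d ⟨g, hg⟩ : Fˣ) : F) = 1 := by rw [hk, Units.val_one]
  rw [← hv]
  simp only [d, MonoidHom.coe_comp, Function.comp_apply, Subgroup.coe_subtype,
    Matrix.GeneralLinearGroup.val_det_apply]

end CfsgLib.Sporadic.J3
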