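import Cfsg.Agent.Lib.Sporadic.M11Sylow
import Cfsg.Agent.Lib.Sporadic.BlockData
import Cfsg.Agent.Lib.Sporadic.CharTools
import Cfsg.Agent.Lib.Small.AbelianFocal

/-!
The principal 11-block of a simple group of order 7920: degrees 1, 16, 10, 10, 10, 45 with
signs, and the centralisers of elements of order 5.
-/

set_option autoImplicit false

noncomputable section

namespace CfsgLib.Sporadic.M11

open Cfsg CfsgLib.Characters Subgroup
open scoped ComplexConjugate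

universe u

theorem sum_eq_three {α M : Type*} [Fintype α] [DecidableEq α] [AddCommMonoid M] (f : α → M)
    {a b c : α} (S : Finset α) (hab : a ≠ b) (hac : a ≠ c) (hbc : b ≠ c)
    (ha : a ∉ S) (hb : b ∉ S) (hc : c ∉ S)
    (h0 : ∀ x, x ≠ a → x ≠ b → x ≠ c → x ∉ S → f x = 0) :
    ∑ x, f x = f a + (f b + (f c + ∑ x ∈ S, f x)) := by
  rw [← Finset.sum_subset (Finset.subset_univ (insert a (insert b (insert c S))))
    (fun x _ hx => by
      simp only [Finset.mem_insert, not_or] at hx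
      exact h0 x hx.1 hx.2.1 hx.2.2.1 hx.2.2.2),
    Finset.sum_insert (by simp [hab, hac, ha]), Finset.sum_insert (by simp [hbc, hb]),
    Finset.sum_insert hc]

theorem deg_cases : ∀ d ∈ (7920 : ℕ).divisors, d * d ≤ 7920 → 1 < d →
    (d % 11 = 1 → d = 12 ∨ d = 45) ∧ (d % 11 = 10 → d = 10) ∧ (d % 11 = 2 → d = 2 ∨ d = 24) ∧
    (d % 11 = 9 → d = 9 ∨ d = 20) ∧ (d % 11 = 6 → d = 6 ∨ d = 72) ∧
    (d % 11 = 5 → d = 5 ∨ d = 16 ∨ d = 60) := by
  decide +kernel

variable {G : Type u} [Group G]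

/-- The degrees and relations of the principal 11-block, before the case of degree 5 is
excluded. -/
structure Pattern [Fintype G] (e₁ e₂ : IrrCharacter G) (U T W : Finset (IrrCharacter G))
    (d : ℕ) : Prop where
  ne12 : e₁ ≠ e₂
  ne1 : e₁ ≠ principalIrr G
  ne2 : e₂ ≠ principalIrr G
  deg1 : (e₁ : G → ℂ) 1 = d
  deg2 : (e₂ : G → ℂ) 1 = d
  degU : ∀ ψ ∈ U, (ψ : G → ℂ) 1 = (10 : ℕ)
  degT : ∀ ψ ∈ T, (ψ : G → ℂ) 1 = (12 : ℕ)
  degW : ∀ ψ ∈ W, (ψ : G → ℂ) 1 = (45 : ℕ)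
  shape : (d = 5 ∧ U.card = 2 ∧ T.card = 2 ∧ W.card = 0) ∨
    (d = 16 ∧ U.card = 3 ∧ T.card = 0 ∧ W.card = 1)
  rel : ∀ g : G, g = 1 ∨ g ^ 11 ≠ 1 →
    1 - (e₁ : G → ℂ) g - ∑ ψ ∈ U, (ψ : G → ℂ) g + ∑ ψ ∈ T, (ψ : G → ℂ) g +
      ∑ ψ ∈ W, (ψ : G → ℂ) g = 0
  rel2 : ∀ t : G, orderOf t = 2 →
    1 - (e₁ : G → ℂ) t ^ 2 / d - (∑ ψ ∈ U, (ψ : G → ℂ) t ^ 2) / 10 +
      (∑ ψ ∈ T, (ψ : G → ℂ) t ^ 2) / 12 + (∑ ψ ∈ W, (ψ : G → ℂ) t ^ 2) / 45 = 0

variable [IsSimpleGroup G] (hcard : Nat.card G = 7920)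

include hcard

/-- No two conjugates of an involution have a product of order eleven. -/
theorem prod_involution_ne [Finite G] {t : G} (ht : orderOf t = 2) {a b : G} (ha : IsConj t a)
    (hb : IsConj t b) (hab : (a * b) ^ 11 = 1) : a * b = 1 := by
  by_contra hne
  have hord : orderOf (a * b) = 11 := orderOf_eq_prime hab hne
  have hsq : ∀ c, IsConj t c → c * c = 1 := fun c hc => by
    obtain ⟨w, rfl⟩ := isConj_iff.1 hc
    have : t * t = 1 := by rw [← pow_two, ← ht]; exact pow_orderOf_eq_one t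
    rw [show w * t * w⁻¹ * (w * t * w⁻¹) = w * (t * t) * w⁻¹ by group, this]
    group
  have haord : orderOf a = 2 := by
    obtain ⟨w, rfl⟩ := isConj_iff.1 ha
    rw [show w * t * w⁻¹ = MulAut.conj w t from rfl, MulEquiv.orderOf_eq, ht]
  obtain ⟨P, hP, -⟩ := CfsgLib.Small.exists_unique_sylow_mem hord (card_sylow_eleven_eq hcard)
  have hPz := CfsgLib.Small.eq_zpowers_of_mem (card_sylow_eleven_eq hcard P) hP hne
  have hinv : a⁻¹ = a := inv_eq_of_mul_eq_one_right (hsq a ha)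
  have hbinv : b⁻¹ = b := inv_eq_of_mul_eq_one_right (hsq b hb)
  have hmap : a * (a * b) * a⁻¹ = (a * b)⁻¹ := by
    rw [hinv, ← mul_assoc, hsq a ha, one_mul, mul_inv_rev, hinv, hbinv]
  have haN : a ∈ normalizer ((P : Subgroup G) : Set G) := by
    have hkey : ∀ h ∈ (P : Subgroup G), a * h * a⁻¹ ∈ (P : Subgroup G) := by
      intro h hh
      rw [hPz] at hh ⊢
      obtain ⟨k, rfl⟩ := Subgroup.mem_zpowers_iff.1 hh
      rw [show a * (a * b) ^ k * a⁻¹ = MulAut.conj a ((a * b) ^ k) from rfl, map_zpow,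
        MulAut.conj_apply, hmap, inv_zpow]
      exact inv_mem (zpow_mem_zpowers _ _)
    refine Subgroup.mem_normalizer_iff.2 fun h => ⟨hkey h, fun hh => ?_⟩
    have := hkey _ hh
    rwa [show a * (a * h * a⁻¹) * a⁻¹ = (a * a) * h * (a * a)⁻¹ by group, hsq a ha,
      one_mul, inv_one, mul_one] at this
  have h2 := Subgroup.orderOf_dvd_natCard _ haN
  rw [card_normalizer_eleven hcard P, haord] at h2
  norm_num at h2

set_option maxHeartbeats 1000000 in
/-- The principal 11-block, up to two patterns. -/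
theorem exists_pattern [Fintype G] : ∃ (e₁ e₂ : IrrCharacter G)
    (U T W : Finset (IrrCharacter G)) (d : ℕ), Pattern e₁ e₂ U T W d := by
  classical
  have hnc := not_comm hcard
  obtain ⟨P⟩ : Nonempty (Sylow 11 G) := inferInstance
  have hK := card_sylow_eleven_eq hcard P
  have hC : ∀ k ∈ (P : Subgroup G), k ≠ 1 →
      centralizer ({k} : Set G) ≤ (P : Subgroup G) := by
    intro k hk hk1
    have hPz := CfsgLib.Small.eq_zpowers_of_mem hK hk hk1
    rw [hPz]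
    exact centralizer_le_zpowers hcard (by rw [← Nat.card_zpowers, ← hPz]; exact hK)
  obtain ⟨ε, a', A, D, f₀, f₁, hε, h01, h0p, h1p, hD, hDdvd, hD1, hDf, hA0, hA1, hd0, hmod,
    hAone, hnorm, hvan, hsq⟩ := CfsgLib.Sporadic.BlockData.block_data
      (CfsgLib.Small.commutator_eq_top hnc) hK hC (e := 5)
      (by rw [card_normalizer_eleven hcard P]) (by norm_num)
  rw [hcard] at hsq
  set S := Finset.univ.filter fun ψ : IrrCharacter G =>
    A ψ ≠ 0 ∧ ψ ≠ principalIrr G ∧ ψ ≠ f₀ ∧ ψ ≠ f₁ with hSdef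
  have hmemS : ∀ ψ, ψ ∈ S ↔ A ψ ≠ 0 ∧ ψ ≠ principalIrr G ∧ ψ ≠ f₀ ∧ ψ ≠ f₁ := fun ψ => by
    simp [hSdef]
  have hsplit : ∀ {M : Type} [AddCommMonoid M] (f : IrrCharacter G → M),
      (∀ ψ, A ψ = 0 → f ψ = 0) →
      ∑ ψ, f ψ = f (principalIrr G) + (f f₀ + (f f₁ + ∑ ψ ∈ S, f ψ)) := by
    intro M _ f hf
    refine sum_eq_three f S h0p.symm h1p.symm h01 (fun h => ((hmemS _).1 h).2.1 rfl)
      (fun h => ((hmemS _).1 h).2.2.1 rfl) (fun h => ((hmemS _).1 h).2.2.2 rfl)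
      fun x hx0 hx1 hx2 hxS => hf x ?_
    by_contra hne
    exact hxS ((hmemS x).2 ⟨hne, hx0, hx1, hx2⟩)
  have hn : (a' - ε) ^ 2 + a' ^ 2 + ∑ ψ ∈ S, A ψ ^ 2 = 5 := by
    have h := hsplit (fun ψ => A ψ ^ 2) fun ψ h => by rw [h]; norm_num
    rw [hnorm, hAone, hA0, hA1] at h
    push_cast at h
    linarith
  have hrelC : ∀ (F : IrrCharacter G → ℂ), ∑ ψ, (A ψ : ℂ) * F ψ =
      F (principalIrr G) + ((a' - ε : ℂ) * F f₀ + ((a' : ℂ) * F f₁ +
        ∑ ψ ∈ S, (A ψ : ℂ) * F ψ)) := by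
    intro F
    have h := hsplit (fun ψ => (A ψ : ℂ) * F ψ) fun ψ h => by simp [h]
    rw [h, hAone, hA0, hA1]
    push_cast
    ring
  have hdeg : 1 + (2 * a' - ε) * (D f₀ : ℤ) + ∑ ψ ∈ S, A ψ * (D ψ : ℤ) = 0 := by
    have h := hvan 1 (Or.inl rfl)
    rw [hrelC] at h
    simp only [hD, hDf] at h
    have h1 : (D (principalIrr G) : ℂ) = 1 := by rw [← hD]; rfl
    rw [h1] at h
    have : ((1 + (2 * a' - ε) * (D f₀ : ℤ) + ∑ ψ ∈ S, A ψ * (D ψ : ℤ) : ℤ) : ℂ) = ((0 : ℤ) : ℂ) := by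
      push_cast
      linear_combination h
    exact_mod_cast this
  have hSq : 1 + (2 * (D f₀ : ℤ) ^ 2 + ∑ ψ ∈ S, (D ψ : ℤ) ^ 2) ≤ 7920 := by
    have h := Finset.sum_le_sum_of_subset (f := fun ψ => D ψ ^ 2)
      (Finset.subset_univ (insert (principalIrr G) (insert f₀ (insert f₁ S))))
    rw [Finset.sum_insert (by
          simp only [Finset.mem_insert, hmemS, not_or]
          exact ⟨h0p.symm, h1p.symm, fun h => h.2.1 rfl⟩),
      Finset.sum_insert (by
          simp only [Finset.mem_insert, hmemS, not_or]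
          exact ⟨h01, fun h => h.2.2.1 rfl⟩),
      Finset.sum_insert (by
          simp only [hmemS]
          exact fun h => h.2.2.2 rfl), hsq, hDf] at h
    have h1 : (D (principalIrr G) : ℂ) = 1 := by rw [← hD]; rfl
    rw [Nat.cast_eq_one.1 h1] at h
    have h' : (((1 : ℕ) ^ 2 + (D f₀ ^ 2 + (D f₀ ^ 2 + ∑ ψ ∈ S, D ψ ^ 2)) : ℕ) : ℤ) ≤ (7920 : ℤ) := by
      exact_mod_cast h
    push_cast at h'
    linarith
  have hsmall : ∀ ψ, ψ ≠ principalIrr G → D ψ ∈ (7920 : ℕ).divisors ∧ D ψ * D ψ ≤ 7920 ∧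
      1 < D ψ := fun ψ hψ => ⟨Nat.mem_divisors.2 ⟨hcard ▸ hDdvd ψ, by norm_num⟩, by
    rw [← pow_two, ← hsq]
    exact Finset.single_le_sum (f := fun χ => D χ ^ 2) (fun _ _ => Nat.zero_le _)
      (Finset.mem_univ ψ), hD1 ψ hψ⟩
  have hSmod : ∀ ψ ∈ S, (11 : ℤ) ∣ A ψ - D ψ := fun ψ hψ =>
    Int.modEq_iff_dvd.1 (by exact_mod_cast hmod ψ ((hmemS ψ).1 hψ).2.2.1 ((hmemS ψ).1 hψ).2.2.2)
  have hd0' : (11 : ℤ) ∣ a' + 5 * ε - D f₀ := Int.modEq_iff_dvd.1 (by exact_mod_cast hd0)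
  have hdc := deg_cases (D f₀) (hsmall f₀ h0p).1 (hsmall f₀ h0p).2.1 (hsmall f₀ h0p).2.2
  have hSA : ∀ ψ ∈ S, 1 ≤ A ψ ^ 2 := fun ψ hψ => by
    have := ((hmemS ψ).1 hψ).1
    nlinarith [abs_nonneg (A ψ), sq_abs (A ψ), Int.one_le_abs this]
  -- the exceptional coefficients
  have hS0 : 0 ≤ ∑ ψ ∈ S, A ψ ^ 2 := Finset.sum_nonneg fun ψ _ => sq_nonneg _
  have hb1 : a' ≤ 2 := by nlinarith [sq_nonneg (a' - ε)]
  have hb2 : -2 ≤ a' := by nlinarith [sq_nonneg (a' - ε)]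
  obtain ⟨hs, hS4⟩ : (2 * a' - ε = 1 ∨ 2 * a' - ε = -1) ∧ ∑ ψ ∈ S, A ψ ^ 2 = 4 := by
    rcases hε with rfl | rfl <;> interval_cases a' <;> norm_num at hn ⊢ <;>
      first
      | omega
      | (have hS : S = ∅ := Finset.eq_empty_of_forall_notMem fun ψ hψ => by
            have h1 := hSA ψ hψ
            have h2 : A ψ ^ 2 ≤ ∑ χ ∈ S, A χ ^ 2 :=
              Finset.single_le_sum (f := fun χ => A χ ^ 2) (fun χ _ => sq_nonneg _) hψ
            omega
         rw [hS, Finset.sum_empty] at hdeg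
         omega)
  -- the two exceptional characters by sign
  obtain ⟨e₁, e₂, hne12, hne1, hne2, hDe1, hDe2, hexc⟩ : ∃ e₁ e₂ : IrrCharacter G,
      e₁ ≠ e₂ ∧ e₁ ≠ principalIrr G ∧ e₂ ≠ principalIrr G ∧ D e₁ = D f₀ ∧ D e₂ = D f₀ ∧
      ∀ F : IrrCharacter G → ℂ, (a' - ε : ℂ) * F f₀ + (a' : ℂ) * F f₁ =
        ((2 * a' - ε : ℤ) : ℂ) * F e₁ := by
    by_cases ha0 : a' = 0
    · exact ⟨f₀, f₁, h01, h0p, h1p, rfl, hDf, fun F => by rw [ha0]; push_cast; ring⟩
    · have hae : a' = ε := by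
        rcases hε with rfl | rfl <;> rcases hs with h | h <;> omega
      exact ⟨f₁, f₀, h01.symm, h1p, h0p, hDf, rfl, fun F => by rw [hae]; push_cast; ring⟩
  have hd0mod : (11 : ℤ) ∣ (-5) * (2 * a' - ε) - D f₀ := by
    rcases hε with rfl | rfl <;> rcases hs with h | h <;> omega
  have hbudget : 2 * (D f₀ : ℤ) ^ 2 ≤ 7919 := by
    have : 0 ≤ ∑ ψ ∈ S, (D ψ : ℤ) ^ 2 := Finset.sum_nonneg fun ψ _ => sq_nonneg _
    linarith
  by_cases hbig : ∃ ψ ∈ S, A ψ ^ 2 ≠ 1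
  · -- a single further character with coefficient of absolute value two
    exfalso
    obtain ⟨ψ, hψ, hψ1⟩ := hbig
    have h4 : 4 ≤ A ψ ^ 2 := by
      rcases le_or_gt (|A ψ|) 1 with h | h
      · exfalso
        have := ((hmemS ψ).1 hψ).1
        rcases abs_cases (A ψ) with ⟨he, _⟩ | ⟨he, _⟩ <;>
          · have : A ψ = 1 ∨ A ψ = -1 := by omega
            rcases this with h' | h' <;> rw [h'] at hψ1 <;> norm_num at hψ1
      · nlinarith [sq_abs (A ψ)]
    have hS1 : S = {ψ} := Finset.eq_singleton_iff_unique_mem.2 ⟨hψ, fun χ hχ => by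
      by_contra hne
      have h := Finset.sum_le_sum_of_subset_of_nonneg (f := fun χ => A χ ^ 2)
        (Finset.insert_subset hχ (Finset.singleton_subset_iff.2 hψ))
        (fun i _ _ => sq_nonneg _)
      rw [Finset.sum_pair hne] at h
      linarith [hSA χ hχ]⟩
    rw [hS1, Finset.sum_singleton] at hS4 hdeg hSq
    have hA2 : A ψ = 2 ∨ A ψ = -2 := by
      have : A ψ ^ 2 = 2 ^ 2 := by rw [hS4]; norm_num
      exact sq_eq_sq_iff_eq_or_eq_neg.1 this
    have hψp := ((hmemS ψ).1 hψ).2.1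
    have hψc := deg_cases (D ψ) (hsmall ψ hψp).1 (hsmall ψ hψp).2.1 (hsmall ψ hψp).2.2
    have hm := hSmod ψ hψ
    obtain ⟨hsm, hd5, hA2', hD2⟩ : 2 * a' - ε = -1 ∧ D f₀ = 5 ∧ A ψ = 2 ∧ D ψ = 2 := by
      rcases hs with h | h <;> rw [h] at hdeg hd0mod ⊢
      · have : D f₀ = 6 ∨ D f₀ = 72 := hdc.2.2.2.2.1 (by omega)
        rcases hA2 with h' | h' <;> rw [h'] at hdeg hm
        · have : D ψ = 2 ∨ D ψ = 24 := hψc.2.2.1 (by omega)
          omega
        · have : D ψ = 9 ∨ D ψ = 20 := hψc.2.2.2.1 (by omega)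
          omega
      · have : D f₀ = 5 ∨ D f₀ = 16 ∨ D f₀ = 60 := hdc.2.2.2.2.2 (by omega)
        rcases hA2 with h' | h' <;> rw [h'] at hdeg hm ⊢
        · have : D ψ = 2 ∨ D ψ = 24 := hψc.2.2.1 (by omega)
          omega
        · have : D ψ = 9 ∨ D ψ = 20 := hψc.2.2.2.1 (by omega)
          omega
    obtain ⟨t, ht⟩ := exists_prime_orderOf_dvd_card' (G := G) 2 (by rw [hcard]; norm_num)
    have ht2 : t ^ 2 = 1 := by rw [← ht]; exact pow_orderOf_eq_one t
    have ht1 : t ≠ 1 := fun h => by rw [h, orderOf_one] at ht; omega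
    obtain ⟨z, hz, hz2⟩ := CharTools.exists_int_of_sq_eq_one (irr_isCharacter ψ) (hD ψ) ht2
    have hzlt := CharTools.norm_lt_degree hnc hψp (hD ψ) ht1
    rw [hz, Complex.norm_intCast, hD2] at hzlt
    have hz' : |z| < 2 := by exact_mod_cast hzlt
    have hz0 : z = 0 := by
      rw [hD2] at hz2
      rcases abs_cases z with ⟨he, _⟩ | ⟨he, _⟩ <;> omega
    have h1 := hvan t (Or.inr fun h => by
      have := orderOf_dvd_of_pow_eq_one h
      rw [ht] at this; norm_num at this)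
    have h2 := CharTools.sum_sq_div_eq_zero A hvan (t := t)
      (fun a b ha hb => prod_involution_ne hcard ht ha hb)
    rw [hrelC] at h1 h2
    simp only [hS1, Finset.sum_singleton, hz, hz0, hD] at h1 h2
    have hp1 : ((principalIrr G : IrrCharacter G) : G → ℂ) t = 1 := rfl
    have hp1' : (D (principalIrr G) : ℂ) = 1 := by rw [← hD]; rfl
    have e1 := hexc fun χ => (χ : G → ℂ) t
    have e2 := hexc fun χ => (χ : G → ℂ) t ^ 2 / (D χ : ℂ)
    rw [hp1] at h1 h2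
    rw [hp1'] at h2
    rw [hsm] at e1 e2
    rw [hDe1, hDf, hd5] at e2
    rw [hDf, hd5] at h2
    push_cast at h1 h2 e1 e2
    have hu : (e₁ : G → ℂ) t = 1 := by linear_combination e1 - h1
    rw [hu] at e2
    have : (1 : ℂ) - 1 / 5 = 0 := by linear_combination h2 - e2
    norm_num at this
  · push Not at hbig
    have hcardS : S.card = 4 := by
      rw [Finset.sum_congr rfl hbig, Finset.sum_const, nsmul_eq_mul, mul_one] at hS4
      exact_mod_cast hS4
    set U := S.filter fun ψ => A ψ = -1 with hUdef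
    set T := S.filter fun ψ => A ψ = 1 ∧ D ψ = 12 with hTdef
    set W := S.filter fun ψ => A ψ = 1 ∧ D ψ = 45 with hWdef
    have hU : ∀ ψ ∈ U, D ψ = 10 := fun ψ hψ => by
      obtain ⟨hψS, hA⟩ := Finset.mem_filter.1 hψ
      have hψp := ((hmemS ψ).1 hψS).2.1
      have hm := hSmod ψ hψS
      exact (deg_cases (D ψ) (hsmall ψ hψp).1 (hsmall ψ hψp).2.1 (hsmall ψ hψp).2.2).2.1
        (by rw [hA] at hm; omega)
    have hcover : ∀ ψ ∈ S, ψ ∈ U ∨ ψ ∈ T ∨ ψ ∈ W := fun ψ hψ => by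
      have hψp := ((hmemS ψ).1 hψ).2.1
      have hm := hSmod ψ hψ
      rcases sq_eq_one_iff.1 (hbig ψ hψ) with hA | hA
      · rcases (deg_cases (D ψ) (hsmall ψ hψp).1 (hsmall ψ hψp).2.1 (hsmall ψ hψp).2.2).1
          (by rw [hA] at hm; omega) with hd | hd
        · exact Or.inr (Or.inl (Finset.mem_filter.2 ⟨hψ, hA, hd⟩))
        · exact Or.inr (Or.inr (Finset.mem_filter.2 ⟨hψ, hA, hd⟩))
      · exact Or.inl (Finset.mem_filter.2 ⟨hψ, hA⟩)
    have hdisj1 : Disjoint U T := Finset.disjoint_filter.2 fun ψ _ h h' => by omega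
    have hdisj2 : Disjoint (U ∪ T) W := by
      rw [Finset.disjoint_union_left]
      exact ⟨Finset.disjoint_filter.2 fun ψ _ h h' => by omega,
        Finset.disjoint_filter.2 fun ψ _ h h' => by omega⟩
    have hunion : S = U ∪ T ∪ W := by
      refine Finset.Subset.antisymm (fun ψ hψ => ?_)
        (Finset.union_subset (Finset.union_subset (Finset.filter_subset _ _)
          (Finset.filter_subset _ _)) (Finset.filter_subset _ _))
      rcases hcover ψ hψ with h | h | h <;> simp [h]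
    have hsumS : ∀ {M : Type} [AddCommMonoid M] (f : IrrCharacter G → M),
        ∑ ψ ∈ S, f ψ = ∑ ψ ∈ U, f ψ + ∑ ψ ∈ T, f ψ + ∑ ψ ∈ W, f ψ := by
      intro M _ f
      rw [hunion, Finset.sum_union hdisj2, Finset.sum_union hdisj1]
    have hT : ∀ ψ ∈ T, A ψ = 1 ∧ D ψ = 12 := fun ψ hψ => (Finset.mem_filter.1 hψ).2
    have hW : ∀ ψ ∈ W, A ψ = 1 ∧ D ψ = 45 := fun ψ hψ => (Finset.mem_filter.1 hψ).2
    have hUA : ∀ ψ ∈ U, A ψ = -1 := fun ψ hψ => (Finset.mem_filter.1 hψ).2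
    have hcnt : (U.card : ℤ) + T.card + W.card = 4 := by
      have : S.card = U.card + T.card + W.card := by
        rw [hunion, Finset.card_union_of_disjoint hdisj2, Finset.card_union_of_disjoint hdisj1]
      omega
    rw [hsumS, Finset.sum_congr rfl (g := fun _ => (-10 : ℤ))
        (fun ψ hψ => by rw [hUA ψ hψ, hU ψ hψ]; norm_num),
      Finset.sum_congr rfl (s₁ := T) (g := fun _ => (12 : ℤ))
        (fun ψ hψ => by rw [(hT ψ hψ).1, (hT ψ hψ).2]; norm_num),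
      Finset.sum_congr rfl (s₁ := W) (g := fun _ => (45 : ℤ))
        (fun ψ hψ => by rw [(hW ψ hψ).1, (hW ψ hψ).2]; norm_num)] at hdeg
    rw [hsumS, Finset.sum_congr rfl (g := fun _ => (100 : ℤ))
        (fun ψ hψ => by rw [hU ψ hψ]; norm_num),
      Finset.sum_congr rfl (s₁ := T) (g := fun _ => (144 : ℤ))
        (fun ψ hψ => by rw [(hT ψ hψ).2]; norm_num),
      Finset.sum_congr rfl (s₁ := W) (g := fun _ => (2025 : ℤ))
        (fun ψ hψ => by rw [(hW ψ hψ).2]; norm_num)] at hSq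
    simp only [Finset.sum_const, nsmul_eq_mul] at hdeg hSq
    have hsm : 2 * a' - ε = -1 := by
      rcases hs with h | h
      · exfalso
        rw [h] at hdeg hd0mod
        rcases hdc.2.2.2.2.1 (by omega) with hd | hd <;> rw [hd] at hdeg hbudget <;>
          norm_num at hbudget <;> norm_num at hdeg <;> omega
      · exact h
    have hshape : (D f₀ = 5 ∧ U.card = 2 ∧ T.card = 2 ∧ W.card = 0) ∨
        (D f₀ = 16 ∧ U.card = 3 ∧ T.card = 0 ∧ W.card = 1) := by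
      rw [hsm] at hdeg hd0mod
      rcases hdc.2.2.2.2.2 (by omega) with hd | hd | hd <;> rw [hd] at hdeg hSq ⊢ <;>
        norm_num at hSq hdeg <;> omega
    refine ⟨e₁, e₂, U, T, W, D f₀,
      { ne12 := hne12, ne1 := hne1, ne2 := hne2
        deg1 := by rw [hD, hDe1]
        deg2 := by rw [hD, hDe2]
        degU := fun ψ hψ => by rw [hD, hU ψ hψ]
        degT := fun ψ hψ => by rw [hD, (hT ψ hψ).2]
        degW := fun ψ hψ => by rw [hD, (hW ψ hψ).2]
        shape := hshape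
        rel := fun g hg => ?_
        rel2 := fun t ht => ?_ }⟩
    · have h := hvan g hg
      rw [hrelC, hsumS, Finset.sum_congr rfl (g := fun ψ : IrrCharacter G => -(ψ : G → ℂ) g)
          (fun ψ hψ => by rw [hUA ψ hψ]; push_cast; ring),
        Finset.sum_congr rfl (s₁ := T) (g := fun ψ : IrrCharacter G => (ψ : G → ℂ) g)
          (fun ψ hψ => by rw [(hT ψ hψ).1]; push_cast; ring),
        Finset.sum_congr rfl (s₁ := W) (g := fun ψ : IrrCharacter G => (ψ : G → ℂ) g)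
          (fun ψ hψ => by rw [(hW ψ hψ).1]; push_cast; ring), Finset.sum_neg_distrib] at h
      have e1 := hexc fun χ => (χ : G → ℂ) g
      rw [hsm] at e1
      rw [show ((principalIrr G : IrrCharacter G) : G → ℂ) g = 1 from rfl] at h
      push_cast at e1
      linear_combination h - e1
    · have h := CharTools.sum_sq_div_eq_zero A hvan (t := t)
        (fun a b ha hb => prod_involution_ne hcard ht ha hb)
      rw [hrelC, hsumS, Finset.sum_congr rfl
          (g := fun ψ : IrrCharacter G => -((ψ : G → ℂ) t ^ 2 / 10))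
          (fun ψ hψ => by rw [hUA ψ hψ, hD, hU ψ hψ]; push_cast; ring),
        Finset.sum_congr rfl (s₁ := T) (g := fun ψ : IrrCharacter G => (ψ : G → ℂ) t ^ 2 / 12)
          (fun ψ hψ => by rw [(hT ψ hψ).1, hD, (hT ψ hψ).2]; push_cast; ring),
        Finset.sum_congr rfl (s₁ := W) (g := fun ψ : IrrCharacter G => (ψ : G → ℂ) t ^ 2 / 45)
          (fun ψ hψ => by rw [(hW ψ hψ).1, hD, (hW ψ hψ).2]; push_cast; ring),
        Finset.sum_neg_distrib] at h
      simp only [← Finset.sum_div] at h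
      have e1 := hexc fun χ => (χ : G → ℂ) t ^ 2 / (χ : G → ℂ) 1
      rw [hsm] at e1
      rw [show ((principalIrr G : IrrCharacter G) : G → ℂ) t = 1 from rfl,
        show ((principalIrr G : IrrCharacter G) : G → ℂ) 1 = 1 from rfl] at h
      rw [hD e₁, hDe1] at e1
      push_cast at e1
      linear_combination h - e1

end CfsgLib.Sporadic.M11
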