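import Cfsg.Agent.Lib.Sporadic.M11Triangle
import Mathlib.LinearAlgebra.Matrix.Charpoly.Coeff

/-!
The graph on the 55 Sylow 3-subgroups of a simple group of order 7920, two being joined when
some involution inverts both, is the triangular graph; a clique of size ten has a stabiliser of
index 11.
-/

set_option autoImplicit false

noncomputable section

namespace CfsgLib.Sporadic.M11

open Subgroup MulAction

universe u

variable {G : Type u} [Group G]

/-- Two Sylow 3-subgroups inverted by a common involution. -/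
def Adj (E F : Sylow 3 G) : Prop := E ≠ F ∧ ∃ t, Inv t E ∧ Inv t F

theorem Adj.symm {E F : Sylow 3 G} (h : Adj E F) : Adj F E :=
  ⟨h.1.symm, let ⟨t, a, b⟩ := h.2; ⟨t, b, a⟩⟩

theorem Adj.smul {E F : Sylow 3 G} (h : Adj E F) (g : G) : Adj (g • E) (g • F) :=
  ⟨fun e => h.1 (smul_left_cancel g e), let ⟨t, a, b⟩ := h.2; ⟨_, a.conj g, b.conj g⟩⟩

theorem adj_smul_iff {E F : Sylow 3 G} (g : G) : Adj (g • E) (g • F) ↔ Adj E F :=
  ⟨fun h => by simpa using h.smul g⁻¹, fun h => h.smul g⟩

theorem fact_prime_89 : Fact (Nat.Prime 89) := ⟨by norm_num⟩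

theorem fact_prime_19 : Fact (Nat.Prime 19) := ⟨by norm_num⟩

attribute [local instance] fact_prime_89 fact_prime_19

/-- A square-zero combination of the adjacency matrix of a strongly regular graph on 55 points of
degree 18, the identity and the all-one matrix has trace zero. -/
theorem srg_trace {α : Type*} [Fintype α] [DecidableEq α] {R : α → α → Prop} [DecidableRel R]
    (hsymm : ∀ a b, R a b → R b a) (hirr : ∀ a, ¬ R a a) (hα : Fintype.card α = 55)
    (hdeg : ∀ a, (Finset.univ.filter fun b => R a b).card = 18) {lam mu : ℕ}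
    (hlam : ∀ a b, R a b → (Finset.univ.filter fun c => R a c ∧ R c b).card = lam)
    (hmu : ∀ a b, ¬ R a b → a ≠ b → (Finset.univ.filter fun c => R a c ∧ R c b).card = mu)
    {p : ℕ} [Fact p.Prime] (a b c : ZMod p)
    (e1 : a * a * (18 - (mu : ZMod p)) + b * b = 0)
    (e2 : a * a * ((lam : ZMod p) - (mu : ZMod p)) + 2 * (a * b) = 0)
    (e3 : a * a * (mu : ZMod p) + 36 * (a * c) + 2 * (b * c) + 55 * (c * c) = 0) :
    b * 55 + c * 55 = 0 := by
  set A : Matrix α α (ZMod p) := Matrix.of fun i j => if R i j then 1 else 0 with hA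
  set J : Matrix α α (ZMod p) := Matrix.of fun _ _ => 1 with hJ
  have hAA : A * A = (18 - (mu : ZMod p)) • (1 : Matrix α α (ZMod p)) +
      ((lam : ZMod p) - mu) • A + (mu : ZMod p) • J := by
    ext i j
    have hval : (A * A) i j = ((Finset.univ.filter fun c => R i c ∧ R c j).card : ZMod p) := by
      simp only [hA, Matrix.mul_apply, Matrix.of_apply, ite_mul, one_mul, zero_mul]
      rw [← Finset.sum_filter, Finset.sum_boole, Finset.filter_filter]
    rw [hval]
    simp only [Matrix.add_apply, Matrix.smul_apply, smul_eq_mul, hA, hJ, Matrix.of_apply, mul_one]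
    by_cases hij : i = j
    · subst hij
      rw [Matrix.one_apply_eq, if_neg (hirr i), show (Finset.univ.filter fun c => R i c ∧ R c i) =
        Finset.univ.filter fun c => R i c from
        Finset.filter_congr fun x _ => ⟨fun h => h.1, fun h => ⟨h, hsymm _ _ h⟩⟩, hdeg]
      push_cast
      ring
    · rw [Matrix.one_apply_ne hij]
      by_cases hadj : R i j
      · rw [hlam i j hadj, if_pos hadj]; ring
      · rw [hmu i j hadj hij, if_neg hadj]; ring
  have hAJ : A * J = (18 : ZMod p) • J := by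
    ext i j
    simp only [hA, hJ, Matrix.mul_apply, Matrix.of_apply, mul_one, Matrix.smul_apply, smul_eq_mul]
    rw [Finset.sum_boole, hdeg]
    norm_num
  have hJA : J * A = (18 : ZMod p) • J := by
    ext i j
    simp only [hA, hJ, Matrix.mul_apply, Matrix.of_apply, one_mul, Matrix.smul_apply, smul_eq_mul,
      mul_one]
    rw [Finset.sum_boole, show (Finset.univ.filter fun x => R x j) =
      Finset.univ.filter fun x => R j x from Finset.filter_congr fun _ _ => ⟨hsymm _ _, hsymm _ _⟩, hdeg]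
    norm_num
  have hJJ : J * J = (55 : ZMod p) • J := by
    ext i j
    simp only [hJ, Matrix.mul_apply, Matrix.of_apply, Matrix.smul_apply, smul_eq_mul, mul_one]
    rw [Finset.sum_const, Finset.card_univ, hα]
    simp
  set M := a • A + b • (1 : Matrix α α (ZMod p)) + c • J with hM
  have hMM : M * M = (a * a * (18 - (mu : ZMod p)) + b * b) • (1 : Matrix α α (ZMod p)) +
      (a * a * ((lam : ZMod p) - mu) + 2 * (a * b)) • A +
      (a * a * (mu : ZMod p) + 36 * (a * c) + 2 * (b * c) + 55 * (c * c)) • J := by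
    simp only [hM, add_mul, mul_add, Matrix.smul_mul, Matrix.mul_smul, Matrix.mul_one, Matrix.one_mul,
      hAA, hAJ, hJA, hJJ]
    module
  rw [e1, e2, e3, zero_smul, zero_smul, zero_smul, add_zero, add_zero] at hMM
  have htr : M.trace = 0 :=
    isNilpotent_iff_eq_zero.1 (Matrix.isNilpotent_trace_of_isNilpotent ⟨2, by rw [pow_two, hMM]⟩)
  have htA : A.trace = 0 := by simp [hA, Matrix.trace, hirr]
  have htJ : J.trace = 55 := by simp [hJ, Matrix.trace, Finset.card_univ, hα]
  rw [hM, Matrix.trace_add, Matrix.trace_add, Matrix.trace_smul, Matrix.trace_smul,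
    Matrix.trace_smul, htA, htJ, Matrix.trace_one, hα] at htr
  simpa using htr

variable [Finite G]

theorem card_eq_ncard_orbit_mul (H : Subgroup G) (x : Sylow 3 G) :
    Nat.card H = (orbit H x).ncard *
      Nat.card (H ⊓ normalizer ((x : Subgroup G) : Set G) : Subgroup G) := by
  have h := (stabilizer H x).card_mul_index
  have hst : stabilizer H x = (H ⊓ normalizer ((x : Subgroup G) : Set G)).subgroupOf H := by
    ext c
    rw [mem_stabilizer_iff, Subgroup.mem_subgroupOf, Subgroup.mem_inf]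
    change (c : G) • x = x ↔ _
    rw [Sylow.smul_eq_iff_mem_normalizer]
    exact ⟨fun h => ⟨c.2, h⟩, fun h => h.2⟩
  rw [MulAction.index_stabilizer, hst,
    Nat.card_congr (Subgroup.subgroupOfEquivOfLe inf_le_left).toEquiv] at h
  rw [← h, mul_comm]

variable [IsSimpleGroup G] (hcard : Nat.card G = 7920)

include hcard

open scoped Classical in
theorem exists_index_eleven : ∃ H : Subgroup G, H.index = 11 := by
  classical
  have := Fact.mk Nat.prime_two
  have := Fact.mk Nat.prime_three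
  let _ : Fintype G := Fintype.ofFinite G
  let _ : Fintype (Sylow 3 G) := Fintype.ofFinite _
  obtain ⟨E⟩ : Nonempty (Sylow 3 G) := inferInstance
  obtain ⟨z, hz⟩ := exists_inv hcard E
  obtain ⟨F₁, F₂, hE1, hE2, h12, hz1, hz2, hall, hQ8, hQ, s, hsN, hs1, hs2⟩ := triangle hcard hz
  set N := normalizer ((E : Subgroup G) : Set G) with hN
  have hsE : s • E = E := Sylow.smul_eq_iff_mem_normalizer.2 hsN
  have hEN : ∀ e ∈ (E : Subgroup G), e ∈ N := fun e he => Subgroup.le_normalizer he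
  have heE : ∀ e ∈ (E : Subgroup G), e • E = E := fun e he =>
    Sylow.smul_eq_iff_mem_normalizer.2 (hEN e he)
  have hconjE : ∀ n ∈ N, ∀ e ∈ (E : Subgroup G), n * e * n⁻¹ ∈ (E : Subgroup G) := fun n hn e he =>
    (Subgroup.mem_normalizer_iff.1 hn e).1 he
  -- the two orbits
  let orb : Sylow 3 G → Finset (Sylow 3 G) := fun F =>
    Finset.univ.filter fun K => ∃ e ∈ (E : Subgroup G), e • F = K
  have horb : ∀ F K, K ∈ orb F ↔ ∃ e ∈ (E : Subgroup G), e • F = K := fun F K => by simp [orb]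
  have hinj : ∀ F, E ≠ F → ∀ a ∈ (E : Subgroup G), ∀ b ∈ (E : Subgroup G), a • F = b • F → a = b := by
    intro F hF a ha b hb h
    by_contra hne
    refine hF (eq_of_smul_sylow hcard (mul_mem (inv_mem hb) ha)
      (fun h' => hne (inv_mul_eq_one.1 h').symm) ?_)
    rw [mul_smul, h, inv_smul_smul]
  have hcard9 : ∀ F, E ≠ F → (orb F).card = 9 := by
    intro F hF
    have h : (orb F : Set (Sylow 3 G)) = Set.range fun e : (E : Subgroup G) => (e : G) • F := by
      ext K
      simp [orb, eq_comm]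
    rw [← Set.ncard_coe_finset, h, Set.ncard_range_of_injective fun a b h =>
      Subtype.ext (hinj F hF a a.2 b b.2 h), card_sylow_three hcard E]
  set O₁ := orb F₁ with hO₁
  set O₂ := orb F₂ with hO₂
  have hF1O : F₁ ∈ O₁ := (horb _ _).2 ⟨1, one_mem _, one_smul _ _⟩
  have hF2O : F₂ ∈ O₂ := (horb _ _).2 ⟨1, one_mem _, one_smul _ _⟩
  have hnot : ∀ e ∈ (E : Subgroup G), e • F₁ ≠ F₂ := by
    intro e he h
    have h1 := hz1.conj e
    have h0 := hz.conj e
    rw [h] at h1
    rw [heE e he] at h0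
    have hez := Inv.unique hcard hE2 h0 h1 hz hz2
    have he1 := hz.eq_one_of_comm hcard he (mul_inv_eq_iff_eq_mul.1 hez).symm
    rw [he1, one_smul] at h
    exact h12 h
  have hdisj : Disjoint O₁ O₂ := by
    rw [Finset.disjoint_left]
    intro K h1 h2
    obtain ⟨a, ha, rfl⟩ := (horb _ _).1 h1
    obtain ⟨b, hb, h⟩ := (horb _ _).1 h2
    exact hnot (b⁻¹ * a) (mul_mem (inv_mem hb) ha) (by rw [mul_smul, ← h, inv_smul_smul])
  have hadjE : ∀ K, Adj E K ↔ K ∈ O₁ ∨ K ∈ O₂ := by
    intro K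
    constructor
    · rintro ⟨hne, t, htE, htK⟩
      obtain ⟨e, he, rfl⟩ := hz.exists_conj hcard htE
      have h := htK.conj e⁻¹
      rw [show e⁻¹ * (e * z * e⁻¹) * e⁻¹⁻¹ = z by group] at h
      rcases hall _ h with h' | h' | h'
      · exact absurd (by rw [← smul_inv_smul e K, h', heE e he]) hne.symm
      · exact Or.inl ((horb _ _).2 ⟨e, he, by rw [← h', smul_inv_smul]⟩)
      · exact Or.inr ((horb _ _).2 ⟨e, he, by rw [← h', smul_inv_smul]⟩)
    · rintro (h | h) <;> obtain ⟨e, he, rfl⟩ := (horb _ _).1 h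
      · have := (show Adj E F₁ from ⟨hE1, z, hz, hz1⟩).smul e
        rwa [heE e he] at this
      · have := (show Adj E F₂ from ⟨hE2, z, hz, hz2⟩).smul e
        rwa [heE e he] at this
  have hswap : ∀ e : G, s • (e • F₁) = (s * e * s⁻¹) • F₂ := fun e => by
    rw [← hs1, ← mul_smul, ← mul_smul, inv_mul_cancel_right]
  have hswap' : ∀ e : G, s • (e • F₂) = (s * e * s⁻¹) • F₁ := fun e => by
    rw [← hs2, ← mul_smul, ← mul_smul, inv_mul_cancel_right]
  have hmap12 : ∀ K, K ∈ O₁ → s • K ∈ O₂ := fun K hK => by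
    obtain ⟨e, he, rfl⟩ := (horb _ _).1 hK
    exact (horb _ _).2 ⟨_, hconjE s hsN e he, (hswap e).symm⟩
  have hmap21 : ∀ K, K ∈ O₂ → s • K ∈ O₁ := fun K hK => by
    obtain ⟨e, he, rfl⟩ := (horb _ _).1 hK
    exact (horb _ _).2 ⟨_, hconjE s hsN e he, (hswap' e).symm⟩
  have htransN : ∀ K, Adj E K → ∃ n ∈ N, n • F₁ = K := by
    intro K hK
    rcases (hadjE K).1 hK with h | h <;> obtain ⟨e, he, rfl⟩ := (horb _ _).1 h
    · exact ⟨e, hEN e he, rfl⟩
    · exact ⟨e * s, mul_mem (hEN e he) hsN, by rw [mul_smul, hs1]⟩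
  -- the stabiliser of `F₁` is regular on the rest of each orbit
  set Q := N ⊓ normalizer ((F₁ : Subgroup G) : Set G) with hQdef
  have hQE : ∀ q ∈ Q, q • E = E ∧ q • F₁ = F₁ ∧ q • F₂ = F₂ := fun q hq =>
    ⟨Sylow.smul_eq_iff_mem_normalizer.2 hq.1, Sylow.smul_eq_iff_mem_normalizer.2 hq.2,
      (hQ q hq.1 (Sylow.smul_eq_iff_mem_normalizer.2 hq.2)).1⟩
  have hreg : ∀ a ∈ (E : Subgroup G), a ≠ 1 → ∀ b ∈ (E : Subgroup G), b ≠ 1 →
      ∃ q ∈ Q, q * a * q⁻¹ = b := by
    intro a ha ha1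
    let f : Q → {x : (E : Subgroup G) // x ≠ 1} := fun q =>
      ⟨⟨q * a * (q : G)⁻¹, hconjE q q.2.1 a ha⟩, fun h =>
        ha1 (conj_eq_one_iff.1 (congrArg Subtype.val h))⟩
    have hf : Function.Injective f := by
      intro q r h
      have h' : (q : G) * a * (q : G)⁻¹ = (r : G) * a * (r : G)⁻¹ :=
        congrArg (fun x : {x : (E : Subgroup G) // x ≠ 1} => ((x.1 : (E : Subgroup G)) : G)) h
      have hqr : (r : G)⁻¹ * q ∈ Q := mul_mem (inv_mem r.2) q.2
      have := (hQ _ hqr.1 (hQE _ hqr).2.1).2 a ha ha1 (by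
        calc (r : G)⁻¹ * q * a * ((r : G)⁻¹ * q)⁻¹ = (r : G)⁻¹ * ((q : G) * a * (q : G)⁻¹) * r := by group
          _ = a := by rw [h']; group)
      exact Subtype.ext (inv_mul_eq_one.1 this).symm
    have hb : Function.Bijective f := by
      refine (Nat.bijective_iff_injective_and_card f).2 ⟨hf, ?_⟩
      rw [hQ8, Nat.card_eq_fintype_card, Fintype.card_subtype_compl, Fintype.card_subtype_eq,
        ← Nat.card_eq_fintype_card, card_sylow_three hcard E]
    intro b hb' hb1
    obtain ⟨q, hq⟩ := hb.2 ⟨⟨b, hb'⟩, fun h => hb1 (congrArg Subtype.val h)⟩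
    exact ⟨q, q.2, congrArg (fun x : {x : (E : Subgroup G) // x ≠ 1} => ((x.1 : (E : Subgroup G)) : G)) hq⟩
  have hQsmul : ∀ q ∈ Q, ∀ e : G,
      q • (e • F₁) = (q * e * q⁻¹) • F₁ ∧ q • (e • F₂) = (q * e * q⁻¹) • F₂ := by
    intro q hq e
    constructor
    · nth_rw 2 [← (hQE q hq).2.1]
      rw [← mul_smul, ← mul_smul, inv_mul_cancel_right]
    · nth_rw 2 [← (hQE q hq).2.2]
      rw [← mul_smul, ← mul_smul, inv_mul_cancel_right]
  have hconst : ∀ a ∈ (E : Subgroup G), a ≠ 1 → ∀ b ∈ (E : Subgroup G), b ≠ 1 →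
      (Adj F₁ (a • F₁) → Adj F₁ (b • F₁)) ∧ (Adj F₁ (a • F₂) → Adj F₁ (b • F₂)) := by
    intro a ha ha1 b hb hb1
    obtain ⟨q, hq, hqab⟩ := hreg a ha ha1 b hb hb1
    constructor <;> intro h <;> have h' := h.smul q <;> rw [(hQE q hq).2.1] at h'
    · rwa [(hQsmul q hq a).1, hqab] at h'
    · rwa [(hQsmul q hq a).2, hqab] at h'
  -- adjacency counts
  let cn : Sylow 3 G → Sylow 3 G → ℕ := fun A B =>
    (Finset.univ.filter fun K => Adj A K ∧ Adj K B).card
  have hcn : ∀ (g : G) A B, cn (g • A) (g • B) = cn A B := by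
    intro g A B
    refine (Finset.card_equiv (MulAction.toPerm g) fun K => ?_).symm
    simp [adj_smul_iff]
  have hnbr : (Finset.univ.filter fun K => Adj E K).card = 18 := by
    rw [show (Finset.univ.filter fun K => Adj E K) = O₁ ∪ O₂ by ext K; simp [hadjE],
      Finset.card_union_of_disjoint hdisj, hcard9 F₁ hE1, hcard9 F₂ hE2]
  have hself : ∀ A, cn A A = 18 := by
    intro A
    obtain ⟨g, rfl⟩ := MulAction.exists_smul_eq G E A
    rw [hcn, ← hnbr]
    refine congrArg Finset.card (Finset.filter_congr fun K _ => ?_)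
    exact ⟨fun h => h.1, fun h => ⟨h, h.symm⟩⟩
  have hlam : ∀ A B, Adj A B → cn A B = cn E F₁ := by
    intro A B hAB
    obtain ⟨g, rfl⟩ := MulAction.exists_smul_eq G E A
    have h' := hAB.smul g⁻¹
    rw [inv_smul_smul] at h'
    obtain ⟨n, hn, hnF⟩ := htransN _ h'
    rw [show B = g • (g⁻¹ • B) from (smul_inv_smul g B).symm, hcn, ← hnF]
    nth_rw 1 [← Sylow.smul_eq_iff_mem_normalizer.2 hn]
    rw [hcn]
  set NA := Finset.univ.filter fun K => ¬ Adj E K ∧ K ≠ E with hNA
  have hNAcard : NA.card = 36 := by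
    have h1 := Finset.card_filter_add_card_filter_not (s := (Finset.univ : Finset (Sylow 3 G)))
      (fun K => Adj E K)
    rw [hnbr, Finset.card_univ, ← Nat.card_eq_fintype_card, card_sylow_set hcard] at h1
    have h2 : NA = (Finset.univ.filter fun K => ¬ Adj E K).erase E := by
      ext K; simp [hNA, and_comm]
    rw [h2, Finset.card_erase_of_mem (by simp [Adj])]
    omega
  have hNsmall : ∀ F ∈ NA, Nat.card (N ⊓ normalizer ((F : Subgroup G) : Set G) : Subgroup G) ≤ 4 := by
    intro F hF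
    obtain ⟨hnadj, hFE⟩ : ¬ Adj E F ∧ F ≠ E := by simpa [hNA] using hF
    set S := N ⊓ normalizer ((F : Subgroup G) : Set G) with hS
    have hd : Nat.card S ∣ 16 * 9 := by
      have := Subgroup.card_dvd_of_le (inf_le_left : S ≤ N)
      rwa [card_normalizer_three hcard E] at this
    have h3 : ¬ 3 ∣ Nat.card S := by
      intro h3
      obtain ⟨y, hy⟩ := exists_prime_orderOf_dvd_card' (G := S) 3 h3
      have hyo : orderOf (y : G) = 3 := by rw [Subgroup.orderOf_coe, hy]
      have hpg : IsPGroup 3 (zpowers (y : G)) :=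
        IsPGroup.of_card (n := 1) (by rw [Nat.card_zpowers, hyo, pow_one])
      have hyE : (y : G) ∈ (E : Subgroup G) :=
        ((hpg.inf_normalizer_sylow E).le ⟨mem_zpowers _, y.2.1⟩).2
      exact hFE (eq_of_smul_sylow hcard hyE (fun h => by rw [h, orderOf_one] at hyo; omega)
        (Sylow.smul_eq_iff_mem_normalizer.2 y.2.2)).symm
    have h16 : Nat.card S ∣ 2 ^ 4 :=
      (((Nat.prime_three.coprime_iff_not_dvd.2 h3).symm).pow_right 2).dvd_of_dvd_mul_right hd
    obtain ⟨k, -, hk⟩ := (Nat.dvd_prime_pow Nat.prime_two).1 h16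
    by_contra hgt
    have hk3 : 3 ≤ k := by
      by_contra hlt
      have : 2 ^ k ≤ 2 ^ 2 := Nat.pow_le_pow_right (by norm_num) (by omega)
      omega
    obtain ⟨x, hx, hxo⟩ := exists_order_four hcard E S inf_le_left hk hk3
    exact hnadj ⟨hFE.symm, x * x, inv_of_order_four hcard E hx.1 hxo,
      inv_of_order_four hcard F hx.2 hxo⟩
  obtain ⟨F₀, hF₀⟩ : NA.Nonempty := Finset.card_pos.1 (by omega)
  have hNtrans : ∀ K ∈ NA, ∃ n ∈ N, n • F₀ = K := by
    have hsub : orbit N F₀ ⊆ (NA : Set (Sylow 3 G)) := by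
      rintro _ ⟨n, rfl⟩
      simp only [hNA, Finset.coe_filter, Finset.mem_univ, true_and, Finset.mem_filter] at hF₀ ⊢
      have hnE : (n : G) • E = E := Sylow.smul_eq_iff_mem_normalizer.2 n.2
      refine ⟨fun h => hF₀.1 ?_, fun h => hF₀.2 ?_⟩
      · change Adj E ((n : G) • F₀) at h
        nth_rw 1 [← hnE] at h
        exact (adj_smul_iff _).1 h
      · exact smul_left_cancel (n : G) (h.trans hnE.symm)
    have hle : 36 ≤ (orbit N F₀).ncard := by
      have h := card_eq_ncard_orbit_mul N F₀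
      rw [card_normalizer_three hcard E] at h
      have := hNsmall F₀ hF₀
      nlinarith
    have heq := Set.eq_of_subset_of_ncard_le hsub (by rw [Set.ncard_coe_finset, hNAcard]; exact hle)
    intro K hK
    obtain ⟨n, hn⟩ : K ∈ orbit N F₀ := heq ▸ hK
    exact ⟨n, n.2, hn⟩
  have hmu : ∀ A B, ¬ Adj A B → A ≠ B → cn A B = cn E F₀ := by
    intro A B hAB hne
    obtain ⟨g, rfl⟩ := MulAction.exists_smul_eq G E A
    have h' : g⁻¹ • B ∈ NA := by
      simp only [hNA, Finset.mem_filter, Finset.mem_univ, true_and]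
      refine ⟨fun h => hAB ?_, fun h => hne ?_⟩
      · simpa using h.smul g
      · rw [← h, smul_inv_smul]
    obtain ⟨n, hn, hnF⟩ := hNtrans _ h'
    rw [show B = g • (g⁻¹ • B) from (smul_inv_smul g B).symm, hcn, ← hnF]
    nth_rw 1 [← Sylow.smul_eq_iff_mem_normalizer.2 hn]
    rw [hcn]
  set lam := cn E F₁ with hlamdef
  set mu := cn E F₀ with hmudef
  have hrel : lam + 2 * mu = 17 := by
    have h1 : ∑ K, cn E K = 18 * 18 := by
      have h := Finset.sum_card_bipartiteAbove_eq_sum_card_bipartiteBelow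
        (fun (L K : Sylow 3 G) => Adj L K) (s := Finset.univ.filter fun L => Adj E L)
        (t := Finset.univ)
      rw [Finset.sum_congr rfl (g := fun _ => 18) (fun L hL => ?_), Finset.sum_const, hnbr] at h
      · rw [smul_eq_mul] at h
        rw [h]
        refine Finset.sum_congr rfl fun K _ => ?_
        simp only [cn, Finset.bipartiteBelow, Finset.filter_filter]
      · obtain ⟨g, rfl⟩ := MulAction.exists_smul_eq G E L
        rw [← hnbr, Finset.bipartiteAbove]
        exact (Finset.card_equiv (MulAction.toPerm g) fun K => by simp [adj_smul_iff]).symm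
    rw [← Finset.add_sum_erase _ _ (Finset.mem_univ E), hself,
      ← Finset.sum_filter_add_sum_filter_not (Finset.univ.erase E) (fun K => Adj E K),
      Finset.sum_congr rfl (g := fun _ => lam) (fun K hK => hlam E K (Finset.mem_filter.1 hK).2),
      Finset.sum_congr rfl (g := fun _ => mu) (fun K hK => hmu E K (Finset.mem_filter.1 hK).2
        (fun e => (Finset.mem_erase.1 (Finset.mem_filter.1 hK).1).1 e.symm)),
      Finset.sum_const, Finset.sum_const] at h1
    rw [show (Finset.univ.erase E).filter (fun K => Adj E K) = Finset.univ.filter fun K => Adj E K by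
        ext K; simp only [Finset.mem_filter, Finset.mem_erase, Finset.mem_univ, and_true, true_and]
        exact ⟨fun h => h.2, fun h => ⟨h.1.symm, h⟩⟩,
      show (Finset.univ.erase E).filter (fun K => ¬ Adj E K) = NA by
        ext K; simp [hNA, and_comm],
      hnbr, hNAcard, smul_eq_mul, smul_eq_mul] at h1
    omega
  -- the parameter
  have hsplit : lam = (O₁.filter fun K => Adj F₁ K).card + (O₂.filter fun K => Adj F₁ K).card := by
    rw [hlamdef, ← Finset.card_union_of_disjoint (hdisj.mono (Finset.filter_subset _ _) (Finset.filter_subset _ _))]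
    refine congrArg Finset.card (Finset.ext fun K => ?_)
    simp only [Finset.mem_filter, Finset.mem_univ, true_and, Finset.mem_union, hadjE]
    exact ⟨fun h => h.1.imp (⟨·, h.2.symm⟩) (⟨·, h.2.symm⟩),
      fun h => h.elim (fun h => ⟨Or.inl h.1, h.2.symm⟩) fun h => ⟨Or.inr h.1, h.2.symm⟩⟩
  have : Nontrivial (E : Subgroup G) :=
    Finite.one_lt_card_iff_nontrivial.1 (by rw [card_sylow_three hcard E]; norm_num)
  obtain ⟨⟨e₀, he₀⟩, he₀'⟩ := exists_ne (1 : (E : Subgroup G))
  have he₀1 : e₀ ≠ 1 := fun h => he₀' (Subtype.ext h)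
  have hF12 : Adj F₁ F₂ := ⟨h12, z, hz1, hz2⟩
  have hO1mem : ∀ K ∈ O₁, K ≠ F₁ → ∃ b ∈ (E : Subgroup G), b ≠ 1 ∧ b • F₁ = K := by
    intro K hK hne
    obtain ⟨b, hb, rfl⟩ := (horb _ _).1 hK
    exact ⟨b, hb, fun h => hne (by rw [h, one_smul]), rfl⟩
  have hO2mem : ∀ K ∈ O₂, K ≠ F₂ → ∃ b ∈ (E : Subgroup G), b ≠ 1 ∧ b • F₂ = K := by
    intro K hK hne
    obtain ⟨b, hb, rfl⟩ := (horb _ _).1 hK
    exact ⟨b, hb, fun h => hne (by rw [h, one_smul]), rfl⟩
  have ha1 : (Adj F₁ (e₀ • F₁) → (O₁.filter fun K => Adj F₁ K).card = 8) ∧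
      (¬ Adj F₁ (e₀ • F₁) → (O₁.filter fun K => Adj F₁ K).card = 0) := by
    refine ⟨fun h => ?_, fun h => ?_⟩
    · rw [show (O₁.filter fun K => Adj F₁ K) = O₁.erase F₁ from ?_,
        Finset.card_erase_of_mem hF1O, hcard9 F₁ hE1]
      ext K
      rw [Finset.mem_filter, Finset.mem_erase]
      refine ⟨fun hK => ⟨hK.2.1.symm, hK.1⟩, fun hK => ⟨hK.2, ?_⟩⟩
      obtain ⟨b, hb, hb1, rfl⟩ := hO1mem K hK.2 hK.1
      exact (hconst e₀ he₀ he₀1 b hb hb1).1 h
    · rw [Finset.card_eq_zero, Finset.filter_eq_empty_iff]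
      intro K hK hadj
      obtain ⟨b, hb, hb1, rfl⟩ := hO1mem K hK hadj.1.symm
      exact h ((hconst b hb hb1 e₀ he₀ he₀1).1 hadj)
  have ha2 : (Adj F₁ (e₀ • F₂) → (O₂.filter fun K => Adj F₁ K) = O₂) ∧
      (¬ Adj F₁ (e₀ • F₂) → (O₂.filter fun K => Adj F₁ K) = {F₂}) := by
    refine ⟨fun h => ?_, fun h => ?_⟩
    · refine Finset.filter_true_of_mem fun K hK => ?_
      by_cases hKF : K = F₂
      · exact hKF ▸ hF12
      · obtain ⟨b, hb, hb1, rfl⟩ := hO2mem K hK hKF
        exact (hconst e₀ he₀ he₀1 b hb hb1).2 h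
    · ext K
      rw [Finset.mem_filter, Finset.mem_singleton]
      refine ⟨fun hK => ?_, fun hK => hK ▸ ⟨hF2O, hF12⟩⟩
      by_contra hKF
      obtain ⟨b, hb, hb1, rfl⟩ := hO2mem K hK.1 hKF
      exact h ((hconst b hb hb1 e₀ he₀ he₀1).2 hK.2)
  -- the adjacency matrix forces the parameter
  have hnine : lam = 9 := by
    have hl : lam = 1 ∨ lam = 9 ∨ lam = 17 := by
      rw [hsplit]
      by_cases h1 : Adj F₁ (e₀ • F₁) <;> by_cases h2 : Adj F₁ (e₀ • F₂)
      · rw [ha1.1 h1, ha2.1 h2, hcard9 F₂ hE2]; omega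
      · rw [ha1.1 h1, ha2.2 h2, Finset.card_singleton]; omega
      · rw [ha1.2 h1, ha2.1 h2, hcard9 F₂ hE2]; omega
      · rw [ha1.2 h1, ha2.2 h2, Finset.card_singleton]; omega
    have hrow : ∀ L, (Finset.univ.filter fun K => Adj L K).card = 18 := fun L => by
      rw [← hself L]
      refine congrArg Finset.card (Finset.filter_congr fun K _ => ?_)
      exact ⟨fun h => ⟨h, h.symm⟩, fun h => h.1⟩
    have key := fun (p : ℕ) [Fact p.Prime] => srg_trace (p := p) (R := Adj (G := G)) (fun _ _ => Adj.symm) (fun A h => h.1 rfl)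
      (by rw [← Nat.card_eq_fintype_card, card_sylow_set hcard]) hrow hlam hmu
    rcases hl with h | h | h
    · exfalso
      have hm : mu = 8 := by omega
      have h0 := key 89 110 385 (-43) (by rw [hm]; decide +kernel)
        (by rw [h, hm]; decide +kernel) (by rw [hm]; decide +kernel)
      revert h0
      decide +kernel
    · exact h
    · exfalso
      have hm : mu = 0 := by omega
      have h0 := key 19 1 1 0 (by rw [hm]; decide +kernel)
        (by rw [h, hm]; decide +kernel) (by rw [hm]; decide +kernel)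
      revert h0
      decide +kernel
  have hmu4 : mu = 4 := by omega
  -- each orbit is a clique, and `F₁` has one neighbour in the other
  have hcl1 : Adj F₁ (e₀ • F₁) := by
    by_contra h1
    have h2 : Adj F₁ (e₀ • F₂) := by
      by_contra h2
      rw [hsplit, ha1.2 h1, ha2.2 h2, Finset.card_singleton] at hnine
      omega
    have hne : F₁ ≠ e₀ • F₁ := fun h =>
      he₀1 (hinj F₁ hE1 e₀ he₀ 1 (one_mem _) (by rw [one_smul, ← h]))
    have hsub : insert E O₂ ⊆ Finset.univ.filter fun K => Adj F₁ K ∧ Adj K (e₀ • F₁) := by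
      intro K hK
      simp only [Finset.mem_filter, Finset.mem_univ, true_and]
      rcases Finset.mem_insert.1 hK with rfl | hK
      · exact ⟨((hadjE _).2 (Or.inl hF1O)).symm, (hadjE _).2 (Or.inl ((horb _ _).2 ⟨e₀, he₀, rfl⟩))⟩
      · have hall2 : ∀ L ∈ O₂, Adj F₁ L := fun L hL =>
          (Finset.mem_filter.1 (show L ∈ O₂.filter fun K => Adj F₁ K from (ha2.1 h2).symm ▸ hL)).2
        refine ⟨hall2 K hK, ?_⟩
        obtain ⟨b, hb, rfl⟩ := (horb _ _).1 hK
        have := (hall2 ((e₀⁻¹ * b) • F₂) ((horb _ _).2 ⟨_, mul_mem (inv_mem he₀) hb, rfl⟩)).smul e₀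
        rw [← mul_smul, mul_inv_cancel_left] at this
        exact this.symm
    have hle : (insert E O₂).card ≤ cn F₁ (e₀ • F₁) := Finset.card_le_card hsub
    rw [Finset.card_insert_of_notMem (fun h => ((hadjE E).2 (Or.inr h)).1 rfl), hcard9 F₂ hE2,
      hmu _ _ h1 hne] at hle
    omega
  have hone : ¬ Adj F₁ (e₀ • F₂) := fun h2 => by
    rw [hsplit, ha1.1 hcl1, ha2.1 h2, hcard9 F₂ hE2] at hnine
    omega
  have hclique1 : ∀ A ∈ O₁, ∀ B ∈ O₁, A ≠ B → Adj A B := by
    intro A hA B hB hne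
    obtain ⟨a, ha, rfl⟩ := (horb _ _).1 hA
    obtain ⟨b, hb, rfl⟩ := (horb _ _).1 hB
    have h1 : a⁻¹ * b ≠ 1 := fun h => hne (by rw [inv_mul_eq_one.1 h])
    have := ((hconst e₀ he₀ he₀1 (a⁻¹ * b) (mul_mem (inv_mem ha) hb) h1).1 hcl1).smul a
    rwa [← mul_smul, mul_inv_cancel_left] at this
  have hclique2 : ∀ A ∈ O₂, ∀ B ∈ O₂, A ≠ B → Adj A B := fun A hA B hB hne =>
    (adj_smul_iff s).1 (hclique1 _ (hmap21 A hA) _ (hmap21 B hB) fun h => hne (smul_left_cancel s h))
  have hone' : ∀ A ∈ O₁, Adj F₂ A → A = F₁ := by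
    intro A hA hadj
    by_contra hne
    obtain ⟨b, hb, hb1, rfl⟩ := hO1mem A hA hne
    have h := (hadj.smul b⁻¹).symm
    rw [inv_smul_smul] at h
    exact hone ((hconst b⁻¹ (inv_mem hb) (by simpa using hb1) e₀ he₀ he₀1).2 h)
  -- the stabiliser of a clique
  set K := insert E O₁ with hK
  have hE_O1 : E ∉ O₁ := fun h => ((hadjE E).2 (Or.inl h)).1 rfl
  have hE_O2 : E ∉ O₂ := fun h => ((hadjE E).2 (Or.inr h)).1 rfl
  let H : Subgroup G :=
    { carrier := {g | ∀ F, F ∈ K ↔ g • F ∈ K}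
      one_mem' := fun F => by simp
      mul_mem' := fun {a b} ha hb F => by rw [mul_smul, ← ha, ← hb]
      inv_mem' := fun {a} ha F => by rw [ha (a⁻¹ • F), smul_inv_smul] }
  have hH : ∀ g, g ∈ H ↔ ∀ F, F ∈ K ↔ g • F ∈ K := fun g => Iff.rfl
  have hmemH : ∀ g, K.image (g • ·) ⊆ K → g ∈ H := by
    intro g hg F
    have hEq := Finset.eq_of_subset_of_card_le hg
      (by rw [Finset.card_image_of_injective _ (MulAction.injective g)])
    refine ⟨fun h => hg (Finset.mem_image_of_mem _ h), fun h => ?_⟩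
    obtain ⟨F', hF', he⟩ := Finset.mem_image.1 (hEq.symm ▸ h)
    exact smul_left_cancel g he ▸ hF'
  have hNH : ∀ n ∈ N, (∀ A ∈ O₁, n • A ∈ O₁) → n ∈ H := by
    intro n hn h
    refine hmemH n fun A hA => ?_
    obtain ⟨B, hB, rfl⟩ := Finset.mem_image.1 hA
    rcases Finset.mem_insert.1 hB with rfl | hB
    · show n • B ∈ K
      rw [Sylow.smul_eq_iff_mem_normalizer.2 hn]
      exact Finset.mem_insert_self _ _
    · exact Finset.mem_insert_of_mem (h B hB)
  have hEH : ∀ e ∈ (E : Subgroup G), e ∈ H := fun e he => hNH e (hEN e he) fun A hA => by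
    obtain ⟨b, hb, rfl⟩ := (horb _ _).1 hA
    exact (horb _ _).2 ⟨e * b, mul_mem he hb, mul_smul _ _ _⟩
  have hQH : Q ≤ H := fun q hq => hNH q hq.1 fun A hA => by
    obtain ⟨b, hb, rfl⟩ := (horb _ _).1 hA
    exact (horb _ _).2 ⟨_, hconjE q hq.1 b hb, ((hQsmul q hq b).1).symm⟩
  obtain ⟨g, hgE, hgmem⟩ : ∃ g : G, g • E = F₁ ∧ ∃ A ∈ O₁, g • A = E := by
    obtain ⟨g, hg⟩ := MulAction.exists_smul_eq G E F₁
    have hadj : Adj E (g⁻¹ • E) := by
      have := ((hadjE F₁).2 (Or.inl hF1O)).smul g⁻¹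
      rw [← hg, inv_smul_smul] at this
      exact this.symm
    rcases (hadjE _).1 hadj with h | h
    · exact ⟨g, hg, _, h, smul_inv_smul g E⟩
    · refine ⟨g * s, by rw [mul_smul, hsE, hg], s⁻¹ • (g⁻¹ • E), ?_, by
        rw [mul_smul, smul_inv_smul, smul_inv_smul]⟩
      obtain ⟨b, hb, hbe⟩ := (horb _ _).1 h
      refine (horb _ _).2 ⟨s⁻¹ * b * s, ?_, ?_⟩
      · have := hconjE s⁻¹ (inv_mem hsN) b hb
        rwa [inv_inv] at this
      · rw [← hbe, mul_smul, hs1, mul_smul]
  obtain ⟨A₀, hA₀, hgA⟩ := hgmem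
  have hgO : ∀ A ∈ O₁, g • A ∈ K := by
    -- the images of the orbit, other than `E`
    have hcommon : ∀ A ∈ O₁, A ≠ A₀ → g • A ∈ O₁ ∨ g • A = F₂ := by
      intro A hA hne
      have h1 := (hclique1 A₀ hA₀ A hA hne.symm).smul g
      rw [hgA] at h1
      have h2 := ((hadjE A).2 (Or.inl hA)).smul g
      rw [hgE] at h2
      rcases (hadjE _).1 h1 with h | h
      · exact Or.inl h
      · refine Or.inr (Finset.mem_singleton.1 ?_)
        rw [← ha2.2 hone]
        exact Finset.mem_filter.2 ⟨h, h2⟩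
    intro A hA
    by_cases hA0 : A = A₀
    · rw [hA0, hgA]; exact Finset.mem_insert_self _ _
    · rcases hcommon A hA hA0 with h | h
      · exact Finset.mem_insert_of_mem h
      · exfalso
        obtain ⟨B, hB⟩ : ((O₁.erase A₀).erase A).Nonempty := by
          rw [← Finset.card_pos, Finset.card_erase_of_mem (Finset.mem_erase.2 ⟨hA0, hA⟩),
            Finset.card_erase_of_mem hA₀, hcard9 F₁ hE1]
          norm_num
        obtain ⟨hBA, hB'⟩ := Finset.mem_erase.1 hB
        obtain ⟨hB0, hBO⟩ := Finset.mem_erase.1 hB'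
        have hadj := (hclique1 A hA B hBO hBA.symm).smul g
        rw [h] at hadj
        rcases hcommon B hBO hB0 with hgB | hgB
        · have hF := hone' _ hgB hadj
          rw [← hgE] at hF
          exact hE_O1 (smul_left_cancel g hF ▸ hBO)
        · exact hadj.1 hgB.symm
  have hgH : g ∈ H := by
    refine hmemH g fun A hA => ?_
    obtain ⟨B, hB, rfl⟩ := Finset.mem_image.1 hA
    rcases Finset.mem_insert.1 hB with rfl | hB
    · show g • B ∈ K
      rw [hgE]
      exact Finset.mem_insert_of_mem hF1O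
    · exact hgO B hB
  have horbH : orbit H E = (K : Set (Sylow 3 G)) := by
    ext F
    refine ⟨?_, fun hF => ?_⟩
    · rintro ⟨h, rfl⟩
      exact ((hH h).1 h.2 E).1 (Finset.mem_insert_self _ _)
    · rcases Finset.mem_insert.1 hF with rfl | hF
      · exact mem_orbit_self _
      · obtain ⟨e, he, rfl⟩ := (horb _ _).1 hF
        exact ⟨⟨e * g, mul_mem (hEH e he) hgH⟩, by
          show (e * g) • E = e • F₁
          rw [mul_smul, hgE]⟩
  have hHN : Nat.card (H ⊓ N : Subgroup G) = 72 := by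
    have h := card_eq_ncard_orbit_mul (H ⊓ N) F₁
    have ho : orbit (H ⊓ N : Subgroup G) F₁ = (O₁ : Set (Sylow 3 G)) := by
      ext F
      refine ⟨?_, fun hF => ?_⟩
      · rintro ⟨c, rfl⟩
        have h1 := ((hH c).1 c.2.1 F₁).1 (Finset.mem_insert_of_mem hF1O)
        rcases Finset.mem_insert.1 h1 with h | h
        · exact absurd (smul_left_cancel (c : G)
            (h.trans (Sylow.smul_eq_iff_mem_normalizer.2 c.2.2).symm)) hE1.symm
        · exact h
      · obtain ⟨e, he, rfl⟩ := (horb _ _).1 hF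
        exact ⟨⟨e, hEH e he, hEN e he⟩, rfl⟩
    have hst : H ⊓ N ⊓ normalizer ((F₁ : Subgroup G) : Set G) = Q := by
      rw [inf_assoc, inf_eq_right.2 hQH]
    rw [ho, Set.ncard_coe_finset, hcard9 F₁ hE1, hst, hQ8] at h
    exact h
  have hH720 : Nat.card H = 720 := by
    rw [card_eq_ncard_orbit_mul H E, horbH, Set.ncard_coe_finset, hK,
      Finset.card_insert_of_notMem hE_O1, hcard9 F₁ hE1, ← hN, hHN]
  refine ⟨H, ?_⟩
  have h := H.card_mul_index
  rw [hH720, hcard] at h
  omega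

end CfsgLib.Sporadic.M11
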