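import Cfsg.Agent.Lib.Sporadic.M11Shape
import Cfsg.Agent.Lib.Sporadic.Simple
import Cfsg.Agent.Lib.Small.Intersection
import Mathlib.Algebra.Order.BigOperators.Ring.Finset
import Mathlib.GroupTheory.SpecificGroups.Cyclic

/-!
Local structure of a simple group of order 7920: involution centralisers have order 48 and
Sylow 3-normalisers order 144.
-/

set_option autoImplicit false

noncomputable section

namespace CfsgLib.Sporadic.M11

open Cfsg CfsgLib.Characters Subgroup
open scoped ComplexConjugate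

universe u

variable {G : Type u} [Group G]

section

variable [Fintype G] {e₁ e₂ w : IrrCharacter G} {U : Finset (IrrCharacter G)}

/-- A sum over all characters split along the block. -/
theorem Shape.sum_split (hs : Shape e₁ e₂ w U) {M : Type*} [AddCommMonoid M]
    [DecidableEq (IrrCharacter G)] (f : IrrCharacter G → M) :
    ∑ ψ, f ψ = f (principalIrr G) + (f e₁ + (f w + (∑ ψ ∈ U, f ψ +
      ∑ ψ ∈ (insert (principalIrr G) (insert e₁ (insert w U)))ᶜ, f ψ))) := by
  rw [← Finset.sum_add_sum_compl (insert (principalIrr G) (insert e₁ (insert w U))),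
    Finset.sum_insert (by
      simp only [Finset.mem_insert, not_or]
      exact ⟨ne_of_deg principal_deg hs.deg1 (by norm_num),
        ne_of_deg principal_deg hs.degw (by norm_num),
        fun h => ne_of_deg principal_deg (hs.degU _ h) (by norm_num) rfl⟩),
    Finset.sum_insert (by
      simp only [Finset.mem_insert, not_or]
      exact ⟨ne_of_deg hs.deg1 hs.degw (by norm_num),
        fun h => ne_of_deg hs.deg1 (hs.degU _ h) (by norm_num) rfl⟩),
    Finset.sum_insert (fun h => ne_of_deg hs.degw (hs.degU _ h) (by norm_num) rfl)]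
  simp only [add_assoc]

/-- A sum over all characters split along the block and its second exceptional character. -/
theorem Shape.sum_split' (hs : Shape e₁ e₂ w U) {M : Type*} [AddCommMonoid M]
    [DecidableEq (IrrCharacter G)] (f : IrrCharacter G → M) :
    ∑ ψ, f ψ = f (principalIrr G) + (f e₁ + (f w + (∑ ψ ∈ U, f ψ + (f e₂ +
      ∑ ψ ∈ (insert (principalIrr G) (insert e₁ (insert w U)))ᶜ.erase e₂, f ψ)))) := by
  rw [hs.sum_split f, Finset.add_sum_erase _ f]
  simp only [Finset.mem_compl, Finset.mem_insert, not_or]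
  exact ⟨ne_of_deg hs.deg2 principal_deg (by norm_num), hs.ne12.symm,
    ne_of_deg hs.deg2 hs.degw (by norm_num),
    fun h => ne_of_deg hs.deg2 (hs.degU _ h) (by norm_num) rfl⟩

end

variable [IsSimpleGroup G] (hcard : Nat.card G = 7920)

include hcard

/-- Involution centralisers have order 48. -/
theorem card_centralizer_involution [Finite G] {t : G} (ht : orderOf t = 2) :
    Nat.card (centralizer ({t} : Set G)) = 48 := by
  classical
  let _ : Fintype G := Fintype.ofFinite G
  obtain ⟨e₁, e₂, w, U, hs⟩ := exists_shape hcard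
  obtain ⟨hu, hw, hU1, hU2, -, hdiv⟩ := involution_values hcard hs ht
  have ht2 : t ^ 2 = 1 := by rw [← ht]; exact pow_orderOf_eq_one t
  have ht1 : t ≠ 1 := fun h => by rw [h, orderOf_one] at ht; omega
  choose D hD _hD0 _hDdvd using irr_degree_dvd_card (G := G)
  choose z hz _hz2 using fun ψ : IrrCharacter G =>
    CharTools.exists_int_of_sq_eq_one (irr_isCharacter ψ) (hD ψ) ht2
  -- the three sums
  have hsumD : ∑ ψ, (D ψ : ℤ) ^ 2 = 7920 := by
    have h := sum_sq_degrees (G := G)
    rw [hcard] at h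
    have h' : ((∑ ψ, (D ψ : ℤ) ^ 2 : ℤ) : ℂ) = ((7920 : ℤ) : ℂ) := by
      push_cast at h ⊢
      rw [← h]
      exact Finset.sum_congr rfl fun ψ _ => by rw [hD]
    exact_mod_cast h'
  have hsumz : ∑ ψ, (D ψ : ℤ) * z ψ = 0 := by
    have h := sum_degree_mul_irr (G := G) t
    rw [if_neg ht1] at h
    have h' : ((∑ ψ, (D ψ : ℤ) * z ψ : ℤ) : ℂ) = ((0 : ℤ) : ℂ) := by
      push_cast
      rw [← h]
      exact Finset.sum_congr rfl fun ψ _ => by rw [hD, hz]
    exact_mod_cast h'
  have hsumsq : ∑ ψ, z ψ ^ 2 = (Nat.card (centralizer ({t} : Set G)) : ℤ) := by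
    have h := CharTools.sum_normSq t
    have h' : ((∑ ψ, z ψ ^ 2 : ℤ) : ℝ) =
        (((Nat.card (centralizer ({t} : Set G)) : ℤ)) : ℝ) := by
      push_cast
      rw [← h]
      exact Finset.sum_congr rfl fun ψ _ => by rw [hz, Complex.normSq_intCast]; ring
    exact_mod_cast h'
  -- the values on the block
  have hD1 : (D (principalIrr G) : ℤ) = 1 ∧ (D e₁ : ℤ) = 16 ∧ (D w : ℤ) = 45 ∧
      ∀ ψ ∈ U, (D ψ : ℤ) = 10 := by
    have key : ∀ (ψ : IrrCharacter G) (n : ℕ), (ψ : G → ℂ) 1 = n → (D ψ : ℤ) = n :=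
      fun ψ n h => by rw [Nat.cast_inj.1 ((hD ψ).symm.trans h)]
    exact ⟨key _ 1 principal_deg, key _ 16 hs.deg1, key _ 45 hs.degw,
      fun ψ hψ => key _ 10 (hs.degU ψ hψ)⟩
  have hzp : z (principalIrr G) = 1 := by
    have h := hz (principalIrr G)
    rw [show ((principalIrr G : IrrCharacter G) : G → ℂ) t = 1 from rfl] at h
    exact_mod_cast h.symm
  have hze : z e₁ = 0 := by
    have h := (hz e₁).symm.trans hu
    exact_mod_cast h
  have hzw : z w = -3 := by
    have h := (hz w).symm.trans hw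
    exact_mod_cast h
  have hzU : ∑ ψ ∈ U, z ψ = -2 := by
    have h : ((∑ ψ ∈ U, z ψ : ℤ) : ℂ) = ((-2 : ℤ) : ℂ) := by
      push_cast
      rw [← hU1]
      exact Finset.sum_congr rfl fun ψ _ => (hz ψ).symm
    exact_mod_cast h
  have hzU2 : ∑ ψ ∈ U, z ψ ^ 2 = 12 := by
    have h : ((∑ ψ ∈ U, z ψ ^ 2 : ℤ) : ℂ) = ((12 : ℤ) : ℂ) := by
      push_cast
      rw [← hU2]
      exact Finset.sum_congr rfl fun ψ _ => by rw [hz ψ]
    exact_mod_cast h
  rw [hs.sum_split] at hsumD hsumz hsumsq
  rw [hD1.1, hD1.2.1, hD1.2.2.1, Finset.sum_congr rfl (g := fun _ => (100 : ℤ))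
    (fun ψ hψ => by rw [hD1.2.2.2 ψ hψ]; norm_num), Finset.sum_const, hs.cardU] at hsumD
  rw [hD1.1, hD1.2.1, hD1.2.2.1, hzp, hze, hzw, Finset.sum_congr rfl (g := fun ψ => 10 * z ψ)
    (fun ψ hψ => by rw [hD1.2.2.2 ψ hψ]), ← Finset.mul_sum, hzU] at hsumz
  rw [hzp, hze, hzw, hzU2] at hsumsq
  have hcs := Finset.sum_mul_sq_le_sq_mul_sq
    (insert (principalIrr G) (insert e₁ (insert w U)))ᶜ (fun ψ => (D ψ : ℤ)) z
  set X := ∑ ψ ∈ (insert (principalIrr G) (insert e₁ (insert w U)))ᶜ, (D ψ : ℤ) ^ 2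
  set Y := ∑ ψ ∈ (insert (principalIrr G) (insert e₁ (insert w U)))ᶜ, (D ψ : ℤ) * z ψ
  set Z := ∑ ψ ∈ (insert (principalIrr G) (insert e₁ (insert w U)))ᶜ, z ψ ^ 2
  simp only [nsmul_eq_mul] at hsumD hsumz hsumsq
  push_cast at hsumD
  have hX : X = 5338 := by linarith
  have hY : Y = 154 := by linarith
  rw [hX, hY] at hcs
  have h27 : 27 ≤ Nat.card (centralizer ({t} : Set G)) := by omega
  -- no Sylow 3-subgroup is centralised
  have h9 : ¬ 3 ^ 2 ∣ Nat.card (centralizer ({t} : Set G)) := by
    intro h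
    have := Fact.mk Nat.prime_three
    obtain ⟨E, hE⟩ := Sylow.exists_subgroup_card_pow_prime 3 h
    set B := E.map (centralizer ({t} : Set G)).subtype with hB
    have hBcard : Nat.card B = 9 := by
      rw [hB, Subgroup.card_map_of_injective (Subgroup.subtype_injective _), hE]; norm_num
    have hAB : ∀ a ∈ zpowers t, ∀ b ∈ B, Commute a b := by
      intro a ha b hb
      obtain ⟨i, rfl⟩ := Subgroup.mem_zpowers_iff.1 ha
      obtain ⟨c, -, rfl⟩ := Subgroup.mem_map.1 hb
      exact (commute_of_mem_centralizer c.2).zpow_left i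
    obtain ⟨m, hm⟩ := CharTools.exists_nat_sum_of_vanish (irr_isCharacter w) (zpowers t) B hAB
      fun a ha b hb hb1 => by
        have hob : orderOf b ∣ 3 ^ 2 := by
          have := Subgroup.orderOf_dvd_natCard _ hb
          rwa [hBcard] at this
        obtain ⟨k, hk, hbk⟩ := (Nat.dvd_prime_pow Nat.prime_three).1 hob
        have hk0 : k ≠ 0 := fun h => hb1 (orderOf_eq_one_iff.1 (by rw [hbk, h, pow_zero]))
        have hoa : orderOf a ∣ 2 := by
          have := Subgroup.orderOf_dvd_natCard _ ha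
          rwa [Nat.card_zpowers, ht] at this
        exact vanish hcard factorization_three w hs.degw (by norm_num)
          (dvd_orderOf_mul (hAB a ha b hb)
            (by rw [hbk]; exact Nat.Coprime.coprime_dvd_left hoa (Nat.Coprime.pow_right k (by norm_num)))
            (hbk ▸ dvd_pow_self 3 hk0))
    rw [CharTools.sum_zpowers_two _ ht, hs.degw, hw, Nat.card_zpowers, ht, hBcard] at hm
    have h' : (45 : ℤ) + (-3) = 2 * 9 * m := by exact_mod_cast hm
    omega
  have hmem : Nat.card (centralizer ({t} : Set G)) ∈ (144 : ℕ).divisors :=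
    Nat.mem_divisors.2 ⟨hdiv, by norm_num⟩
  rw [show (144 : ℕ).divisors = {1, 2, 3, 4, 6, 8, 9, 12, 16, 18, 24, 36, 48, 72, 144} by
    decide +kernel] at hmem
  simp only [Finset.mem_insert, Finset.mem_singleton] at hmem
  rw [show (3 : ℕ) ^ 2 = 9 from rfl] at h9
  omega

/-- An element of order 5 or 11 does not normalise a subgroup of order 9. -/
theorem not_dvd_normalizer_nine [Finite G] {E : Subgroup G} (hE : Nat.card E = 9) {p : ℕ}
    [hp : Fact p.Prime] (hp' : p = 5 ∨ p = 11) : ¬ p ∣ Nat.card (normalizer (E : Set G)) := by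
  intro h
  set N := normalizer (E : Set G)
  obtain ⟨x, hx⟩ := exists_prime_orderOf_dvd_card' (G := N) p h
  have : (E.subgroupOf N).Normal := Subgroup.normal_in_normalizer
  have hEN : Nat.card (E.subgroupOf N) = 9 :=
    (Nat.card_congr (Subgroup.subgroupOfEquivOfLe Subgroup.le_normalizer).toEquiv).trans hE
  have hcom := CfsgLib.Sporadic.commute_of_pow_eq_one (p := p) (N := E.subgroupOf N)
    (by rw [hEN]; rcases hp' with rfl | rfl <;> norm_num)
    (by
      intro q hq i j hi hj hij
      rw [hEN] at hi hj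
      by_cases hq3 : q = 3
      · subst hq3
        have hi2 : i ≤ 2 := (Nat.pow_dvd_pow_iff_le_right (by norm_num)).1
          (show 3 ^ i ∣ 3 ^ 2 by simpa using hi)
        have hj2 : j ≤ 2 := (Nat.pow_dvd_pow_iff_le_right (by norm_num)).1
          (show 3 ^ j ∣ 3 ^ 2 by simpa using hj)
        rw [Nat.ModEq] at hij
        rcases hp' with rfl | rfl <;> interval_cases i <;> interval_cases j <;> simp at hij ⊢
      · have key : ∀ k, q ^ k ∣ 9 → k = 0 := fun k hk => by
          by_contra h0
          have h1 : q ∣ 3 ^ 2 := (dvd_pow_self q h0).trans (by simpa using hk)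
          exact hq3 ((Nat.prime_dvd_prime_iff_eq hq Nat.prime_three).1 (hq.dvd_of_dvd_pow h1))
        rw [key i hi, key j hj])
    (x := x) (by rw [← hx]; exact pow_orderOf_eq_one x)
  have hle : E ≤ centralizer ({(x : G)} : Set G) := by
    intro y hy
    refine Subgroup.mem_centralizer_iff.2 fun z hz => ?_
    obtain rfl : z = (x : G) := hz
    exact congrArg Subtype.val (hcom ⟨y, Subgroup.le_normalizer hy⟩ hy)
  have hdvd := Subgroup.card_dvd_of_le hle
  rw [hE] at hdvd
  have hxo : orderOf (x : G) = p := by rw [Subgroup.orderOf_coe, hx]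
  rcases hp' with rfl | rfl
  · rw [card_centralizer_five hcard hxo] at hdvd
    norm_num at hdvd
  · have h2 := hdvd.trans (Subgroup.card_dvd_of_le (centralizer_le_zpowers hcard hxo))
    rw [Nat.card_zpowers, hxo] at h2
    norm_num at h2

/-- The centraliser of an element of order three common to two Sylow 3-subgroups has order at
most 18. -/
theorem card_centralizer_three [Finite G] {y : G} (hy : orderOf y = 3) {a : ℕ}
    (hc : Nat.card (centralizer ({y} : Set G)) = 9 * 2 ^ a) : a ≤ 1 := by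
  classical
  let _ : Fintype G := Fintype.ofFinite G
  by_contra ha
  have := Fact.mk Nat.prime_two
  have := Fact.mk Nat.prime_three
  obtain ⟨e₁, e₂, w, U, hs⟩ := exists_shape hcard
  have hy1 : y ≠ 1 := fun h => by simp [h] at hy
  have hy3 : y ^ 3 = 1 := by rw [← hy]; exact pow_orderOf_eq_one y
  obtain ⟨T, hT⟩ := Sylow.exists_subgroup_card_pow_prime 2
    (show 2 ^ a ∣ Nat.card (centralizer ({y} : Set G)) from hc ▸ dvd_mul_left _ _)
  set B := T.map (centralizer ({y} : Set G)).subtype with hB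
  have hBcard : Nat.card B = 2 ^ a := by
    rw [hB, Subgroup.card_map_of_injective (Subgroup.subtype_injective _), hT]
  have hBy : ∀ b ∈ B, Commute y b := by
    intro b hb
    obtain ⟨c, -, rfl⟩ := Subgroup.mem_map.1 hb
    exact commute_of_mem_centralizer c.2
  let _ : Fintype B := Fintype.ofFinite _
  set q : ℝ := ((2 ^ a : ℕ) : ℝ) with hq
  -- the exceptional characters
  have hexc : ∀ e : IrrCharacter G, (e : G → ℂ) 1 = (16 : ℕ) →
      q ^ 2 ≤ Complex.normSq ((e : G → ℂ) y) := by
    intro e he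
    have hint := CharTools.isIntegral_average (irr_isCharacter e) y B hBy
    rw [Finset.sum_eq_single (1 : B) ?_ (fun h => absurd (Finset.mem_univ _) h)] at hint
    swap
    · intro b _ hb
      have hob : orderOf (b : G) ∣ 2 ^ a := hBcard ▸ Subgroup.orderOf_dvd_natCard _ b.2
      obtain ⟨k, -, hbk⟩ := (Nat.dvd_prime_pow Nat.prime_two).1 hob
      have hk0 : k ≠ 0 := fun h => hb (Subtype.ext (orderOf_eq_one_iff.1 (by rw [hbk, h, pow_zero])))
      exact vanish hcard factorization_two e he (by norm_num)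
        (dvd_orderOf_mul (hBy b b.2)
          (by rw [hy, hbk]; exact Nat.Coprime.pow_right k (by norm_num)) (hbk ▸ dvd_pow_self 2 hk0))
    rw [OneMemClass.coe_one, mul_one, hBcard] at hint
    have hne : (e : G → ℂ) y ≠ 0 := by
      intro h0
      let _ : Fintype (zpowers y) := Fintype.ofFinite _
      obtain ⟨m, hm⟩ := CharTools.exists_nat_sum (irr_isCharacter e) (zpowers y).subtype
      have hval : ∀ h : zpowers y, h ≠ 1 → (e : G → ℂ) (h : G) = 0 := by
        intro h hh
        obtain ⟨i, hi⟩ := Subgroup.mem_zpowers_iff.1 h.2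
        have hmod : y ^ i = y ^ (i % 3) := by
          conv_lhs => rw [show i = i % 3 + 3 * (i / 3) by omega, zpow_add, zpow_mul,
            show y ^ (3 : ℤ) = 1 by rw [show (3 : ℤ) = ((3 : ℕ) : ℤ) from rfl, zpow_natCast, hy3],
            one_zpow, mul_one]
        have : i % 3 = 0 ∨ i % 3 = 1 ∨ i % 3 = 2 := by omega
        rcases this with h' | h' | h'
        · exact absurd (Subtype.ext (by rw [← hi, hmod, h', zpow_zero]; rfl)) hh
        · rw [← hi, hmod, h', zpow_one, h0]
        · rw [← hi, hmod, h', show y ^ (2 : ℤ) = y⁻¹ by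
            rw [show (2 : ℤ) = ((2 : ℕ) : ℤ) from rfl, zpow_natCast]
            exact eq_inv_of_mul_eq_one_left (by rw [← pow_succ, hy3])]
          rw [irr_apply_inv, h0, map_zero]
      simp only [Subgroup.coe_subtype] at hm
      rw [Finset.sum_eq_single (1 : zpowers y) (fun b _ hb => hval b hb)
        (fun h => absurd (Finset.mem_univ _) h), OneMemClass.coe_one, he, Nat.card_zpowers, hy] at hm
      have : (16 : ℕ) = 3 * m := by exact_mod_cast hm
      omega
    obtain ⟨k, hk⟩ := CharTools.exists_int_normSq (irr_isCharacter e) hy3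
    set M := ((2 ^ a : ℕ) : ℂ)⁻¹ * (e : G → ℂ) y with hM
    have hMconj : IsIntegral ℤ (conj M) := by
      rw [show conj M = (RingHom.toIntAlgHom (starRingEnd ℂ)) M from rfl]
      exact hint.map _
    have hMM : M * conj M = (((k : ℚ) / ((2 ^ a : ℕ) : ℚ) ^ 2 : ℚ) : ℂ) := by
      rw [hM, map_mul, map_inv₀, Complex.conj_natCast,
        show ((2 ^ a : ℕ) : ℂ)⁻¹ * (e : G → ℂ) y * (((2 ^ a : ℕ) : ℂ)⁻¹ * conj ((e : G → ℂ) y)) =
          ((2 ^ a : ℕ) : ℂ)⁻¹ ^ 2 * ((e : G → ℂ) y * conj ((e : G → ℂ) y)) by ring,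
        Complex.mul_conj, hk]
      push_cast
      field_simp
    obtain ⟨j, hj⟩ := exists_int_of_isIntegral_rat (hMM ▸ hint.mul hMconj)
    have hkj : (k : ℝ) = (j : ℝ) * q ^ 2 := by
      rw [hq]
      have h2 : (k : ℚ) = (j : ℚ) * ((2 ^ a : ℕ) : ℚ) ^ 2 := by rw [hj]; field_simp
      exact_mod_cast h2
    have hpos : 0 < Complex.normSq ((e : G → ℂ) y) := Complex.normSq_pos.2 hne
    rw [hk] at hpos ⊢
    rw [hkj] at hpos ⊢
    have hj1 : (1 : ℝ) ≤ (j : ℝ) := by
      have : (0 : ℝ) < (j : ℝ) := pos_of_mul_pos_left hpos (sq_nonneg q)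
      exact_mod_cast (show (0 : ℤ) < j by exact_mod_cast this)
    nlinarith [sq_nonneg q]
  -- characters of degree ten
  have hten : ∀ v ∈ U, (1 : ℝ) ≤ Complex.normSq ((v : G → ℂ) y) := by
    intro v hv
    obtain ⟨k, hk⟩ := CharTools.exists_int_normSq (irr_isCharacter v) hy3
    have hne : (v : G → ℂ) y ≠ 0 := by
      intro h0
      let _ : Fintype (zpowers y) := Fintype.ofFinite _
      obtain ⟨m, hm⟩ := CharTools.exists_nat_sum (irr_isCharacter v) (zpowers y).subtype
      have hval : ∀ h : zpowers y, h ≠ 1 → (v : G → ℂ) (h : G) = 0 := by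
        intro h hh
        obtain ⟨i, hi⟩ := Subgroup.mem_zpowers_iff.1 h.2
        have hmod : y ^ i = y ^ (i % 3) := by
          conv_lhs => rw [show i = i % 3 + 3 * (i / 3) by omega, zpow_add, zpow_mul,
            show y ^ (3 : ℤ) = 1 by rw [show (3 : ℤ) = ((3 : ℕ) : ℤ) from rfl, zpow_natCast, hy3],
            one_zpow, mul_one]
        have : i % 3 = 0 ∨ i % 3 = 1 ∨ i % 3 = 2 := by omega
        rcases this with h' | h' | h'
        · exact absurd (Subtype.ext (by rw [← hi, hmod, h', zpow_zero]; rfl)) hh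
        · rw [← hi, hmod, h', zpow_one, h0]
        · rw [← hi, hmod, h', show y ^ (2 : ℤ) = y⁻¹ by
            rw [show (2 : ℤ) = ((2 : ℕ) : ℤ) from rfl, zpow_natCast]
            exact eq_inv_of_mul_eq_one_left (by rw [← pow_succ, hy3])]
          rw [irr_apply_inv, h0, map_zero]
      simp only [Subgroup.coe_subtype] at hm
      rw [Finset.sum_eq_single (1 : zpowers y) (fun b _ hb => hval b hb)
        (fun h => absurd (Finset.mem_univ _) h), OneMemClass.coe_one, hs.degU v hv, Nat.card_zpowers, hy] at hm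
      have : (10 : ℕ) = 3 * m := by exact_mod_cast hm
      omega
    have hpos : 0 < Complex.normSq ((v : G → ℂ) y) := Complex.normSq_pos.2 hne
    rw [hk] at hpos ⊢
    have hk0 : (0 : ℤ) < k := by exact_mod_cast hpos
    exact_mod_cast (show (1 : ℤ) ≤ k by omega)
  have h1 := hexc e₁ hs.deg1
  have h2 := hexc e₂ hs.deg2
  have hU3 := Finset.card_nsmul_le_sum U _ 1 hten
  rw [hs.cardU, nsmul_eq_mul, mul_one] at hU3
  push_cast at hU3
  have hcol := CharTools.sum_normSq y
  rw [hs.sum_split', hc, show ((principalIrr G : IrrCharacter G) : G → ℂ) y = 1 from rfl,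
    map_one] at hcol
  push_cast at hcol
  set O := (insert (principalIrr G) (insert e₁ (insert w U)))ᶜ.erase e₂ with hO
  have hnonneg : 0 ≤ ∑ ψ ∈ O, Complex.normSq ((ψ : G → ℂ) y) :=
    Finset.sum_nonneg fun ψ _ => Complex.normSq_nonneg _
  have hqeq : (2 : ℝ) ^ a = q := by rw [hq]; norm_num
  rw [hqeq] at hcol
  have hw0 := Complex.normSq_nonneg ((w : G → ℂ) y)
  have hq4 : 4 ≤ q := by
    rw [hq]
    have : 2 ^ 2 ≤ 2 ^ a := Nat.pow_le_pow_right (by norm_num) (by omega)
    exact_mod_cast this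
  have hq' : q = 4 := le_antisymm (by nlinarith) hq4
  rw [hq'] at h1 h2 hcol
  have hOzero : ∑ ψ ∈ O, Complex.normSq ((ψ : G → ℂ) y) = 0 := by linarith
  have hOvan : ∀ ψ ∈ O, (ψ : G → ℂ) y = 0 := fun ψ hψ =>
    Complex.normSq_eq_zero.1
      ((Finset.sum_eq_zero_iff_of_nonneg fun χ _ => Complex.normSq_nonneg _).1 hOzero ψ hψ)
  have hwv : (w : G → ℂ) y = 0 :=
    vanish hcard factorization_three w hs.degw (by norm_num) (dvd_of_eq hy.symm)
  have hrel := hs.rel y (Or.inr (pow_eleven_ne hy (by norm_num)))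
  have hreg := sum_degree_mul_irr (G := G) y
  rw [if_neg hy1, hs.sum_split', Finset.sum_eq_zero (s := O) fun ψ hψ => by rw [hOvan ψ hψ, mul_zero],
    show ((principalIrr G : IrrCharacter G) : G → ℂ) y = 1 from rfl,
    show ((principalIrr G : IrrCharacter G) : G → ℂ) 1 = 1 from rfl, hs.deg1, hs.deg2, hwv,
    Finset.sum_congr rfl (g := fun ψ : IrrCharacter G => (10 : ℂ) * (ψ : G → ℂ) y)
      (fun ψ hψ => by rw [hs.degU ψ hψ]; norm_num), ← Finset.mul_sum] at hreg
  rw [hwv] at hrel
  push_cast at hreg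
  have hint : IsIntegral ℤ ((((11 : ℚ) / 2) : ℚ) : ℂ) := by
    have hval : ((((11 : ℚ) / 2) : ℚ) : ℂ) =
        -((3 : ℕ) : ℂ) * (e₁ : G → ℂ) y - ((8 : ℕ) : ℂ) * (e₂ : G → ℂ) y := by
      push_cast
      linear_combination (1 / 2 : ℂ) * hreg + (5 : ℂ) * hrel
    rw [hval]
    exact ((isIntegral_natCast 3).neg.mul (isIntegral_of_isCharacter (irr_isCharacter e₁) y)).sub
      ((isIntegral_natCast 8).mul (isIntegral_of_isCharacter (irr_isCharacter e₂) y))
  obtain ⟨z, hz⟩ := exists_int_of_isIntegral_rat hint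
  have : 2 * z = 11 := by
    have : (2 : ℚ) * z = 11 := by rw [hz]; norm_num
    exact_mod_cast this
  omega

/-- Sylow 3-normalisers have order 144. -/
theorem card_normalizer_three [Finite G] (P : Sylow 3 G) :
    Nat.card (normalizer ((P : Subgroup G) : Set G)) = 144 := by
  classical
  have := Fact.mk Nat.prime_three
  have := Fact.mk Nat.prime_five
  have hnc := not_comm hcard
  have hP9 : ∀ Q : Sylow 3 G, Nat.card Q = 3 ^ 2 := fun Q =>
    CfsgLib.Small.card_sylow_of_card_eq (m := 880) (by rw [hcard]; norm_num) (by norm_num) Q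
  have hab : ∀ Q : Sylow 3 G, (Q : Subgroup G) ≤ centralizer ((Q : Subgroup G) : Set G) := by
    intro Q u hu
    refine Subgroup.mem_centralizer_iff.2 fun v hv => ?_
    exact congrArg Subtype.val
      ((IsPGroup.isMulCommutative_of_card_eq_prime_sq (hP9 Q)).is_comm.comm
        (⟨v, hv⟩ : (Q : Subgroup G)) ⟨u, hu⟩)
  have hmul := CfsgLib.Small.card_normalizer_mul_card_sylow P
  rw [hcard] at hmul
  have h5 := not_dvd_normalizer_nine hcard (E := (P : Subgroup G)) (hP9 P) (p := 5) (Or.inl rfl)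
  have h11 := not_dvd_normalizer_nine hcard (E := (P : Subgroup G)) (hP9 P) (p := 11) (Or.inr rfl)
  have hn := CfsgLib.Small.card_sylow_mem (p := 3) hnc (k := 2) (m := 880) (by norm_num)
    (by rw [hcard]; norm_num) (by norm_num)
  rw [show ((880 : ℕ).divisors.filter fun n => n % 3 = 1 ∧ 1 < n) =
    {4, 10, 16, 22, 40, 55, 88, 220, 880} by decide +kernel] at hn
  simp only [Finset.mem_insert, Finset.mem_singleton] at hn
  have h55 : Nat.card (Sylow 3 G) = 55 := by
    have hcases : Nat.card (Sylow 3 G) = 55 ∨ Nat.card (Sylow 3 G) = 220 ∨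
        Nat.card (Sylow 3 G) = 880 := by
      rcases hn with h | h | h | h | h | h | h | h | h <;> rw [h] at hmul ⊢ <;> omega
    rcases hcases with h | h | h
    · exact h
    · exfalso
      obtain ⟨P₁, P₂, hne, hidx⟩ :=
        CfsgLib.Small.exists_pair_of_not_modEq (p := 3) (G := G) (k := 2)
          (by rw [h, Nat.ModEq]; norm_num)
      have hlag := ((P₂ : Subgroup G).subgroupOf (P₁ : Subgroup G)).card_mul_index
      rw [show Nat.card (P₁ : Subgroup G) = 3 ^ 2 from hP9 P₁] at hlag
      have : Nontrivial ((P₂ : Subgroup G).subgroupOf (P₁ : Subgroup G)) := by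
        refine Finite.one_lt_card_iff_nontrivial.1 ?_
        by_contra hle
        have : Nat.card ((P₂ : Subgroup G).subgroupOf (P₁ : Subgroup G)) ≤ 1 := by omega
        rw [show 3 ^ (2 - 1) = 3 from rfl] at hidx
        rw [show 3 ^ 2 = 9 from rfl] at hlag
        nlinarith
      obtain ⟨⟨⟨g, hg1⟩, hg2⟩, hgne⟩ :=
        exists_ne (1 : (P₂ : Subgroup G).subgroupOf (P₁ : Subgroup G))
      have hg2' : g ∈ (P₂ : Subgroup G) := hg2
      have hg0 : g ≠ 1 := fun h => hgne (Subtype.ext (Subtype.ext h))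
      -- an element of order three in both subgroups
      obtain ⟨y, hy, hy1, hy2⟩ : ∃ y : G, orderOf y = 3 ∧ y ∈ (P₁ : Subgroup G) ∧
          y ∈ (P₂ : Subgroup G) := by
        have hdvd : orderOf g ∣ 3 ^ 2 := hP9 P₁ ▸ Subgroup.orderOf_dvd_natCard _ hg1
        obtain ⟨k, hk, hgk⟩ := (Nat.dvd_prime_pow Nat.prime_three).1 hdvd
        have hk0 : k ≠ 0 := fun h => hg0 (orderOf_eq_one_iff.1 (by rw [hgk, h, pow_zero]))
        refine ⟨g ^ 3 ^ (k - 1), ?_, pow_mem hg1 _, pow_mem hg2' _⟩
        rw [orderOf_pow' _ (by positivity), hgk]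
        obtain ⟨l, rfl⟩ := Nat.exists_eq_succ_of_ne_zero hk0
        rw [Nat.succ_sub_one, Nat.gcd_eq_right (pow_dvd_pow 3 (Nat.le_succ l)), pow_succ,
          Nat.mul_div_cancel_left _ (by positivity)]
      have hle : ∀ Q : Sylow 3 G, y ∈ (Q : Subgroup G) →
          (Q : Subgroup G) ≤ centralizer ({y} : Set G) := fun Q hQ =>
        (hab Q).trans (centralizer_le (Set.singleton_subset_iff.2 hQ))
      have hcd := Subgroup.card_dvd_of_le (hle P₁ hy1)
      rw [hP9 P₁] at hcd
      have h720 := card_centralizer_dvd_720 hcard (pow_eleven_ne hy (by norm_num))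
      have hno5 : ¬ 5 ∣ Nat.card (centralizer ({y} : Set G)) := by
        intro h'
        obtain ⟨x, hx⟩ := exists_prime_orderOf_dvd_card' (G := centralizer ({y} : Set G)) 5 h'
        have hxo : orderOf (x : G) = 5 := by rw [Subgroup.orderOf_coe, hx]
        have hyx : y ∈ centralizer ({(x : G)} : Set G) := Subgroup.mem_centralizer_iff.2 fun z hz => by
          obtain rfl : z = (x : G) := hz
          exact ((commute_of_mem_centralizer x.2).symm).eq
        have := Subgroup.orderOf_dvd_natCard _ hyx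
        rw [card_centralizer_five hcard hxo, hy] at this
        norm_num at this
      obtain ⟨k, hk⟩ := hcd
      have hk16 : k ∣ 2 ^ 4 := by
        have h144 : Nat.card (centralizer ({y} : Set G)) ∣ 144 :=
          ((Nat.prime_five.coprime_iff_not_dvd.2 hno5).symm).dvd_of_dvd_mul_left
            (show _ ∣ 5 * 144 from h720)
        rw [hk] at h144
        exact Nat.dvd_of_mul_dvd_mul_left (by norm_num : 0 < 3 ^ 2)
          (show 3 ^ 2 * k ∣ 3 ^ 2 * 2 ^ 4 from h144)
      obtain ⟨a, -, ha⟩ := (Nat.dvd_prime_pow Nat.prime_two).1 hk16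
      have ha1 := card_centralizer_three hcard hy (a := a) (by rw [hk, ha]; norm_num)
      -- two Sylow subgroups of the centraliser force at least four
      have : Nontrivial (Sylow 3 (centralizer ({y} : Set G))) :=
        ⟨P₁.subtype (hle P₁ hy1), P₂.subtype (hle P₂ hy2), fun h' => hne (Sylow.subtype_injective h')⟩
      have h2 := (Finite.one_lt_card_iff_nontrivial.2 this)
      have hmod := card_sylow_modEq_one 3 (centralizer ({y} : Set G))
      rw [Nat.ModEq] at hmod
      have hdvdn := (default : Sylow 3 (centralizer ({y} : Set G))).card_dvd_index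
      have hkpos : 0 < k := by rw [ha]; positivity
      have hk2 : k ≤ 2 := by
        rw [ha]
        calc 2 ^ a ≤ 2 ^ 1 := Nat.pow_le_pow_right (by norm_num) ha1
          _ = 2 := by norm_num
      rw [CfsgLib.Small.index_sylow_of_card_eq (m := k) hk (by omega)] at hdvdn
      have := Nat.le_of_dvd hkpos hdvdn
      omega
    · exfalso
      refine CfsgLib.Small.not_normalizer_le_centralizer hnc (by rw [hcard]; norm_num) P ?_
      have hN9 : Nat.card (normalizer ((P : Subgroup G) : Set G)) = 3 ^ 2 := by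
        rw [h] at hmul; omega
      rw [show normalizer ((P : Subgroup G) : Set G) = (P : Subgroup G) from
        (Subgroup.eq_of_le_of_card_ge Subgroup.le_normalizer
          (le_of_eq (hN9.trans (hP9 P).symm))).symm]
      exact hab P
  rw [h55] at hmul
  omega

end CfsgLib.Sporadic.M11
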