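import Cfsg.Agent.Lib.Sporadic.M11Local
import Cfsg.Agent.Lib.Order7920.Edge
import Cfsg.Agent.Lib.Sporadic.SharpSteiner
import Mathlib.Data.ZMod.Basic
import Mathlib.Combinatorics.Enumerative.DoubleCounting

/-!
Sylow 3-subgroups of a simple group of order 7920: they meet trivially, their normalisers act
transitively on their nonidentity elements, and an involution inverting one inverts exactly
three, which its centraliser permutes as the symmetric group.
-/

set_option autoImplicit false

noncomputable section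

namespace CfsgLib.Sporadic.M11

open Subgroup MulAction

universe u

variable {G : Type u} [Group G]

/-! ### Automorphisms of the elementary group of order nine -/

/-- The additive map with the given images of the unit vectors. -/
def lin (p q v : ZMod 3 × ZMod 3) : ZMod 3 × ZMod 3 :=
  (v.1 * p.1 + v.2 * q.1, v.1 * p.2 + v.2 * q.2)

theorem lin_four : ∀ p q, lin p q (lin p q (lin p q (lin p q (1, 0)))) = (1, 0) →
    lin p q (lin p q (lin p q (lin p q (0, 1)))) = (0, 1) →
    ¬(lin p q (lin p q (1, 0)) = (1, 0) ∧ lin p q (lin p q (0, 1)) = (0, 1)) →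
    lin p q (lin p q (1, 0)) = (2, 0) ∧ lin p q (lin p q (0, 1)) = (0, 2) := by
  decide +kernel

set_option synthInstance.maxSize 2000 in
theorem lin_pair : ∀ p q, lin p q p = (1, 0) → lin p q q = (0, 1) →
    ¬(p = (1, 0) ∧ q = (0, 1)) → ¬(p = (2, 0) ∧ q = (0, 2)) →
    ∀ p' q', lin p' q' p' = (1, 0) → lin p' q' q' = (0, 1) →
    lin p q p' = lin p' q' p → lin p q q' = lin p' q' q →
    ((p' = (1, 0) ∧ q' = (0, 1)) ∨ (p' = (2, 0) ∧ q' = (0, 2)) ∨ (p' = p ∧ q' = q) ∨
      (p' = lin (2, 0) (0, 2) p ∧ q' = lin (2, 0) (0, 2) q)) := by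
  decide +kernel

theorem split_vec : ∀ v : ZMod 3 × ZMod 3,
    v = v.1.val • ((1, 0) : ZMod 3 × ZMod 3) + v.2.val • ((0, 1) : ZMod 3 × ZMod 3) := by
  decide +kernel

/-- An additive map is given by the images of the unit vectors. -/
theorem eq_lin (φ : ZMod 3 × ZMod 3 →+ ZMod 3 × ZMod 3) (v : ZMod 3 × ZMod 3) :
    φ v = lin (φ (1, 0)) (φ (0, 1)) v := by
  conv_lhs => rw [split_vec v, map_add, map_nsmul, map_nsmul]
  ext <;> simp [lin, nsmul_eq_mul]

/-- The elements of a group of exponent two and a coordinate system for the Sylow subgroup. -/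
structure Coord (E : Subgroup G) where
  equiv : ZMod 3 × ZMod 3 ≃ E
  map_add : ∀ v w, equiv (v + w) = equiv v * equiv w

theorem nonempty_coord [Finite G] {E : Subgroup G} (hE : Nat.card E = 9)
    (hcomm : ∀ a ∈ E, ∀ b ∈ E, a * b = b * a) (hexp : ∀ a ∈ E, a ^ 3 = 1) :
    Nonempty (Coord E) := by
  classical
  have : Nontrivial E := Finite.one_lt_card_iff_nontrivial.1 (by omega)
  obtain ⟨⟨a, ha⟩, ha1⟩ := exists_ne (1 : E)
  have hao : orderOf a = 3 := orderOf_eq_prime (hexp a ha) fun h => ha1 (Subtype.ext h)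
  obtain ⟨b, hb, hba⟩ : ∃ b ∈ E, b ∉ zpowers a := by
    by_contra h
    push Not at h
    have := Subgroup.card_le_of_le (H := E) (K := zpowers a) h
    rw [hE, Nat.card_zpowers, hao] at this
    omega
  let f : ZMod 3 × ZMod 3 → E := fun v => ⟨a ^ v.1.val * b ^ v.2.val, mul_mem (pow_mem ha _) (pow_mem hb _)⟩
  have hb3 := hexp b hb
  have ha3 := hexp a ha
  have hpow : ∀ (c : G), c ^ 3 = 1 → ∀ x y : ZMod 3, c ^ (x + y).val = c ^ x.val * c ^ y.val := by
    intro c hc x y
    rw [← pow_add, ZMod.val_add]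
    exact (pow_eq_pow_mod _ hc).symm
  have hab : ∀ m n : ℕ, Commute (a ^ m) (b ^ n) := fun m n =>
    (show Commute a b from hcomm a ha b hb).pow_pow m n
  have hadd : ∀ v w, f (v + w) = f v * f w := by
    intro v w
    apply Subtype.ext
    show a ^ (v + w).1.val * b ^ (v + w).2.val =
      a ^ v.1.val * b ^ v.2.val * (a ^ w.1.val * b ^ w.2.val)
    rw [Prod.fst_add, Prod.snd_add, hpow a ha3, hpow b hb3]
    exact Commute.mul_mul_mul_comm (hab _ _) _ _
  have hinj : Function.Injective f := by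
    intro v w h
    have h1 : f (v - w) = 1 := by
      have := hadd (v - w) w
      rw [sub_add_cancel, h] at this
      exact mul_eq_right.1 this.symm
    have h1' : a ^ (v - w).1.val * b ^ (v - w).2.val = 1 := congrArg Subtype.val h1
    have h2 : (v - w).2 = 0 := by
      by_contra hne
      apply hba
      have hmem : b ^ (v - w).2.val ∈ zpowers a := by
        rw [eq_inv_of_mul_eq_one_right h1']
        exact inv_mem (npow_mem_zpowers _ _)
      have hcases : ∀ x : ZMod 3, x ≠ 0 → x.val = 1 ∨ x.val = 2 := by decide +kernel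
      rcases hcases _ hne with e | e
      · rwa [e, pow_one] at hmem
      · rw [e] at hmem
        have := mul_mem hmem hmem
        rwa [← pow_add, pow_eq_pow_mod _ hb3, pow_one] at this
    have h3 : (v - w).1 = 0 := by
      rw [h2, ZMod.val_zero, pow_zero, mul_one, ← orderOf_dvd_iff_pow_eq_one, hao] at h1'
      have hlt := ZMod.val_lt (v - w).1
      exact (ZMod.val_eq_zero _).1 (Nat.eq_zero_of_dvd_of_lt h1' hlt)
    exact sub_eq_zero.1 (Prod.ext h3 h2)
  exact ⟨⟨Equiv.ofBijective f ((Nat.bijective_iff_injective_and_card f).2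
    ⟨hinj, by rw [hE, Nat.card_prod, Nat.card_zmod]⟩), hadd⟩⟩

namespace Coord

variable {E : Subgroup G} (c : Coord E)

/-- The action of an element of the normaliser in coordinates. -/
def act (n : normalizer (E : Set G)) : ZMod 3 × ZMod 3 →+ ZMod 3 × ZMod 3 :=
  AddMonoidHom.mk' (fun v => c.equiv.symm ⟨(n : G) * c.equiv v * (n : G)⁻¹,
    (Subgroup.mem_normalizer_iff.1 n.2 _).1 (c.equiv v).2⟩) fun v w => by
    apply c.equiv.injective
    apply Subtype.ext
    simp [c.map_add, mul_assoc]

theorem coe_act (n : normalizer (E : Set G)) (v : ZMod 3 × ZMod 3) :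
    (c.equiv (c.act n v) : G) = (n : G) * c.equiv v * (n : G)⁻¹ := by
  simp [act]

theorem act_mul (n m : normalizer (E : Set G)) (v : ZMod 3 × ZMod 3) :
    c.act (n * m) v = c.act n (c.act m v) := by
  apply c.equiv.injective
  apply Subtype.ext
  simp [coe_act, mul_assoc]

theorem act_one (v : ZMod 3 × ZMod 3) : c.act 1 v = v := by
  apply c.equiv.injective
  apply Subtype.ext
  simp [coe_act]

theorem conj_eq_of_act (n m : normalizer (E : Set G)) (h1 : c.act n (1, 0) = c.act m (1, 0))
    (h2 : c.act n (0, 1) = c.act m (0, 1)) :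
    ∀ e ∈ E, (n : G) * e * (n : G)⁻¹ = (m : G) * e * (m : G)⁻¹ := by
  intro e he
  obtain ⟨v, hv⟩ := c.equiv.surjective ⟨e, he⟩
  have hve : (c.equiv v : G) = e := by rw [hv]
  rw [← hve, ← coe_act, ← coe_act, eq_lin, eq_lin (c.act m), h1, h2]

theorem conj_of_act_inv (n : normalizer (E : Set G)) (h1 : c.act n (1, 0) = (2, 0))
    (h2 : c.act n (0, 1) = (0, 2)) : ∀ e ∈ E, (n : G) * e * (n : G)⁻¹ = e⁻¹ := by
  intro e he
  obtain ⟨v, hv⟩ := c.equiv.surjective ⟨e, he⟩
  have hve : (c.equiv v : G) = e := by rw [hv]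
  have hneg : ∀ v, lin (2, 0) (0, 2) v = -v := by decide +kernel
  rw [← hve, ← coe_act, eq_lin, h1, h2, hneg]
  refine eq_inv_of_mul_eq_one_left ?_
  rw [← Subgroup.coe_mul, ← c.map_add, neg_add_cancel]
  have h0 := c.map_add 0 0
  rw [add_zero] at h0
  rw [left_eq_mul.1 h0]
  rfl

end Coord

/-- `t` is an involution inverting every element of `E`. -/
def Inv (t : G) (E : Sylow 3 G) : Prop :=
  orderOf t = 2 ∧ ∀ e ∈ (E : Subgroup G), t * e * t⁻¹ = e⁻¹

theorem mem_smul_sylow {p : ℕ} {g x : G} {P : Sylow p G} :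
    x ∈ ((g • P : Sylow p G) : Subgroup G) ↔ g⁻¹ * x * g ∈ (P : Subgroup G) := by
  rw [Sylow.coe_subgroup_smul, Subgroup.mem_pointwise_smul_iff_inv_smul_mem]
  simp [MulAut.smul_def]

theorem Inv.conj {t : G} {E : Sylow 3 G} (h : Inv t E) (g : G) :
    Inv (g * t * g⁻¹) (g • E) := by
  refine ⟨?_, fun e he => ?_⟩
  · rw [← h.1]
    exact orderOf_injective (MulAut.conj g).toMonoidHom (MulAut.conj g).injective t
  · have := h.2 _ (mem_smul_sylow.1 he)
    calc g * t * g⁻¹ * e * (g * t * g⁻¹)⁻¹ = g * (t * (g⁻¹ * e * g) * t⁻¹) * g⁻¹ := by group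
      _ = e⁻¹ := by rw [this]; group

theorem Inv.mem_normalizer {t : G} {E : Sylow 3 G} (h : Inv t E) :
    t ∈ normalizer ((E : Subgroup G) : Set G) := by
  refine Subgroup.mem_normalizer_iff.2 fun x => ⟨fun hx => ?_, fun hx => ?_⟩
  · exact (h.2 x hx).symm ▸ inv_mem hx
  · have h2 := h.2 _ hx
    have htt : t * t = 1 := by rw [← pow_two, ← h.1]; exact pow_orderOf_eq_one t
    have hti : t⁻¹ = t := inv_eq_of_mul_eq_one_right htt
    have hxeq : x = (t * x * t⁻¹)⁻¹ := by
      rw [← h2, hti, show t * (t * x * t) * t = (t * t) * x * (t * t) by group, htt]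
      simp
    exact hxeq ▸ inv_mem hx

variable [IsSimpleGroup G] [Finite G] (hcard : Nat.card G = 7920)

include hcard

theorem card_sylow_three (E : Sylow 3 G) : Nat.card (E : Subgroup G) = 9 := by
  have := Fact.mk Nat.prime_three
  exact CfsgLib.Small.card_sylow_of_card_eq (k := 2) (m := 880) (by rw [hcard]; norm_num)
    (by norm_num) E

theorem sylow_three_comm (E : Sylow 3 G) :
    ∀ a ∈ (E : Subgroup G), ∀ b ∈ (E : Subgroup G), a * b = b * a := by
  have := Fact.mk Nat.prime_three
  intro a ha b hb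
  exact congrArg Subtype.val ((IsPGroup.isMulCommutative_of_card_eq_prime_sq
    (show Nat.card (E : Subgroup G) = 3 ^ 2 from card_sylow_three hcard E)).is_comm.comm
      (⟨a, ha⟩ : (E : Subgroup G)) ⟨b, hb⟩)

theorem le_centralizer_of_mem {E : Sylow 3 G} {y : G} (hy : y ∈ (E : Subgroup G)) :
    (E : Subgroup G) ≤ centralizer ({y} : Set G) := fun a ha =>
  Subgroup.mem_centralizer_singleton_iff.2 (sylow_three_comm hcard E a ha y hy)

/-- The centraliser of an element of order three has order 9 or 18. -/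
theorem centralizer_three_cases {y : G} (hy : orderOf y = 3) :
    Nat.card (centralizer ({y} : Set G)) = 9 ∨ Nat.card (centralizer ({y} : Set G)) = 18 := by
  have := Fact.mk Nat.prime_three
  have := Fact.mk Nat.prime_five
  obtain ⟨E, hE⟩ := (IsPGroup.of_card (n := 1)
    (show Nat.card (zpowers y) = 3 ^ 1 by rw [Nat.card_zpowers, hy, pow_one])).exists_le_sylow
  have hyE : y ∈ (E : Subgroup G) := hE (mem_zpowers y)
  have hcd := Subgroup.card_dvd_of_le (le_centralizer_of_mem hcard hyE)
  rw [card_sylow_three hcard E] at hcd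
  have h720 := card_centralizer_dvd_720 hcard (pow_eleven_ne hy (by norm_num))
  have hno5 : ¬ 5 ∣ Nat.card (centralizer ({y} : Set G)) := by
    intro h'
    obtain ⟨x, hx⟩ := exists_prime_orderOf_dvd_card' (G := centralizer ({y} : Set G)) 5 h'
    have hxo : orderOf (x : G) = 5 := by rw [Subgroup.orderOf_coe, hx]
    have hyx : y ∈ centralizer ({(x : G)} : Set G) :=
      Subgroup.mem_centralizer_singleton_iff.2 (Subgroup.mem_centralizer_singleton_iff.1 x.2).symm
    have := Subgroup.orderOf_dvd_natCard _ hyx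
    rw [card_centralizer_five hcard hxo, hy] at this
    norm_num at this
  obtain ⟨k, hk⟩ := hcd
  have h144 : Nat.card (centralizer ({y} : Set G)) ∣ 144 :=
    ((Nat.prime_five.coprime_iff_not_dvd.2 hno5).symm).dvd_of_dvd_mul_left
      (show _ ∣ 5 * 144 from h720)
  rw [hk] at h144
  obtain ⟨a, -, ha⟩ := (Nat.dvd_prime_pow Nat.prime_two).1
    (Nat.dvd_of_mul_dvd_mul_left (by norm_num : 0 < 9) (show 9 * k ∣ 9 * 2 ^ 4 from h144))
  have ha1 := card_centralizer_three hcard hy (a := a) (by rw [hk, ha])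
  rcases Nat.le_one_iff_eq_zero_or_eq_one.1 ha1 with rfl | rfl
  · exact Or.inl (by rw [hk, ha]; norm_num)
  · exact Or.inr (by rw [hk, ha]; norm_num)

/-- Two Sylow 3-subgroups meet trivially. -/
theorem sylow_three_ti {E F : Sylow 3 G} {x : G} (hxE : x ∈ (E : Subgroup G))
    (hxF : x ∈ (F : Subgroup G)) (hx : x ≠ 1) : E = F := by
  have := Fact.mk Nat.prime_three
  have hord : orderOf x ∣ 3 ^ 2 := by
    have := Subgroup.orderOf_dvd_natCard _ hxE
    rwa [card_sylow_three hcard E] at this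
  obtain ⟨y, hyE, hyF, hy⟩ : ∃ y, y ∈ (E : Subgroup G) ∧ y ∈ (F : Subgroup G) ∧ orderOf y = 3 := by
    by_cases h3 : x ^ 3 = 1
    · exact ⟨x, hxE, hxF, orderOf_eq_prime h3 hx⟩
    · refine ⟨x ^ 3, pow_mem hxE 3, pow_mem hxF 3, orderOf_eq_prime ?_ h3⟩
      rw [← pow_mul]
      exact orderOf_dvd_iff_pow_eq_one.1 hord
  set C := centralizer ({y} : Set G) with hC
  have hEC : (E : Subgroup G) ≤ C := le_centralizer_of_mem hcard hyE
  have hFC : (F : Subgroup G) ≤ C := le_centralizer_of_mem hcard hyF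
  have hN : ((E : Subgroup G).subgroupOf C).Normal := by
    have h := ((E : Subgroup G).subgroupOf C).card_mul_index
    rw [Nat.card_congr (Subgroup.subgroupOfEquivOfLe hEC).toEquiv, card_sylow_three hcard E] at h
    rcases centralizer_three_cases hcard hy with hc | hc <;> rw [← hC] at hc <;> rw [hc] at h
    · rw [Subgroup.index_eq_one.1 (show ((E : Subgroup G).subgroupOf C).index = 1 by omega)]
      infer_instance
    · exact Subgroup.normal_of_index_eq_two (by omega)
  have hFN : (F : Subgroup G) ≤ normalizer ((E : Subgroup G) : Set G) :=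
    hFC.trans ((Subgroup.normal_subgroupOf_iff_le_normalizer hEC).1 hN)
  have h : (F : Subgroup G) ⊓ normalizer ((E : Subgroup G) : Set G) = (F : Subgroup G) ⊓ E :=
    F.isPGroup'.inf_normalizer_sylow E
  rw [inf_eq_left.2 hFN] at h
  exact (Sylow.ext (Subgroup.eq_of_le_of_card_ge (inf_eq_left.1 h.symm)
    (by rw [card_sylow_three hcard E, card_sylow_three hcard F]))).symm

/-- A Sylow 3-subgroup fixes no other one. -/
theorem eq_of_smul_sylow {E F : Sylow 3 G} {e : G} (he : e ∈ (E : Subgroup G)) (he1 : e ≠ 1)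
    (h : e • F = F) : E = F := by
  have := Fact.mk Nat.prime_three
  have hpg : IsPGroup 3 (zpowers e) := E.isPGroup'.to_le (zpowers_le.2 he)
  have heF : e ∈ zpowers e ⊓ (F : Subgroup G) :=
    (hpg.inf_normalizer_sylow F).le ⟨mem_zpowers e, Sylow.smul_eq_iff_mem_normalizer.1 h⟩
  exact sylow_three_ti hcard he heF.2 he1

theorem card_normalizer_three' (E : Sylow 3 G) :
    Nat.card (normalizer ((E : Subgroup G) : Set G)) = 144 :=
  card_normalizer_three hcard E

theorem card_sylow_set : Nat.card (Sylow 3 G) = 55 := by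
  have := Fact.mk Nat.prime_three
  obtain ⟨E⟩ : Nonempty (Sylow 3 G) := inferInstance
  have h := CfsgLib.Small.card_normalizer_mul_card_sylow E
  rw [card_normalizer_three hcard E, hcard] at h
  omega

/-- Elements of order three in a Sylow 3-subgroup: the normaliser is transitive on them. -/
theorem sylow_three_facts (E : Sylow 3 G) {y : G} (hy : y ∈ (E : Subgroup G)) (hy1 : y ≠ 1) :
    y ^ 3 = 1 ∧ Nat.card (centralizer ({y} : Set G)) = 18 ∧
      centralizer ({y} : Set G) ≤ normalizer ((E : Subgroup G) : Set G) := by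
  classical
  have := Fact.mk Nat.prime_three
  set N := normalizer ((E : Subgroup G) : Set G) with hN
  -- some element of order three, and its orbit under the normaliser
  obtain ⟨z, hz⟩ := exists_prime_orderOf_dvd_card' (G := (E : Subgroup G)) 3
    (by rw [card_sylow_three hcard E]; norm_num)
  have hzo : orderOf (z : G) = 3 := by rw [Subgroup.orderOf_coe, hz]
  let O : Set (E : Subgroup G) := {x | ∃ n ∈ N, n * (z : G) * n⁻¹ = x}
  have hOE : O ⊆ {x | x ≠ 1} := by
    rintro x ⟨n, -, hn⟩ rfl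
    rw [OneMemClass.coe_one, conj_eq_one_iff] at hn
    rw [hn, orderOf_one] at hzo
    omega
  have hO8 : O.ncard ≤ 8 := by
    refine (Set.ncard_le_ncard hOE).trans ?_
    rw [show {x : (E : Subgroup G) | x ≠ 1} = {1}ᶜ from rfl, Set.ncard_compl,
      card_sylow_three hcard E, Set.ncard_singleton]
  have hNZ : Nat.card (centralizer ({(z : G)} : Set G) ⊓ N : Subgroup G) ≤ 18 := by
    refine (Subgroup.card_le_of_le inf_le_left).trans ?_
    rcases centralizer_three_cases hcard hzo with h | h <;> omega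
  let f : N → O := fun n => ⟨⟨(n : G) * (z : G) * (n : G)⁻¹,
    (Subgroup.mem_normalizer_iff.1 n.2 _).1 z.2⟩, n, n.2, rfl⟩
  have hfib : ∀ n m : N, f n = f m ↔ (m : G)⁻¹ * n ∈ centralizer ({(z : G)} : Set G) ⊓ N := by
    intro n m
    rw [Subgroup.mem_inf, Subgroup.mem_centralizer_singleton_iff]
    refine ⟨fun h => ⟨?_, mul_mem (inv_mem m.2) n.2⟩, fun h => ?_⟩
    · have h' : (n : G) * (z : G) * (n : G)⁻¹ = (m : G) * (z : G) * (m : G)⁻¹ :=
        congrArg (fun x : O => ((x.1 : (E : Subgroup G)) : G)) h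
      calc (m : G)⁻¹ * n * z = (m : G)⁻¹ * ((n : G) * z * (n : G)⁻¹) * n := by group
        _ = z * ((m : G)⁻¹ * n) := by rw [h']; group
    · refine Subtype.ext (Subtype.ext ?_)
      show (n : G) * (z : G) * (n : G)⁻¹ = (m : G) * (z : G) * (m : G)⁻¹
      calc (n : G) * (z : G) * (n : G)⁻¹ = (m : G) * ((m : G)⁻¹ * n * z) * (n : G)⁻¹ := by group
        _ = _ := by rw [h.1]; group
  have hsurj : Function.Surjective f := by
    rintro ⟨x, n, hn, hx⟩
    exact ⟨⟨n, hn⟩, Subtype.ext (Subtype.ext hx)⟩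
  have hcount : Nat.card N ≤ O.ncard * Nat.card (centralizer ({(z : G)} : Set G) ⊓ N : Subgroup G) := by
    rw [← Nat.card_coe_set_eq, ← Nat.card_prod]
    refine Nat.card_le_card_of_injective
      (fun n : N => (f n, (⟨((Function.surjInv hsurj (f n) : N) : G)⁻¹ * n,
        (hfib n _).1 (Function.surjInv_eq hsurj (f n)).symm⟩ :
          (centralizer ({(z : G)} : Set G) ⊓ N : Subgroup G)))) ?_
    intro n m h
    obtain ⟨h1, h2⟩ := Prod.mk.injEq _ _ _ _ ▸ h
    have h2' := congrArg Subtype.val h2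
    simp only [h1] at h2'
    exact Subtype.ext (mul_left_cancel h2')
  rw [card_normalizer_three hcard E] at hcount
  have hOall : O = {x | x ≠ 1} := by
    refine Set.eq_of_subset_of_ncard_le hOE ?_
    rw [show {x : (E : Subgroup G) | x ≠ 1} = {1}ᶜ from rfl, Set.ncard_compl,
      card_sylow_three hcard E, Set.ncard_singleton]
    nlinarith
  have h18 : Nat.card (centralizer ({(z : G)} : Set G) ⊓ N : Subgroup G) = 18 := by nlinarith
  have hzle : centralizer ({(z : G)} : Set G) ≤ N := by
    have := Subgroup.eq_of_le_of_card_ge (inf_le_left : centralizer ({(z : G)} : Set G) ⊓ N ≤ _)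
      (by rw [h18]; rcases centralizer_three_cases hcard hzo with h | h <;> omega)
    exact inf_eq_left.1 this
  obtain ⟨n, hn, hny⟩ : (⟨y, hy⟩ : (E : Subgroup G)) ∈ O := by
    rw [hOall]; exact fun h => hy1 (congrArg Subtype.val h)
  change n * (z : G) * n⁻¹ = y at hny
  have hz18 : Nat.card (centralizer ({(z : G)} : Set G)) = 18 := by
    rw [← h18, inf_eq_left.2 hzle]
  refine ⟨?_, ?_, ?_⟩
  · have h3 : (z : G) ^ 3 = 1 := orderOf_dvd_iff_pow_eq_one.1 (dvd_of_eq hzo)
    rw [← hny, conj_pow, h3, mul_one, mul_inv_cancel]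
  · rw [← hz18]
    refine Nat.card_congr
      { toFun := fun c => ⟨n⁻¹ * c * n, ?_⟩
        invFun := fun c => ⟨n * c * n⁻¹, ?_⟩
        left_inv := fun c => Subtype.ext (by simp [mul_assoc])
        right_inv := fun c => Subtype.ext (by simp [mul_assoc]) }
    · have hc : (c : G) * (n * z * n⁻¹) = n * z * n⁻¹ * c := by
        rw [hny]; exact Subgroup.mem_centralizer_singleton_iff.1 c.2
      refine Subgroup.mem_centralizer_singleton_iff.2 ?_
      calc n⁻¹ * (c : G) * n * z = n⁻¹ * ((c : G) * (n * z * n⁻¹)) * n := by group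
        _ = z * (n⁻¹ * c * n) := by rw [hc]; group
    · have hc := Subgroup.mem_centralizer_singleton_iff.1 c.2
      refine Subgroup.mem_centralizer_singleton_iff.2 ?_
      rw [← hny]
      calc n * (c : G) * n⁻¹ * (n * z * n⁻¹) = n * ((c : G) * z) * n⁻¹ := by group
        _ = n * z * n⁻¹ * (n * c * n⁻¹) := by rw [hc]; group
  · intro c hc
    have hc' : c * (n * z * n⁻¹) = n * z * n⁻¹ * c := by
      rw [hny]; exact Subgroup.mem_centralizer_singleton_iff.1 hc
    have hmem : n⁻¹ * c * n ∈ centralizer ({(z : G)} : Set G) := by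
      refine Subgroup.mem_centralizer_singleton_iff.2 ?_
      calc n⁻¹ * c * n * z = n⁻¹ * (c * (n * z * n⁻¹)) * n := by group
        _ = z * (n⁻¹ * c * n) := by rw [hc']; group
    have := mul_mem (mul_mem hn (hzle hmem)) (inv_mem hn)
    rwa [show n * (n⁻¹ * c * n) * n⁻¹ = c by group] at this

/-- A Sylow 3-subgroup is its own centraliser. -/
theorem mem_of_centralizes (E : Sylow 3 G) {c : G}
    (hc : ∀ e ∈ (E : Subgroup G), c * e * c⁻¹ = e) : c ∈ (E : Subgroup G) := by
  classical
  have := Fact.mk Nat.prime_two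
  set C := centralizer ((E : Subgroup G) : Set G) with hC
  have hcC : c ∈ C := Subgroup.mem_centralizer_iff.2 fun e he =>
    (mul_inv_eq_iff_eq_mul.1 (hc e he)).symm
  have hEC : (E : Subgroup G) ≤ C := fun a ha => Subgroup.mem_centralizer_iff.2 fun e he =>
    sylow_three_comm hcard E e he a ha
  have : Nontrivial (E : Subgroup G) :=
    Finite.one_lt_card_iff_nontrivial.1 (by rw [card_sylow_three hcard E]; norm_num)
  obtain ⟨⟨y, hy⟩, hy1⟩ := exists_ne (1 : (E : Subgroup G))
  have hy1' : y ≠ 1 := fun h => hy1 (Subtype.ext h)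
  obtain ⟨-, h18, -⟩ := sylow_three_facts hcard E hy hy1'
  have hCy : C ≤ centralizer ({y} : Set G) := centralizer_le (Set.singleton_subset_iff.2 hy)
  by_contra hcE
  have hd1 := Subgroup.card_dvd_of_le hEC
  have hd2 := Subgroup.card_dvd_of_le hCy
  rw [card_sylow_three hcard E] at hd1
  rw [h18] at hd2
  have hCcard : Nat.card C = 18 := by
    have hne : Nat.card C ≠ 9 := fun h => hcE (by
      rw [Subgroup.eq_of_le_of_card_ge hEC (by rw [h, card_sylow_three hcard E])]
      exact hcC)
    have hle : Nat.card C ≤ 18 := Nat.le_of_dvd (by norm_num) hd2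
    obtain ⟨m, hm⟩ : ∃ m, Nat.card C = 9 * m := hd1
    rw [hm] at hne hle ⊢
    have : m ≠ 0 := fun h => by
      have := (Nat.card_pos : 0 < Nat.card C)
      rw [hm, h] at this
      omega
    omega
  obtain ⟨⟨s, hsC⟩, hs'⟩ := exists_prime_orderOf_dvd_card' (G := C) 2 (by rw [hCcard]; norm_num)
  have hs : orderOf s = 2 := by rwa [← Subgroup.orderOf_coe] at hs'
  -- the involution is fixed by the normaliser
  have hEmul : ∀ a ∈ C, a ^ 9 = 1 → a ∈ (E : Subgroup G) := by
    intro a ha ha9
    have := Fact.mk Nat.prime_three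
    have hpg : IsPGroup 3 (zpowers a) := by
      obtain ⟨k, -, hk⟩ := (Nat.dvd_prime_pow Nat.prime_three).1
        (show orderOf a ∣ 3 ^ 2 from orderOf_dvd_of_pow_eq_one ha9)
      exact IsPGroup.of_card (n := k) (by rw [Nat.card_zpowers, hk])
    exact ((hpg.inf_normalizer_sylow E).le
      ⟨mem_zpowers a, CfsgLib.Small.centralizer_le_normalizer' _ ha⟩).2
  have hcen : normalizer ((E : Subgroup G) : Set G) ≤ centralizer ({s} : Set G) := by
    intro n hn
    have hn' : n * s * n⁻¹ ∈ C := by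
      refine Subgroup.mem_centralizer_iff.2 fun e he => ?_
      have he' : n⁻¹ * e * n ∈ (E : Subgroup G) := by
        have := (Subgroup.mem_normalizer_iff.1 (inv_mem hn) e).1 he
        rwa [inv_inv] at this
      have := Subgroup.mem_centralizer_iff.1 hsC _ he'
      calc e * (n * s * n⁻¹) = n * ((n⁻¹ * e * n) * s) * n⁻¹ := by group
        _ = n * s * n⁻¹ * e := by rw [this]; group
    -- two involutions of `C` differ by an element of `E` they both centralise
    have hidx : ((E : Subgroup G).subgroupOf C).index = 2 := by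
      have h := ((E : Subgroup G).subgroupOf C).card_mul_index
      rw [Nat.card_congr (Subgroup.subgroupOfEquivOfLe hEC).toEquiv, card_sylow_three hcard E, hCcard] at h
      omega
    have hsE : (⟨s, hsC⟩ : C) ∉ (E : Subgroup G).subgroupOf C := fun h => by
      have h2 := Subgroup.orderOf_dvd_natCard _ (show s ∈ (E : Subgroup G) from h)
      rw [hs, card_sylow_three hcard E] at h2
      norm_num at h2
    have hnE : (⟨n * s * n⁻¹, hn'⟩ : C) ∉ (E : Subgroup G).subgroupOf C := fun h => by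
      have h' := (Subgroup.mem_normalizer_iff.1 hn s).2 h
      exact hsE h'
    have he : s * (n * s * n⁻¹) ∈ (E : Subgroup G) :=
      (Subgroup.mul_mem_iff_of_index_two hidx (a := ⟨s, hsC⟩) (b := ⟨_, hn'⟩)).2
        ⟨fun h => absurd h hsE, fun h => absurd h hnE⟩
    set e := s * (n * s * n⁻¹) with he_def
    have hss : s * s = 1 := by rw [← pow_two, ← hs]; exact pow_orderOf_eq_one s
    have hes : s * e = n * s * n⁻¹ := by rw [he_def, ← mul_assoc, hss, one_mul]
    have hcomm : e * s = s * e := Subgroup.mem_centralizer_iff.1 hsC e he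
    have he2 : e * e = 1 := by
      have h1 : (s * e) * (s * e) = 1 := by
        rw [hes, show n * s * n⁻¹ * (n * s * n⁻¹) = n * (s * s) * n⁻¹ by group, hss]
        group
      calc e * e = e * (s * s) * e := by rw [hss, mul_one]
        _ = e * s * (s * e) := by group
        _ = 1 := by rw [hcomm]; exact h1
    have he1 : e = 1 := by
      have h9 : e ^ 9 = 1 := by
        rw [← orderOf_dvd_iff_pow_eq_one, ← card_sylow_three hcard E]
        exact Subgroup.orderOf_dvd_natCard _ he
      rw [show (9 : ℕ) = 2 * 4 + 1 from rfl, pow_succ, pow_mul, pow_two, he2, one_pow, one_mul] at h9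
      exact h9
    rw [he1, mul_one] at hes
    exact Subgroup.mem_centralizer_singleton_iff.2
      ((mul_inv_eq_iff_eq_mul.1 hes.symm))
  have hle := Subgroup.card_le_of_le hcen
  rw [card_normalizer_three hcard E, card_centralizer_involution hcard hs] at hle
  omega

theorem coord (E : Sylow 3 G) : Nonempty (Coord (E : Subgroup G)) :=
  nonempty_coord (card_sylow_three hcard E) (sylow_three_comm hcard E) fun a ha => by
    by_cases h : a = 1
    · rw [h, one_pow]
    · exact (sylow_three_facts hcard E ha h).1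

/-- An element of order four in the normaliser squares to an inverting involution. -/
theorem inv_of_order_four (E : Sylow 3 G) {x : G}
    (hx : x ∈ normalizer ((E : Subgroup G) : Set G)) (ho : orderOf x = 4) : Inv (x * x) E := by
  obtain ⟨c⟩ := coord hcard E
  have h4 : x ^ 4 = 1 := ho ▸ pow_orderOf_eq_one x
  have h2ord : orderOf (x * x) = 2 := by
    refine orderOf_eq_prime (by rw [← pow_two, ← pow_mul]; exact h4) fun h => ?_
    have := orderOf_dvd_of_pow_eq_one (show x ^ 2 = 1 by rw [pow_two]; exact h)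
    rw [ho] at this
    norm_num at this
  set n : normalizer ((E : Subgroup G) : Set G) := ⟨x, hx⟩
  have hn4 : n * (n * (n * n)) = 1 :=
    Subtype.ext (show x * (x * (x * x)) = 1 by rw [← h4]; simp [pow_succ, mul_assoc])
  have happ : ∀ v, c.act n (c.act n (c.act n (c.act n v))) = v := fun v => by
    rw [← c.act_mul, ← c.act_mul, ← c.act_mul, show n * n * n * n = 1 by
      rw [← hn4]; simp [mul_assoc], c.act_one]
  set p := c.act n (1, 0) with hp'
  set q := c.act n (0, 1) with hq'
  have hL : ∀ v, c.act n v = lin p q v := eq_lin (c.act n)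
  have hp : lin p q (lin p q (lin p q (lin p q (1, 0)))) = (1, 0) := by
    rw [← hL, ← hL, ← hL, ← hL]; exact happ _
  have hq : lin p q (lin p q (lin p q (lin p q (0, 1)))) = (0, 1) := by
    rw [← hL, ← hL, ← hL, ← hL]; exact happ _
  have key := lin_four p q hp hq fun h => by
    have hcen : ∀ e ∈ (E : Subgroup G), x * x * e * (x * x)⁻¹ = e := by
      intro e he
      have := c.conj_eq_of_act (n * n) 1 (by rw [c.act_mul, c.act_one, hL, hL]; exact h.1)
        (by rw [c.act_mul, c.act_one, hL, hL]; exact h.2) e he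
      simpa [n] using this
    have hd := Subgroup.orderOf_dvd_natCard _ (mem_of_centralizes hcard E hcen)
    rw [h2ord, card_sylow_three hcard E] at hd
    norm_num at hd
  exact ⟨h2ord, c.conj_of_act_inv (n * n) (by rw [c.act_mul, hL, hL]; exact key.1)
    (by rw [c.act_mul, hL, hL]; exact key.2)⟩

/-- An elementary abelian 2-group in the normaliser has order at most four. -/
theorem card_le_four (E : Sylow 3 G) (T : Subgroup G)
    (hT : T ≤ normalizer ((E : Subgroup G) : Set G)) (h2 : ∀ t ∈ T, t * t = 1) :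
    Nat.card T ≤ 4 := by
  classical
  obtain ⟨c⟩ := coord hcard E
  let g : T → (ZMod 3 × ZMod 3) × (ZMod 3 × ZMod 3) := fun t =>
    (c.act ⟨t.1, hT t.2⟩ (1, 0), c.act ⟨t.1, hT t.2⟩ (0, 1))
  have hinj : Function.Injective g := by
    intro s t h
    have hprod : (t : G)⁻¹ * s ∈ (E : Subgroup G) := mem_of_centralizes hcard E fun e he => by
      have hc := c.conj_eq_of_act ⟨s.1, hT s.2⟩ ⟨t.1, hT t.2⟩ (Prod.ext_iff.1 h).1
        (Prod.ext_iff.1 h).2 e he
      calc (t : G)⁻¹ * s * e * ((t : G)⁻¹ * s)⁻¹ = (t : G)⁻¹ * ((s : G) * e * (s : G)⁻¹) * t := by group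
        _ = e := by rw [hc]; group
    have hd1 := Subgroup.orderOf_dvd_natCard _ hprod
    rw [card_sylow_three hcard E] at hd1
    have hd2 : orderOf ((t : G)⁻¹ * s) ∣ 2 := orderOf_dvd_of_pow_eq_one (by
      rw [pow_two]; exact h2 _ (mul_mem (inv_mem t.2) s.2))
    have h1 := orderOf_eq_one_iff.1 (Nat.dvd_one.1 (Nat.dvd_gcd hd1 hd2))
    exact Subtype.ext (inv_mul_eq_one.1 h1).symm
  set S := (Set.range g).toFinset with hS
  have hcardS : Nat.card T = S.card := by
    rw [hS, ← Set.ncard_eq_toFinset_card', Set.ncard_range_of_injective hinj]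
  have hsq : ∀ t : T, lin (g t).1 (g t).2 (g t).1 = (1, 0) ∧ lin (g t).1 (g t).2 (g t).2 = (0, 1) := by
    intro t
    have h : (⟨t.1, hT t.2⟩ : normalizer ((E : Subgroup G) : Set G)) * ⟨t.1, hT t.2⟩ = 1 :=
      Subtype.ext (h2 _ t.2)
    constructor <;>
    · simp only [g]
      rw [← eq_lin, ← c.act_mul, h, c.act_one]
  have hcom : ∀ s t : T, lin (g s).1 (g s).2 (g t).1 = lin (g t).1 (g t).2 (g s).1 ∧
      lin (g s).1 (g s).2 (g t).2 = lin (g t).1 (g t).2 (g s).2 := by
    intro s t
    have hst : (s : G) * t = t * s := by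
      have h := h2 _ (mul_mem s.2 t.2)
      have hs := h2 _ s.2
      have ht := h2 _ t.2
      calc (s : G) * t = ((s : G) * t)⁻¹ := (inv_eq_of_mul_eq_one_right h).symm
        _ = (t : G)⁻¹ * (s : G)⁻¹ := mul_inv_rev _ _
        _ = t * s := by rw [inv_eq_of_mul_eq_one_right hs, inv_eq_of_mul_eq_one_right ht]
    have h : (⟨s.1, hT s.2⟩ : normalizer ((E : Subgroup G) : Set G)) * ⟨t.1, hT t.2⟩ =
        ⟨t.1, hT t.2⟩ * ⟨s.1, hT s.2⟩ := Subtype.ext hst
    constructor <;>
    · simp only [g]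
      rw [← eq_lin, ← eq_lin, ← c.act_mul, ← c.act_mul, h]
  rw [hcardS]
  by_cases hM : ∃ t : T, ¬((g t).1 = (1, 0) ∧ (g t).2 = (0, 1)) ∧ ¬((g t).1 = (2, 0) ∧ (g t).2 = (0, 2))
  · obtain ⟨t, ht1, ht2⟩ := hM
    refine (Finset.card_le_card (t := {((1, 0), (0, 1)), ((2, 0), (0, 2)), g t,
      (lin (2, 0) (0, 2) (g t).1, lin (2, 0) (0, 2) (g t).2)}) fun v hv => ?_).trans Finset.card_le_four
    obtain ⟨s, rfl⟩ := Set.mem_toFinset.1 hv
    simp only [Finset.mem_insert, Finset.mem_singleton, Prod.ext_iff]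
    simpa only [Prod.ext_iff] using
      lin_pair _ _ (hsq t).1 (hsq t).2 ht1 ht2 _ _ (hsq s).1 (hsq s).2 (hcom t s).1 (hcom t s).2
  · push Not at hM
    refine (Finset.card_le_card (t := {((1, 0), (0, 1)), ((2, 0), (0, 2))}) fun v hv => ?_).trans
      (Finset.card_le_two.trans (by norm_num))
    obtain ⟨s, rfl⟩ := Set.mem_toFinset.1 hv
    simp only [Finset.mem_insert, Finset.mem_singleton, Prod.ext_iff]
    by_cases h : (g s).1 = (1, 0) ∧ (g s).2 = (0, 1)
    · exact Or.inl ⟨by rw [h.1]; exact ⟨rfl, rfl⟩, by rw [h.2]; exact ⟨rfl, rfl⟩⟩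
    · have h' := hM s fun a b => h ⟨a, b⟩
      exact Or.inr ⟨by rw [h'.1]; exact ⟨rfl, rfl⟩, by rw [h'.2]; exact ⟨rfl, rfl⟩⟩

/-- A 2-subgroup of order at least eight of a normaliser has an element of order four. -/
theorem exists_order_four (E : Sylow 3 G) (T : Subgroup G)
    (hT : T ≤ normalizer ((E : Subgroup G) : Set G)) {k : ℕ} (hk : Nat.card T = 2 ^ k)
    (hk3 : 3 ≤ k) : ∃ x ∈ T, orderOf x = 4 := by
  by_contra hno
  push Not at hno
  have h2 : ∀ t ∈ T, t * t = 1 := by
    intro t ht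
    obtain ⟨j, -, hj⟩ := (Nat.dvd_prime_pow Nat.prime_two).1 (hk ▸ Subgroup.orderOf_dvd_natCard _ ht)
    rcases Nat.lt_or_ge j 2 with h | h
    · rw [← pow_two, ← orderOf_dvd_iff_pow_eq_one, hj]
      exact (Nat.pow_dvd_pow 2 (show j ≤ 1 by omega))
    · exact absurd (by
        rw [orderOf_pow' _ (by positivity), hj, Nat.gcd_eq_right (Nat.pow_dvd_pow 2 (by omega)),
          Nat.pow_div (by omega) (by norm_num), show j - (j - 2) = 2 by omega])
        (hno _ (pow_mem ht (2 ^ (j - 2))))
  have := card_le_four hcard E T hT h2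
  have h8 : 2 ^ 3 ≤ 2 ^ k := Nat.pow_le_pow_right (by norm_num) hk3
  omega

theorem exists_inv (E : Sylow 3 G) : ∃ z, Inv z E := by
  have := Fact.mk Nat.prime_two
  obtain ⟨T, hT⟩ := Sylow.exists_subgroup_card_pow_prime 2
    (show 2 ^ 4 ∣ Nat.card (normalizer ((E : Subgroup G) : Set G)) by
      rw [card_normalizer_three hcard E]; norm_num)
  obtain ⟨x, hx, hxo⟩ := exists_order_four hcard E (T.map (normalizer ((E : Subgroup G) : Set G)).subtype)
    (Subgroup.map_subtype_le _) (k := 4)
    (by rw [Subgroup.card_map_of_injective (Subgroup.subtype_injective _), hT]) (by norm_num)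
  exact ⟨x * x, inv_of_order_four hcard E (Subgroup.map_subtype_le _ hx) hxo⟩

/-- Two inverting involutions differ by an element of the Sylow subgroup, and are conjugate
under it. -/
theorem Inv.exists_conj {E : Sylow 3 G} {s t : G} (hs : Inv s E) (ht : Inv t E) :
    ∃ e ∈ (E : Subgroup G), e * s * e⁻¹ = t := by
  have hE : s⁻¹ * t ∈ (E : Subgroup G) := mem_of_centralizes hcard E fun e he => by
    calc s⁻¹ * t * e * (s⁻¹ * t)⁻¹ = s⁻¹ * (t * e * t⁻¹) * s := by group
      _ = (s⁻¹ * e * s)⁻¹ := by rw [ht.2 e he]; group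
      _ = e := by
        have hss : s⁻¹ = s :=
          inv_eq_of_mul_eq_one_right (by rw [← pow_two, ← hs.1]; exact pow_orderOf_eq_one s)
        have h := hs.2 e he
        rw [hss] at h
        rw [hss, h, inv_inv]
  set f := s⁻¹ * t with hf
  have hf3 : f ^ 3 = 1 := by
    by_cases h : f = 1
    · rw [h, one_pow]
    · exact (sylow_three_facts hcard E hE h).1
  refine ⟨f, hE, ?_⟩
  -- `f s f⁻¹ = s f⁻²`
  have h1 : s * f⁻¹ * s⁻¹ = f := by rw [hs.2 _ (inv_mem hE), inv_inv]
  calc f * s * f⁻¹ = f * (s * f⁻¹ * s⁻¹) * s := by group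
    _ = f * f * s := by rw [h1]
    _ = f⁻¹ * s := by
      rw [show f⁻¹ = f * f from inv_eq_of_mul_eq_one_right (by rw [← mul_assoc, ← hf3]; simp [pow_succ])]
    _ = s * (s⁻¹ * f⁻¹ * s) := by group
    _ = s * f := by
      have hss : s⁻¹ = s :=
        inv_eq_of_mul_eq_one_right (by rw [← pow_two, ← hs.1]; exact pow_orderOf_eq_one s)
      rw [hss] at h1 ⊢
      rw [h1]
    _ = t := by rw [hf]; group

/-- The centraliser of an inverting involution meets the Sylow subgroup trivially. -/
theorem Inv.eq_one_of_comm {E : Sylow 3 G} {s e : G} (hs : Inv s E) (he : e ∈ (E : Subgroup G))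
    (hc : s * e = e * s) : e = 1 := by
  have h := hs.2 e he
  rw [hc, mul_inv_cancel_right] at h
  have h2 : e ^ 2 = 1 := by rw [pow_two]; nth_rw 2 [h]; exact mul_inv_cancel e
  have hd := Subgroup.orderOf_dvd_natCard _ he
  rw [card_sylow_three hcard E] at hd
  exact orderOf_eq_one_iff.1 (Nat.dvd_one.1 (Nat.dvd_gcd hd (orderOf_dvd_of_pow_eq_one h2)))

/-- An involution inverting two Sylow subgroups is unique. -/
theorem Inv.unique {E F : Sylow 3 G} (hEF : E ≠ F) {s t : G} (hsE : Inv s E) (hsF : Inv s F)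
    (htE : Inv t E) (htF : Inv t F) : s = t := by
  have key : ∀ P : Sylow 3 G, Inv s P → Inv t P → s⁻¹ * t ∈ (P : Subgroup G) := by
    intro P hs ht
    obtain ⟨e, he, rfl⟩ := Inv.exists_conj hcard hs ht
    have : s⁻¹ * (e * s * e⁻¹) = (s⁻¹ * e * s) * e⁻¹ := by group
    rw [this]
    exact mul_mem (by
      have := (Subgroup.mem_normalizer_iff.1 (inv_mem hs.mem_normalizer) e).1 he
      rwa [inv_inv] at this) (inv_mem he)
  by_contra hne
  exact hEF (sylow_three_ti hcard (key E hsE htE) (key F hsF htF)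
    fun h => hne (inv_mul_eq_one.1 h))

theorem card_inv (E : Sylow 3 G) : Nat.card {t : G // Inv t E} = 9 := by
  obtain ⟨z, hz⟩ := exists_inv hcard E
  rw [← card_sylow_three hcard E]
  refine (Nat.card_congr (Equiv.ofBijective
    (fun e : (E : Subgroup G) => (⟨(e : G) * z * (e : G)⁻¹,
      by
        have := hz.conj (e : G)
        rwa [Sylow.smul_eq_iff_mem_normalizer.2 (Subgroup.le_normalizer e.2)] at this⟩ : {t : G // Inv t E}))
    ⟨fun a b h => ?_, fun t => ?_⟩)).symm
  · have h' : (a : G) * z * (a : G)⁻¹ = (b : G) * z * (b : G)⁻¹ := congrArg Subtype.val h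
    have : z * ((b : G)⁻¹ * a) = (b : G)⁻¹ * a * z := by
      calc z * ((b : G)⁻¹ * a) = (b : G)⁻¹ * ((b : G) * z * (b : G)⁻¹) * a := by group
        _ = (b : G)⁻¹ * a * z := by rw [← h']; group
    exact Subtype.ext (inv_mul_eq_one.1
      (hz.eq_one_of_comm hcard (mul_mem (inv_mem b.2) a.2) this)).symm
  · obtain ⟨e, he, h⟩ := hz.exists_conj hcard t.2
    exact ⟨⟨e, he⟩, Subtype.ext h⟩

/-- An inverting involution inverts exactly three Sylow subgroups. -/
theorem card_inverted {z : G} {E : Sylow 3 G} (hz : Inv z E) :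
    Nat.card {F : Sylow 3 G // Inv z F} = 3 := by
  classical
  have := Fact.mk Nat.prime_three
  let _ : Fintype G := Fintype.ofFinite G
  let _ : Fintype (Sylow 3 G) := Fintype.ofFinite _
  set K : Finset G := Finset.univ.filter fun t => IsConj z t with hK
  have hK165 : K.card = 165 := by
    have h := CfsgLib.Order7920.ncard_isConj z
    have h2 := (centralizer ({z} : Set G)).card_mul_index
    rw [card_centralizer_involution hcard hz.1, hcard, h,
      show {t : G | IsConj z t} = (K : Set G) by ext t; simp [hK], Set.ncard_coe_finset] at h2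
    omega
  have hinK : ∀ (F : Sylow 3 G) (t : G), Inv t F → t ∈ K := by
    intro F t ht
    obtain ⟨g, rfl⟩ := MulAction.exists_smul_eq G E F
    obtain ⟨e, -, h⟩ := (hz.conj g).exists_conj hcard ht
    exact Finset.mem_filter.2 ⟨Finset.mem_univ _, isConj_iff.2 ⟨e * g, by rw [← h]; group⟩⟩
  have hm : ∀ t ∈ K, (Finset.univ.bipartiteBelow (fun (F : Sylow 3 G) t => Inv t F) t).card =
      Nat.card {F : Sylow 3 G // Inv z F} := by
    intro t ht
    obtain ⟨g, rfl⟩ := isConj_iff.1 (Finset.mem_filter.1 ht).2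
    rw [Finset.bipartiteBelow, ← Fintype.card_subtype, ← Nat.card_eq_fintype_card]
    refine Nat.card_congr (Equiv.subtypeEquiv (MulAction.toPerm g⁻¹) fun F => ?_)
    refine ⟨fun h => ?_, fun h => ?_⟩
    · have := h.conj g⁻¹
      rwa [show g⁻¹ * (g * z * g⁻¹) * g⁻¹⁻¹ = z by group] at this
    · have := h.conj g
      rwa [MulAction.toPerm_apply, smul_inv_smul] at this
  have h := Finset.sum_card_bipartiteAbove_eq_sum_card_bipartiteBelow
    (fun (F : Sylow 3 G) t => Inv t F) (s := Finset.univ) (t := K)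
  rw [Finset.sum_congr rfl hm, Finset.sum_const, hK165, Finset.sum_congr rfl (g := fun _ => 9)
    (fun F _ => by
      rw [← card_inv hcard F, Nat.card_eq_fintype_card, Fintype.card_subtype, Finset.bipartiteAbove]
      congr 1
      ext t
      simp only [Finset.mem_filter, Finset.mem_univ, true_and]
      exact ⟨fun h => h.2, fun h => ⟨hinK F t h, h⟩⟩),
    Finset.sum_const, Finset.card_univ, ← Nat.card_eq_fintype_card, card_sylow_set hcard] at h
  simp only [smul_eq_mul] at h
  omega

/-- The three Sylow subgroups of an involution, and the action of its centraliser on them. -/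
theorem triangle {z : G} {E : Sylow 3 G} (hz : Inv z E) :
    ∃ F₁ F₂ : Sylow 3 G, E ≠ F₁ ∧ E ≠ F₂ ∧ F₁ ≠ F₂ ∧ Inv z F₁ ∧ Inv z F₂ ∧
      (∀ F, Inv z F → F = E ∨ F = F₁ ∨ F = F₂) ∧
      Nat.card (normalizer ((E : Subgroup G) : Set G) ⊓ normalizer ((F₁ : Subgroup G) : Set G) :
        Subgroup G) = 8 ∧
      (∀ q ∈ normalizer ((E : Subgroup G) : Set G), q • F₁ = F₁ → q • F₂ = F₂ ∧
        ∀ e ∈ (E : Subgroup G), e ≠ 1 → q * e * q⁻¹ = e → q = 1) ∧
      ∃ s ∈ normalizer ((E : Subgroup G) : Set G), s • F₁ = F₂ ∧ s • F₂ = F₁ := by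
  classical
  have := Fact.mk Nat.prime_two
  have := Fact.mk Nat.prime_three
  let _ : Fintype (Sylow 3 G) := Fintype.ofFinite _
  have h3 := card_inverted hcard hz
  rw [Nat.card_eq_fintype_card, Fintype.card_subtype] at h3
  set Δ := Finset.univ.filter fun F : Sylow 3 G => Inv z F with hΔ
  have hmemΔ : ∀ F, F ∈ Δ ↔ Inv z F := fun F => by simp [hΔ]
  obtain ⟨F₁, F₂, h12, herase⟩ := Finset.card_eq_two.1
    (show (Δ.erase E).card = 2 by rw [Finset.card_erase_of_mem ((hmemΔ E).2 hz), h3])
  have hF₁ : F₁ ≠ E ∧ Inv z F₁ := by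
    have : F₁ ∈ Δ.erase E := by rw [herase]; simp
    exact ⟨(Finset.mem_erase.1 this).1, (hmemΔ _).1 (Finset.mem_erase.1 this).2⟩
  have hF₂ : F₂ ≠ E ∧ Inv z F₂ := by
    have : F₂ ∈ Δ.erase E := by rw [herase]; simp
    exact ⟨(Finset.mem_erase.1 this).1, (hmemΔ _).1 (Finset.mem_erase.1 this).2⟩
  have hall : ∀ F, Inv z F → F = E ∨ F = F₁ ∨ F = F₂ := by
    intro F hF
    by_cases h : F = E
    · exact Or.inl h
    · have : F ∈ Δ.erase E := Finset.mem_erase.2 ⟨h, (hmemΔ F).2 hF⟩
      rw [herase] at this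
      simpa [h] using this
  set C := centralizer ({z} : Set G) with hC
  set N := normalizer ((E : Subgroup G) : Set G) with hN
  have hC48 : Nat.card C = 48 := card_centralizer_involution hcard hz.1
  have hmaps : ∀ c : C, ∀ F, Inv z F → Inv z ((c : G) • F) := by
    intro c F hF
    have := hF.conj (c : G)
    rwa [Subgroup.mem_centralizer_singleton_iff.1 c.2, mul_inv_cancel_right] at this
  -- the stabiliser of `E` in the centraliser has order sixteen
  have hCN : Nat.card (C ⊓ N : Subgroup G) = 16 := by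
    have hg : ∀ n : N, Inv ((n : G) * z * (n : G)⁻¹) E := fun n => by
      have := hz.conj (n : G)
      rwa [Sylow.smul_eq_iff_mem_normalizer.2 n.2] at this
    let g : N → {t : G // Inv t E} := fun n => ⟨_, hg n⟩
    have hb : Function.Bijective
        (fun p : ↥(E : Subgroup G) × ↥(C ⊓ N) =>
          (⟨(p.1 : G) * p.2, mul_mem (Subgroup.le_normalizer p.1.2) p.2.2.2⟩ : N)) := by
      constructor
      · rintro ⟨a, c⟩ ⟨b, d⟩ h
        have h' : (a : G) * c = b * d := congrArg Subtype.val h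
        have hba : (b : G)⁻¹ * a = (d : G) * (c : G)⁻¹ := by
          calc (b : G)⁻¹ * a = (b : G)⁻¹ * ((a : G) * c) * (c : G)⁻¹ := by group
            _ = _ := by rw [h']; group
        have hmem : (b : G)⁻¹ * a ∈ (E : Subgroup G) := mul_mem (inv_mem b.2) a.2
        have hcz : z * ((b : G)⁻¹ * a) = (b : G)⁻¹ * a * z := by
          rw [hba]
          exact (Subgroup.mem_centralizer_singleton_iff.1 (mul_mem d.2.1 (inv_mem c.2.1))).symm
        have hab : (a : G) = b := (inv_mul_eq_one.1 (hz.eq_one_of_comm hcard hmem hcz)).symm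
        have hcd : (c : G) = d := by
          rw [hab] at h'
          exact mul_left_cancel h'
        exact Prod.ext (Subtype.ext hab) (Subtype.ext hcd)
      · intro n
        obtain ⟨e, he, h⟩ := hz.exists_conj hcard (hg n)
        refine ⟨(⟨e, he⟩, ⟨e⁻¹ * n, Subgroup.mem_centralizer_singleton_iff.2 ?_,
          (show e⁻¹ * (n : G) ∈ N from N.mul_mem (N.inv_mem (Subgroup.le_normalizer he)) n.2)⟩), Subtype.ext (by simp)⟩
        calc e⁻¹ * (n : G) * z = e⁻¹ * ((n : G) * z * (n : G)⁻¹) * n := by group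
          _ = z * (e⁻¹ * n) := by rw [← h]; group
    have := Nat.card_congr (Equiv.ofBijective _ hb)
    rw [Nat.card_prod, card_sylow_three hcard E, card_normalizer_three hcard E] at this
    omega
  -- orbit
  have horb : (orbit C E).ncard = 3 := by
    have h := MulAction.index_stabilizer C E
    have hst : stabilizer C E = (C ⊓ N).subgroupOf C := by
      ext c
      simp only [mem_stabilizer_iff, Subgroup.mem_subgroupOf, Subgroup.mem_inf]
      change (c : G) • E = E ↔ _
      rw [Sylow.smul_eq_iff_mem_normalizer]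
      exact ⟨fun h => ⟨c.2, h⟩, fun h => h.2⟩
    have h2 := (stabilizer C E).card_mul_index
    rw [h, hst, Nat.card_congr (Subgroup.subgroupOfEquivOfLe inf_le_left).toEquiv, hCN, hC48] at h2
    omega
  have horbeq : orbit C E = {F | Inv z F} := by
    refine Set.eq_of_subset_of_ncard_le (fun F hF => ?_) ?_
    · obtain ⟨c, rfl⟩ := hF
      exact hmaps c E hz
    · rw [horb, Set.ncard_eq_toFinset_card', Set.toFinset_setOf, ← hΔ, h3]
  -- the kernel
  let act : C →* Equiv.Perm {F : Sylow 3 G // Inv z F} :=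
    { toFun := fun c =>
        { toFun := fun F => ⟨(c : G) • F.1, hmaps c _ F.2⟩
          invFun := fun F => ⟨((c⁻¹ : C) : G) • F.1, hmaps c⁻¹ _ F.2⟩
          left_inv := fun F => Subtype.ext (by simp)
          right_inv := fun F => Subtype.ext (by simp) }
      map_one' := Equiv.ext fun F => Subtype.ext (by simp)
      map_mul' := fun a b => Equiv.ext fun F => Subtype.ext (by simp [mul_smul]) }
  have hker : ∀ c : C, c ∈ act.ker ↔ (c : G) • E = E ∧ (c : G) • F₁ = F₁ ∧ (c : G) • F₂ = F₂ := by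
    intro c
    refine ⟨fun h => ?_, fun h => MonoidHom.mem_ker.2 (Equiv.ext fun F => Subtype.ext ?_)⟩
    · have h' := MonoidHom.mem_ker.1 h
      exact ⟨congrArg (fun σ => (σ ⟨E, hz⟩).1) h', congrArg (fun σ => (σ ⟨F₁, hF₁.2⟩).1) h',
        congrArg (fun σ => (σ ⟨F₂, hF₂.2⟩).1) h'⟩
    · rcases hall F.1 F.2 with e | e | e <;> show (c : G) • F.1 = F.1 <;> rw [e]
      exacts [h.1, h.2.1, h.2.2]
  set R := act.ker.map C.subtype with hR
  have hmemR : ∀ r, r ∈ R ↔ r ∈ C ∧ r • E = E ∧ r • F₁ = F₁ ∧ r • F₂ = F₂ := by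
    intro r
    rw [hR, Subgroup.mem_map]
    refine ⟨?_, fun h => ⟨⟨r, h.1⟩, (hker _).2 h.2, rfl⟩⟩
    rintro ⟨c, hc, rfl⟩
    exact ⟨c.2, (hker c).1 hc⟩
  have hRCN : R ≤ C ⊓ N := fun r hr => by
    obtain ⟨h1, h2, -⟩ := (hmemR r).1 hr
    exact ⟨h1, Sylow.smul_eq_iff_mem_normalizer.1 h2⟩
  have hRdvd : Nat.card R ∣ 16 := hCN ▸ Subgroup.card_dvd_of_le hRCN
  have hR8 : 8 ≤ Nat.card R := by
    have h := act.ker.card_mul_index
    rw [Subgroup.index_ker, hC48] at h
    rw [hR, Subgroup.card_map_of_injective (Subgroup.subtype_injective _)]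
    have h6 : Nat.card act.range ≤ 6 := by
      refine (Subgroup.card_le_card_group act.range).trans ?_
      rw [Nat.card_eq_fintype_card, Fintype.card_perm, Fintype.card_subtype, ← hΔ, h3]
      rfl
    nlinarith
  -- an element of order three in the centraliser
  obtain ⟨y₀, hy₀⟩ := exists_prime_orderOf_dvd_card' (G := C) 3 (by rw [hC48]; norm_num)
  have hyo : orderOf (y₀ : G) = 3 := by rw [Subgroup.orderOf_coe, hy₀]
  have hyC : (y₀ : G) * z = z * y₀ := Subgroup.mem_centralizer_singleton_iff.1 y₀.2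
  set σ : Equiv.Perm G := (MulAut.conj (y₀ : G)).toEquiv with hσ
  have hσapp : ∀ x, σ x = (y₀ : G) * x * (y₀ : G)⁻¹ := fun x => rfl
  have hσR : ∀ x ∈ R, σ x ∈ R := by
    intro x hx
    rw [hR, Subgroup.mem_map] at hx ⊢
    obtain ⟨c, hc, rfl⟩ := hx
    exact ⟨y₀ * c * y₀⁻¹, (MonoidHom.normal_ker act).conj_mem c hc y₀, by simp [hσapp]⟩
  have hzR : z ∈ R := (hmemR z).2 ⟨Subgroup.mem_centralizer_singleton_iff.2 rfl,
    Sylow.smul_eq_iff_mem_normalizer.2 hz.mem_normalizer,
    Sylow.smul_eq_iff_mem_normalizer.2 hF₁.2.mem_normalizer,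
    Sylow.smul_eq_iff_mem_normalizer.2 hF₂.2.mem_normalizer⟩
  have hz1 : z ≠ 1 := fun h => by have := hz.1; rw [h, orderOf_one] at this; omega
  have hfix : ∀ x ∈ R, σ x = x → x = 1 ∨ x = z := by
    intro x hx hfx
    have hxy : x ∈ centralizer ({(y₀ : G)} : Set G) := Subgroup.mem_centralizer_singleton_iff.2 (by
      rw [hσapp] at hfx
      exact (mul_inv_eq_iff_eq_mul.1 hfx).symm)
    have hzy : z ∈ centralizer ({(y₀ : G)} : Set G) :=
      Subgroup.mem_centralizer_singleton_iff.2 hyC.symm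
    set J := R ⊓ centralizer ({(y₀ : G)} : Set G) with hJ
    have hJ2 : Nat.card J ∣ 2 := by
      have h1 := (Subgroup.card_dvd_of_le (inf_le_left : J ≤ R)).trans hRdvd
      have h2 := Subgroup.card_dvd_of_le (inf_le_right : J ≤ centralizer ({(y₀ : G)} : Set G))
      rcases centralizer_three_cases hcard hyo with h | h <;> rw [h] at h2
      · exact (Nat.dvd_gcd h1 h2).trans (by norm_num)
      · exact (Nat.dvd_gcd h1 h2).trans (by norm_num)
    let _ : Fintype J := Fintype.ofFinite _
    by_contra hne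
    push Not at hne
    have hsub : ({1, z, x} : Finset G) ⊆ Finset.univ.map ⟨Subtype.val, Subtype.val_injective (p := (· ∈ J))⟩ := by
      intro a ha
      simp only [Finset.mem_insert, Finset.mem_singleton] at ha
      simp only [Finset.mem_map, Finset.mem_univ, true_and, Function.Embedding.coeFn_mk, Subtype.exists,
        exists_prop, exists_eq_right]
      rcases ha with rfl | rfl | rfl
      exacts [one_mem _, ⟨hzR, hzy⟩, ⟨hx, hxy⟩]
    have h := Finset.card_le_card hsub
    rw [Finset.card_map, Finset.card_univ, ← Nat.card_eq_fintype_card,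
      Finset.card_eq_three.2 ⟨1, z, x, hz1.symm, fun e => hne.1 e.symm, fun e => hne.2 e.symm, rfl⟩] at h
    have := Nat.le_of_dvd (by norm_num) hJ2
    omega
  let _ : Fintype R := Fintype.ofFinite _
  set RF : Finset G := (R : Set G).toFinset with hRF
  have hRFmem : ∀ x, x ∈ RF ↔ x ∈ R := fun x => by simp [hRF]
  have hRFcard : RF.card = Nat.card R := by
    rw [hRF, Set.toFinset_card, ← Nat.card_eq_fintype_card]
    rfl
  have hσ3 : σ ^ 3 = 1 := by
    ext x
    have h3 : (y₀ : G) ^ 3 = 1 := hyo ▸ pow_orderOf_eq_one _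
    simp only [pow_succ, pow_zero, one_mul] at h3
    simp only [pow_succ, pow_zero, one_mul, Equiv.Perm.mul_apply, hσapp, Equiv.Perm.one_apply]
    calc (y₀ : G) * ((y₀ : G) * ((y₀ : G) * x * (y₀ : G)⁻¹) * (y₀ : G)⁻¹) * (y₀ : G)⁻¹
        = ((y₀ : G) * y₀ * y₀) * x * ((y₀ : G) * y₀ * y₀)⁻¹ := by group
      _ = x := by rw [h3]; simp
  have hR8' : Nat.card R = 8 := by
    let _ : Fintype G := Fintype.ofFinite G
    have hmod := SharpSteiner.card_fixed_modEq (p := 3) hσ3 (F := RF)
      (fun x hx => (hRFmem _).2 (hσR x ((hRFmem x).1 hx)))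
    have h2 : (RF.filter fun x => σ x = x).card = 2 := by
      rw [show (RF.filter fun x => σ x = x) = {1, z} from ?_, Finset.card_pair hz1.symm]
      ext x
      simp only [Finset.mem_filter, hRFmem, Finset.mem_insert, Finset.mem_singleton]
      refine ⟨fun h => hfix x h.1 h.2, ?_⟩
      rintro (rfl | rfl)
      · exact ⟨one_mem _, by simp [hσapp]⟩
      · exact ⟨hzR, by rw [hσapp, hyC, mul_inv_cancel_right]⟩
    rw [h2, hRFcard] at hmod
    have hle := Nat.le_of_dvd (by norm_num) hRdvd
    unfold Nat.ModEq at hmod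
    have : Nat.card R = 8 ∨ Nat.card R = 16 := by
      obtain ⟨k, hk, hk'⟩ := (Nat.dvd_prime_pow Nat.prime_two).1 (show Nat.card R ∣ 2 ^ 4 from hRdvd)
      rw [hk'] at hR8 ⊢
      interval_cases k <;> omega
    omega
  -- only one involution
  have hinvol : ∀ x ∈ R, x * x = 1 → x = 1 ∨ x = z := by
    intro x hx hxx
    by_contra hne
    push Not at hne
    obtain ⟨a, ha, hao⟩ := exists_order_four hcard E R (hRCN.trans inf_le_right) (k := 3)
      (by rw [hR8']; norm_num) le_rfl
    have ha1 : a * a ≠ 1 := fun h => by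
      have := orderOf_dvd_of_pow_eq_one (show a ^ 2 = 1 by rw [pow_two]; exact h)
      rw [hao] at this
      norm_num at this
    have hzz : z * z = 1 := by rw [← pow_two, ← hz.1]; exact pow_orderOf_eq_one z
    have hσmul : ∀ u v, σ (u * v) = σ u * σ v := fun u v => by simp [hσapp, mul_assoc]
    have hσ1 : ∀ u, σ u = 1 ↔ u = 1 := fun u => by rw [hσapp, conj_eq_one_iff]
    set J := RF.filter fun u => u * u ≠ 1 with hJ
    set I := (RF.filter fun u => u * u = 1) \ {1, z} with hI
    have hfix0 : ∀ u ∈ RF, u ≠ 1 → u ≠ z → σ u ≠ u := fun u hu h1 h2 h => by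
      rcases hfix u ((hRFmem u).1 hu) h with e | e
      exacts [h1 e, h2 e]
    have hJne : ∀ u ∈ J, u ≠ 1 ∧ u ≠ z ∧ u⁻¹ ≠ u := fun u hu => by
      have h := (Finset.mem_filter.1 hu).2
      exact ⟨fun e => h (by rw [e, one_mul]), fun e => h (by rw [e, hzz]),
        fun e => h (by nth_rw 1 [← e]; exact inv_mul_cancel u)⟩
    have hσz : σ z = z := by rw [hσapp, hyC, mul_inv_cancel_right]
    let _ : Fintype G := Fintype.ofFinite G
    have hJ3 : J.card % 3 = 0 := by
      have hmod := SharpSteiner.card_fixed_modEq (p := 3) hσ3 (F := J) fun u hu => by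
        obtain ⟨hu1, hu2⟩ := Finset.mem_filter.1 hu
        refine Finset.mem_filter.2 ⟨(hRFmem _).2 (hσR u ((hRFmem u).1 hu1)), ?_⟩
        rwa [← hσmul, Ne, hσ1]
      rw [Finset.filter_eq_empty_iff.2 fun u hu => hfix0 u (Finset.mem_filter.1 hu).1 (hJne u hu).1
        (hJne u hu).2.1, Finset.card_empty] at hmod
      exact hmod.symm
    have hJ2 : J.card % 2 = 0 := by
      have hmod := SharpSteiner.card_fixed_modEq (p := 2) (σ := Equiv.inv G)
        (by ext u; simp [pow_succ]) (F := J) fun u hu => by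
          obtain ⟨hu1, hu2⟩ := Finset.mem_filter.1 hu
          refine Finset.mem_filter.2 ⟨(hRFmem _).2 (inv_mem ((hRFmem u).1 hu1)), ?_⟩
          show u⁻¹ * u⁻¹ ≠ 1
          rwa [← mul_inv_rev, Ne, inv_eq_one]
      rw [Finset.filter_eq_empty_iff.2 fun u hu h => (hJne u hu).2.2 (by exact h), Finset.card_empty] at hmod
      exact hmod.symm
    have hI3 : I.card % 3 = 0 := by
      have hmod := SharpSteiner.card_fixed_modEq (p := 3) hσ3 (F := I) fun u hu => by
        obtain ⟨hu', hu3⟩ := Finset.mem_sdiff.1 hu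
        obtain ⟨hu1, hu2⟩ := Finset.mem_filter.1 hu'
        refine Finset.mem_sdiff.2
          ⟨Finset.mem_filter.2 ⟨(hRFmem _).2 (hσR u ((hRFmem u).1 hu1)), ?_⟩, ?_⟩
        · rwa [← hσmul, hσ1]
        · simp only [Finset.mem_insert, Finset.mem_singleton, not_or] at hu3 ⊢
          exact ⟨fun e => hu3.1 ((hσ1 u).1 e), fun e => hu3.2 (σ.injective (e.trans hσz.symm))⟩
      rw [Finset.filter_eq_empty_iff.2 fun u hu => ?_, Finset.card_empty] at hmod
      · exact hmod.symm
      · obtain ⟨hu', hu3⟩ := Finset.mem_sdiff.1 hu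
        simp only [Finset.mem_insert, Finset.mem_singleton, not_or] at hu3
        exact hfix0 u (Finset.mem_filter.1 hu').1 hu3.1 hu3.2
    have hsplit : RF.card = I.card + 2 + J.card := by
      have h := Finset.card_filter_add_card_filter_not (s := RF) (fun u => u * u = 1)
      have h2 : ({1, z} : Finset G) ⊆ RF.filter fun u => u * u = 1 := by
        intro u hu
        simp only [Finset.mem_insert, Finset.mem_singleton] at hu
        rcases hu with rfl | rfl
        · exact Finset.mem_filter.2 ⟨(hRFmem 1).2 (one_mem _), one_mul 1⟩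
        · exact Finset.mem_filter.2 ⟨(hRFmem _).2 hzR, hzz⟩
      have h3 := Finset.card_sdiff_add_card_eq_card h2
      rw [Finset.card_pair hz1.symm] at h3
      rw [hI, hJ, ← h, ← h3]
    have hJpos : 0 < J.card :=
      Finset.card_pos.2 ⟨a, Finset.mem_filter.2 ⟨(hRFmem a).2 ha, ha1⟩⟩
    have hIpos : 0 < I.card := Finset.card_pos.2 ⟨x, Finset.mem_sdiff.2
      ⟨Finset.mem_filter.2 ⟨(hRFmem x).2 hx, hxx⟩, by simp [hne.1, hne.2]⟩⟩
    rw [hRFcard, hR8'] at hsplit
    omega
  -- the stabiliser of two is the kernel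
  have hQ : N ⊓ normalizer ((F₁ : Subgroup G) : Set G) = R := by
    refine le_antisymm (fun q hq => ?_) fun r hr => ?_
    · have hqE : q • E = E := Sylow.smul_eq_iff_mem_normalizer.2 hq.1
      have hq1 : q • F₁ = F₁ := Sylow.smul_eq_iff_mem_normalizer.2 hq.2
      have hconj : q * z * q⁻¹ = z := by
        have h1 := hz.conj q
        have h2 := hF₁.2.conj q
        rw [hqE] at h1
        rw [hq1] at h2
        exact Inv.unique hcard hF₁.1.symm h1 h2 hz hF₁.2
      have hqC : q ∈ C := Subgroup.mem_centralizer_singleton_iff.2 (mul_inv_eq_iff_eq_mul.1 hconj)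
      refine (hmemR q).2 ⟨hqC, hqE, hq1, ?_⟩
      rcases hall _ (hmaps ⟨q, hqC⟩ F₂ hF₂.2) with h | h | h
      · exact absurd (smul_left_cancel q (h.trans hqE.symm)) hF₂.1
      · exact absurd (smul_left_cancel q (h.trans hq1.symm)) h12.symm
      · exact h
    · obtain ⟨-, h1, h2, -⟩ := (hmemR r).1 hr
      exact ⟨Sylow.smul_eq_iff_mem_normalizer.1 h1, Sylow.smul_eq_iff_mem_normalizer.1 h2⟩
  refine ⟨F₁, F₂, hF₁.1.symm, hF₂.1.symm, h12, hF₁.2, hF₂.2, hall, by rw [hQ, hR8'],
    fun q hq hq1 => ?_, ?_⟩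
  · have hqR : q ∈ R := hQ ▸ ⟨hq, Sylow.smul_eq_iff_mem_normalizer.1 hq1⟩
    refine ⟨((hmemR q).1 hqR).2.2.2, fun e he he1 hqe => ?_⟩
    by_contra hqne
    obtain ⟨j, hj3, hj⟩ := (Nat.dvd_prime_pow Nat.prime_two).1
      (show orderOf q ∣ 2 ^ 3 by
        have := Subgroup.orderOf_dvd_natCard R hqR
        rwa [hR8'] at this)
    have hj0 : j ≠ 0 := fun h => hqne (orderOf_eq_one_iff.1 (by rw [hj, h, pow_zero]))
    have hord : orderOf (q ^ 2 ^ (j - 1)) = 2 := by
      rw [orderOf_pow' _ (by positivity), hj, Nat.gcd_eq_right (Nat.pow_dvd_pow 2 (by omega)),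
        Nat.pow_div (by omega) (by norm_num), show j - (j - 1) = 1 by omega, pow_one]
    have hzq : q ^ 2 ^ (j - 1) = z := by
      refine (hinvol _ (pow_mem hqR _) ?_).resolve_left fun h => ?_
      · have h2 := pow_orderOf_eq_one (q ^ 2 ^ (j - 1))
        rwa [hord, pow_two] at h2
      · rw [h, orderOf_one] at hord; omega
    refine he1 (hz.eq_one_of_comm hcard he ?_)
    rw [← hzq]
    exact ((show Commute q e from mul_inv_eq_iff_eq_mul.1 hqe).pow_left _).eq
  · -- all permutations of the triangle occur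
    have hsurj : Function.Surjective act := by
      rw [← MonoidHom.range_eq_top]
      refine Subgroup.eq_top_of_card_eq _ ?_
      have h := act.ker.card_mul_index
      rw [Subgroup.index_ker, hC48] at h
      rw [hR, Subgroup.card_map_of_injective (Subgroup.subtype_injective _)] at hR8'
      rw [hR8'] at h
      rw [Nat.card_eq_fintype_card (α := Equiv.Perm _), Fintype.card_perm, Fintype.card_subtype,
        ← hΔ, h3, show Nat.factorial 3 = 6 from rfl]
      omega
    obtain ⟨c, hc⟩ := hsurj (Equiv.swap ⟨F₁, hF₁.2⟩ ⟨F₂, hF₂.2⟩)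
    have happ : ∀ F : {F : Sylow 3 G // Inv z F}, (c : G) • F.1 =
        (Equiv.swap (⟨F₁, hF₁.2⟩ : {F : Sylow 3 G // Inv z F}) ⟨F₂, hF₂.2⟩ F).1 := fun F => by
      rw [← hc]
      rfl
    have e1 := happ ⟨F₁, hF₁.2⟩
    have e2 := happ ⟨F₂, hF₂.2⟩
    have e0 := happ ⟨E, hz⟩
    rw [Equiv.swap_apply_left] at e1
    rw [Equiv.swap_apply_right] at e2
    rw [Equiv.swap_apply_of_ne_of_ne (fun h => hF₁.1.symm (congrArg Subtype.val h))
      (fun h => hF₂.1.symm (congrArg Subtype.val h))] at e0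
    exact ⟨c, Sylow.smul_eq_iff_mem_normalizer.1 e0, e1, e2⟩

end CfsgLib.Sporadic.M11
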