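import Cfsg.Agent.Lib.Sporadic.MclOutData

/-!
# Part of the survivor check for McL
-/

set_option autoImplicit false
set_option Elab.async false

namespace CfsgLib.Sporadic.MclOut

open Cfsg CfsgLib.Golay CfsgLib.MonsterType CfsgLib.LeechEight CfsgLib.Sporadic.PairOut
open ConwayPairs (pairStab)
open Conway.ThreeOut (vecList vecList_injective unitList)

theorem survAt_1_4_0 : survAt 1 4 0 = true := by decide +kernel

theorem survAt_1_4_1 : survAt 1 4 1 = true := by decide +kernel

theorem survAt_1_4_2 : survAt 1 4 2 = true := by decide +kernel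

theorem survAt_1_4_3 : survAt 1 4 3 = true := by decide +kernel

theorem survAt_1_4_4 : survAt 1 4 4 = true := by decide +kernel

theorem surv_1_4 : survOK (stepRows cRows) relList 1 4 0 1 4 = true :=
  survOK_of survAt_1_4_0 survAt_1_4_1 survAt_1_4_2 survAt_1_4_3 survAt_1_4_4

theorem survAt_10_0_0 : survAt 10 0 0 = true := by decide +kernel

theorem survAt_10_0_1 : survAt 10 0 1 = true := by decide +kernel

theorem survAt_10_0_2 : survAt 10 0 2 = true := by decide +kernel

theorem survAt_10_0_3 : survAt 10 0 3 = true := by decide +kernel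

theorem survAt_10_0_4 : survAt 10 0 4 = true := by decide +kernel

theorem surv_10_0 : survOK (stepRows cRows) relList 1 4 0 10 0 = true :=
  survOK_of survAt_10_0_0 survAt_10_0_1 survAt_10_0_2 survAt_10_0_3 survAt_10_0_4

end CfsgLib.Sporadic.MclOut
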