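import Cfsg.Agent.Lib.Sporadic.MclOutGen
import Cfsg.Agent.Lib.Sporadic.MclOutSurv0
import Cfsg.Agent.Lib.Sporadic.MclOutSurv1
import Cfsg.Agent.Lib.Sporadic.MclOutSurv2
import Cfsg.Agent.Lib.Sporadic.MclOutSurv3
import Cfsg.Agent.Lib.Sporadic.MclOutSurv4

/-!
# The data for the automorphisms of McL
-/

set_option autoImplicit false

namespace CfsgLib.Sporadic.MclOut

open Cfsg CfsgLib.Golay CfsgLib.MonsterType CfsgLib.LeechEight CfsgLib.Sporadic.PairOut
open ConwayPairs (pairStab)
open Conway.ThreeOut (vecList vecList_injective unitList)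

theorem surv : ∀ j ∈ [1, 10], ∀ i < 5, survOK (stepRows cRows) relList 1 4 0 j i = true := by
  intro j hj i hi
  simp only [List.mem_cons, List.not_mem_nil, or_false] at hj
  rcases hj with rfl | rfl <;> interval_cases i
  exacts [surv_1_0, surv_1_1, surv_1_2, surv_1_3, surv_1_4, surv_10_0, surv_10_1, surv_10_2, surv_10_3, surv_10_4]

set_option maxHeartbeats 1000000 in
theorem card_out (hcard : Nat.card (pairStab (Spor.leechU : leechLattice)) = 2025 * 443520) :
    Nat.card (Cfsg.Out (pairStab (Spor.leechU : leechLattice))) = 2 :=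
  card_out_two shape c_mem acts_c sol_check (by decide +kernel)
    (gen_top hcard)
    (by rw [hcard]; norm_num) relList (by decide +kernel) 1 4 0 surv
    acts_g (by decide +kernel) (by decide +kernel) (by decide +kernel) (by decide +kernel)

end CfsgLib.Sporadic.MclOut
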