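import Cfsg.Agent.Lib.Sporadic.PairOutMain

/-!
# The rows, orbit words and relations for the automorphisms of McL
-/

set_option autoImplicit false

namespace CfsgLib.Sporadic.MclOut

open Cfsg CfsgLib.Golay CfsgLib.MonsterType CfsgLib.LeechEight CfsgLib.Sporadic.PairOut
open ConwayPairs (pairStab)
open Conway.ThreeOut (vecList vecList_injective unitList)

/-- The second vector. -/
def shape : Shape (Spor.leechU : leechLattice) where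
  hu := fun i hi hi' => by simp [Spor.leechU, Spor.vecU, hi, hi']
  s := -1
  hs := by norm_num
  hu0 := by simp [Spor.leechU, Spor.vecU]
  hu1 := by simp [Spor.leechU, Spor.vecU]
  w := Spor.leechU'
  hw := by funext p; simp [Spor.leechU', Spor.vecU']

/-- The rows of the frame of the third generator. -/
def cRows : List (List ℤ) :=
  [[5, -3, 1, -1, -1, -1, -1, 1, 1, 1, -1, -1, -1, 1, -1, -1, -1, 1, -1, -1, -1, -1, -1, 3],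
   [1, 1, 1, -1, -1, 3, 3, 1, 1, 1, -1, -1, -1, 1, -1, -1, -1, 1, 3, -1, 3, -1, 3, -1],
   [1, 1, 1, -1, -1, -1, 3, 1, 1, 1, -1, 3, -1, 1, 3, 3, 3, 1, -1, -1, -1, -1, -1, -1],
   [-1, -1, 3, 1, 1, 1, 1, -1, 3, -1, 1, -3, -3, -1, 1, 1, 1, -1, -3, 1, 1, 1, 1, 1],
   [-1, -1, -1, 1, -3, -3, 1, 3, 3, -1, 1, 1, 1, -1, 1, -3, 1, -1, 1, 1, 1, 1, 1, 1],
   [-1, -1, 3, -3, 1, -3, 1, -1, -1, -1, 1, 1, 1, -1, -3, 1, 1, 3, 1, 1, 1, 1, 1, 1],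
   [-1, -1, -1, -3, 1, 1, -3, -1, 3, -1, -3, 1, 1, 3, 1, 1, 1, -1, 1, 1, 1, 1, 1, 1],
   [-3, 5, 1, -1, -1, -1, -1, 1, 1, 1, -1, -1, -1, 1, -1, -1, -1, 1, -1, -1, -1, -1, -1, 3],
   [1, 1, 1, -1, -1, 3, -1, 1, 1, 1, 3, -1, 3, 1, -1, -1, 3, 1, -1, 3, -1, -1, -1, -1],
   [1, 1, 1, -1, 3, -1, -1, 1, 1, 1, 3, -1, -1, 1, 3, -1, -1, 1, 3, -1, -1, 3, -1, -1],
   [-1, -1, 3, 1, -3, 1, 1, -1, -1, -1, 1, 1, 1, 3, 1, 1, -3, -1, 1, 1, 1, 1, -3, 1],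
   [-1, -1, -1, 1, 1, 1, 1, 3, -1, -1, -3, -3, 1, -1, 1, 1, 1, 3, 1, 1, 1, 1, -3, 1],
   [-1, -1, -1, 1, 1, 1, 1, 3, -1, -1, 1, 1, -3, 3, -3, 1, 1, -1, 1, 1, -3, 1, 1, 1],
   [1, 1, 1, 3, 3, -1, -1, 1, 1, 1, -1, 3, -1, 1, -1, -1, -1, 1, -1, 3, 3, -1, -1, -1],
   [-1, -1, -1, 1, 1, 1, 1, -1, 3, -1, 1, 1, 1, -1, 1, 1, -3, 3, 1, 1, -3, -3, 1, 1],
   [-1, -1, -1, 1, 1, -3, 1, -1, -1, 3, 1, -3, 1, 3, 1, 1, 1, -1, 1, 1, 1, -3, 1, 1],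
   [-1, -1, -1, -3, 1, 1, 1, 3, -1, 3, 1, 1, 1, -1, 1, 1, -3, -1, -3, 1, 1, 1, 1, 1],
   [1, 1, 1, 3, -1, -1, -1, 1, 1, 1, -1, -1, 3, 1, -1, 3, -1, 1, -1, -1, -1, 3, 3, -1],
   [-1, -1, -1, 1, 1, 1, 1, -1, -1, -1, 1, 1, 1, 3, 1, -3, 1, 3, -3, -3, 1, 1, 1, 1],
   [-1, -1, -1, 1, -3, 1, -3, -1, -1, 3, 1, 1, -3, -1, 1, 1, 1, 3, 1, 1, 1, 1, 1, 1],
   [-1, -1, 3, 1, 1, 1, 1, -1, -1, 3, -3, 1, 1, -1, 1, -3, 1, -1, 1, 1, -3, 1, 1, 1],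
   [-1, -1, 3, 1, 1, 1, -3, 3, -1, -1, 1, 1, 1, -1, 1, 1, 1, -1, 1, -3, 1, -3, 1, 1],
   [-1, -1, -1, 1, 1, 1, 1, -1, 3, 3, 1, 1, 1, -1, -3, 1, 1, -1, 1, -3, 1, 1, -3, 1],
   [3, 3, -1, 1, 1, 1, 1, -1, -1, -1, 1, 1, 1, -1, 1, 1, 1, -1, 1, 1, 1, 1, 1, 5]]

theorem cRows_test : frameTest cRows = true := by decide +kernel

/-- The rows of the frame of the outer element. -/
def gRows : List (List ℤ) :=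
  [[-4, 0, 2, 0, 0, 2, 2, 2, 2, 2, 0, 0, 0, 2, 0, 0, 0, 2, 2, 0, 2, 0, 2, -2],
   [0, -4, 2, 0, 0, -2, -2, 2, 2, 2, 0, 0, 0, 2, 0, 0, 0, 2, -2, 0, -2, 0, -2, 2],
   [2, 2, 4, 2, -2, 0, 0, 0, 0, 0, 2, 2, -2, 0, -2, -2, 2, 0, 0, -2, 0, 2, 0, 0],
   [0, 0, 2, -4, 0, 2, 2, 2, 2, -2, 0, 0, 0, -2, 0, 0, 0, -2, 2, 0, -2, 0, -2, 2],
   [0, 0, -2, 0, -4, 2, 2, -2, 2, 2, 0, 0, 0, 2, 0, 0, 0, -2, -2, 0, -2, 0, 2, 2],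
   [2, -2, 0, 2, 2, 4, 0, 0, 0, 0, -2, 2, -2, 0, 2, 2, -2, 0, 0, -2, 0, 2, 0, 0],
   [2, -2, 0, 2, 2, 0, 4, 0, 0, 0, 2, -2, 2, 0, -2, -2, -2, 0, 0, 2, 0, 2, 0, 0],
   [2, 2, 0, 2, -2, 0, 0, 4, 0, 0, 2, -2, -2, 0, 2, 2, -2, 0, 0, 2, 0, -2, 0, 0],
   [2, 2, 0, 2, 2, 0, 0, 0, 4, 0, -2, -2, 2, 0, 2, -2, 2, 0, 0, -2, 0, -2, 0, 0],
   [2, 2, 0, -2, 2, 0, 0, 0, 0, 4, -2, -2, -2, 0, -2, 2, 2, 0, 0, 2, 0, 2, 0, 0],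
   [0, 0, 2, 0, 0, -2, 2, 2, -2, -2, -4, 0, 0, 2, 0, 0, 0, -2, -2, 0, 2, 0, 2, 2],
   [0, 0, 2, 0, 0, 2, -2, -2, -2, -2, 0, -4, 0, 2, 0, 0, 0, 2, 2, 0, -2, 0, 2, 2],
   [0, 0, -2, 0, 0, -2, 2, -2, 2, -2, 0, 0, -4, 2, 0, 0, 0, 2, 2, 0, 2, 0, -2, 2],
   [2, 2, 0, -2, 2, 0, 0, 0, 0, 0, 2, 2, 2, 4, -2, 2, -2, 0, 0, -2, 0, -2, 0, 0],
   [0, 0, -2, 0, 0, 2, -2, 2, 2, -2, 0, 0, 0, -2, -4, 0, 0, 2, -2, 0, 2, 0, 2, 2],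
   [0, 0, -2, 0, 0, 2, -2, 2, -2, 2, 0, 0, 0, 2, 0, -4, 0, -2, 2, 0, 2, 0, -2, 2],
   [0, 0, 2, 0, 0, -2, -2, -2, 2, 2, 0, 0, 0, -2, 0, 0, -4, -2, 2, 0, 2, 0, 2, 2],
   [2, 2, 0, -2, -2, 0, 0, 0, 0, 0, -2, 2, 2, 0, 2, -2, -2, 4, 0, 2, 0, 2, 0, 0],
   [2, -2, 0, 2, -2, 0, 0, 0, 0, 0, -2, 2, 2, 0, -2, 2, 2, 0, 4, 2, 0, -2, 0, 0],
   [0, 0, -2, 0, 0, -2, 2, 2, -2, 2, 0, 0, 0, -2, 0, 0, 0, 2, 2, -4, -2, 0, 2, 2],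
   [2, -2, 0, -2, -2, 0, 0, 0, 0, 0, 2, -2, 2, 0, 2, 2, 2, 0, 0, -2, 4, 2, 0, 0],
   [0, 0, 2, 0, 0, 2, 2, -2, -2, 2, 0, 0, 0, -2, 0, 0, 0, 2, -2, 0, 2, -4, -2, 2],
   [2, -2, 0, -2, 2, 0, 0, 0, 0, 0, 2, 2, -2, 0, 2, -2, 2, 0, 0, 2, 0, -2, 4, 0],
   [-2, 2, 0, 2, 2, 0, 0, 0, 0, 0, 2, 2, 2, 0, 2, 2, 2, 0, 0, 2, 0, 2, 0, 4]]

theorem gRows_test : frameTest gRows = true := by decide +kernel

theorem acts_c : Acts (rowsAut cRows_test) (stepRows cRows) := acts_rowsAut _ (by decide +kernel)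

theorem acts_g : Acts (rowsAut gRows_test) (stepRows gRows) := acts_rowsAut _ (by decide +kernel)

theorem c_mem : rowsAut cRows_test ∈ pairStab (Spor.leechU : leechLattice) :=
  ⟨Subtype.ext (vecList_injective ((acts_c _).trans (by decide +kernel))),
    Subtype.ext (vecList_injective ((acts_c _).trans (by decide +kernel)))⟩

theorem sol_check : solCheck (-(4 * shape.s))
    ((List.range 5).map fun i => (stepRows cRows)^[i] (unitList 23)) = true := by decide +kernel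

/-- The orbit words. -/
def orbWords : List (List ℕ) :=
  [[], [2], [0, 2], [2, 2], [0, 0, 2], [1, 0, 2], [2, 0, 2], [0, 2, 2], [2, 2, 2], [1, 0, 0, 2], [2, 0, 0, 2], [0, 1, 0, 2], [1, 1, 0, 2], [2, 1, 0, 2], [0, 2, 0, 2], [2, 2, 0, 2], [0, 0, 2, 2], [1, 0, 2, 2], [2, 0, 2, 2], [0, 2, 2, 2], [2, 2, 2, 2], [0, 1, 0, 0, 2], [2, 1, 0, 0, 2], [0, 2, 0, 0, 2], [2, 2, 0, 0, 2], [0, 0, 1, 0, 2], [2, 0, 1, 0, 2], [0, 1, 1, 0, 2], [2, 1, 1, 0, 2], [0, 2, 1, 0, 2], [2, 2, 1, 0, 2], [0, 0, 2, 0, 2], [1, 0, 2, 0, 2], [2, 0, 2, 0, 2], [0, 2, 2, 0, 2], [2, 2, 2, 0, 2], [1, 0, 0, 2, 2], [2, 0, 0, 2, 2], [0, 1, 0, 2, 2], [1, 1, 0, 2, 2], [2, 1, 0, 2, 2], [0, 2, 0, 2, 2], [2, 2, 0, 2, 2], [0, 0, 2, 2, 2], [1, 0, 2, 2, 2], [2, 0, 2, 2, 2], [0, 2, 2, 2, 2], [0, 0, 1, 0, 0, 2]]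

/-- The relations. -/
def relList : List (List ℕ × ℕ) := [([0, 1, 2, 0, 2, 2, 2], 9)]

/-- One instance of the survivor check. -/
def survAt (j i l : ℕ) : Bool :=
  (Nat.beq j 1 && Nat.beq i 1 && Nat.beq l 0) || (Nat.beq j 1 && Nat.beq i 4 && Nat.beq l 0) ||
    !(relList.all fun r => isIdB (Conway.ThreeOut.wordFun fA^[j] fB ((stepRows cRows)^[i] ∘ fB^[l]) r.1)^[r.2])

theorem survOK_of {j i : ℕ} (h0 : survAt j i 0 = true) (h1 : survAt j i 1 = true) (h2 : survAt j i 2 = true)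
    (h3 : survAt j i 3 = true) (h4 : survAt j i 4 = true) :
    survOK (stepRows cRows) relList 1 4 0 j i = true := by
  rw [survOK, List.all_eq_true]
  intro l hl
  rw [List.mem_range] at hl
  interval_cases l
  exacts [h0, h1, h2, h3, h4]

end CfsgLib.Sporadic.MclOut
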