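import Cfsg.Agent.Lib.Sporadic.MclOutData

/-!
# The three generators of the pair stabiliser for McL
-/

set_option autoImplicit false

namespace CfsgLib.Sporadic.MclOut

open Cfsg CfsgLib.Golay CfsgLib.MonsterType CfsgLib.LeechEight CfsgLib.Sporadic.PairOut
open ConwayPairs (pairStab)
open Conway.ThreeOut (vecList vecList_injective unitList)

/-- The word of the element of the small group. -/
def genWord : List ℕ := [2, 2, 2, 2, 0, 0, 0, 0, 0, 0, 0, 0, 0, 0, 0, 0, 0, 0, 0, 0, 0, 0, 0, 0, 2, 0, 0, 2, 2, 2, 0, 2]

/-- The permutation of the frame. -/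
def genPerm : List ℕ :=
  [0, 7, 16, 10, 22, 8, 3, 18, 21, 6, 5, 11, 4, 20, 2, 13, 15, 14, 12, 1, 17, 9, 19, 23]

/-- One check of the action of the word on the frame. -/
def genAt (k : ℕ) : Bool :=
  Conway.ThreeOut.wordFun fA fB (stepRows cRows) genWord (unitList (Fin.ofNat 24 k)) ==
    unitList (Fin.ofNat 24 (genPerm.getD k 0)) && Nat.blt (genPerm.getD k 0) 24

theorem gen_at_0 : (List.range' 0 6).all genAt = true := by decide +kernel

theorem gen_at_1 : (List.range' 6 6).all genAt = true := by decide +kernel

theorem gen_at_2 : (List.range' 12 6).all genAt = true := by decide +kernel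

theorem gen_at_3 : (List.range' 18 6).all genAt = true := by decide +kernel

theorem gen_at : (List.range 24).all genAt = true := by
  rw [show List.range 24 = List.range' 0 6 ++ List.range' 6 6 ++ List.range' 12 6 ++ List.range' 18 6 from rfl]
  simp only [List.all_append, gen_at_0, gen_at_1, gen_at_2, gen_at_3, Bool.and_true]

set_option maxHeartbeats 1000000 in
theorem gen_top (hcard : Nat.card (pairStab (Spor.leechU : leechLattice)) = 2025 * 443520) :
    Subgroup.closure ({eA shape.hu, eB shape.hu, ⟨rowsAut cRows_test, c_mem⟩} :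
      Set (pairStab (Spor.leechU : leechLattice))) = ⊤ :=
  generates shape c_mem acts_c hcard (by norm_num) genWord [0, 2, 1, 2, 1, 1, 2, 2, 1, 1, 0]
      genPerm rfl
      gen_at (by decide +kernel) (by decide +kernel) orbWords (by decide +kernel) (by decide +kernel)

end CfsgLib.Sporadic.MclOut
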