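import Cfsg.Agent.Lib.Sporadic.ONTripleCheck
import Cfsg.Agent.Lib.Presented.ONSimple

/-!
# The triple cover of the O'Nan group in dimension 45 over seven elements

The generators of the presented group lift to matrices satisfying the relators up to scalars.  An eigenvector
which is unique up to scalars and spans under the generators shows that only scalars commute with all of them.
-/

set_option autoImplicit false
set_option maxRecDepth 8000

open Cfsg.Spor
open CfsgLib.Presented (evW Letters)

namespace CfsgLib.Sporadic.ONTriple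

open Matrix

local instance : Fact (Nat.Prime 7) := ⟨by norm_num⟩

attribute [local irreducible] mulC evC code scalC addC cornerC decP shiftC gens basis
  basisInv pseudo corr

theorem dec_evC : ∀ w : List ℕ, dec (evC w) = (w.map fun x => dec (code x)).prod
  | [] => by rw [evC_nil, dec_one, List.map_nil, List.prod_nil]
  | x :: w => by
    rw [evC_cons, dec_mulC, dec_evC w, List.map_cons, List.prod_cons]

theorem dec_scalarIs {w : List ℕ} {k : ℕ} (h : scalarIs w k = true) :
    dec (evC w) = Matrix.scalar (Fin 45) (k : ZMod 7) := by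
  rw [scalarIs] at h
  rw [Nat.eq_of_beq_eq_true h, dec_scalC]

/-- The determinant of a letter. -/
noncomputable def dt (x : ℕ) : ZMod 7 := (dec (code x)).det

theorem prod_map_det (l : List ℕ) (f : ℕ → Mat) :
    (l.map fun x => (f x).det).prod = ((l.map f).prod).det := by
  induction l with
  | nil => rw [List.map_nil, List.map_nil, List.prod_nil, List.prod_nil, Matrix.det_one]
  | cons a l ih => rw [List.map_cons, List.map_cons, List.prod_cons, List.prod_cons, Matrix.det_mul, ih]

theorem dt_word {w : List ℕ} {k : ℕ} (h : scalarIs w k = true) : (w.map dt).prod = (k : ZMod 7) ^ 45 := by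
  have e : ((k : ZMod 7) ^ 45) = (Matrix.scalar (Fin 45) (k : ZMod 7)).det := by
    rw [Matrix.scalar_apply, Matrix.det_diagonal, Finset.prod_const, Finset.card_univ, Fintype.card_fin]
  rw [e, ← dec_scalarIs h, dec_evC]
  exact prod_map_det w fun x => dec (code x)

theorem det_pair : ∀ p q : ZMod 7, p * p = 1 → q * q = 1 → p * (q * (p * (q * (p * q)))) = 1 → p = q := by
  decide +kernel

theorem det_rules : ∀ g G u v : ZMod 7, g * G = 1 → u * u = 1 → v * v = 1 → u * (v * (G * G)) = 1 →
      g * (u * (u * (g * (u * (u * (g * (u * (u * (g * u))))))))) = 1 →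
      g * (v * (v * (g * (v * (v * (g * (v * (v * (g * v))))))))) = 1 →
      u * (u * (v * (g * (u * (u * (v * (g * (u * (u * (v * (g * (u * (u * (v * (g * (u * (u * (v * g)))))))))))))))))) = 1 →
      g = 1 ∧ G = 1 ∧ u = 1 ∧ v = 1 := by decide +kernel

theorem det_core (f : ℕ → ZMod 7) (s1 : f 1 * f 1 = 1) (s2 : f 2 * f 2 = 1) (s3 : f 3 * f 3 = 1)
    (s4 : f 4 * f 4 = 1) (s5 : f 5 * f 5 = 1) (s6 : f 6 * f 6 = 1) (r7 : f 0 * f 7 = 1)
    (r16 : f 1 * (f 6 * (f 7 * f 7)) = 1) (r12 : f 1 * (f 2 * (f 1 * (f 2 * (f 1 * f 2)))) = 1)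
    (r23 : f 2 * (f 3 * (f 2 * (f 3 * (f 2 * f 3)))) = 1) (r45 : f 4 * (f 5 * (f 4 * (f 5 * (f 4 * f 5)))) = 1)
    (r56 : f 5 * (f 6 * (f 5 * (f 6 * (f 5 * f 6)))) = 1)
    (rp : f 2 * (f 3 * (f 4 * (f 0 * (f 2 * (f 3 * (f 4 * (f 0 * (f 2 * (f 3 * (f 4 * (f 0 * (f 2 * (f 3 * (f 4 *
      (f 0 * (f 2 * (f 3 * (f 4 * f 0)))))))))))))))))) = 1)
    (rb : f 0 * (f 2 * (f 3 * (f 0 * (f 3 * (f 2 * (f 0 * (f 2 * (f 3 * (f 0 * f 3))))))))) = 1)
    (re : f 0 * (f 5 * (f 4 * (f 0 * (f 4 * (f 5 * (f 0 * (f 5 * (f 4 * (f 0 * f 4))))))))) = 1) :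
    f 0 = 1 ∧ f 1 = 1 ∧ f 2 = 1 ∧ f 3 = 1 ∧ f 4 = 1 ∧ f 5 = 1 ∧ f 6 = 1 ∧ f 7 = 1 := by
  have e12 : f 1 = f 2 := det_pair _ _ s1 s2 r12
  have e23 : f 2 = f 3 := det_pair _ _ s2 s3 r23
  have e45 : f 4 = f 5 := det_pair _ _ s4 s5 r45
  have e56 : f 5 = f 6 := det_pair _ _ s5 s6 r56
  rw [e12, ← e56] at r16
  rw [← e23] at rb rp
  rw [e45] at re rp
  obtain ⟨h0, h7, h2, h5⟩ := det_rules (f 0) (f 7) (f 2) (f 5) r7 s2 s5 r16 rb re rp
  exact ⟨h0, e12.trans h2, h2, e23.symm.trans h2, e45.trans h5, h5, e56.symm.trans h5, h7⟩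

theorem det_all (f : ℕ → ZMod 7)
    (hf : ∀ {w : List ℕ} {k : ℕ}, scalarIs w k = true → (w.map f).prod = (k : ZMod 7) ^ 45) :
    f 0 = 1 ∧ f 1 = 1 ∧ f 2 = 1 ∧ f 3 = 1 ∧ f 4 = 1 ∧ f 5 = 1 ∧ f 6 = 1 ∧ f 7 = 1 := by
  have h4 : ((4 : ℕ) : ZMod 7) ^ 45 = 1 := by decide +kernel
  have hs : ∀ x ∈ ([1, 2, 3, 4, 5, 6] : List ℕ), f x * f x = 1 := fun x hx => by
    have h := hf (w := [x, x]) (k := 1) (List.all_eq_true.1 squares x hx)
    rw [Nat.cast_one, one_pow, List.map_cons, List.map_cons, List.map_nil, List.prod_cons, List.prod_cons,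
      List.prod_nil, mul_one] at h
    exact h
  have hl := links
  have hp := powers
  simp only [Bool.and_eq_true] at hl hp
  obtain ⟨⟨⟨⟨⟨i7, l16⟩, l12⟩, l23⟩, l45⟩, l56⟩ := hl
  obtain ⟨⟨p5, pb⟩, pe⟩ := hp
  have r7 := hf i7
  have r16 := hf l16
  have r12 := hf l12
  have r23 := hf l23
  have r45 := hf l45
  have r56 := hf l56
  have rp := hf p5
  have rb := hf pb
  have re := hf pe
  simp only [List.map_cons, List.map_nil, List.prod_cons, List.prod_nil, mul_one, h4, Nat.cast_one, one_pow]
    at r7 r16 r12 r23 r45 r56 rp rb re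
  exact det_core f (hs 1 (by simp)) (hs 2 (by simp)) (hs 3 (by simp)) (hs 4 (by simp)) (hs 5 (by simp))
    (hs 6 (by simp)) r7 r16 r12 r23 r45 r56 rp rb re

theorem dt_eq_one : ∀ x, dt x = 1 := by
  obtain ⟨h0, h1, h2, h3, h4, h5, h6, h7⟩ := det_all dt dt_word
  intro x
  match x with
  | 0 => exact h0
  | 1 => exact h1
  | 2 => exact h2
  | 3 => exact h3
  | 4 => exact h4
  | 5 => exact h5
  | 6 => exact h6
  | 7 => exact h7
  | n + 8 => rw [dt, code_of_ge, dec_one, Matrix.det_one]

/-- The letters as elements of the special linear group. -/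
noncomputable def el (x : ℕ) : SL45 := ⟨dec (code x), dt_eq_one x⟩

open CfsgLib.Presented.ONCosets (letters genOf letters_valid nodes_valid full idxOf relWords_eq)

/-- The images of the generators. -/
noncomputable def S (s : ON.Gen) : SL45 := el (idxOf s)

theorem coe_el_word (w : List ℕ) : ((evW el w : SL45) : Mat) = dec (evC w) := by
  induction w with
  | nil => rw [evC_nil, dec_one, CfsgLib.Presented.evW_nil, Matrix.SpecialLinearGroup.coe_one]
  | cons x w ih =>
    rw [CfsgLib.Presented.evW_cons, Matrix.SpecialLinearGroup.coe_mul, ih]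
    rw [evC_cons, dec_mulC]
    rfl

theorem ev_eq (x : ℕ) (hx : x < 8) : letters.ev S x = el x := by
  have hinv : (el 0)⁻¹ = el 7 := by
    refine inv_eq_of_mul_eq_one_right (Subtype.ext ?_)
    have hl := links
    simp only [Bool.and_eq_true] at hl
    have h := dec_scalarIs hl.1.1.1.1.1
    rw [Nat.cast_one, map_one, dec_evC] at h
    rw [Matrix.SpecialLinearGroup.coe_mul, Matrix.SpecialLinearGroup.coe_one]
    simp only [List.map_cons, List.map_nil, List.prod_cons, List.prod_nil, mul_one] at h
    exact h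
  have he : letters.A.eps = 8 := by decide +kernel
  rw [Letters.ev, if_pos (he.symm ▸ hx)]
  interval_cases x <;> simp only [letters, genOf, S, idxOf, cond_true, cond_false, hinv]

theorem ev_word {w : List ℕ} (hw : ∀ x ∈ w, x < 8) : evW (letters.ev S) w = evW el w :=
  congrArg List.prod (List.map_congr_left fun x hx => ev_eq x (hw x hx))

theorem relWords_tri : CfsgLib.Presented.ONCert.relWords = triWords := by decide +kernel

theorem relWords_lt : (CfsgLib.Presented.ONCert.relWords.all fun w => w.all fun x => Nat.blt x 8) = true := by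
  decide +kernel

/-- The group. -/
noncomputable def H : Subgroup SL45 := (FreeGroup.lift S).range

/-- The images of the generators inside the group. -/
noncomputable def SH (s : ON.Gen) : H := ⟨S s, FreeGroup.of s, by simp⟩

theorem coe_evH (w : List ℕ) : ((evW (letters.ev SH) w : H) : SL45) = evW (letters.ev S) w := by
  induction w with
  | nil => rfl
  | cons x w ih =>
    rw [CfsgLib.Presented.evW_cons, CfsgLib.Presented.evW_cons, Subgroup.coe_mul, ih]
    congr 1
    unfold Letters.ev
    split_ifs
    · cases (letters.gen x).2 <;> rfl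
    · rfl

theorem scalar_mem_center {z : H} {c : ZMod 7} (h : ((z : SL45) : Mat) = Matrix.scalar (Fin 45) c) :
    z ∈ Subgroup.center H := by
  refine Subgroup.mem_center_iff.2 fun y => Subtype.ext (Subtype.ext ?_)
  simp only [Subgroup.coe_mul, Matrix.SpecialLinearGroup.coe_mul, h]
  exact ((Matrix.scalar_commute c (fun _ => Commute.all _ _) _).eq).symm

theorem rel_central {w : List ℕ} (hw : w ∈ CfsgLib.Presented.ONCert.relWords) :
    evW (letters.ev SH) w ∈ Subgroup.center H := by
  have h := List.all_eq_true.1 rels_scalar w (relWords_tri ▸ hw)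
  have hlt : ∀ x ∈ w, x < 8 := fun x hx => by
    simpa [Nat.blt_eq] using List.all_eq_true.1 (List.all_eq_true.1 relWords_lt w hw) x hx
  simp only [scalarOK, CfsgLib.Presented.Vec.force_eq, Bool.or_eq_true] at h
  rcases h with (h | h) | h <;>
    exact scalar_mem_center (by rw [coe_evH, ev_word hlt, coe_el_word, dec_scalarIs h])

/-! ## Only scalars commute with the generators -/

theorem row_congr {a b : ℕ} {i k : Fin 45} (h : dig (12 * 45) a i = dig (12 * 45) b k) (j : Fin 45) :
    dec a i j = dec b k j := by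
  simp only [dec, decP, entP, Matrix.of_apply]
  rw [← dig_dig j.2, ← dig_dig j.2, h]

theorem commutant {X : Mat} (hX : ∀ x < 8, dec (code x) * X = X * dec (code x)) :
    ∃ c : ZMod 7, X = Matrix.scalar (Fin 45) c := by
  have hw : ∀ w : List ℕ, (∀ x ∈ w, x < 8) → dec (evC w) * X = X * dec (evC w) := by
    intro w hlt
    induction w with
    | nil => rw [evC_nil, dec_one, one_mul, mul_one]
    | cons x w ih =>
      rw [evC_cons, dec_mulC, mul_assoc,
        ih fun y hy => hlt y (List.mem_cons_of_mem x hy), ← mul_assoc, hX x (hlt x (List.mem_cons_self ..)),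
        mul_assoc]
  have hseed : (seedWord.all fun x => Nat.blt x 8) = true := by decide +kernel
  have hM : dec shiftC * X = X * dec shiftC := by
    rw [shiftC, dec_addC, dec_scalC, add_mul, mul_add,
      hw _ fun x hx => by simpa [Nat.blt_eq] using List.all_eq_true.1 hseed x hx,
      ((Matrix.scalar_commute _ (fun _ => Commute.all _ _) X).eq)]
  set P := dec basis with hP
  set V := Matrix.single (0 : Fin 45) (0 : Fin 45) (1 : ZMod 7) * P with hV
  have hkill : V * dec shiftC = 0 := by
    have h := congrArg dec (Nat.eq_of_beq_eq_true seed_kills)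
    rwa [dec_mulC, dec_mulC, dec_cornerC, dec_scalC, Nat.cast_zero, map_zero] at h
  have hdec : dec shiftC * dec pseudo + dec corr * V = 1 := by
    have h := congrArg dec (Nat.eq_of_beq_eq_true seed_decomp)
    rwa [dec_addC, dec_mulC, dec_mulC, dec_mulC, dec_cornerC, dec_one] at h
  set c := (P * X * dec corr) 0 0 with hc
  have hVX : V * X = c • V := by
    calc V * X = V * X * (dec shiftC * dec pseudo + dec corr * V) := by rw [hdec, mul_one]
      _ = V * (dec shiftC * X) * dec pseudo + V * X * (dec corr * V) := by rw [hM, mul_add]; simp only [mul_assoc]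
      _ = V * X * (dec corr * V) := by rw [← mul_assoc V, hkill, zero_mul, zero_mul, zero_add]
      _ = (Matrix.single (0 : Fin 45) (0 : Fin 45) (1 : ZMod 7) * (P * X * dec corr) *
            Matrix.single (0 : Fin 45) (0 : Fin 45) (1 : ZMod 7)) * P := by rw [hV]; simp only [mul_assoc]
      _ = c • V := by
        rw [Matrix.single_mul_mul_single, one_mul, mul_one, ← hc, hV, ← Matrix.smul_mul, Matrix.smul_single,
          smul_eq_mul, mul_one]
  have hrow : ∀ n : ℕ, ∀ i : Fin 45, (i : ℕ) = n → ∀ j, (P * X) i j = c * P i j := by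
    intro n
    induction n using Nat.strong_induction_on with
    | _ n ih =>
      intro i hi j
      rcases n with _ | m
      · have h := congrFun (congrFun hVX 0) j
        have hi' : i = 0 := Fin.ext hi
        rw [hV, mul_assoc, Matrix.smul_apply, Matrix.single_mul_apply_same, Matrix.single_mul_apply_same, one_mul,
          one_mul, smul_eq_mul] at h
        rw [hi']
        exact h
      · have hm : m < 44 := by omega
        have h := List.all_eq_true.1 tree_ok m (List.mem_range.2 hm)
        simp only [Bool.and_eq_true, Nat.blt_eq] at h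
        obtain ⟨⟨hpar, hlet⟩, hdig⟩ := h
        set k := (tree.getD (m + 1) (0, 0)).1
        set x := (tree.getD (m + 1) (0, 0)).2
        let p : Fin 45 := ⟨k, by omega⟩
        have hrow' : ∀ l, P i l = (P * dec (code x)) p l := fun l => by
          rw [hP, ← dec_mulC]
          exact row_congr (i := i) (k := p) (by rw [hi]; exact Nat.eq_of_beq_eq_true hdig) l
        calc (P * X) i j = ∑ l, P i l * X l j := Matrix.mul_apply
          _ = ∑ l, (P * dec (code x)) p l * X l j := by simp only [hrow']
          _ = (P * dec (code x) * X) p j := Matrix.mul_apply.symm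
          _ = (P * X * dec (code x)) p j := by rw [mul_assoc, hX x (by omega), ← mul_assoc]
          _ = ∑ l, c * P p l * dec (code x) l j := by
            rw [Matrix.mul_apply]
            exact Finset.sum_congr rfl fun l _ => by rw [ih k hpar p rfl l]
          _ = c * (P * dec (code x)) p j := by
            rw [Matrix.mul_apply, Finset.mul_sum]
            exact Finset.sum_congr rfl fun l _ => mul_assoc _ _ _
          _ = c * P i j := by rw [hrow']
  refine ⟨c, ?_⟩
  have hPX : P * X = c • P := Matrix.ext fun i j => by rw [hrow i i rfl j]; rfl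
  have hinv : dec basisInv * P = 1 := by
    rw [hP, ← dec_mulC, Nat.eq_of_beq_eq_true basis_inv, dec_one]
  calc X = dec basisInv * (P * X) := by rw [← mul_assoc, hinv, one_mul]
    _ = Matrix.scalar (Fin 45) c := by
      rw [hPX, Matrix.mul_smul, hinv, Matrix.scalar_apply, Matrix.smul_one_eq_diagonal]

theorem el_mem (x : ℕ) (hx : x < 8) : el x ∈ H := by
  have hm : ∀ s, S s ∈ H := fun s => (SH s).2
  rw [← ev_eq x hx]
  unfold Letters.ev
  split_ifs
  · cases (letters.gen x).2
    · exact inv_mem (hm _)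
    · exact hm _
  · exact one_mem H

theorem center_scalar {z : H} (hz : z ∈ Subgroup.center H) :
    ∃ c : ZMod 7, ((z : SL45) : Mat) = Matrix.scalar (Fin 45) c := by
  refine commutant fun x hx => ?_
  have h := congrArg (fun y : H => ((y : SL45) : Mat)) (Subgroup.mem_center_iff.1 hz ⟨el x, el_mem x hx⟩)
  simp only [Subgroup.coe_mul, Matrix.SpecialLinearGroup.coe_mul] at h
  exact h

theorem scalar_pow_mem (k : ℕ) :
    ∃ z : H, ((z : SL45) : Mat) = Matrix.scalar (Fin 45) ((4 : ZMod 7) ^ k) := by
  have hp := powers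
  simp only [Bool.and_eq_true] at hp
  let w : List ℕ := [0, 2, 3, 0, 3, 2, 0, 2, 3, 0, 3]
  have hlt : ∀ x ∈ w, x < 8 := by decide
  have h1 : ((evW (letters.ev SH) w : H) : SL45).1 = Matrix.scalar (Fin 45) (4 : ZMod 7) := by
    rw [coe_evH, ev_word hlt, coe_el_word, dec_scalarIs hp.1.2]
    rfl
  refine ⟨evW (letters.ev SH) w ^ k, ?_⟩
  rw [SubmonoidClass.coe_pow, Matrix.SpecialLinearGroup.coe_pow, h1, ← map_pow]

theorem card_center : Nat.card (Subgroup.center H) = 3 := by
  classical
  have hc : ∀ z : Subgroup.center H,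
      ((z : H) : SL45).1 = Matrix.scalar (Fin 45) (((z : H) : SL45).1 0 0) := fun z => by
    obtain ⟨c, h⟩ := center_scalar z.2
    rw [h]
    simp [Matrix.scalar_apply]
  have h45 : ∀ z : Subgroup.center H, (((z : H) : SL45).1 0 0) ^ 45 = 1 := fun z => by
    have h := ((z : H) : SL45).2
    rwa [hc z, Matrix.scalar_apply, Matrix.det_diagonal, Finset.prod_const, Finset.card_univ, Fintype.card_fin] at h
  let φ : Subgroup.center H → {c : ZMod 7 // c ^ 45 = 1} := fun z => ⟨_, h45 z⟩
  have hbij : Function.Bijective φ := by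
    refine ⟨fun a b h => Subtype.ext (Subtype.ext (Subtype.ext ?_)), fun c => ?_⟩
    · rw [hc a, hc b]
      exact congrArg (Matrix.scalar (Fin 45)) (congrArg Subtype.val h)
    · obtain ⟨k, hk⟩ : ∃ k : Fin 3, c.1 = (4 : ZMod 7) ^ (k : ℕ) := by
        have h := c.2
        revert h
        generalize c.1 = d
        revert d
        decide +kernel
      obtain ⟨z, hz⟩ := scalar_pow_mem k
      refine ⟨⟨z, scalar_mem_center hz⟩, Subtype.ext ?_⟩
      show ((z : SL45) : Mat) 0 0 = c.1
      rw [hz, hk, Matrix.scalar_apply, Matrix.diagonal_apply_eq]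
  rw [Nat.card_congr (Equiv.ofBijective φ hbij), Nat.card_eq_fintype_card]
  decide +kernel

theorem quotient_isON : Cfsg.IsON (H ⧸ Subgroup.center H) := by
  classical
  let f : ON.Gen → H ⧸ Subgroup.center H := fun s => QuotientGroup.mk' _ (SH s)
  have hev : ∀ w : List ℕ, evW (letters.ev f) w = QuotientGroup.mk' _ (evW (letters.ev SH) w) := by
    intro w
    induction w with
    | nil => simp
    | cons x w ih =>
      rw [CfsgLib.Presented.evW_cons, CfsgLib.Presented.evW_cons, map_mul, ih]
      congr 1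
      unfold Letters.ev
      split_ifs
      · cases (letters.gen x).2
        · exact (map_inv (QuotientGroup.mk' (Subgroup.center H)) _).symm
        · rfl
      · exact (map_one (QuotientGroup.mk' (Subgroup.center H))).symm
  have hrel : ∀ w ∈ CfsgLib.Presented.ONCert.relWords, evW (letters.ev f) w = 1 := fun w hw => by
    rw [hev]
    exact (QuotientGroup.eq_one_iff _).2 (rel_central hw)
  have hf : ∀ s ∈ letters.nodes, f s * f s = 1 := by
    intro s hs
    rw [← map_mul]
    refine (QuotientGroup.eq_one_iff _).2 (scalar_mem_center (c := ((1 : ℕ) : ZMod 7)) ?_)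
    have hidx : idxOf s ∈ ([1, 2, 3, 4, 5, 6] : List ℕ) := by
      cases s <;> simp [idxOf, letters] at hs ⊢
    rw [← dec_scalarIs (List.all_eq_true.1 squares _ hidx), ← coe_el_word]
    simp [SH, S]
  let q : Cfsg.Spor.ON →* H ⧸ Subgroup.center H := PresentedGroup.toGroup (Letters.kills
    (extra := ON.extra) letters_valid nodes_valid full hf
    (fun w hw => hrel w (by rw [relWords_eq]; exact List.mem_append.2 (Or.inl hw)))
    (fun w hw => hrel w (by rw [relWords_eq]; exact List.mem_append.2 (Or.inr hw))))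
  have hq : ∀ s, q (PresentedGroup.of s) = f s := fun s => PresentedGroup.toGroup.of _
  have hsurj : Function.Surjective q := by
    intro y
    induction y using QuotientGroup.induction_on with
    | _ y =>
      obtain ⟨r, hr⟩ := y.2
      refine ⟨PresentedGroup.mk _ r, ?_⟩
      have e : (q.comp (PresentedGroup.mk _)) = (QuotientGroup.mk' (Subgroup.center H)).comp (FreeGroup.lift SH) :=
        FreeGroup.ext_hom _ _ fun s => by
          show q (PresentedGroup.of s) = _
          rw [hq, MonoidHom.comp_apply, FreeGroup.lift_apply_of]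
      refine (DFunLike.congr_fun e r).trans (congrArg (QuotientGroup.mk' (Subgroup.center H)) ?_)
      have e2 : H.subtype.comp (FreeGroup.lift SH) = FreeGroup.lift S := FreeGroup.ext_hom _ _ fun s => by simp [SH]
      exact Subtype.ext ((DFunLike.congr_fun e2 r).trans hr)
  have hne : q.ker ≠ ⊤ := by
    intro h
    have ha : f .a = 1 := by
      rw [← hq]
      exact MonoidHom.mem_ker.1 (h ▸ Subgroup.mem_top (PresentedGroup.of ON.Gen.a))
    have hcomm := Subgroup.mem_center_iff.1 ((QuotientGroup.eq_one_iff (SH .a)).1 ha) (SH .b)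
    obtain ⟨h1, h2, h3⟩ := noncommuting
    have h' : dec (evC [2, 1]) = dec (evC [1, 2]) := by
      rw [← coe_el_word, ← coe_el_word]
      simpa [SH, S, idxOf] using congrArg (fun y : H => ((y : SL45) : Mat)) hcomm
    rw [decP_injOn h3 h2 h', Nat.beq_refl] at h1
    exact Bool.noConfusion h1
  obtain ⟨hsimple, hcard⟩ := CfsgLib.Presented.ONSimple.isON
  have hker : q.ker = ⊥ := (q.normal_ker.eq_bot_or_eq_top).resolve_right hne
  let e : Cfsg.Spor.ON ≃* H ⧸ Subgroup.center H :=
    MulEquiv.ofBijective q ⟨(MonoidHom.ker_eq_bot_iff q).1 hker, hsurj⟩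
  exact ⟨e.symm.isSimpleGroup, (Nat.card_congr e.toEquiv).symm.trans hcard⟩

theorem exists_cover :
    ∃ K : Subgroup SL45, Nat.card (Subgroup.center K) = 3 ∧ Cfsg.IsON (K ⧸ Subgroup.center K) :=
  ⟨H, card_center, quotient_isON⟩

end CfsgLib.Sporadic.ONTriple
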