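import Cfsg.Agent.Lib.Sporadic.MatModP
import Cfsg.Agent.Lib.Sporadic.ONTripleData
import Cfsg.Agent.Lib.Presented.Vec

/-!
# The triple cover of the O'Nan group in dimension 45 over seven elements

Kernel checks for the lift of the generators of the presented group: relators up to scalars, an eigenvector
certificate, and two letters which do not commute.
-/

set_option autoImplicit false
set_option maxRecDepth 8000
set_option Elab.async false


namespace CfsgLib.Sporadic.ONTriple

open Matrix

local instance : Fact (Nat.Prime 7) := ⟨by norm_num⟩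

/-- The matrices. -/
abbrev Mat : Type := Matrix (Fin 45) (Fin 45) (ZMod 7)

/-- The special linear group. -/
abbrev SL45 : Type := Matrix.SpecialLinearGroup (Fin 45) (ZMod 7)

/-- Decoding. -/
noncomputable abbrev dec : ℕ → Mat := decP 45 12 3 7

/-- Product of codes, each intermediate number evaluated once. -/
noncomputable def mulC (a b : ℕ) : ℕ :=
  CfsgLib.Presented.Vec.force (maskP 45 12 3) fun m =>
  CfsgLib.Presented.Vec.force a fun a' =>
  CfsgLib.Presented.Vec.force b fun b' =>
  CfsgLib.Presented.Vec.force (b' &&& m) fun bm =>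
    pack (12 * 45) (fun i => CfsgLib.Presented.Vec.force (rowP 45 12 3 a' bm i) fun r =>
      pack 12 (fun j => dig 12 r j % 7) 45) 45

/-- The code of a scalar matrix. -/
noncomputable def scalC (k : ℕ) : ℕ := encP 45 12 7 fun i j => cond (Nat.beq i j) k 0

/-- Sum of codes. -/
noncomputable def addC (a b : ℕ) : ℕ :=
  CfsgLib.Presented.Vec.force a fun a' => CfsgLib.Presented.Vec.force b fun b' =>
    encP 45 12 7 fun i j => entP 45 12 3 a' i j + entP 45 12 3 b' i j

/-- The code with a single one in the corner. -/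
noncomputable def cornerC : ℕ := encP 45 12 7 fun i j => cond (Nat.beq i 0 && Nat.beq j 0) 1 0

/-- The code of a letter. -/
noncomputable def code (x : ℕ) : ℕ := gens.getD x (scalC 1)

/-- The code of a word. -/
noncomputable def evC (w : List ℕ) : ℕ := w.foldr (fun x c => mulC (code x) c) (scalC 1)

theorem evC_nil : evC [] = scalC 1 := rfl

theorem evC_cons (x : ℕ) (w : List ℕ) : evC (x :: w) = mulC (code x) (evC w) := rfl

theorem code_of_ge (n : ℕ) : code (n + 8) = scalC 1 := List.getD_eq_default _ _ (by simp [gens])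

theorem dec_encP (f : ℕ → ℕ → ℕ) (i j : Fin 45) : dec (encP 45 12 7 f) i j = (f i j : ZMod 7) := by
  have h7 : ∀ a, a % 7 < 2 ^ 12 := fun a => (Nat.mod_lt a (by norm_num)).trans (by norm_num)
  show ((dig 12 (encP 45 12 7 f) ((i : ℕ) * 45 + j) % 2 ^ 3 : ℕ) : ZMod 7) = _
  rw [← dig_dig j.2, encP, dig_pack (fun k _ => pack_lt fun l _ => h7 _) i.2, dig_pack (fun l _ => h7 _) j.2,
    Nat.mod_eq_of_lt ((Nat.mod_lt _ (by norm_num)).trans (by norm_num)), ZMod.natCast_mod]

theorem dec_mulC (a b : ℕ) : dec (mulC a b) = dec a * dec b :=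
  by
  have e : mulC a b = mulP 45 12 3 7 a b := by simp only [mulC, CfsgLib.Presented.Vec.force_eq, mulP]
  rw [e]
  exact decP_mulP (by norm_num) (by norm_num) (by norm_num) a b

theorem dec_scalC (k : ℕ) : dec (scalC k) = Matrix.scalar (Fin 45) (k : ZMod 7) := by
  ext i j
  rw [scalC, dec_encP, Matrix.scalar_apply, Matrix.diagonal_apply]
  by_cases h : i = j
  · subst h
    simp [Nat.beq_refl]
  · have h' : Nat.beq (i : ℕ) j = false := by
      rcases hb : Nat.beq (i : ℕ) j with _ | _
      · rfl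
      · exact absurd (Fin.ext (Nat.eq_of_beq_eq_true hb)) h
    simp [h, h']

theorem dec_one : dec (scalC 1) = 1 := by rw [dec_scalC, Nat.cast_one, map_one]

theorem dec_addC (a b : ℕ) : dec (addC a b) = dec a + dec b := by
  ext i j
  rw [addC, CfsgLib.Presented.Vec.force_eq, CfsgLib.Presented.Vec.force_eq, dec_encP, Nat.cast_add]
  rfl

theorem dec_cornerC : dec cornerC = Matrix.single 0 0 1 := by
  ext i j
  rw [cornerC, dec_encP, Matrix.single_apply]
  rcases hi : Nat.beq (i : ℕ) 0 with _ | _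
  · have hne : ¬ (0 : Fin 45) = i := fun h => by subst h; simp at hi
    simp [hne]
  · rcases hj : Nat.beq (j : ℕ) 0 with _ | _
    · have hne : ¬ (0 : Fin 45) = j := fun h => by subst h; simp at hj
      simp [hne]
    · have h1 : (0 : Fin 45) = i := Fin.ext (Nat.eq_of_beq_eq_true hi).symm
      have h2 : (0 : Fin 45) = j := Fin.ext (Nat.eq_of_beq_eq_true hj).symm
      simp [← h1, ← h2]

/-! ## The relations -/

/-- A word evaluates to the given scalar. -/
noncomputable def scalarIs (w : List ℕ) (k : ℕ) : Bool := Nat.beq (evC w) (scalC k)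

/-- A word evaluates to some scalar. -/
noncomputable def scalarOK (w : List ℕ) : Bool :=
  CfsgLib.Presented.Vec.force (evC w) fun c => Nat.beq c (scalC 1) || Nat.beq c (scalC 2) || Nat.beq c (scalC 4)

/-- Part 0 of the relators. -/
def rw0 : List (List ℕ) :=
  [[1, 2, 1, 2, 1, 2], [1, 3, 1, 3], [1, 4, 1, 4], [1, 5, 1, 5], [1, 6, 1, 6], [2, 3, 2, 3, 2, 3]]

theorem rels0 : (rw0.all scalarOK) = true := by decide +kernel

/-- Part 1 of the relators. -/
def rw1 : List (List ℕ) :=
  [[2, 4, 2, 4], [2, 5, 2, 5], [2, 6, 2, 6], [3, 4, 3, 4, 3, 4, 3, 4, 3, 4, 3, 4, 3, 4, 3, 4]]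

theorem rels1 : (rw1.all scalarOK) = true := by decide +kernel

/-- Part 2 of the relators. -/
def rw2 : List (List ℕ) :=
  [[3, 5, 3, 5], [3, 6, 3, 6], [4, 5, 4, 5, 4, 5], [4, 6, 4, 6], [5, 6, 5, 6, 5, 6], [1, 6, 7, 7]]

theorem rels2 : (rw2.all scalarOK) = true := by decide +kernel

/-- Part 3 of the relators. -/
def rw3 : List (List ℕ) :=
  [[1, 6, 4, 3, 4, 3, 4, 3, 4, 3], [3, 7, 4, 7, 4, 3, 4, 0, 4, 0], [4, 7, 3, 7, 3, 4, 3, 0, 3, 0]]

theorem rels3 : (rw3.all scalarOK) = true := by decide +kernel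

/-- Part 4 of the relators. -/
def rw4 : List (List ℕ) :=
  [[2, 3, 4, 0, 2, 3, 4, 0, 2, 3, 4, 0, 2, 3, 4, 0, 2, 3, 4, 0]]

theorem rels4 : (rw4.all scalarOK) = true := by decide +kernel

/-- Part 5 of the relators. -/
def rw5 : List (List ℕ) :=
  [[0, 2, 3, 0, 3, 2, 0, 2, 3, 0, 3], [0, 5, 4, 0, 4, 5, 0, 5, 4, 0, 4]]

theorem rels5 : (rw5.all scalarOK) = true := by decide +kernel

/-- The relators. -/
def triWords : List (List ℕ) := rw0 ++ rw1 ++ rw2 ++ rw3 ++ rw4 ++ rw5

theorem rels_scalar : (triWords.all scalarOK) = true := by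
  simp only [triWords, List.all_append, rels0, rels1, rels2, rels3, rels4, rels5, Bool.and_self]

theorem squares : ([1, 2, 3, 4, 5, 6].all fun x => scalarIs [x, x] 1) = true := by decide +kernel

theorem links : (scalarIs [0, 7] 1 && scalarIs [1, 6, 7, 7] 1 && scalarIs [1, 2, 1, 2, 1, 2] 1 &&
    scalarIs [2, 3, 2, 3, 2, 3] 1 && scalarIs [4, 5, 4, 5, 4, 5] 1 && scalarIs [5, 6, 5, 6, 5, 6] 1) = true := by
  decide +kernel

theorem powers : (scalarIs [2, 3, 4, 0, 2, 3, 4, 0, 2, 3, 4, 0, 2, 3, 4, 0, 2, 3, 4, 0] 4 &&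
    scalarIs [0, 2, 3, 0, 3, 2, 0, 2, 3, 0, 3] 4 && scalarIs [0, 5, 4, 0, 4, 5, 0, 5, 4, 0, 4] 4) = true := by
  decide +kernel

/-- The shifted seeding element. -/
noncomputable def shiftC : ℕ := addC (evC seedWord) (scalC (7 - seedVal))

theorem seed_kills : Nat.beq (mulC (mulC cornerC basis) shiftC) (scalC 0) = true := by decide +kernel

theorem seed_decomp :
    Nat.beq (addC (mulC shiftC pseudo) (mulC corr (mulC cornerC basis))) (scalC 1) = true := by decide +kernel

theorem basis_inv : Nat.beq (mulC basisInv basis) (scalC 1) = true := by decide +kernel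

/-- Row `i` of the basis comes from an earlier row by a generator. -/
noncomputable def treeOK : Bool :=
  (List.range 44).all fun i =>
    Nat.blt (tree.getD (i + 1) (0, 0)).1 (i + 1) && Nat.blt (tree.getD (i + 1) (0, 0)).2 7 &&
      Nat.beq (dig (12 * 45) basis (i + 1))
        (dig (12 * 45) (mulC basis (code (tree.getD (i + 1) (0, 0)).2)) (tree.getD (i + 1) (0, 0)).1)

theorem tree_ok : treeOK = true := by decide +kernel

theorem noncommuting : Nat.beq (evC [1, 2]) (evC [2, 1]) = false ∧
    canonP 45 12 3 7 (evC [1, 2]) = true ∧ canonP 45 12 3 7 (evC [2, 1]) = true := by decide +kernel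

end CfsgLib.Sporadic.ONTriple
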