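import Cfsg.Agent.Lib.Sporadic.PairOutBase
import Cfsg.Agent.Lib.Sporadic.ConwayThreeOut

/-!
# Outer automorphisms of the pair stabilisers, from checked data
-/

set_option autoImplicit false

namespace CfsgLib.Sporadic.PairOut

open Cfsg CfsgLib.Golay CfsgLib.MonsterType CfsgLib.LeechEight Subgroup
open CfsgLib.Schur.GolayOut CfsgLib.Schur.GolaySearch
open CfsgLib.Schur.OutM22 (genA genB genC genAL genBL genCL toList_genA toList_genB toList_genC)
open ConwayPairs (pairStab)
open Conway (eq_permW)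
open scoped Pointwise
open Conway.ThreeOut (vecList vecList_injective unitList vecList_latE permL genFun wordFun card_eq_mul_normalizer)

theorem acts_word {x y z : Co0} {fA fB fC : List ℤ → List ℤ} (hx : Acts x fA) (hy : Acts y fB)
    (hz : Acts z fC) : ∀ w, Acts (CfsgLib.Schur.evalThree x y z w) (wordFun fA fB fC w)
  | [] => acts_one
  | i :: w => by
    refine acts_mul ?_ (acts_word hx hy hz w)
    rcases i with _ | _ | _ | i
    exacts [hx, hy, hz, by simpa [genFun] using acts_one]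

theorem evalThree_mem {G : Type*} [Group G] {H : Subgroup G} {x y z : G} (hx : x ∈ H) (hy : y ∈ H)
    (hz : z ∈ H) : ∀ w, CfsgLib.Schur.evalThree x y z w ∈ H
  | [] => one_mem _
  | i :: w => by
    refine mul_mem ?_ (evalThree_mem hx hy hz w)
    rcases i with _ | _ | _ | i
    exacts [hx, hy, hz, one_mem _]

/-- The action of the element of order 11. -/
abbrev fA : List ℤ → List ℤ := permL invAL

/-- The action of the element of order 5. -/
abbrev fB : List ℤ → List ℤ := permL invBL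

variable {u : leechLattice} (hu : ∀ i, i ≠ none → i ≠ some 0 → (u : GolayPt → ℤ) i = 0)

/-- The element of order 11 of the pair stabiliser. -/
def eA : pairStab u := ConwayPairs.embed hu pA

/-- The element of order 5 of the pair stabiliser. -/
def eB : pairStab u := ConwayPairs.embed hu pB

theorem coe_embed (σ : fixPts [none, some 0]) :
    ((ConwayPairs.embed hu σ : pairStab u) : Co0) =
      permW (Subgroup.inclusion (fixPts_le_M24 [none, some 0]) σ) := rfl

theorem acts_eA : Acts (eA hu : Co0) fA := by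
  rw [eA, coe_embed]
  exact acts_permW _ _ (by decide +kernel)

theorem acts_eB : Acts (eB hu : Co0) fB := by
  rw [eB, coe_embed]
  exact acts_permW _ _ (by decide +kernel)

theorem orderOf_eA : orderOf (eA hu) = 11 := by
  rw [eA, orderOf_injective _ (ConwayPairs.embed_injective hu), ← Subgroup.orderOf_coe]
  exact orderOf_genA

theorem orderOf_eB : orderOf (eB hu) = 5 := by
  rw [eB, orderOf_injective _ (ConwayPairs.embed_injective hu), ← Subgroup.orderOf_coe]
  exact orderOf_genB

theorem conj_eB_eA : eB hu * eA hu * (eB hu)⁻¹ = eA hu ^ 3 := by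
  rw [mul_inv_eq_iff_eq_mul, eA, eB, ← map_pow, ← map_mul, ← map_mul]
  refine congrArg _ (Subtype.ext (toList_injective ?_))
  rw [Subgroup.coe_mul, Subgroup.coe_mul, SubgroupClass.coe_pow, toList_mul, toList_mul, toList_pow]
  show comp (toList genB) (toList genA) = comp (powList (toList genA) 3) (toList genB)
  rw [toList_genA, toList_genB]
  decide +kernel

theorem mem_range_of_fix {s : ℤ} (hs : s = 1 ∨ s = -1) (hu1 : (u : GolayPt → ℤ) (some 0) = -(4 * s))
    {g : pairStab u} (h : (g : Co0) • latE none = latE none) :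
    g ∈ (ConwayPairs.embed hu).range := by
  have hgu : (g : Co0) • u = u := g.2.2
  obtain ⟨σ, hσ, hσ0⟩ := eq_permW h (show (-1 : ℤ) ≠ 0 by norm_num) ConwayPairs.vecV_rest g.2.1
  have hσ1 : (σ : Equiv.Perm GolayPt) (some 0) = some 0 := by
    set j := (σ : Equiv.Perm GolayPt).symm (some 0) with hj
    have h2 := congrFun (congrArg Subtype.val hgu) (some 0)
    rw [hσ, permW_apply, hu1, ← hj] at h2
    have hj0 : j ≠ none := fun e => by
      have := congrArg (σ : Equiv.Perm GolayPt) e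
      rw [hj, Equiv.apply_symm_apply, hσ0] at this
      exact Option.some_ne_none _ this
    have hj1 : j = some 0 := by
      by_contra hne
      rw [hu j hj0 hne] at h2
      rcases hs with rfl | rfl <;> norm_num at h2
    rw [hj, Equiv.symm_apply_eq] at hj1
    exact hj1.symm
  exact ⟨⟨σ, mem_fixPts.mpr ⟨σ.2, by simp [hσ0, hσ1]⟩⟩, Subtype.ext hσ.symm⟩

theorem fix_of_mem_range {g : pairStab u} (h : g ∈ (ConwayPairs.embed hu).range) :
    (g : Co0) • latE none = latE none := by
  obtain ⟨τ, rfl⟩ := h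
  rw [coe_embed, permW_latE]
  exact congrArg latE ((mem_fixPts.mp τ.2).2 none (by simp))

/-- The choice of the second vector. -/
structure Shape (u : leechLattice) : Type where
  hu : ∀ i, i ≠ none → i ≠ some 0 → (u : GolayPt → ℤ) i = 0
  s : ℤ
  hs : s = 1 ∨ s = -1
  hu0 : (u : GolayPt → ℤ) none = 4
  hu1 : (u : GolayPt → ℤ) (some 0) = -(4 * s)
  w : leechLattice
  hw : (w : GolayPt → ℤ) = fun p => if p = none then 4 else if p = some 0 then 4 * s else 0

theorem Shape.normalizer_eA_le (S : Shape u) :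
    normalizer (zpowers (eA S.hu) : Set (pairStab u)) ≤ (ConwayPairs.embed S.hu).range := by
  intro g hg
  set π := ConwayPairs.embed S.hu ⟨piP, piP_spec.1⟩
  set x := ConwayPairs.xEl S.hu
  have hx : zpowers x = zpowers (x ^ 2) := by
    refine le_antisymm ?_ (zpowers_le.mpr (pow_mem (mem_zpowers _) 2))
    refine zpowers_le.mpr (mem_zpowers_iff.mpr ⟨6, ?_⟩)
    rw [show (6 : ℤ) = ((6 : ℕ) : ℤ) from rfl, zpow_natCast, ← pow_mul,
      show 2 * 6 = 1 + orderOf x by rw [ConwayPairs.orderOf_xEl], pow_add, pow_orderOf_eq_one, mul_one, pow_one]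
  have hA : eA S.hu = π * x ^ 2 * π⁻¹ := by
    simp only [π, x, eA, ConwayPairs.xEl, ← map_pow, ← map_inv, ← map_mul]
    exact congrArg _ (Subtype.ext piP_spec.2)
  have hAX : ∀ z, z ∈ zpowers x ↔ π * z * π⁻¹ ∈ zpowers (eA S.hu) := by
    intro z
    rw [hx, hA, mem_zpowers_iff, mem_zpowers_iff]
    constructor
    · rintro ⟨k, rfl⟩; exact ⟨k, conj_zpow⟩
    · rintro ⟨k, hk⟩
      rw [conj_zpow] at hk
      exact ⟨k, mul_left_cancel (mul_right_cancel hk)⟩
  have hy : π⁻¹ * g * π ∈ normalizer (zpowers x : Set (pairStab u)) := by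
    rw [mem_normalizer_iff]
    intro z
    rw [hAX, hAX (π⁻¹ * g * π * z * (π⁻¹ * g * π)⁻¹), mem_normalizer_iff.mp hg]
    rw [show π * (π⁻¹ * g * π * z * (π⁻¹ * g * π)⁻¹) * π⁻¹ = g * (π * z * π⁻¹) * g⁻¹ by group]
  have h := mul_mem (mul_mem (⟨_, rfl⟩ : π ∈ (ConwayPairs.embed S.hu).range)
    (ConwayPairs.normalizer_le S.hu S.hs S.hu0 S.hu1 S.hw hy)) (inv_mem (⟨_, rfl⟩ : π ∈ (ConwayPairs.embed S.hu).range))
  rwa [show π * (π⁻¹ * g * π) * π⁻¹ = g by group] at h

theorem Shape.centralizer_eA (S : Shape u) {g : pairStab u} (h : g * eA S.hu * g⁻¹ = eA S.hu) :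
    ∃ i : ℕ, g = eA S.hu ^ i := by
  have hn : g ∈ normalizer (zpowers (eA S.hu) : Set (pairStab u)) := by
    rw [mem_normalizer_iff]
    intro x
    refine ⟨fun hx => ?_, fun hx => ?_⟩
    · obtain ⟨k, rfl⟩ := mem_zpowers_iff.mp hx
      exact mem_zpowers_iff.mpr ⟨k, by rw [← conj_zpow, h]⟩
    · obtain ⟨k, hk⟩ := mem_zpowers_iff.mp hx
      refine mem_zpowers_iff.mpr ⟨k, ?_⟩
      rw [← h, conj_zpow] at hk
      exact mul_left_cancel (mul_right_cancel hk)
  obtain ⟨σ, rfl⟩ := S.normalizer_eA_le hn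
  have hc : σ * pA = pA * σ := ConwayPairs.embed_injective S.hu (by
    rw [map_mul, map_mul]; exact mul_inv_eq_iff_eq_mul.mp h)
  obtain ⟨i, -, rfl⟩ := pow_of_commute toList_genA stagesA_ok centA hc
  exact ⟨i, map_pow _ _ _⟩

theorem Shape.eq_one_iff (S : Shape u) {x : pairStab u} {f : List ℤ → List ℤ} (hx : Acts (x : Co0) f) :
    x = 1 ↔ isIdB f = true := by
  rw [isIdB, List.all_eq_true]
  simp only [beq_iff_eq]
  constructor
  · rintro rfl n _
    rw [← vecList_latE, ← hx, Subgroup.coe_one, one_smul]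
  · intro h
    have hfix : ∀ p ∈ basePts, (x : Co0) • latE p = latE p := by
      intro p hp
      have hn : (idx p).val ∈ basePos := by rw [← basePts_spec]; exact List.mem_map.mpr ⟨p, hp, rfl⟩
      have h1 := h _ hn
      rw [show Fin.ofNat 24 (idx p).val = idx p from Fin.ext (Nat.mod_eq_of_lt (idx p).isLt)] at h1
      refine Subtype.ext (vecList_injective ?_)
      rw [hx, ← pt_idx p, vecList_latE]
      exact h1
    obtain ⟨σ, hσ⟩ := mem_range_of_fix S.hu S.hs S.hu1 (hfix none (by simp [basePts]))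
    have h1 : (σ : Equiv.Perm GolayPt) = 1 := eq_one_of_fix_base (mem_fixPts.mp σ.2).1 fun p hp => by
      have h2 := hfix p hp
      rw [← hσ, coe_embed, permW_latE] at h2
      exact latE_inj (Or.inl h2)
    rw [← hσ, show σ = 1 from Subtype.ext h1, map_one]

variable (S : Shape u) {C : Co0} (hCmem : C ∈ pairStab u) {fC : List ℤ → List ℤ} (hC : Acts C fC)

theorem solution_of_fixed (hsol : solCheck (-(4 * S.s)) ((List.range 5).map fun i => fC^[i] (unitList 23)) = true)
    {g : pairStab u} (h : g * eB S.hu = eB S.hu * g) :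
    ∃ i < 5, vecList (((g : Co0) • latE none : leechLattice) : GolayPt → ℤ) = fC^[i] (unitList 23) := by
  set y : leechLattice := (g : Co0) • latE none with hydef
  have hfix : ∀ p, (y : GolayPt → ℤ) (genB p) = (y : GolayPt → ℤ) p := by
    intro p
    have h1 : (eB S.hu : Co0) • y = y := by
      have hE : (eB S.hu : Co0) • latE none = latE none := fix_of_mem_range S.hu ⟨pB, rfl⟩
      rw [hydef, ← mul_smul, ← Subgroup.coe_mul, ← h, Subgroup.coe_mul, mul_smul, hE]
    have h2 := congrFun (congrArg Subtype.val h1) (genB p)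
    rw [eB, coe_embed, permW_apply] at h2
    rw [← h2]
    exact congrArg _ (genB.symm_apply_apply p)
  have hpow : ∀ (n : ℕ) p, (y : GolayPt → ℤ) ((genB ^ n) p) = (y : GolayPt → ℤ) p := by
    intro n
    induction n with
    | zero => intro p; rfl
    | succ n ih => intro p; rw [pow_succ', Equiv.Perm.mul_apply, hfix, ih]
  obtain ⟨a, b, c, d, p1, p2, p3, p4, hv⟩ : ∃ a b c d p1 p2 p3 p4 : ℤ,
      (y : GolayPt → ℤ) = pat8 a b c d p1 p2 p3 p4 := by
    let f : Fin 8 → ℤ := fun j => (y : GolayPt → ℤ) (rep8 j)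
    refine ⟨f 0, f 1, f 2, f 3, f 4, f 5, f 6, f 7, funext fun p => ?_⟩
    obtain ⟨n, hn⟩ := exists_pow_rep p
    have e : (y : GolayPt → ℤ) p = f (cls8 p) := by
      conv_lhs => rw [← hn]
      exact hpow _ _
    rw [e, pat8]
    generalize cls8 p = j
    fin_cases j <;> rfl
  have ha : (y : GolayPt → ℤ) none = a := by rw [hv]; rfl
  have hb : (y : GolayPt → ℤ) (some 0) = b := by rw [hv]; rfl
  have hN : a ^ 2 + b ^ 2 + c ^ 2 + d ^ 2 + 5 * (p1 ^ 2 + p2 ^ 2 + p3 ^ 2 + p4 ^ 2) = 64 := by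
    have h0 : sqNorm (y : GolayPt → ℤ) = 64 := by rw [hydef, sqNorm_smul_lat, sqNorm_latE]
    rw [← h0, hv, sqNorm]
    simp only [pat8]
    rw [sum_cls8 (fun j => (![a, b, c, d, p1, p2, p3, p4] : Fin 8 → ℤ) j ^ 2)]
    simp
  have hU : 4 * a + -(4 * S.s) * b = 32 := by
    have h1 := dot_smul_lat (g : Co0) u (latE none)
    rw [show (g : Co0) • u = u from g.2.2, ← hydef, ConwayPairs.dot_pair S.hu, ConwayPairs.dot_pair S.hu,
      ha, hb, S.hu0, S.hu1, coe_latE, Pi.single_eq_same, Pi.single_eq_of_ne (Option.some_ne_none 0)] at h1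
    rw [h1]; ring
  have hV : -5 * a - b - c - d - 5 * (p1 + p2 + p3 + p4) = -40 := by
    have h1 := dot_smul_lat (g : Co0) Spor.leechV (latE none)
    rw [show (g : Co0) • Spor.leechV = Spor.leechV from g.2.1, ← hydef, hv] at h1
    have hVp : ∀ i : GolayPt, (Spor.leechV : GolayPt → ℤ) i =
        (![-5, -1, -1, -1, -1, -1, -1, -1] : Fin 8 → ℤ) (cls8 i) := by decide +kernel
    rw [dotInt, Finset.sum_congr rfl fun i _ => by rw [hVp i]] at h1
    simp only [pat8] at h1
    rw [sum_cls8 (fun j => (![-5, -1, -1, -1, -1, -1, -1, -1] : Fin 8 → ℤ) j *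
      (![a, b, c, d, p1, p2, p3, p4] : Fin 8 → ℤ) j)] at h1
    rw [show dotInt (Spor.leechV : GolayPt → ℤ) ((latE none : leechLattice) : GolayPt → ℤ) = -40 by
      rw [coe_latE, dot_single_right, ConwayPairs.vecV_first]; norm_num] at h1
    simp at h1
    linarith
  have hbb : b = (32 - 4 * a) / -(4 * S.s) := by
    rcases S.hs with h | h <;> rw [h] at hU ⊢ <;> norm_num at hU ⊢ <;> omega
  have hd : d = 40 - 5 * a - b - c - 5 * (p1 + p2 + p3 + p4) := by linarith
  have hp : ∀ p, p ^ 2 ≤ p1 ^ 2 + p2 ^ 2 + p3 ^ 2 + p4 ^ 2 → -3 ≤ p ∧ p ≤ 3 := by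
    intro p hle
    have : p ^ 2 ≤ 12 := by nlinarith [sq_nonneg a, sq_nonneg b, sq_nonneg c, sq_nonneg d]
    constructor <;> nlinarith
  have b1 := hp p1 (by nlinarith)
  have b2 := hp p2 (by nlinarith)
  have b3 := hp p3 (by nlinarith)
  have b4 := hp p4 (by nlinarith)
  have ba : -8 ≤ a ∧ a ≤ 8 := ⟨by nlinarith, by nlinarith⟩
  have bc : -8 ≤ c ∧ c ≤ 8 := ⟨by nlinarith, by nlinarith⟩
  have h0 := List.all_eq_true.mp (List.all_eq_true.mp (List.all_eq_true.mp (List.all_eq_true.mp hsol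
    (p1 + 3).toNat (List.mem_range.mpr (by omega))) (p2 + 3).toNat (List.mem_range.mpr (by omega)))
    (p3 + 3).toNat (List.mem_range.mpr (by omega))) (p4 + 3).toNat (List.mem_range.mpr (by omega))
  rw [Int.toNat_of_nonneg (by omega), Int.toNat_of_nonneg (by omega), Int.toNat_of_nonneg (by omega),
    Int.toNat_of_nonneg (by omega)] at h0
  simp only [add_sub_cancel_right] at h0
  have hr : Int.mul 5 (p1 * p1 + p2 * p2 + p3 * p3 + p4 * p4) = 5 * (p1 ^ 2 + p2 ^ 2 + p3 ^ 2 + p4 ^ 2) := by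
    show 5 * (p1 * p1 + p2 * p2 + p3 * p3 + p4 * p4) = _
    ring
  rw [hr, Bool.or_eq_true, Bool.not_eq_true', decide_eq_false_iff_not] at h0
  have h1 := List.all_eq_true.mp (h0.resolve_left (not_not.mpr (by nlinarith)))
    (a + 8).toNat (List.mem_range.mpr (by omega))
  rw [Int.toNat_of_nonneg (by omega)] at h1
  simp only [add_sub_cancel_right, ← hbb] at h1
  rw [Bool.or_eq_true, Bool.not_eq_true', decide_eq_false_iff_not] at h1
  have h2 := List.all_eq_true.mp (h1.resolve_left (not_not.mpr (by nlinarith)))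
    (c + 8).toNat (List.mem_range.mpr (by omega))
  rw [Int.toNat_of_nonneg (by omega)] at h2
  simp only [add_sub_cancel_right, ← hd] at h2
  rw [Bool.or_eq_true, Bool.not_eq_true', decide_eq_false_iff_not] at h2
  have h3 := h2.resolve_left (not_not.mpr (by nlinarith))
  rw [← hv, leechTest_of_mem y.2] at h3
  simp only [Bool.not_true, Bool.false_or, List.contains_iff_mem, List.mem_map, List.mem_range] at h3
  obtain ⟨i, hi, e⟩ := h3
  exact ⟨i, hi, e.symm⟩

/-- The check that one assignment is listed or violates a relation. -/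
def survOK (fC : List ℤ → List ℤ) (R : List (List ℕ × ℕ)) (j2 i2 l2 j i : ℕ) : Bool :=
  (List.range 5).all fun l =>
    (Nat.beq j 1 && Nat.beq i 1 && Nat.beq l 0) || (Nat.beq j j2 && Nat.beq i i2 && Nat.beq l l2) ||
      !(R.all fun r => isIdB (wordFun fA^[j] fB (fC^[i] ∘ fB^[l]) r.1)^[r.2])

/-- The elements commuting with the element of order 5. -/
noncomputable def listB : List (pairStab u) :=
  (List.range 5).flatMap fun i => (List.range 5).map fun l => ⟨C, hCmem⟩ ^ i * eB S.hu ^ l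

include hC in
theorem mem_listB (hsol : solCheck (-(4 * S.s)) ((List.range 5).map fun i => fC^[i] (unitList 23)) = true)
    (hcB : sameMap (fC ∘ fB) (fB ∘ fC) = true) {g : pairStab u} (h : g * eB S.hu = eB S.hu * g) :
    g ∈ listB S hCmem := by
  set c : pairStab u := ⟨C, hCmem⟩
  have hcb : Commute c (eB S.hu) :=
    Subtype.ext ((eq_iff_sameMap (acts_mul hC (acts_eB S.hu)) (acts_mul (acts_eB S.hu) hC)).mpr hcB)
  obtain ⟨i, hi, e⟩ := solution_of_fixed S hsol h
  have hy : (g : Co0) • latE none = C ^ i • latE none := by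
    refine Subtype.ext (vecList_injective ?_)
    rw [e, acts_pow hC i, show (none : GolayPt) = pt 23 from rfl, vecList_latE]
  have hfix : ((((c ^ i)⁻¹ * g : pairStab u)) : Co0) • latE none = latE none := by
    rw [Subgroup.coe_mul, Subgroup.coe_inv, SubgroupClass.coe_pow, mul_smul, hy, inv_smul_smul]
  obtain ⟨σ, hσ⟩ := mem_range_of_fix S.hu S.hs S.hu1 hfix
  have hc : σ * pB = pB * σ := ConwayPairs.embed_injective S.hu (by
    rw [map_mul, map_mul, hσ]
    exact ((hcb.pow_left i).inv_left.mul_left h).eq)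
  obtain ⟨l, hl, rfl⟩ := pow_of_commute toList_genB stagesB_ok centB hc
  simp only [listB, List.mem_flatMap, List.mem_map, List.mem_range]
  refine ⟨i, hi, l, hl, ?_⟩
  rw [show eB S.hu ^ l = (c ^ i)⁻¹ * g from (map_pow _ _ _).symm.trans hσ, mul_inv_cancel_left]

include hC in
theorem generates {N : ℕ} (hcard : Nat.card (pairStab u) = N * 443520) (h11 : ¬ 11 ∣ N)
    (W gcW : List ℕ) (P : List ℕ) (hP : P.length = 24)
    (hW : ((List.range 24).all fun k => wordFun fA fB fC W (unitList (Fin.ofNat 24 k)) ==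
      unitList (Fin.ofNat 24 (P.getD k 0)) && Nat.blt (P.getD k 0) 24) = true)
    (hW0 : Nat.beq (P.getD 23 0) 23 = true) (hgc : (evalList genAL genBL P gcW == genCL) = true)
    (orb : List (List ℕ)) (horb : (orb.map fun w => wordFun fA fB fC w (unitList 23)).Nodup)
    (hN : ((List.range (N + 1)).all fun d => !(Nat.beq (N % d) 0 && Nat.beq (d % 11) 1) || Nat.beq d 1 ||
      Nat.blt N (d * orb.length)) = true) :
    closure ({eA S.hu, eB S.hu, ⟨C, hCmem⟩} : Set (pairStab u)) = ⊤ := by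
  classical
  have := co0_finite
  have := Fact.mk (show Nat.Prime 11 by norm_num)
  set c : pairStab u := ⟨C, hCmem⟩
  set H := closure ({eA S.hu, eB S.hu, c} : Set (pairStab u))
  set M := (ConwayPairs.embed S.hu).range
  have hA : eA S.hu ∈ H := subset_closure (by simp)
  have hB : eB S.hu ∈ H := subset_closure (by simp)
  have hc : c ∈ H := subset_closure (by simp)
  have hcoe : ∀ w, ((CfsgLib.Schur.evalThree (eA S.hu) (eB S.hu) c w : pairStab u) : Co0) =
      CfsgLib.Schur.evalThree (eA S.hu : Co0) (eB S.hu) C w :=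
    fun w => CfsgLib.Schur.evalThree_map (pairStab u).subtype _ _ _ w
  -- the element of the small group
  set gs := CfsgLib.Schur.evalThree (eA S.hu) (eB S.hu) c W
  have hval : ∀ k : Fin 24, (gs : Co0) • latE (pt k) = latE (pt (Fin.ofNat 24 (P.getD k.val 0))) := by
    intro k
    have h1 := List.all_eq_true.mp hW k.val (List.mem_range.mpr k.isLt)
    simp only [Bool.and_eq_true, beq_iff_eq] at h1
    refine Subtype.ext (vecList_injective ?_)
    rw [hcoe, acts_word (acts_eA S.hu) (acts_eB S.hu) hC W, vecList_latE, vecList_latE, ← h1.1,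
      show Fin.ofNat 24 k.val = k from Fin.ext (Nat.mod_eq_of_lt k.isLt)]
  obtain ⟨σ, hσ⟩ : gs ∈ M := by
    refine mem_range_of_fix S.hu S.hs S.hu1 ?_
    have h := hval 23
    rw [show P.getD (23 : Fin 24).val 0 = 23 from Nat.eq_of_beq_eq_true hW0] at h
    exact h
  have hσl : toList (σ : Equiv.Perm GolayPt) = P := by
    refine List.ext_getElem (by rw [toList_length, hP]) fun k hk hk' => ?_
    have hk24 : k < 24 := by rwa [hP] at hk'
    have h1 := List.all_eq_true.mp hW k (List.mem_range.mpr hk24)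
    simp only [Bool.and_eq_true, Nat.blt_eq] at h1
    have h := hval ⟨k, hk24⟩
    rw [← hσ, coe_embed, permW_latE] at h
    have h2 : (σ : Equiv.Perm GolayPt) (pt ⟨k, hk24⟩) = pt (Fin.ofNat 24 (P.getD k 0)) := latE_inj (Or.inl h)
    rw [toList_getElem _ k hk, show (pt ⟨k, (toList_length (σ : Equiv.Perm GolayPt)) ▸ hk⟩ : GolayPt) = pt ⟨k, hk24⟩ from rfl,
      h2, idx_pt]
    rw [List.getD_eq_getElem P 0 hk'] at h1 ⊢
    exact Nat.mod_eq_of_lt h1.2
  have hMH : M ≤ H := by
    rintro _ ⟨τ, rfl⟩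
    have hτ : (τ : Equiv.Perm GolayPt) ∈ Spor.M22 := sporM22_eq.symm ▸ τ.2
    have hle : Spor.M22 ≤ (H.comap (ConwayPairs.embed S.hu)).map (fixPts [none, some 0]).subtype := by
      rw [← CfsgLib.Schur.OutM22.closure_eq, Subgroup.closure_le]
      rintro x (rfl | rfl | rfl)
      · exact ⟨pA, hA, rfl⟩
      · exact ⟨pB, hB, rfl⟩
      · refine ⟨CfsgLib.Schur.evalThree pA pB σ gcW, ?_, toList_injective ?_⟩
        · exact evalThree_mem (x := pA) (y := pB) (z := σ) hA hB
            (show ConwayPairs.embed S.hu σ ∈ H by rw [hσ]; exact evalThree_mem hA hB hc W) gcW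
        · rw [CfsgLib.Schur.evalThree_map, toList_evalThree, Subgroup.coe_subtype, hσl]
          show evalList (toList genA) (toList genB) P gcW = _
          rw [toList_genA, toList_genB, toList_genC]
          exact beq_iff_eq.mp hgc
    obtain ⟨τ', hτ', e⟩ := hle hτ
    rwa [Subtype.ext e] at hτ'
  have hNA : normalizer (zpowers (eA S.hu) : Set (pairStab u)) ≤ H := S.normalizer_eA_le.trans hMH
  obtain ⟨d, hd⟩ := Subgroup.card_subgroup_dvd_card H
  have hpp : ¬ 11 * 11 ∣ Nat.card (pairStab u) := by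
    rw [hcard, show N * 443520 = N * 40320 * 11 by ring]
    intro h
    have h1 : 11 ∣ N * 40320 := Nat.dvd_of_mul_dvd_mul_right (by norm_num) h
    rcases (show Nat.Prime 11 by norm_num).dvd_mul.mp h1 with h2 | h2
    · exact h11 h2
    · norm_num at h2
  obtain ⟨n, hn1, hn2⟩ := card_eq_mul_normalizer 11 (orderOf_eA S.hu) hpp H hA
  obtain ⟨n', hn1', hn2'⟩ := card_eq_mul_normalizer 11 (orderOf_eA S.hu) hpp ⊤ (mem_top _)
  rw [inf_eq_left.mpr hNA] at hn2
  rw [inf_top_eq, Subgroup.card_top, hd, hn2] at hn2'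
  have hpos : 0 < Nat.card ↥(normalizer (zpowers (eA S.hu) : Set (pairStab u))) := Nat.card_pos
  have he : n * d = n' := Nat.eq_of_mul_eq_mul_right hpos (by rw [← hn2']; ring)
  have hd11 : d % 11 = 1 := by
    have : n' % 11 = d % 11 := by rw [← he, Nat.mul_mod, hn1, one_mul, Nat.mod_mod]
    omega
  obtain ⟨j, hj⟩ := Subgroup.card_dvd_of_le hMH
  have hM : Nat.card M = 443520 := by
    rw [← Nat.card_congr (MonoidHom.ofInjective (ConwayPairs.embed_injective S.hu)).toEquiv, ← sporM22_eq]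
    exact natCard_sporM22
  rw [hM] at hj
  have hdN : N = j * d := by
    refine Nat.eq_of_mul_eq_mul_left (show 0 < 443520 by norm_num) ?_
    rw [mul_comm, ← hcard, hd, hj]; ring
  set E0 : leechLattice := latE none with hE0
  have hfac : (MulAction.orbit H E0).ncard = j := by
    have hst : (MulAction.stabilizer H E0).map H.subtype = M := by
      ext x
      constructor
      · rintro ⟨τ, hτ, rfl⟩; exact mem_range_of_fix S.hu S.hs S.hu1 hτ
      · intro hx
        exact ⟨⟨x, hMH hx⟩, fix_of_mem_range S.hu hx, rfl⟩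
    have h := (MulAction.stabilizer H E0).index_mul_card
    rw [MulAction.index_stabilizer, Nat.card_congr ((MulAction.stabilizer H E0).equivMapOfInjective H.subtype
      H.subtype_injective).toEquiv, hst, hM, hj, mul_comm 443520 j] at h
    exact Nat.eq_of_mul_eq_mul_right (by norm_num) h
  have horbit : orb.length ≤ (MulAction.orbit H E0).ncard := by
    have hfin : (MulAction.orbit H E0).Finite := Set.finite_range _
    have hsub : ((orb.map fun w => wordFun fA fB fC w (unitList 23)).toFinset : Set (List ℤ)) ⊆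
        (fun x : leechLattice => vecList (x : GolayPt → ℤ)) '' MulAction.orbit H E0 := by
      intro l hl
      simp only [List.coe_toFinset, Set.mem_ofPred_eq, List.mem_map] at hl
      obtain ⟨w, -, rfl⟩ := hl
      refine ⟨_, MulAction.mem_orbit_iff.mpr ⟨⟨_, evalThree_mem hA hB hc w⟩, rfl⟩, ?_⟩
      show vecList (((CfsgLib.Schur.evalThree (eA S.hu) (eB S.hu) c w : pairStab u) : Co0) • E0 : leechLattice) = _
      rw [hcoe, acts_word (acts_eA S.hu) (acts_eB S.hu) hC w, hE0, show (none : GolayPt) = pt 23 from rfl, vecList_latE]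
    have h := (Set.ncard_le_ncard hsub (hfin.image _)).trans (Set.ncard_image_le hfin)
    rwa [Set.ncard_coe_finset, List.toFinset_card_of_nodup horb, List.length_map] at h
  have hd1 : d = 1 := by
    have hN0 : N ≠ 0 := fun h => h11 (h ▸ dvd_zero _)
    have hdle : d ≤ N := Nat.le_of_dvd (Nat.pos_of_ne_zero hN0) (hdN ▸ Dvd.intro_left j rfl)
    have h := List.all_eq_true.mp hN d (List.mem_range.mpr (by omega))
    have hmod : N % d = 0 := by rw [hdN]; exact Nat.mul_mod_left _ _
    simp only [hmod, hd11, Nat.beq_refl, Bool.and_self, Bool.not_true, Bool.false_or, Bool.or_eq_true,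
      Nat.blt_eq] at h
    rcases h with h | h
    · exact Nat.eq_of_beq_eq_true h
    · exfalso
      have : d * orb.length ≤ d * j := Nat.mul_le_mul_left d (hfac ▸ horbit)
      have hdj : d * j = N := by rw [hdN]; ring
      omega
  exact Subgroup.eq_top_of_card_eq _ (by rw [hd, hd1, mul_one])

include hC in
theorem card_out_two (hsol : solCheck (-(4 * S.s)) ((List.range 5).map fun i => fC^[i] (unitList 23)) = true)
    (hcB : sameMap (fC ∘ fB) (fB ∘ fC) = true)
    (hgen : closure ({eA S.hu, eB S.hu, ⟨C, hCmem⟩} : Set (pairStab u)) = ⊤)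
    (hpp : ¬ 11 * 11 ∣ Nat.card (pairStab u))
    (R : List (List ℕ × ℕ)) (hR : (R.all fun r => isIdB (wordFun fA fB fC r.1)^[r.2]) = true)
    (j2 i2 l2 : ℕ)
    (hsurv : ∀ j ∈ [1, 10], ∀ i < 5, survOK fC R j2 i2 l2 j i = true)
    {g : Co0} {fg : List ℤ → List ℤ} (hg : Acts g fg)
    (hgA : sameMap (fg ∘ fA) (fA^[j2] ∘ fg) = true) (hgB : sameMap (fg ∘ fB) (fB ∘ fg) = true)
    (hgC : sameMap (fg ∘ fC) ((fC^[i2] ∘ fB^[l2]) ∘ fg) = true)
    (hninner : ((List.range 5).all fun i => (List.range 5).all fun l =>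
      !(sameMap ((fC^[i] ∘ fB^[l]) ∘ fA) (fA^[j2] ∘ (fC^[i] ∘ fB^[l])) &&
        sameMap ((fC^[i] ∘ fB^[l]) ∘ fC) ((fC^[i2] ∘ fB^[l2]) ∘ (fC^[i] ∘ fB^[l])))) = true) :
    Nat.card (Cfsg.Out (pairStab u)) = 2 := by
  classical
  have := co0_finite
  have := Fact.mk (show Nat.Prime 11 by norm_num)
  set c : pairStab u := ⟨C, hCmem⟩
  have hcb : c * eB S.hu * c⁻¹ = eB S.hu ^ 1 := by
    rw [pow_one, mul_inv_eq_iff_eq_mul]
    exact Subtype.ext ((eq_iff_sameMap (acts_mul hC (acts_eB S.hu)) (acts_mul (acts_eB S.hu) hC)).mpr hcB)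
  have hact : ∀ i l : ℕ, Acts ((c ^ i * eB S.hu ^ l : pairStab u) : Co0) (fC^[i] ∘ fB^[l]) := fun i l => by
    rw [Subgroup.coe_mul, SubgroupClass.coe_pow, SubgroupClass.coe_pow]
    exact acts_mul (acts_pow hC i) (acts_pow (acts_eB S.hu) l)
  have hrel : ∀ (j : ℕ) (x : pairStab u) (fx : List ℤ → List ℤ), Acts (x : Co0) fx → ∀ r : List ℕ × ℕ,
      (CfsgLib.Schur.evalThree (eA S.hu ^ j) (eB S.hu) x r.1 ^ r.2 = 1 ↔
        isIdB (wordFun fA^[j] fB fx r.1)^[r.2] = true) := by
    intro j x fx hx r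
    refine S.eq_one_iff ?_
    have e := CfsgLib.Schur.evalThree_map (pairStab u).subtype (eA S.hu ^ j) (eB S.hu) x r.1
    simp only [Subgroup.coe_subtype, SubgroupClass.coe_pow] at e
    rw [SubgroupClass.coe_pow, e]
    exact acts_pow (acts_word (acts_pow (acts_eA S.hu) j) (acts_eB S.hu) hx r.1) r.2
  refine le_antisymm ?_ ?_
  · refine CfsgLib.Schur.card_out_le (eA S.hu) (eB S.hu) c 11 3 1 (orderOf_eA S.hu) hpp
      (fun x hx => S.centralizer_eA hx) (conj_eB_eA S.hu) (by norm_num) [1, 10] ?_ hcb (listB S hCmem)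
      (fun x hx => mem_listB S hCmem hC hsol hcB (by rwa [pow_one, mul_inv_eq_iff_eq_mul] at hx)) hgen R ?_
      [(1, c), (j2, c ^ i2 * eB S.hu ^ l2)] ?_
    · intro j hj hj0
      have hall : ∀ j : Fin 11, j.val ≠ 0 → ∃ i : Fin 5, j.val * 3 ^ i.val % 11 ∈ [1, 10] := by decide +kernel
      obtain ⟨i, hi⟩ := hall ⟨j, hj⟩ hj0
      exact ⟨i.val, hi⟩
    · intro r hr
      have h := (hrel 1 c fC hC r).mpr (by
        rw [show fA^[1] = fA from Function.iterate_one _]
        exact List.all_eq_true.mp hR r hr)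
      rwa [pow_one] at h
    · intro j hj x hx hxrel
      simp only [listB, List.mem_flatMap, List.mem_map, List.mem_range] at hx
      obtain ⟨i, hi, l, hl, rfl⟩ := hx
      have h := List.all_eq_true.mp (hsurv j hj i hi) l (List.mem_range.mpr hl)
      simp only [Bool.or_eq_true, Bool.and_eq_true, Bool.not_eq_true', List.all_eq_false] at h
      rcases h with (⟨⟨h1, h2⟩, h3⟩ | ⟨⟨h1, h2⟩, h3⟩) | ⟨r, hr, hf⟩
      · rw [Nat.eq_of_beq_eq_true h1, Nat.eq_of_beq_eq_true h2, Nat.eq_of_beq_eq_true h3]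
        simp [c]
      · rw [Nat.eq_of_beq_eq_true h1, Nat.eq_of_beq_eq_true h2, Nat.eq_of_beq_eq_true h3]
        simp [c]
      · exact absurd ((hrel j _ _ (hact i l) r).mp (hxrel r hr)) hf
  · let ψ : Co0 →* Co0 := (MulAut.conj g).toMonoidHom
    have hA : g * (eA S.hu : Co0) * g⁻¹ = (eA S.hu : Co0) ^ j2 :=
      mul_inv_eq_iff_eq_mul.mpr ((eq_iff_sameMap (acts_mul hg (acts_eA S.hu))
        (acts_mul (acts_pow (acts_eA S.hu) j2) hg)).mpr hgA)
    have hB : g * (eB S.hu : Co0) * g⁻¹ = (eB S.hu : Co0) :=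
      mul_inv_eq_iff_eq_mul.mpr ((eq_iff_sameMap (acts_mul hg (acts_eB S.hu))
        (acts_mul (acts_eB S.hu) hg)).mpr hgB)
    have hCx : g * C * g⁻¹ = ((c ^ i2 * eB S.hu ^ l2 : pairStab u) : Co0) :=
      mul_inv_eq_iff_eq_mul.mpr ((eq_iff_sameMap (acts_mul hg hC) (acts_mul (hact i2 l2) hg)).mpr hgC)
    have hle : (pairStab u).map ψ ≤ pairStab u := by
      rintro _ ⟨x, hx, rfl⟩
      have hx' : (⟨x, hx⟩ : pairStab u) ∈ (pairStab u).comap (ψ.comp (pairStab u).subtype) := by
        have htop : (⊤ : Subgroup (pairStab u)) ≤ (pairStab u).comap (ψ.comp (pairStab u).subtype) := by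
          rw [← hgen, Subgroup.closure_le]
          rintro y (rfl | rfl | rfl)
          · show g * (eA S.hu : Co0) * g⁻¹ ∈ pairStab u
            rw [hA]; exact pow_mem (eA S.hu).2 _
          · show g * (eB S.hu : Co0) * g⁻¹ ∈ pairStab u
            rw [hB]; exact (eB S.hu).2
          · show g * C * g⁻¹ ∈ pairStab u
            rw [hCx]; exact SetLike.coe_mem _
        exact htop (mem_top _)
      exact hx'
    have heq : (pairStab u).map ψ = pairStab u :=
      Subgroup.eq_of_le_of_card_ge hle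
        (le_of_eq (Nat.card_congr ((pairStab u).equivMapOfInjective ψ (MulAut.conj g).injective).toEquiv))
    let φ : MulAut (pairStab u) := ((pairStab u).equivMapOfInjective ψ (MulAut.conj g).injective).trans
      (MulEquiv.subgroupCongr heq)
    refine CfsgLib.Schur.two_le_card_out φ ?_
    rintro ⟨h, hh⟩
    have hval : ∀ y : pairStab u, (h : Co0) * y * (h : Co0)⁻¹ = g * y * g⁻¹ := fun y => by
      have h' : ((MulAut.conj h y : pairStab u) : Co0) = ((φ y : pairStab u) : Co0) := by rw [hh]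
      exact h'
    have hhB : h * eB S.hu = eB S.hu * h := by
      have h1 := hval (eB S.hu)
      rw [hB, mul_inv_eq_iff_eq_mul] at h1
      exact Subtype.ext h1
    have hm := mem_listB S hCmem hC hsol hcB hhB
    simp only [listB, List.mem_flatMap, List.mem_map, List.mem_range] at hm
    obtain ⟨i, hi, l, hl, rfl⟩ := hm
    have hn := List.all_eq_true.mp (List.all_eq_true.mp hninner i (List.mem_range.mpr hi)) l (List.mem_range.mpr hl)
    have h1 : sameMap ((fC^[i] ∘ fB^[l]) ∘ fA) (fA^[j2] ∘ (fC^[i] ∘ fB^[l])) = true :=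
      (eq_iff_sameMap (acts_mul (hact i l) (acts_eA S.hu)) (acts_mul (acts_pow (acts_eA S.hu) j2) (hact i l))).mp
        (mul_inv_eq_iff_eq_mul.mp ((hval (eA S.hu)).trans hA))
    have h2 : sameMap ((fC^[i] ∘ fB^[l]) ∘ fC) ((fC^[i2] ∘ fB^[l2]) ∘ (fC^[i] ∘ fB^[l])) = true :=
      (eq_iff_sameMap (acts_mul (hact i l) hC) (acts_mul (hact i2 l2) (hact i l))).mp
        (mul_inv_eq_iff_eq_mul.mp ((hval c).trans hCx))
    rw [h1, h2] at hn
    exact Bool.noConfusion hn

end CfsgLib.Sporadic.PairOut
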