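import Mathlib

/-! A finite simple group with a proper subgroup of index `n` as a transitive permutation group. -/

set_option autoImplicit false

namespace CfsgLib.Sporadic

/-- A finite simple group with a subgroup `K` of index `n ≥ 2` is isomorphic to a transitive
subgroup of `Perm (Fin n)` in which a point stabilizer is isomorphic to `K`. -/
theorem exists_perm_model {G : Type*} [Group G] [IsSimpleGroup G] (K : Subgroup G) {n : ℕ}
    [NeZero n] (hn : K.index = n) (h2 : 2 ≤ n) :
    ∃ H : Subgroup (Equiv.Perm (Fin n)), Nonempty (G ≃* H) ∧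
      MulAction.IsPretransitive H (Fin n) ∧
      Nonempty (K ≃* MulAction.stabilizer H (0 : Fin n)) := by
  have hfin : Finite (G ⧸ K) :=
    Nat.finite_of_card_ne_zero (by rw [← Subgroup.index_eq_card, hn]; omega)
  let e0 : G ⧸ K ≃ Fin n := Finite.equivFinOfCardEq (by rw [← Subgroup.index_eq_card, hn])
  let e : G ⧸ K ≃ Fin n := e0.trans (Equiv.swap (e0 ((1 : G) : G ⧸ K)) 0)
  have he : e ((1 : G) : G ⧸ K) = 0 := Equiv.swap_apply_left _ _
  let f : G →* Equiv.Perm (Fin n) :=
    e.permCongrHom.toMonoidHom.comp (MulAction.toPermHom G (G ⧸ K))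
  have hf : ∀ g x, f g (e x) = e (g • x) := by
    intro g x
    simp [f, Equiv.permCongrHom, Equiv.permCongr_apply]
  have hinj : Function.Injective f := by
    rw [← MonoidHom.ker_eq_bot_iff]
    rcases (inferInstance : f.ker.Normal).eq_bot_or_eq_top with h | h
    · exact h
    · exfalso
      have hK : K = ⊤ := by
        refine Subgroup.eq_top_iff' K |>.2 fun g => ?_
        have h1 := hf g ((1 : G) : G ⧸ K)
        rw [show f g = 1 from (h ▸ Subgroup.mem_top g : g ∈ f.ker)] at h1
        have h2' := (e.injective h1).symm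
        change ((g * 1 : G) : G ⧸ K) = ((1 : G) : G ⧸ K) at h2'
        simpa using inv_mem (QuotientGroup.eq.1 h2')
      rw [hK, Subgroup.index_top] at hn
      omega
  let E : G ≃* f.range := MonoidHom.ofInjective hinj
  refine ⟨f.range, ⟨E⟩, ⟨fun x y => ?_⟩, ⟨?_⟩⟩
  · obtain ⟨a, rfl⟩ := e.surjective x
    obtain ⟨b, rfl⟩ := e.surjective y
    obtain ⟨g, hg⟩ := MulAction.exists_smul_eq G a b
    refine ⟨E g, ?_⟩
    change f g (e a) = e b
    rw [hf, hg]
  · have hmem : ∀ g, E g ∈ MulAction.stabilizer f.range (0 : Fin n) ↔ g ∈ K := by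
      intro g
      rw [MulAction.mem_stabilizer_iff]
      change f g 0 = 0 ↔ _
      rw [← he, hf, e.injective.eq_iff, ← MulAction.mem_stabilizer_iff,
        MulAction.stabilizer_quotient]
    exact
      { toFun := fun k => ⟨E k.1, (hmem _).2 k.2⟩
        invFun := fun h => ⟨E.symm h.1, (hmem _).1 (by rw [E.apply_symm_apply]; exact h.2)⟩
        left_inv := fun k => Subtype.ext (E.symm_apply_apply _)
        right_inv := fun h => Subtype.ext (E.apply_symm_apply _)
        map_mul' := fun a b => Subtype.ext (map_mul E a.1 b.1) }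

end CfsgLib.Sporadic
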