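import Mathlib
import Cfsg.Prelude.Def_SporadicB

/-!
Elementary identities in sets of 3-transpositions.
-/

namespace CfsgLib.Sporadic.ThreeTrans

variable {G : Type*} [Group G] {E : Set G}

lemma mul_self (hE : Cfsg.IsThreeTranspositionSet E) {d : G} (hd : d ∈ E) : d * d = 1 := by
  have h := pow_orderOf_eq_one d
  rw [hE.1 d hd, pow_two] at h
  exact h

lemma inv_eq (hE : Cfsg.IsThreeTranspositionSet E) {d : G} (hd : d ∈ E) : d⁻¹ = d :=
  inv_eq_of_mul_eq_one_right (mul_self hE hd)

lemma braid (hE : Cfsg.IsThreeTranspositionSet E) {d e : G} (hd : d ∈ E) (he : e ∈ E)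
    (h : ¬ Commute d e) : d * e * d = e * d * e := by
  rcases hE.2 d hd e he with h2 | h3
  · exfalso
    apply h
    have hdd := mul_self hE hd
    have hee := mul_self hE he
    rw [pow_two] at h2
    have : d * e = e * d := by
      calc d * e = (d * e) * (d * e * (e * d)) := by
            simp [mul_assoc, hdd, ← mul_assoc e e, hee]
        _ = e * d := by rw [← mul_assoc, h2, one_mul]
    exact this
  · have hdd := mul_self hE hd
    have hee := mul_self hE he
    have h' : (d * e * d) * (e * d * e) = 1 := by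
      rw [← h3]; simp [pow_succ, mul_assoc]
    have h'' : (e * d * e) * (e * d * e) = 1 := by
      simp [mul_assoc, ← mul_assoc e e, hee, ← mul_assoc d d, hdd]
    exact mul_right_cancel (h'.trans h''.symm)

lemma conj_eq_self (hE : Cfsg.IsThreeTranspositionSet E) {e x : G} (he : e ∈ E)
    (h : Commute e x) : e * x * e = x := by
  rw [h.eq, mul_assoc, mul_self hE he, mul_one]

lemma commute_mul_two_left (hE : Cfsg.IsThreeTranspositionSet E) {a b e : G} (ha : a ∈ E)
    (hb : b ∈ E) (he : e ∈ E) (hab : a ≠ b) (hcomm : Commute a b) (h : Commute e (a * b)) :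
    Commute e a ∧ Commute e b := by
  have haa := mul_self hE ha
  have hbb := mul_self hE hb
  have hee := mul_self hE he
  by_cases hb' : Commute e b
  · refine ⟨?_, hb'⟩
    have : Commute e (a * b * b) := h.mul_right hb'
    rwa [mul_assoc, hbb, mul_one] at this
  · exfalso
    by_cases ha' : Commute e a
    · apply hb'
      have : Commute e (a * (a * b)) := ha'.mul_right h
      rwa [← mul_assoc, haa, one_mul] at this
    · have h1 : (e * a * e) * (e * b * e) = a * b := by
        have := conj_eq_self hE he h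
        calc (e * a * e) * (e * b * e) = e * a * (e * e) * b * e := by group
          _ = e * (a * b) * e := by simp [hee, mul_assoc]
          _ = a * b := this
      rw [braid hE he ha ha', braid hE he hb hb'] at h1
      -- a e a b e b = a b
      have h2 : e * (a * b) * e = 1 := by
        have h3 : a * ((a * e * a) * (b * e * b)) * b = a * (a * b) * b := by rw [h1]
        simpa [mul_assoc, hbb, ← mul_assoc a a, haa] using h3
      rw [conj_eq_self hE he h] at h2
      exact hab ((eq_inv_of_mul_eq_one_left h2).trans (inv_eq hE hb))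


section Sym3

variable (d e : G)

/-- `u ^ i` for a residue `i` modulo 3. -/
private def upow (u : G) (i : ZMod 3) : G := u ^ i.val

private lemma upow_add {u : G} (hu : u ^ 3 = 1) (i j : ZMod 3) :
    upow u (i + j) = upow u i * upow u j := by
  unfold upow
  rw [← pow_add, ZMod.val_add, ← pow_eq_pow_mod (i.val + j.val) hu]

private lemma upow_conj {d e : G} (hd : d * d = 1) (he : e * e = 1) (h3 : (d * e) ^ 3 = 1)
    (i : ZMod 3) : d * upow (d * e) i * d = upow (d * e) (-i) := by
  have h1 : d * (d * e) * d = e * d := by simp [← mul_assoc, hd]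
  have h2 : e * d = (d * e)⁻¹ := by
    rw [eq_inv_iff_mul_eq_one, mul_assoc, ← mul_assoc d d, hd, one_mul, he]
  have hinv : d⁻¹ = d := inv_eq_of_mul_eq_one_right hd
  have h4 : d * upow (d * e) i * d = (upow (d * e) i)⁻¹ := by
    unfold upow
    have := conj_pow (a := d) (b := d * e) (i := i.val)
    rw [hinv, h1, h2, inv_pow] at this
    exact this.symm
  rw [h4, inv_eq_iff_mul_eq_one, ← upow_add h3, add_neg_cancel]
  simp [upow]

/-- The images of the elements of the dihedral group of order 6. -/
private def dihFun : DihedralGroup 3 → G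
  | DihedralGroup.r i => upow (d * e) i
  | DihedralGroup.sr i => d * upow (d * e) i

private lemma dihFun_mul {d e : G} (hd : d * d = 1) (he : e * e = 1) (h3 : (d * e) ^ 3 = 1)
    (x y : DihedralGroup 3) : dihFun d e (x * y) = dihFun d e x * dihFun d e y := by
  have hc : ∀ i : ZMod 3, upow (d * e) i * d = d * upow (d * e) (-i) := fun i => by
    rw [← upow_conj hd he h3 i, ← mul_assoc, ← mul_assoc, hd, one_mul]
  rcases x with i | i <;> rcases y with j | j <;>
    simp only [DihedralGroup.r_mul_r, DihedralGroup.r_mul_sr, DihedralGroup.sr_mul_r,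
      DihedralGroup.sr_mul_sr, dihFun]
  · exact upow_add h3 i j
  · rw [← mul_assoc, hc, mul_assoc, ← upow_add h3]; congr 2; ring
  · rw [mul_assoc, ← upow_add h3]
  · rw [← mul_assoc, mul_assoc d (upow _ i), hc, ← mul_assoc d d, hd, one_mul, ← upow_add h3]
    congr 1; ring

/-- The homomorphism from the dihedral group of order 6 determined by two involutions whose
product has order dividing 3. -/
private def dihHom {d e : G} (hd : d * d = 1) (he : e * e = 1) (h3 : (d * e) ^ 3 = 1) :
    DihedralGroup 3 →* G :=
  MonoidHom.mk' (dihFun d e) (dihFun_mul hd he h3)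

private lemma dihHom_apply {d e : G} (hd : d * d = 1) (he : e * e = 1) (h3 : (d * e) ^ 3 = 1)
    (x : DihedralGroup 3) : dihHom hd he h3 x = dihFun d e x := rfl

private lemma sym3_swaps :
    (Equiv.swap (0 : Fin 3) 1) * Equiv.swap 0 1 = 1 ∧
      (Equiv.swap (1 : Fin 3) 2) * Equiv.swap 1 2 = 1 ∧
        ((Equiv.swap (0 : Fin 3) 1) * Equiv.swap 1 2) ^ 3 = 1 := by decide

private lemma dihHom_injective {d e : G} (hd : d * d = 1) (he : e * e = 1)
    (h3 : (d * e) ^ 3 = 1) (hne : d * e ≠ 1) (hd1 : d ≠ 1) (he1 : e ≠ 1) :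
    Function.Injective (dihHom hd he h3) := by
  rw [injective_iff_map_eq_one]
  have hde2 : (d * e) ^ 2 ≠ 1 := by
    intro h2
    apply hne
    rw [pow_succ, h2, one_mul] at h3
    exact h3
  rintro (i | i) hx <;> rw [dihHom_apply] at hx <;> fin_cases i <;>
    simp only [dihFun, upow, ZMod.val, pow_zero, pow_one, mul_one] at hx
  · rfl
  · exact absurd hx hne
  · exact absurd hx hde2
  · exact absurd hx hd1
  · exact absurd (by rwa [← mul_assoc, hd, one_mul] at hx) he1
  · exfalso
    rw [pow_two, ← mul_assoc, ← mul_assoc, ← mul_assoc d d e, hd, one_mul] at hx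
    -- e * d * e = 1
    apply hd1
    calc d = e * (e * (d * e)) * e := by simp [mul_assoc, ← mul_assoc e e, he]
      _ = 1 := by rw [← mul_assoc e d e, hx, mul_one, he]

lemma exists_sym3_hom (d e : G) (hd : d * d = 1) (he : e * e = 1) (h3 : (d * e) ^ 3 = 1) :
    ∃ φ : Equiv.Perm (Fin 3) →* G, d * e ≠ 1 → d ≠ 1 → e ≠ 1 → d ≠ e →
      Function.Injective φ ∧ φ.range = Subgroup.closure {d, e} := by
  obtain ⟨s1, s2, s3⟩ := sym3_swaps
  let ψ := dihHom s1 s2 s3
  have hψ : Function.Bijective ψ := by
    rw [Fintype.bijective_iff_injective_and_card]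
    refine ⟨dihHom_injective s1 s2 s3 (by decide) (by decide) (by decide), ?_⟩
    rw [DihedralGroup.card, Fintype.card_perm, Fintype.card_fin]
    rfl
  refine ⟨(dihHom hd he h3).comp (MulEquiv.ofBijective ψ hψ).symm.toMonoidHom, fun hne h1 h1' _ =>
    ⟨(dihHom_injective hd he h3 hne h1 h1').comp (MulEquiv.ofBijective ψ hψ).symm.injective, ?_⟩⟩
  rw [MonoidHom.range_comp, MonoidHom.range_eq_top.mpr (MulEquiv.surjective _),
    ← MonoidHom.range_eq_map]
  apply le_antisymm
  · have hu : d * e ∈ Subgroup.closure ({d, e} : Set G) :=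
      mul_mem (Subgroup.subset_closure (by simp)) (Subgroup.subset_closure (by simp))
    rintro _ ⟨x, rfl⟩
    rcases x with i | i
    · exact pow_mem hu i.val
    · exact mul_mem (Subgroup.subset_closure (by simp)) (pow_mem hu i.val)
  · rw [Subgroup.closure_le]
    rintro x (rfl | rfl)
    · refine ⟨DihedralGroup.sr 0, ?_⟩
      rw [dihHom_apply]
      simp [dihFun, upow]
    · refine ⟨DihedralGroup.sr 1, ?_⟩
      rw [dihHom_apply]
      simp [dihFun, upow, ZMod.val_one, ← mul_assoc, hd]

end Sym3

end CfsgLib.Sporadic.ThreeTrans
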